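import Mathlib

/-!
# Affine diagonal from a cover by affine opens with affine inclusions
-/

universe u

open CategoryTheory AlgebraicGeometry TopologicalSpace Opposite Limits

namespace Groth.Agent.Lib.Helper35.AffDiag

variable {X : Scheme.{u}}

theorem isAffineOpen_inf_of_isAffineHom (G V : X.Opens) [IsAffineHom G.ι] (hV : IsAffineOpen V) :
    IsAffineOpen (G ⊓ V) := by
  have h1 : IsAffineOpen (G.ι ⁻¹ᵁ V) := hV.preimage G.ι
  have h2 := h1.image_of_isOpenImmersion G.ι
  rwa [Scheme.Hom.image_preimage_eq_opensRange_inf, Scheme.Opens.opensRange_ι] at h2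

theorem isAffineHom_ι_of_cover
    (h : ∀ x : X, ∃ G : X.Opens, x ∈ G ∧ IsAffineOpen G ∧ IsAffineHom G.ι)
    (V : X.Opens) (hV : IsAffineOpen V) : IsAffineHom V.ι := by
  apply isAffineHom_of_forall_exists_isAffineOpen
  intro x
  obtain ⟨G, hxG, hG, hGι⟩ := h x
  refine ⟨G, hxG, hG, ?_⟩
  rw [← V.ι.isAffineOpen_iff_of_isOpenImmersion,
    Scheme.Hom.image_preimage_eq_opensRange_inf, Scheme.Opens.opensRange_ι, inf_comm]
  exact isAffineOpen_inf_of_isAffineHom G V hV

theorem isAffineHom_diagonal_of_cover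
    (h : ∀ x : X, ∃ G : X.Opens, x ∈ G ∧ IsAffineOpen G ∧ IsAffineHom G.ι) :
    IsAffineHom (pullback.diagonal (terminal.from X)) := by
  rw [isAffineHom_diagonal_iff]
  intro U _ V₁ _ V₂ _ hV₁ hV₂
  haveI := isAffineHom_ι_of_cover h V₁ hV₁
  exact isAffineOpen_inf_of_isAffineHom V₁ V₂ hV₂

theorem quasiSeparatedSpace_of_cover
    (h : ∀ x : X, ∃ G : X.Opens, x ∈ G ∧ IsAffineOpen G ∧ IsAffineHom G.ι) :
    QuasiSeparatedSpace X := by
  haveI := isAffineHom_diagonal_of_cover h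
  rw [quasiSeparatedSpace_iff_forall_affineOpens]
  intro U V
  exact (U.2.inf V.2).isCompact

end Groth.Agent.Lib.Helper35.AffDiag
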