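import Groth.Agent.Lib.Helper35.InvPush
import Groth.Agent.S4341
import Groth.Prelude.Def_Curv2

/-!
# Quasi-coherent modules on quasi-affine schemes are globally generated
-/

universe u

open CategoryTheory CategoryTheory.Limits AlgebraicGeometry TopologicalSpace Opposite

namespace Groth.Agent.Lib.Helper35.GlobGen

open Groth.Agent.Lib.Helper35.InvPush Scheme.Modules

variable {X : Scheme.{u}}

/-- the morphism `O_X ⟶ F` attached to a global section -/
noncomputable def secHom (F : X.Modules) (s : Γ(F, ⊤)) : Coh.structureModule X ⟶ F :=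
  F.unitHomEquiv.symm ((sectionsTopEquiv F).symm s)

theorem secHom_app_one (F : X.Modules) (s : Γ(F, ⊤)) (W : X.Opens) :
    ((secHom F s).app W).hom (1 : Γ(X, W)) =
      (F.presheaf.map (homOfLE (le_top : W ≤ ⊤)).op).hom s := by
  have h := SheafOfModules.unitHomEquiv_apply_coe F (secHom F s) (op W)
  rw [secHom, Equiv.apply_symm_apply] at h
  exact h.symm

theorem secHom_app (F : X.Modules) (s : Γ(F, ⊤)) (W : X.Opens) (c : Γ(X, W)) :
    ((secHom F s).app W).hom c =
      c • (F.presheaf.map (homOfLE (le_top : W ≤ ⊤)).op).hom s := by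
  have h2 := Scheme.Modules.Hom.app_smul (secHom F s) c
    (show Γ(Coh.structureModule X, W) from (1 : Γ(X, W)))
  rw [secHom_app_one] at h2
  refine Eq.trans ?_ h2
  congr 1
  exact (mul_one c).symm

theorem epi_desc_of_locally_generated (F : X.Modules) {ι : Type u} (s : ι → Γ(F, ⊤))
    (h : ∀ (U : X.Opens) (t : Γ(F, U)) (x : X), x ∈ U → ∃ (W : X.Opens) (hW : W ≤ U) (i : ι)
      (c : Γ(X, W)), x ∈ W ∧
        c • (F.presheaf.map (homOfLE (le_top : W ≤ ⊤)).op).hom (s i) =
          (F.presheaf.map (homOfLE hW).op).hom t) :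
    Epi (Sigma.desc (fun i => secHom F (s i)) : (∐ fun _ : ι => Coh.structureModule X) ⟶ F) := by
  set p : (∐ fun _ : ι => Coh.structureModule X) ⟶ F := Sigma.desc (fun i => secHom F (s i)) with hp
  have h1 : Epi ((SheafOfModules.toSheaf _).map p) := by
    refine (CategoryTheory.Sheaf.isLocallySurjective_iff_epi'
      (J := Opens.grothendieckTopology X) AddCommGrpCat _).mp ?_
    refine (TopCat.Presheaf.isLocallySurjective_iff (X := X.toTopCat) _).mpr ?_
    intro U t x hx
    obtain ⟨W, hW, i, c, hxW, hc⟩ := h U t x hx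
    refine ⟨W, hW, ?_, hxW⟩
    refine ⟨((Sigma.ι (fun _ : ι => Coh.structureModule X) i).app W).hom c, ?_⟩
    have e1 : Sigma.ι (fun _ : ι => Coh.structureModule X) i ≫ p = secHom F (s i) := by
      rw [hp, Sigma.ι_desc]
    have e2 := congrArg (fun φ : Coh.structureModule X ⟶ F =>
      (Scheme.Modules.Hom.app φ W).hom (show Γ(Coh.structureModule X, W) from c)) e1
    exact e2.trans ((secHom_app F (s i) W c).trans hc)
  exact Functor.epi_of_epi_map (SheafOfModules.toSheaf _) h1

theorem aux [X.IsQuasiAffine] (F : X.Modules) [hF : F.IsQuasicoherent] (U : X.Opens)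
    (t : Γ(F, U)) (x : X) (r : Γ(X, ⊤)) (hxr : x ∈ X.basicOpen r) (hrU' : X.basicOpen r ≤ U) :
    ∃ (W : X.Opens) (hW : W ≤ U) (i : Γ(F, ⊤)) (c : Γ(X, W)), x ∈ W ∧
        c • (F.presheaf.map (homOfLE (le_top : W ≤ ⊤)).op).hom i =
          (F.presheaf.map (homOfLE hW).op).hom t := by

  obtain ⟨n, -, s, hs⟩ := Groth.Agent.S4341.main X r F
    ((F.presheaf.map (homOfLE hrU').op).hom t)
  have hunit : IsUnit (Groth.Agent.S4341.fV X r (X.basicOpen r)) :=
    RingedSpace.isUnit_res_basicOpen X.toRingedSpace r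
  obtain ⟨b, hb⟩ := hunit.pow n
  refine ⟨X.basicOpen r, hrU', s, (↑b⁻¹ : Γ(X, X.basicOpen r)), hxr, ?_⟩
  have hs' : (F.presheaf.map (homOfLE (le_top : X.basicOpen r ≤ ⊤)).op).hom s =
      (Groth.Agent.S4341.fV X r (X.basicOpen r)) ^ n •
        (F.presheaf.map (homOfLE hrU').op).hom t := hs
  rw [hs', ← hb, smul_smul, Units.inv_mul, one_smul]


theorem isGloballyGenerated_of_isQuasiAffine [X.IsQuasiAffine] (F : X.Modules)
    [hF : F.IsQuasicoherent] : Curv2.IsGloballyGenerated F := by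
  have key : Epi (Sigma.desc (fun s : Γ(F, ⊤) => secHom F s) :
      (∐ fun _ : Γ(F, ⊤) => Coh.structureModule X) ⟶ F) := by
    refine epi_desc_of_locally_generated F (fun s : Γ(F, ⊤) => s) ?_
    intro U t x hx
    obtain ⟨_, ⟨r, hr, rfl⟩, hxr, hrU'⟩ :=
      Opens.isBasis_iff_nbhd.mp (Scheme.IsQuasiAffine.isBasis_basicOpen X) hx
    exact aux F U t x r hxr hrU'
  exact ⟨Γ(F, ⊤), Sigma.desc (fun s : Γ(F, ⊤) => secHom F s), key⟩

end Groth.Agent.Lib.Helper35.GlobGen
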