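import Groth.Agent.Lib.Helper35.Gen3
import Groth.Agent.Lib.Helper35.GlobGen
import Groth.Agent.Lib.Helper35.AffDiag

/-!
# Ampleness: first consequences (structure sheaf, isomorphism invariance)
-/

universe u

open CategoryTheory AlgebraicGeometry TopologicalSpace Opposite TensorProduct

namespace Groth.Agent.Lib.Helper35.Ample

open Groth.Agent.Lib.Helper35.AbSheaf Groth.Agent.Lib.Helper35.GenLocus
open Groth.Agent.Lib.Helper35.Gen Groth.Agent.Lib.Helper35.GlobGen
open Groth.Agent.Lib.Helper35.ModRestrict Groth.Agent.Lib.Helper35.InvPush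

variable {X : Scheme.{u}}

theorem genLocus_comp_iso {L L' : X.Modules} (φ : L ≅ L') (s : Coh.structureModule X ⟶ L) :
    CohB1.genLocus L' (s ≫ φ.hom) = CohB1.genLocus L s := by
  have key : ∀ W : X.Opens, Function.Bijective ((s ≫ φ.hom).app W).hom ↔
      Function.Bijective (s.app W).hom := by
    intro W
    have hb : Function.Bijective (φ.hom.app W).hom :=
      (ConcreteCategory.isIso_iff_bijective _).mp inferInstance
    have hc : ((s ≫ φ.hom).app W).hom = (φ.hom.app W).hom ∘ (s.app W).hom := rfl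
    rw [hc]
    exact Function.Bijective.of_comp_iff' hb _
  apply le_antisymm
  · rw [le_genLocus_iff]
    intro W hW
    exact (key W).mp (bijective_app_of_le_genLocus _ _ W hW)
  · rw [le_genLocus_iff]
    intro W hW
    exact (key W).mpr (bijective_app_of_le_genLocus _ _ W hW)

/-- functoriality of tensor powers in isomorphisms -/
noncomputable def tensorPowIso {L L' : X.Modules} (φ : L ≅ L') :
    (n : ℕ) → (CohB1.tensorPow L n ≅ CohB1.tensorPow L' n)
  | 0 => Iso.refl _
  | n + 1 => Groth.Agent.Lib.Helper60.TensorLib.tensorModCongrLeft (tensorPowIso φ n) L ≪≫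
      Groth.Agent.Lib.Helper60.TensorLib.tensorModCongrRight (CohB1.tensorPow L' n) φ

theorem isAmple_of_iso {L L' : X.Modules} (φ : L ≅ L') (h : CohB1.IsAmple L) :
    CohB1.IsAmple L' := by
  obtain ⟨h1, h2, h3⟩ := h
  refine ⟨isInvertible_of_iso φ h1, h2, ?_⟩
  intro x
  obtain ⟨n, s, hx, hA⟩ := h3 x
  refine ⟨n, s ≫ (tensorPowIso φ (n + 1)).hom, ?_, ?_⟩
  · rw [genLocus_comp_iso]
    exact hx
  · rw [genLocus_comp_iso]
    exact hA

theorem genLocus_id : CohB1.genLocus (Coh.structureModule X) (𝟙 _) = ⊤ := by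
  rw [eq_top_iff, le_genLocus_iff]
  intro W _
  exact Function.bijective_id

theorem val_secHom (F : X.Modules) (t : Γ(F, ⊤)) (W : X.Opens) :
    SecTwist.val (secHom F t) W = rs F le_top t :=
  secHom_app_one F t W

theorem genLocus_secHom (f : Γ(X, ⊤)) :
    CohB1.genLocus (Coh.structureModule X) (secHom (Coh.structureModule X) f) =
      X.basicOpen f := by
  have h := genLocus_inf_eq_basicOpen (secHom (Coh.structureModule X) f) (isGen_one ⊤) f (by
    rw [val_secHom, rs_self]
    exact (mul_one f).symm)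
  rw [inf_top_eq] at h
  exact h

theorem isAmple_structureModule_of_isQuasiAffine [X.IsQuasiAffine] :
    CohB1.IsAmple (Coh.structureModule X) := by
  refine ⟨isInvertible_structureModule X, inferInstance, ?_⟩
  intro x
  obtain ⟨_, ⟨_, ⟨r, hr, rfl⟩, rfl⟩, hxr, -⟩ := (Scheme.IsQuasiAffine.isBasis_basicOpen
    X).exists_subset_of_mem_open (Set.mem_univ x) isOpen_univ
  refine ⟨0, SecTwist.tmulHom (𝟙 _) (secHom (Coh.structureModule X) r), ?_⟩
  have h : CohB1.genLocus (CohB1.tensorPow (Coh.structureModule X) (0 + 1))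
      (SecTwist.tmulHom (𝟙 _) (secHom (Coh.structureModule X) r)) = X.basicOpen r := by
    have h0 := genLocus_tmulHom (isInvertible_structureModule X) (isInvertible_structureModule X)
      (𝟙 (Coh.structureModule X)) (secHom (Coh.structureModule X) r)
    rw [genLocus_id, genLocus_secHom, top_inf_eq] at h0
    exact h0
  rw [h]
  exact ⟨hxr, hr⟩

theorem isQuasiAffine_of_isAmple_structureModule (h : CohB1.IsAmple (Coh.structureModule X)) :
    X.IsQuasiAffine := by
  obtain ⟨-, h2, h3⟩ := h
  haveI := h2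
  apply Scheme.IsQuasiAffine.of_forall_exists_mem_basicOpen
  intro x
  obtain ⟨n, s, hx, hA⟩ := h3 x
  have hgen : IsGen (CohB1.tensorPow (Coh.structureModule X) (n + 1)) ⊤ _ :=
    (isGen_one (X := X) ⊤).gpow (n + 1)
  obtain ⟨a, ha⟩ := hgen.exists_eq_smul (SecTwist.val s ⊤)
  have h := genLocus_inf_eq_basicOpen s hgen a ha
  rw [inf_top_eq] at h
  rw [h] at hx hA
  exact ⟨a, hA, hx⟩

end Groth.Agent.Lib.Helper35.Ample
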