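import Groth.Agent.Lib.Helper35.Dual2
import Groth.Agent.Lib.Helper35.Ample1
import Groth.Agent.Lib.Lead.Inv6
import Groth.Prelude.Def_ClSub2

/-!
# The dual of an invertible module is a tensor inverse; sections of the dual from cosections
-/

universe u

open CategoryTheory AlgebraicGeometry TopologicalSpace Opposite

namespace Groth.Agent.Lib.Helper35.Dual

open Groth.Agent.Lib.Helper35.AbSheaf Groth.Agent.Lib.Helper35.Gen
open Groth.Agent.Lib.Helper35.GlobGen Groth.Agent.Lib.Helper35.Ample

variable {X : Scheme.{u}} {L : X.Modules}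

section gen
variable {U : X.Opens} {e : Γ(L, U)}

theorem eq_ev_smul_dualGen (he : IsGen L U e) {W : X.Opens} (hW : W ≤ U) (φ : Γ(dual L, W)) :
    φ = ev φ (rs L hW e) • rs (dual L) hW (dualGen he) := by
  apply ext_ev
  intro V hV a
  rw [rs_smul, ev_smul_left, rs_rs, ev_rs_dualGen, rr_ev, rs_rs]
  conv_lhs => rw [← coeff_spec he (hV.trans hW) a, ev_smul_right]
  rw [mul_comm]

end gen

variable (L) in
/-- the evaluation pairing -/
noncomputable def evBilin (U : X.Opens) :
    Γ(dual L, U) →ₗ[Γ(X, U)] Γ(L, U) →ₗ[Γ(X, U)] Γ(Coh.structureModule X, U) :=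
  LinearMap.mk₂ Γ(X, U) (fun φ a => (ev φ a : Γ(Coh.structureModule X, U)))
    (fun φ ψ a => ev_add_left φ ψ a) (fun r φ a => ev_smul_left r φ a)
    (fun φ a b => ev_add_right φ a b) (fun r φ a => ev_smul_right φ r a)

theorem nonempty_dual_tensor (hL : PicF.IsInvertible L) :
    Nonempty (CohB1.tensorMod (dual L) L ≅ Coh.structureModule X) := by
  refine Groth.Agent.Lib.Helper60.TensorLib.nonempty_tensorMod_iso (dual L) L
    (Coh.structureModule X) (evBilin L) ?_ ?_
  · intro U V i φ a
    exact rr_ev i.le φ a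
  · intro x
    obtain ⟨U, hxU, e, he⟩ := exists_isGen_of_isInvertible hL x
    refine ⟨U, hxU, fun W hW => ?_⟩
    refine Groth.Agent.Lib.Helper60.TensorLib.lift_bijective_of_generators (evBilin L W)
      (rs (dual L) hW (dualGen he)) (rs L hW e) ?_ ?_ ?_
    · exact ((isGen_dualGen he).mono hW).bij
    · exact (he.mono hW).bij
    · have h1 : evBilin L W (rs (dual L) hW (dualGen he)) (rs L hW e) =
          ((1 : Γ(X, W)) : Γ(Coh.structureModule X, W)) := coeff_self he hW
      rw [h1]
      exact (isGen_one W).bij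

/-- **Existence of tensor inverses.** -/
theorem isInverseOf_dual (hL : PicF.IsInvertible L) : ClSub.IsInverseOf (dual L) L :=
  nonempty_dual_tensor hL

theorem isInverseOf_dual' (hL : PicF.IsInvertible L) : ClSub.IsInverseOf L (dual L) := by
  obtain ⟨e⟩ := nonempty_dual_tensor hL
  obtain ⟨c⟩ := Groth.Agent.Lib.Lead.Inv.nonempty_comm L (dual L)
  exact ⟨c ≪≫ e⟩

theorem exists_inverse (hL : PicF.IsInvertible L) :
    ∃ N : X.Modules, PicF.IsInvertible N ∧ ClSub.IsInverseOf L N ∧ ClSub.IsInverseOf N L :=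
  ⟨dual L, isInvertible_dual hL, isInverseOf_dual' hL, isInverseOf_dual hL⟩

/-! ### cosections -/

/-- the global section of the dual defined by a cosection -/
noncomputable def cosec (φ : L ⟶ Coh.structureModule X) : Γ(dual L, ⊤) :=
  ofSec ⟨fun V =>
    { toFun := fun a => ((φ.app V.1).hom a : Γ(Coh.structureModule X, V.1))
      map_add' := fun a b => map_add _ a b
      map_smul' := fun r a => Scheme.Modules.Hom.app_smul φ r a },
    fun V W _ h a => (nat_res φ.mapPresheaf h a).symm⟩

lemma ev_rs_cosec (φ : L ⟶ Coh.structureModule X) {V : X.Opens} (a : Γ(L, V)) :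
    ev (rs (dual L) le_top (cosec φ)) a = ((φ.app V).hom a : Γ(Coh.structureModule X, V)) := rfl

/-- the section of the dual defined by a cosection -/
noncomputable def dualSec (φ : L ⟶ Coh.structureModule X) : Coh.structureModule X ⟶ dual L :=
  secHom (dual L) (cosec φ)

theorem val_dualSec (φ : L ⟶ Coh.structureModule X) {U : X.Opens} {e : Γ(L, U)}
    (he : IsGen L U e) :
    SecTwist.val (dualSec φ) U =
      (show Γ(X, U) from ((φ.app U).hom e : Γ(Coh.structureModule X, U))) • dualGen he := by
  rw [dualSec, val_secHom]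
  have h := eq_ev_smul_dualGen he le_rfl (rs (dual L) le_top (cosec φ))
  rw [rs_self, rs_self, ev_rs_cosec] at h
  exact h

theorem genLocus_dualSec_inf (φ : L ⟶ Coh.structureModule X) {U : X.Opens} {e : Γ(L, U)}
    (he : IsGen L U e) :
    CohB1.genLocus (dual L) (dualSec φ) ⊓ U =
      X.basicOpen (show Γ(X, U) from ((φ.app U).hom e : Γ(Coh.structureModule X, U))) :=
  genLocus_inf_eq_basicOpen (dualSec φ) (isGen_dualGen he) _ (val_dualSec φ he)

end Groth.Agent.Lib.Helper35.Dual
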