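import Groth.Agent.Lib.Helper35.InvHom

/-!
# `InvRestrictEquiv` in terms of sections of `O` and direct images of invertible modules
-/

universe u

open CategoryTheory AlgebraicGeometry TopologicalSpace Opposite

namespace Groth.Agent.Lib.Helper35.InvPush

open Groth.Agent.Lib.Helper35.AbSheaf Groth.Agent.Lib.Helper35.InvHom
open Groth.Agent.Lib.Helper35.ModRestrict Scheme.Modules

variable {X : Scheme.{u}}

/-- global sections of a module as compatible families -/
noncomputable def sectionsTopEquiv (M : X.Modules) : M.sections ≃ M.presheaf.obj (op ⊤) where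
  toFun s := s.val (op ⊤)
  invFun a := ⟨fun U => (M.presheaf.map (homOfLE (le_top : U.unop ≤ ⊤)).op).hom a, by
    intro U V i
    change (M.presheaf.map i).hom ((M.presheaf.map (homOfLE (le_top : U.unop ≤ ⊤)).op).hom a) = _
    rw [← AddCommGrpCat.comp_apply, ← M.presheaf.map_comp]
    rfl⟩
  left_inv s := by
    apply Subtype.ext
    funext U
    exact s.property (homOfLE (le_top : U.unop ≤ ⊤)).op
  right_inv a := by
    change (M.presheaf.map (homOfLE (le_top : (⊤ : X.Opens) ≤ ⊤)).op).hom a = a
    have : (homOfLE (le_top : (⊤ : X.Opens) ≤ ⊤)).op = 𝟙 (op ⊤) := rfl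
    rw [this, M.presheaf.map_id]
    rfl

lemma sectionsTopEquiv_sectionsMap {M N : X.Modules} (p : M ⟶ N) (s : M.sections) :
    sectionsTopEquiv N (SheafOfModules.sectionsMap p s) = (p.app ⊤).hom (sectionsTopEquiv M s) :=
  rfl

theorem bijective_app_top_of_bijective_comp {M N : X.Modules} (p : M ⟶ N)
    (h : Function.Bijective (fun f : Coh.structureModule X ⟶ M => f ≫ p)) :
    Function.Bijective (p.app ⊤).hom := by
  have h1 : (p.app ⊤).hom = (sectionsTopEquiv N) ∘ (N.unitHomEquiv) ∘
      (fun f : Coh.structureModule X ⟶ M => f ≫ p) ∘ (M.unitHomEquiv).symm ∘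
        (sectionsTopEquiv M).symm := by
    funext a
    simp only [Function.comp_apply]
    rw [SheafOfModules.unitHomEquiv_comp_apply, Equiv.apply_symm_apply,
      sectionsTopEquiv_sectionsMap, Equiv.apply_symm_apply]
  rw [h1]
  exact (Equiv.bijective _).comp ((Equiv.bijective _).comp (h.comp ((Equiv.bijective _).comp
    (Equiv.bijective _))))

theorem isInvertible_structureModule (X : Scheme.{u}) :
    PicF.IsInvertible (Coh.structureModule X) := by
  intro y
  exact ⟨⊤, trivial, ⟨restrictUnitIso _⟩⟩

/-- converse of `bijective_map_of_isIso_unit`, hom-wise -/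
theorem bijective_comp_unit_of_bijective_map {C D : Type*} [Category C] [Category D]
    {F : C ⥤ D} {G : D ⥤ C} (adj : F ⊣ G) (L L' : C)
    (h : Function.Bijective (fun φ : L ⟶ L' => F.map φ)) :
    Function.Bijective (fun φ : L ⟶ L' => φ ≫ adj.unit.app L') := by
  have h1 : (fun φ : L ⟶ L' => φ ≫ adj.unit.app L') =
      (adj.homEquiv L (F.obj L')) ∘ (fun φ : L ⟶ L' => F.map φ) := by
    funext φ
    simp [Adjunction.homEquiv_apply]
  rw [h1]
  exact (Equiv.bijective _).comp h

/-- If restriction along `f` is bijective on endomorphisms of `O_X`, then `O(X) → O(range f)` is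
bijective. -/
theorem sections_bijective_of_hom_bijective {Z : Scheme.{u}} (f : Z ⟶ X) [IsOpenImmersion f]
    (h : Function.Bijective (fun φ : Coh.structureModule X ⟶ Coh.structureModule X =>
      (restrictFunctor f).map φ)) :
    Function.Bijective (X.presheaf.map (homOfLE (le_top : f.opensRange ≤ ⊤)).op) := by
  have h1 := bijective_comp_unit_of_bijective_map (restrictAdjunction f) _ _ h
  have h2 := bijective_app_top_of_bijective_comp _ h1
  rw [restrictAdjunction_unit_app_app] at h2
  have E : f ''ᵁ (f ⁻¹ᵁ ⊤) = f.opensRange := by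
    rw [Scheme.Hom.image_preimage_eq_opensRange_inf, inf_top_eq]
  have h3 : Function.Bijective (X.presheaf.map (homOfLE (f.image_preimage_le ⊤)).op) := h2
  exact (presheaf_bijective_congr rfl E _ _).mp h3

theorem invRestrictEquiv_iff_pushforward {Z : Scheme.{u}} (f : Z ⟶ X) [IsOpenImmersion f]
    (h : ∀ V : X.Opens,
      Function.Bijective (X.presheaf.map (homOfLE (inf_le_left : V ⊓ f.opensRange ≤ V)).op)) :
    ParaF.InvRestrictEquiv f ↔
      ∀ L : Z.Modules, PicF.IsInvertible L → PicF.IsInvertible ((pushforward f).obj L) := by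
  constructor
  · intro hf L hL
    obtain ⟨N, hN, ⟨e⟩⟩ := hf.2 L hL
    haveI := isIso_unit_of_isInvertible' f h N hN
    exact isInvertible_of_iso (asIso ((restrictAdjunction f).unit.app N) ≪≫
      (pushforward f).mapIso e) hN
  · intro hp
    exact ⟨fun L L' _ hL' => restrict_hom_bijective' f h L L' hL',
      fun L₀ h₀ => ⟨_, hp L₀ h₀, ⟨(restrictFunctorAdjCounitIso f).app L₀⟩⟩⟩

/-- sections of the structure sheaf of an open subscheme -/
lemma opens_presheaf_bijective_iff (V : X.Opens) {A B : (V : Scheme.{u}).Opens} (h : B ≤ A) :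
    Function.Bijective ((V : Scheme.{u}).presheaf.map (homOfLE h).op) ↔
      Function.Bijective (X.presheaf.map (homOfLE (V.ι.image_mono h)).op) :=
  Iff.rfl

end Groth.Agent.Lib.Helper35.InvPush
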