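import Groth.Agent.Lib.Helper35.PbAmple
import Groth.Agent.Lib.Helper60.TensorMod
import Groth.Agent.Lib.Helper40.NisGen
import Groth.Agent.Lib.Helper40.AffBC1
import Groth.Agent.Lib.Lead.Inv3

/-!
# Pullback commutes with tensor products of invertible modules
-/

set_option autoImplicit false
universe u

open CategoryTheory AlgebraicGeometry TopologicalSpace Opposite TensorProduct

namespace Groth.Agent.Lib.Helper35.PbTensor

open Groth.Agent.Lib.Helper35.AbSheaf Groth.Agent.Lib.Helper35.Gen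
open Groth.Agent.Lib.Helper60.TensorLib Groth.Agent.Lib.Helper35.PbInv Scheme.Modules

variable {X : Scheme.{u}}

/-- `liftHom` on pure tensors -/
theorem liftHom_tm (M N K : X.Modules)
    (b : ∀ U : X.Opens, Γ(M, U) →ₗ[Γ(X, U)] Γ(N, U) →ₗ[Γ(X, U)] Γ(K, U))
    (hb : ∀ {U V : X.Opens} (i : V ⟶ U) (m : Γ(M, U)) (n : Γ(N, U)),
      K.presheaf.map i.op (b U m n) = b V (M.presheaf.map i.op m) (N.presheaf.map i.op n))
    (U : X.Opens) (m : Γ(M, U)) (n : Γ(N, U)) :
    ((liftHom (CohB1.tensorPre M N) K (tensorPreHom M N K b hb)).app U).hom (tm M N m n) =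
      b U m n := by
  have h1 : (PresheafOfModules.sheafificationHomEquiv (𝟙 X.ringCatSheaf.obj))
      (liftHom (CohB1.tensorPre M N) K (tensorPreHom M N K b hb)) = tensorPreHom M N K b hb :=
    Equiv.apply_symm_apply _ _
  have h2 := (PresheafOfModules.sheafificationAdjunction (𝟙 X.ringCatSheaf.obj)).homEquiv_unit
    (X := (show X.PresheafOfModules from CohB1.tensorPre M N)) (Y := K)
    (f := liftHom (CohB1.tensorPre M N) K (tensorPreHom M N K b hb))
  rw [PresheafOfModules.sheafificationAdjunction_homEquiv_apply, h1] at h2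
  have h3 := congrArg (fun ψ : (show X.PresheafOfModules from CohB1.tensorPre M N) ⟶
      (PresheafOfModules.restrictScalars (𝟙 X.ringCatSheaf.obj)).obj K.val =>
    (PresheafOfModules.Hom.app ψ (op U)).hom
      ((show M.val.obj (op U) from m) ⊗ₜ (show N.val.obj (op U) from n))) h2
  exact h3.symm

section Cmp

variable {X' : Scheme.{u}} (u : X' ⟶ X) (M N : X.Modules)

/-- the target `u^*M ⊗ u^*N` -/
noncomputable abbrev tgt : X'.Modules :=
  CohB1.tensorMod ((Scheme.Modules.pullback u).obj M) ((Scheme.Modules.pullback u).obj N)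

/-- the pairing `(m, n) ↦ u^*m ⊗ u^*n` -/
noncomputable def pair (U : X.Opens) :
    Γ(M, U) →ₗ[Γ(X, U)] Γ(N, U) →ₗ[Γ(X, U)] Γ((pushforward u).obj (tgt u M N), U) :=
  LinearMap.mk₂ Γ(X, U)
    (fun m n => (show Γ((pushforward u).obj (tgt u M N), U) from
      tm ((Scheme.Modules.pullback u).obj M) ((Scheme.Modules.pullback u).obj N)
        (pbSec u M U m) (pbSec u N U n)))
    (fun m₁ m₂ n => by
      change tm _ _ (pbSec u M U (m₁ + m₂)) (pbSec u N U n) = tm _ _ _ _ + tm _ _ _ _
      rw [map_add, tm_add_left]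
      rfl)
    (fun c m n => by
      change tm _ _ (pbSec u M U (c • m)) (pbSec u N U n) = (u.app U).hom c • tm _ _ _ _
      rw [pbSec_smul, tm_smul_left])
    (fun m n₁ n₂ => by
      change tm _ _ (pbSec u M U m) (pbSec u N U (n₁ + n₂)) = tm _ _ _ _ + tm _ _ _ _
      rw [map_add, tm_add_right]
      rfl)
    (fun c m n => by
      change tm _ _ (pbSec u M U m) (pbSec u N U (c • n)) = (u.app U).hom c • tm _ _ _ _
      rw [pbSec_smul, tm_smul_right])

lemma pair_apply (U : X.Opens) (m : Γ(M, U)) (n : Γ(N, U)) :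
    (pair u M N U m n : Γ(tgt u M N, u ⁻¹ᵁ U)) =
      tm ((Scheme.Modules.pullback u).obj M) ((Scheme.Modules.pullback u).obj N)
        (pbSec u M U m) (pbSec u N U n) := rfl

lemma pair_nat {U V : X.Opens} (i : V ⟶ U) (m : Γ(M, U)) (n : Γ(N, U)) :
    ((pushforward u).obj (tgt u M N)).presheaf.map i.op (pair u M N U m n) =
      pair u M N V (M.presheaf.map i.op m) (N.presheaf.map i.op n) := by
  have hi : i = homOfLE i.le := Subsingleton.elim _ _
  rw [hi]
  change rs (tgt u M N) (u.preimage_mono i.le) (tm _ _ (pbSec u M U m) (pbSec u N U n)) =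
    tm _ _ (pbSec u M V (rs M i.le m)) (pbSec u N V (rs N i.le n))
  rw [rs_tm, pbSec_rs, pbSec_rs]

/-- the comparison map, pushed forward -/
noncomputable def cmpPush : CohB1.tensorMod M N ⟶ (pushforward u).obj (tgt u M N) :=
  liftHom (CohB1.tensorPre M N) _ (tensorPreHom M N _ (pair u M N) (pair_nat u M N))

/-- the comparison map `u^*(M ⊗ N) ⟶ u^*M ⊗ u^*N` -/
noncomputable def cmp : (Scheme.Modules.pullback u).obj (CohB1.tensorMod M N) ⟶ tgt u M N :=
  ((pullbackPushforwardAdjunction u).homEquiv _ _).symm (cmpPush u M N)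

theorem cmp_pbSec_tm (U : X.Opens) (m : Γ(M, U)) (n : Γ(N, U)) :
    ((cmp u M N).app (u ⁻¹ᵁ U)).hom (pbSec u (CohB1.tensorMod M N) U (tm M N m n)) =
      tm ((Scheme.Modules.pullback u).obj M) ((Scheme.Modules.pullback u).obj N)
        (pbSec u M U m) (pbSec u N U n) := by
  have h1 := adj_app u (cmpPush u M N) U (tm M N m n)
  have h2 := liftHom_tm M N _ (pair u M N) (pair_nat u M N) U m n
  exact h1.trans h2

end Cmp

/-- a morphism mapping local generators to local generators is an isomorphism -/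
theorem isIso_of_isGen_map {A B : X.Modules} (φ : A ⟶ B)
    (h : ∀ x : X, ∃ U : X.Opens, x ∈ U ∧ ∃ e : Γ(A, U), IsGen A U e ∧
      IsGen B U ((φ.app U).hom e)) : IsIso φ := by
  apply Groth.Agent.Lib.Helper40.AffBC.isIso_of_app_bijective_of_basis
    {W | ∃ (U : X.Opens) (e : Γ(A, U)), W ≤ U ∧ IsGen A U e ∧ IsGen B U ((φ.app U).hom e)}
  · rw [Opens.isBasis_iff_nbhd]
    intro V x hxV
    obtain ⟨U, hxU, e, he, he'⟩ := h x
    exact ⟨V ⊓ U, ⟨U, e, inf_le_right, he, he'⟩, ⟨hxV, hxU⟩, inf_le_left⟩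
  · rintro W ⟨U, e, hWU, he, he'⟩
    have h1 := he W hWU
    have h2 := he' W hWU
    have key : (fun r : Γ(X, W) => r • rs B hWU ((φ.app U).hom e)) =
        (φ.app W).hom ∘ (fun r : Γ(X, W) => r • rs A hWU e) := by
      funext r
      change r • rs B hWU ((φ.app U).hom e) = (φ.app W).hom (r • rs A hWU e)
      rw [Scheme.Modules.Hom.app_smul]
      congr 1
      exact (nat_res φ.mapPresheaf hWU e).symm
    rw [key] at h2
    exact (Function.Bijective.of_comp_iff _ h1).mp h2

section Iso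

variable {X' : Scheme.{u}} (u : X' ⟶ X)

theorem isIso_cmp {M N : X.Modules} (hM : PicF.IsInvertible M) (hN : PicF.IsInvertible N) :
    IsIso (cmp u M N) := by
  apply isIso_of_isGen_map
  intro x'
  obtain ⟨U₁, hx₁, e₁, he₁⟩ := exists_isGen_of_isInvertible hM (u x')
  obtain ⟨U₂, hx₂, e₂, he₂⟩ := exists_isGen_of_isInvertible hN (u x')
  refine ⟨u ⁻¹ᵁ (U₁ ⊓ U₂), ⟨hx₁, hx₂⟩,
    pbSec u _ _ (tm M N (rs M inf_le_left e₁) (rs N inf_le_right e₂)),
    isGen_pbSec u _ _ _ (IsGen.tm (he₁.mono _) (he₂.mono _)), ?_⟩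
  rw [cmp_pbSec_tm]
  exact IsGen.tm (isGen_pbSec u M _ _ (he₁.mono _)) (isGen_pbSec u N _ _ (he₂.mono _))

/-- pullback commutes with the tensor product of invertible modules -/
theorem nonempty_pullback_tensorMod {M N : X.Modules} (hM : PicF.IsInvertible M)
    (hN : PicF.IsInvertible N) :
    Nonempty ((Scheme.Modules.pullback u).obj (CohB1.tensorMod M N) ≅
      CohB1.tensorMod ((Scheme.Modules.pullback u).obj M) ((Scheme.Modules.pullback u).obj N)) :=
  ⟨@asIso _ _ _ _ (cmp u M N) (isIso_cmp u hM hN)⟩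

/-- pullback commutes with tensor powers of invertible modules -/
theorem nonempty_pullback_tensorPow {L : X.Modules} (hL : PicF.IsInvertible L) (n : ℕ) :
    Nonempty ((Scheme.Modules.pullback u).obj (CohB1.tensorPow L n) ≅
      CohB1.tensorPow ((Scheme.Modules.pullback u).obj L) n) := by
  induction n with
  | zero => exact ⟨Groth.Agent.Lib.Helper40.NisGen.pullbackUnitIso u⟩
  | succ n ih =>
    obtain ⟨e⟩ := ih
    obtain ⟨e'⟩ := nonempty_pullback_tensorMod u (isInvertible_tensorPow hL n) hL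
    exact ⟨e' ≪≫ tensorModCongrLeft e _⟩

end Iso

end Groth.Agent.Lib.Helper35.PbTensor
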