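import Mathlib
import Groth.Prelude.Def_ParaF

/-!
# Restriction of `O_X`-modules along open immersions: invertible modules, `InvRestrictEquiv`

Abstract "equivalence on subclasses" calculus (`EqvOn`) and its 2-out-of-3 properties,
then application to `ParaF.InvRestrictEquiv`.
-/

universe u

open CategoryTheory AlgebraicGeometry TopologicalSpace

namespace Groth.Agent.Lib.Helper35.ModRestrict

section abstract

variable {C D E : Type*} [Category C] [Category D] [Category E]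

/-- `F` restricts to a fully faithful, essentially surjective functor from the objects satisfying
`P` to the objects satisfying `Q`. -/
def EqvOn (F : C ⥤ D) (P : C → Prop) (Q : D → Prop) : Prop :=
  (∀ L L' : C, P L → P L' → Function.Bijective (fun φ : L ⟶ L' => F.map φ)) ∧
  (∀ L₀ : D, Q L₀ → ∃ L : C, P L ∧ Nonempty (F.obj L ≅ L₀))

variable {F : C ⥤ D} {G : D ⥤ E} {P : C → Prop} {Q : D → Prop} {R : E → Prop}

theorem EqvOn.of_natIso {F' : C ⥤ D} (e : F ≅ F') (h : EqvOn F P Q) : EqvOn F' P Q := by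
  refine ⟨fun L L' hL hL' => ?_, fun L₀ hL₀ => ?_⟩
  · have h1 := h.1 L L' hL hL'
    have h2 : (fun φ : L ⟶ L' => F'.map φ) =
        (fun ψ : F.obj L ⟶ F.obj L' => e.inv.app L ≫ ψ ≫ e.hom.app L') ∘
          (fun φ : L ⟶ L' => F.map φ) := by
      funext φ
      simp
    rw [h2]
    refine Function.Bijective.comp ?_ h1
    refine Function.bijective_iff_has_inverse.mpr
      ⟨fun ψ => e.hom.app L ≫ ψ ≫ e.inv.app L', fun ψ => by simp, fun ψ => by simp⟩
  · obtain ⟨L, hL, ⟨i⟩⟩ := h.2 L₀ hL₀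
    exact ⟨L, hL, ⟨(e.app L).symm ≪≫ i⟩⟩

/-- lifting isomorphisms along a functor which is fully faithful on `P`-objects -/
theorem EqvOn.iso_of_iso (h : EqvOn F P Q) {A B : C} (hA : P A) (hB : P B)
    (i : F.obj A ≅ F.obj B) : Nonempty (A ≅ B) := by
  obtain ⟨f, hf⟩ := (h.1 A B hA hB).2 i.hom
  obtain ⟨g, hg⟩ := (h.1 B A hB hA).2 i.inv
  replace hf : F.map f = i.hom := hf
  replace hg : F.map g = i.inv := hg
  refine ⟨⟨f, g, ?_, ?_⟩⟩
  · apply (h.1 A A hA hA).1
    change F.map (f ≫ g) = F.map (𝟙 A)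
    rw [F.map_comp, F.map_id, hf, hg, Iso.hom_inv_id]
  · apply (h.1 B B hB hB).1
    change F.map (g ≫ f) = F.map (𝟙 B)
    rw [F.map_comp, F.map_id, hf, hg, Iso.inv_hom_id]

theorem EqvOn.comp (hFP : ∀ L, P L → Q (F.obj L)) (h1 : EqvOn F P Q) (h2 : EqvOn G Q R) :
    EqvOn (F ⋙ G) P R := by
  refine ⟨fun L L' hL hL' => ?_, fun L₀ hL₀ => ?_⟩
  · exact (h2.1 _ _ (hFP L hL) (hFP L' hL')).comp (h1.1 L L' hL hL')
  · obtain ⟨M, hM, ⟨i⟩⟩ := h2.2 L₀ hL₀
    obtain ⟨L, hL, ⟨k⟩⟩ := h1.2 M hM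
    exact ⟨L, hL, ⟨G.mapIso k ≪≫ i⟩⟩

/-- right cancellation -/
theorem EqvOn.of_comp_right (hFP : ∀ L, P L → Q (F.obj L)) (hGQ : ∀ M, Q M → R (G.obj M))
    (h : EqvOn (F ⋙ G) P R) (h2 : EqvOn G Q R) : EqvOn F P Q := by
  refine ⟨fun L L' hL hL' => ?_, fun M hM => ?_⟩
  · have hc := h.1 L L' hL hL'
    have hg := h2.1 _ _ (hFP L hL) (hFP L' hL')
    have : (fun φ : L ⟶ L' => (F ⋙ G).map φ) =
        (fun ψ : F.obj L ⟶ F.obj L' => G.map ψ) ∘ (fun φ : L ⟶ L' => F.map φ) := rfl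
    rw [this] at hc
    exact (Function.Bijective.of_comp_iff' hg _).mp hc
  · obtain ⟨L, hL, ⟨i⟩⟩ := h.2 (G.obj M) (hGQ M hM)
    obtain ⟨k⟩ := h2.iso_of_iso (hFP L hL) hM i
    exact ⟨L, hL, ⟨k⟩⟩

/-- left cancellation -/
theorem EqvOn.of_comp_left (hFP : ∀ L, P L → Q (F.obj L))
    (h : EqvOn (F ⋙ G) P R) (h1 : EqvOn F P Q) : EqvOn G Q R := by
  refine ⟨fun M M' hM hM' => ?_, fun L₀ hL₀ => ?_⟩
  · obtain ⟨L, hL, ⟨a⟩⟩ := h1.2 M hM
    obtain ⟨L', hL', ⟨a'⟩⟩ := h1.2 M' hM'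
    -- `G.map` on `Hom(F L, F L')` is bijective
    have hc := h.1 L L' hL hL'
    have hf := h1.1 L L' hL hL'
    have hcomp : (fun φ : L ⟶ L' => (F ⋙ G).map φ) =
        (fun ψ : F.obj L ⟶ F.obj L' => G.map ψ) ∘ (fun φ : L ⟶ L' => F.map φ) := rfl
    rw [hcomp] at hc
    have hg : Function.Bijective (fun ψ : F.obj L ⟶ F.obj L' => G.map ψ) :=
      (Function.Bijective.of_comp_iff _ hf).mp hc
    have h2 : (fun φ : M ⟶ M' => G.map φ) =
        (fun χ : G.obj (F.obj L) ⟶ G.obj (F.obj L') => G.map a.inv ≫ χ ≫ G.map a'.hom) ∘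
          (fun ψ : F.obj L ⟶ F.obj L' => G.map ψ) ∘
            (fun φ : M ⟶ M' => a.hom ≫ φ ≫ a'.inv) := by
      funext φ
      simp only [Function.comp_apply, Functor.map_comp, Category.assoc]
      rw [← G.map_comp a'.inv a'.hom, Iso.inv_hom_id, G.map_id, Category.comp_id,
        ← G.map_comp_assoc a.inv a.hom, Iso.inv_hom_id, G.map_id, Category.id_comp]
    rw [h2]
    refine Function.Bijective.comp ?_ (Function.Bijective.comp hg ?_)
    · refine Function.bijective_iff_has_inverse.mpr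
        ⟨fun χ => G.map a.hom ≫ χ ≫ G.map a'.inv, fun χ => ?_, fun χ => ?_⟩
      · simp only [Category.assoc]
        rw [← G.map_comp a'.hom a'.inv, Iso.hom_inv_id, G.map_id, Category.comp_id,
          ← G.map_comp_assoc a.hom a.inv, Iso.hom_inv_id, G.map_id, Category.id_comp]
      · simp only [Category.assoc]
        rw [← G.map_comp a'.inv a'.hom, Iso.inv_hom_id, G.map_id, Category.comp_id,
          ← G.map_comp_assoc a.inv a.hom, Iso.inv_hom_id, G.map_id, Category.id_comp]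
    · exact Function.bijective_iff_has_inverse.mpr
        ⟨fun ψ => a.inv ≫ ψ ≫ a'.hom, fun ψ => by simp, fun ψ => by simp⟩
  · obtain ⟨L, hL, ⟨i⟩⟩ := h.2 L₀ hL₀
    exact ⟨F.obj L, hFP L hL, ⟨i⟩⟩

/-- an equivalence of categories compatible with the classes -/
theorem EqvOn.of_isEquivalence [F.IsEquivalence] (hQP : ∀ L, Q (F.obj L) → P L)
    (hQ : ∀ A B : D, (A ≅ B) → Q A → Q B) : EqvOn F P Q := by
  refine ⟨fun L L' _ _ => ?_, fun L₀ hL₀ => ?_⟩
  · exact ⟨fun a b hab => F.map_injective hab, fun ψ => ⟨F.preimage ψ, F.map_preimage ψ⟩⟩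
  · refine ⟨F.inv.obj L₀, hQP _ (hQ _ _ (F.asEquivalence.counitIso.app L₀).symm hL₀),
      ⟨F.asEquivalence.counitIso.app L₀⟩⟩

end abstract


section scheme

open Scheme.Modules

variable {X Y Z : Scheme.{u}}

theorem invRestrictEquiv_iff (j : X ⟶ Y) [IsOpenImmersion j] :
    ParaF.InvRestrictEquiv j ↔
      EqvOn (restrictFunctor j) (PicF.IsInvertible (Y := Y)) (PicF.IsInvertible (Y := X)) :=
  Iff.rfl

theorem isInvertible_of_iso {L L' : Y.Modules} (e : L ≅ L') (h : PicF.IsInvertible L) :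
    PicF.IsInvertible L' := by
  intro y
  obtain ⟨U, hy, ⟨i⟩⟩ := h y
  exact ⟨U, hy, ⟨(restrictFunctor U.ι).mapIso e.symm ≪≫ i⟩⟩

theorem isInvertible_restrict (f : X ⟶ Y) [IsOpenImmersion f] (L : Y.Modules)
    (hL : PicF.IsInvertible L) : PicF.IsInvertible ((restrictFunctor f).obj L) := by
  intro x
  obtain ⟨W, hxW, ⟨e⟩⟩ := hL (f.base x)
  refine ⟨f ⁻¹ᵁ W, hxW, ⟨?_⟩⟩
  exact ((restrictFunctorComp (f ⁻¹ᵁ W).ι f).symm.app L) ≪≫
    (restrictFunctorCongr (morphismRestrict_ι f W).symm).app L ≪≫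
    (restrictFunctorComp (f ∣_ W) W.ι).app L ≪≫
    (restrictFunctor (f ∣_ W)).mapIso e ≪≫ restrictUnitIso _


theorem invRestrictEquiv_of_comp_right (j : X ⟶ Y) (i : Y ⟶ Z) [IsOpenImmersion j]
    [IsOpenImmersion i] (h : ParaF.InvRestrictEquiv (j ≫ i)) (hj : ParaF.InvRestrictEquiv j) :
    ParaF.InvRestrictEquiv i := by
  have h' : EqvOn (restrictFunctor i ⋙ restrictFunctor j) (PicF.IsInvertible (Y := Z))
      (PicF.IsInvertible (Y := X)) := EqvOn.of_natIso (restrictFunctorComp j i) h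
  exact EqvOn.of_comp_right (isInvertible_restrict i) (isInvertible_restrict j) h' hj

theorem invRestrictEquiv_of_comp_left (j : X ⟶ Y) (i : Y ⟶ Z) [IsOpenImmersion j]
    [IsOpenImmersion i] (h : ParaF.InvRestrictEquiv (j ≫ i)) (hi : ParaF.InvRestrictEquiv i) :
    ParaF.InvRestrictEquiv j := by
  have h' : EqvOn (restrictFunctor i ⋙ restrictFunctor j) (PicF.IsInvertible (Y := Z))
      (PicF.IsInvertible (Y := X)) := EqvOn.of_natIso (restrictFunctorComp j i) h
  exact EqvOn.of_comp_left (isInvertible_restrict i) h' hi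

theorem invRestrictEquiv_comp (j : X ⟶ Y) (i : Y ⟶ Z) [IsOpenImmersion j]
    [IsOpenImmersion i] (hj : ParaF.InvRestrictEquiv j) (hi : ParaF.InvRestrictEquiv i) :
    ParaF.InvRestrictEquiv (j ≫ i) := by
  have h' : EqvOn (restrictFunctor i ⋙ restrictFunctor j) (PicF.IsInvertible (Y := Z))
      (PicF.IsInvertible (Y := X)) := EqvOn.comp (isInvertible_restrict i) hi hj
  exact EqvOn.of_natIso (restrictFunctorComp j i).symm h'

theorem invRestrictEquiv_homOfLE_congr {A B V : X.Opens} (h : A = B) (hA : A ≤ V) (hB : B ≤ V) :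
    ParaF.InvRestrictEquiv (X.homOfLE hA) ↔ ParaF.InvRestrictEquiv (X.homOfLE hB) := by
  subst h
  rfl


theorem invRestrictEquiv_congr {f g : X ⟶ Y} [IsOpenImmersion f] [IsOpenImmersion g] (h : f = g) :
    ParaF.InvRestrictEquiv f ↔ ParaF.InvRestrictEquiv g := by
  subst h
  rfl


/-- restriction along an isomorphism of schemes is an equivalence of categories -/
noncomputable def restrictEquivalence (e : X ≅ Y) : Y.Modules ≌ X.Modules :=
  CategoryTheory.Equivalence.mk (restrictFunctor e.hom) (restrictFunctor e.inv)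
    (restrictFunctorId.symm ≪≫ restrictFunctorCongr (e.inv_hom_id).symm ≪≫
      restrictFunctorComp e.inv e.hom)
    ((restrictFunctorComp e.hom e.inv).symm ≪≫ restrictFunctorCongr e.hom_inv_id ≪≫
      restrictFunctorId)

theorem invRestrictEquiv_of_isIso (f : X ⟶ Y) [IsIso f] : ParaF.InvRestrictEquiv f := by
  haveI : (restrictFunctor f).IsEquivalence :=
    (restrictEquivalence (asIso f)).isEquivalence_functor
  refine EqvOn.of_isEquivalence (fun L hL => ?_) (fun A B e hA => isInvertible_of_iso e hA)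
  have h1 := isInvertible_restrict (inv f) _ hL
  exact isInvertible_of_iso ((restrictEquivalence (asIso f)).unitIso.app L).symm h1

/-- invariance of `InvRestrictEquiv` under isomorphisms of arrows -/
theorem invRestrictEquiv_of_square {X' Y' : Scheme.{u}} (j : X ⟶ Y) (j' : X' ⟶ Y')
    [IsOpenImmersion j] [IsOpenImmersion j'] (a : X ⟶ X') (b : Y ⟶ Y') [IsIso a] [IsIso b]
    (w : a ≫ j' = j ≫ b) (h : ParaF.InvRestrictEquiv j') : ParaF.InvRestrictEquiv j := by
  have h1 : ParaF.InvRestrictEquiv (a ≫ j') :=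
    invRestrictEquiv_comp a j' (invRestrictEquiv_of_isIso a) h
  have h2 : ParaF.InvRestrictEquiv (j ≫ b) := (invRestrictEquiv_congr w).mp h1
  exact invRestrictEquiv_of_comp_left j b h2 (invRestrictEquiv_of_isIso b)

end scheme

end Groth.Agent.Lib.Helper35.ModRestrict
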