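import Mathlib
import Groth.Agent.Lib.Helper60.Seg3
import Groth.Agent.Lib.Helper35.PbTensor

/-!
# The Segre embedding with its `O(1)`-compatibility
-/

set_option autoImplicit false
universe u
open CategoryTheory CategoryTheory.Limits AlgebraicGeometry TopologicalSpace Opposite

namespace Groth.Agent.Lib.Helper35.VA

open Groth.Agent.Lib.Helper35.Gen Groth.Agent.Lib.Helper35.AbSheaf
open Groth.Agent.Lib.Helper60.ProjUPLib Groth.Agent.Lib.Helper60.TwistLib
open Groth.Agent.Lib.Helper60.ProjFrac Groth.Agent.Lib.Helper60.SecKer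
open Groth.Agent.Lib.Helper60.PbComp Groth.Agent.Lib.Helper35.PbInv
open Groth.Agent.Lib.Helper60.Segre

section segre_main

variable (R : Type u) [CommRing R] (n m : ℕ)

/-- **The Segre embedding over a ring**, with `σ^* O(1) ≅ p₁^* O(1) ⊗ p₂^* O(1)`. -/
theorem exists_segre_tau :
    ∃ σ : XX R n m ⟶ CohB1.ProjSpace (n * m + n + m) R,
      IsClosedImmersion σ ∧ σ ≫ CohB1.ProjSpace.toSpec (n * m + n + m) R = qq R n m ∧
      Nonempty ((Scheme.Modules.pullback σ).obj (Twist.twistProjSpace (n * m + n + m) R 1) ≅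
        LL R n m) := by
  obtain ⟨σ, hσ, τ, hτ⟩ := exists_projSpace' (n * m + n + m) (qq R n m) (LL R n m)
    (vsec R n m) (vsec_cov R n m)
  refine ⟨σ, ?_, hσ, ⟨τ⟩⟩
  have hpre : ∀ i j, σ ⁻¹ᵁ Dp (n * m + n + m) (idx n m (i, j)) =
      p1 R n m ⁻¹ᵁ Dp n i ⊓ p2 R n m ⁻¹ᵁ Dp m j := by
    intro i j
    rw [preimage_Dp_eq_genOpen _ σ τ (vsec R n m) hτ, vsec_idx, genOpen_usec]
  have H := IsPullback.of_hasPullback (CohB1.ProjSpace.toSpec n R) (CohB1.ProjSpace.toSpec m R)
  have hAn : ∀ i, IsAffineOpen (Dp (R := R) n i) := fun i =>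
    Proj.isAffineOpen_basicOpen (CohB1.polyGrading n R) _ (MvPolynomial.isHomogeneous_X R i) one_pos
  have hAm : ∀ j, IsAffineOpen (Dp (R := R) m j) := fun j =>
    Proj.isAffineOpen_basicOpen (CohB1.polyGrading m R) _ (MvPolynomial.isHomogeneous_X R j) one_pos
  apply isClosedImmersion_of_sections (n * m + n + m) σ τ (vsec R n m) hτ
  · intro k
    obtain ⟨⟨i, j⟩, rfl⟩ := (idx n m).surjective k
    exact isAffineOpen_chart H (US := ⊤) le_top le_top (hpre i j)
      (isAffineOpen_top _) (hAm j) (hAn i)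
  · intro k S hA hB
    obtain ⟨⟨i, j⟩, rfl⟩ := (idx n m).surjective k
    have e1 : σ ⁻¹ᵁ Dp (n * m + n + m) (idx n m (i, j)) ≤ p1 R n m ⁻¹ᵁ Dp n i :=
      (hpre i j).le.trans inf_le_left
    have e2 : σ ⁻¹ᵁ Dp (n * m + n + m) (idx n m (i, j)) ≤ p2 R n m ⁻¹ᵁ Dp m j :=
      (hpre i j).le.trans inf_le_right
    apply subring_eq_top_chart H (US := ⊤) le_top le_top (hpre i j)
      (isAffineOpen_top _) (hAm j) (hAn i) S
    · apply appLE_mem_of_ratio n (p1 R n m) i _ e1 S
      · intro i'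
        apply hA (idx n m (i', j))
        rw [vsec_idx, vsec_idx]
        exact rs_usec_left R n m i' i j _ e1
      · intro c
        have := hB c
        rwa [hσ] at this
    · apply appLE_mem_of_ratio m (p2 R n m) j _ e2 S
      · intro j'
        apply hA (idx n m (i, j'))
        rw [vsec_idx, vsec_idx]
        exact rs_usec_right R n m i j' j _ e2
      · intro c
        have := hB c
        rw [hσ] at this
        have hcond : p2 R n m ≫ CohB1.ProjSpace.toSpec m R = qq R n m := pullback.condition.symm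
        rwa [hcond]

end segre_main

end Groth.Agent.Lib.Helper35.VA
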