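import Mathlib
import Groth.Agent.Lib.Helper35.VS2
import Groth.Agent.Lib.Helper35.ModRestrict

/-!
# The Segre embedding over a base scheme with its `O(1)`-compatibility, and
very ample ⊗ globally generated is very ample
-/

set_option autoImplicit false
universe u
open CategoryTheory CategoryTheory.Limits AlgebraicGeometry TopologicalSpace Opposite

namespace Groth.Agent.Lib.Helper35.VA

open Groth.Agent.Lib.Helper35.Gen Groth.Agent.Lib.Helper35.AbSheaf
open Groth.Agent.Lib.Helper60.ProjUPLib Groth.Agent.Lib.Helper60.TwistLib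
open Groth.Agent.Lib.Helper60.ProjFrac Groth.Agent.Lib.Helper60.SecKer
open Groth.Agent.Lib.Helper60.PbComp Groth.Agent.Lib.Helper35.PbInv
open Groth.Agent.Lib.Helper60.Segre Groth.Agent.Lib.Helper60.TensorLib

/-- `f^*(g^* M) ≅ h^* M` when `f ≫ g = h`. -/
noncomputable def pbCompIso {X Y Z : Scheme.{u}} (f : X ⟶ Y) (g : Y ⟶ Z) (h : X ⟶ Z)
    (e : f ≫ g = h) (M : Z.Modules) :
    (Scheme.Modules.pullback f).obj ((Scheme.Modules.pullback g).obj M) ≅
      (Scheme.Modules.pullback h).obj M :=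
  (Scheme.Modules.pullbackComp f g).app M ≪≫ (Scheme.Modules.pullbackCongr e).app M

/-- `f^*(g^* M) ≅ f'^*(g'^* M)` when `f ≫ g = f' ≫ g'`. -/
noncomputable def pbSquareIso {X Y Y' Z : Scheme.{u}} (f : X ⟶ Y) (g : Y ⟶ Z) (f' : X ⟶ Y')
    (g' : Y' ⟶ Z) (e : f ≫ g = f' ≫ g') (M : Z.Modules) :
    (Scheme.Modules.pullback f).obj ((Scheme.Modules.pullback g).obj M) ≅
      (Scheme.Modules.pullback f').obj ((Scheme.Modules.pullback g').obj M) :=
  pbCompIso f g (f' ≫ g') e M ≪≫ (pbCompIso f' g' (f' ≫ g') rfl M).symm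

theorem nonempty_tensorModCongr {X : Scheme.{u}} {M M' N N' : X.Modules} (e : M ≅ M')
    (e' : N ≅ N') : Nonempty (CohB1.tensorMod M N ≅ CohB1.tensorMod M' N') :=
  ⟨tensorModCongrLeft e N ≪≫ tensorModCongrRight M' e'⟩

section basechange

variable (S : Scheme.{u}) (n m : ℕ)

/-- **The Segre embedding over a base scheme**, with its `O(1)`-compatibility. -/
theorem exists_segre_over_tau :
    ∃ φ : pullback (CohB1.ProjSpaceOver.toBase n S) (CohB1.ProjSpaceOver.toBase m S) ⟶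
        CohB1.ProjSpaceOver (n * m + n + m) S,
      IsClosedImmersion φ ∧ φ ≫ CohB1.ProjSpaceOver.toBase (n * m + n + m) S =
        pullback.fst (CohB1.ProjSpaceOver.toBase n S) (CohB1.ProjSpaceOver.toBase m S) ≫
          CohB1.ProjSpaceOver.toBase n S ∧
      Nonempty ((Scheme.Modules.pullback φ).obj (Twist.twistOver (n * m + n + m) S 1) ≅
        CohB1.tensorMod
          ((Scheme.Modules.pullback (pullback.fst (CohB1.ProjSpaceOver.toBase n S)
            (CohB1.ProjSpaceOver.toBase m S))).obj (Twist.twistOver n S 1))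
          ((Scheme.Modules.pullback (pullback.snd (CohB1.ProjSpaceOver.toBase n S)
            (CohB1.ProjSpaceOver.toBase m S))).obj (Twist.twistOver m S 1))) := by
  obtain ⟨σ, hσci, hσ, ⟨τ⟩⟩ := exists_segre_tau (ULift.{u} ℤ) n m
  let tS := specULiftZIsTerminal.from S
  let πn := CohB1.ProjSpace.toSpec n (ULift.{u} ℤ)
  let πm := CohB1.ProjSpace.toSpec m (ULift.{u} ℤ)
  let πN := CohB1.ProjSpace.toSpec (n * m + n + m) (ULift.{u} ℤ)
  let βn : CohB1.ProjSpaceOver n S ⟶ S := pullback.snd πn tS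
  let βm : CohB1.ProjSpaceOver m S ⟶ S := pullback.snd πm tS
  let βN : CohB1.ProjSpaceOver (n * m + n + m) S ⟶ S := pullback.snd πN tS
  let αn : CohB1.ProjSpaceOver n S ⟶ CohB1.ProjSpace n (ULift.{u} ℤ) := pullback.fst πn tS
  let αm : CohB1.ProjSpaceOver m S ⟶ CohB1.ProjSpace m (ULift.{u} ℤ) := pullback.fst πm tS
  let αN : CohB1.ProjSpaceOver (n * m + n + m) S ⟶ CohB1.ProjSpace (n * m + n + m) (ULift.{u} ℤ) :=
    pullback.fst πN tS
  let f1 : pullback βn βm ⟶ CohB1.ProjSpaceOver n S := pullback.fst βn βm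
  let f2 : pullback βn βm ⟶ CohB1.ProjSpaceOver m S := pullback.snd βn βm
  let a : pullback βn βm ⟶ XX (ULift.{u} ℤ) n m :=
    pullback.lift (f1 ≫ αn) (f2 ≫ αm) (specULiftZIsTerminal.hom_ext _ _)
  let b : pullback βn βm ⟶ S := f1 ≫ βn
  let φ : pullback βn βm ⟶ CohB1.ProjSpaceOver (n * m + n + m) S :=
    pullback.lift (a ≫ σ) b (specULiftZIsTerminal.hom_ext _ _)
  have hφ2 : φ ≫ βN = b := pullback.lift_snd _ _ _
  have hφ1 : φ ≫ αN = a ≫ σ := pullback.lift_fst _ _ _
  have ha1 : a ≫ p1 (ULift.{u} ℤ) n m = f1 ≫ αn := pullback.lift_fst _ _ _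
  have ha2 : a ≫ p2 (ULift.{u} ℤ) n m = f2 ≫ αm := pullback.lift_snd _ _ _
  refine ⟨φ, ?_, hφ2, ?_⟩
  · have sqN : IsPullback αN βN πN tS := IsPullback.of_hasPullback πN tS
    have sqn : IsPullback αn βn πn tS := IsPullback.of_hasPullback πn tS
    have sqm : IsPullback αm βm πm tS := IsPullback.of_hasPullback πm tS
    have sqX : IsPullback f1 f2 βn βm := IsPullback.of_hasPullback βn βm
    have sqZ : IsPullback (p1 (ULift.{u} ℤ) n m) (p2 (ULift.{u} ℤ) n m) πn πm :=
      IsPullback.of_hasPullback πn πm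
    have R1 : IsPullback (f2 ≫ αm) f1 πm (βn ≫ tS) := sqX.flip.paste_horiz sqm
    have R1' : IsPullback (a ≫ p2 (ULift.{u} ℤ) n m) f1 πm (αn ≫ πn) := by
      rw [ha2, sqn.w]
      exact R1
    have R2 : IsPullback a f1 (p1 (ULift.{u} ℤ) n m) αn := IsPullback.of_right R1' ha1 sqZ.flip
    have R3 : IsPullback (f1 ≫ βn) a tS (p1 (ULift.{u} ℤ) n m ≫ πn) :=
      R2.flip.paste_horiz sqn.flip
    have R3' : IsPullback (φ ≫ βN) a tS (σ ≫ πN) := by
      rw [hφ2, hσ]
      exact R3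
    have R4 : IsPullback φ a αN σ := IsPullback.of_right R3' hφ1 sqN.flip
    exact MorphismProperty.of_isPullback (P := @IsClosedImmersion) R4.flip hσci
  · -- the `O(1)`-compatibility
    have e1 : (Scheme.Modules.pullback φ).obj (Twist.twistOver (n * m + n + m) S 1) ≅
        (Scheme.Modules.pullback a).obj (LL (ULift.{u} ℤ) n m) :=
      pbSquareIso φ αN a σ hφ1 (Twist.twistProjSpace (n * m + n + m) (ULift.{u} ℤ) 1) ≪≫
        (Scheme.Modules.pullback a).mapIso τ
    obtain ⟨e2⟩ := PbTensor.nonempty_pullback_tensorMod a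
      (isInvertible_pullback_twist n (p1 (ULift.{u} ℤ) n m))
      (isInvertible_pullback_twist m (p2 (ULift.{u} ℤ) n m))
    have e3 : (Scheme.Modules.pullback a).obj (L1 (ULift.{u} ℤ) n m) ≅
        (Scheme.Modules.pullback f1).obj (Twist.twistOver n S 1) :=
      pbSquareIso a (p1 (ULift.{u} ℤ) n m) f1 αn ha1 (Twist.twistProjSpace n (ULift.{u} ℤ) 1)
    have e4 : (Scheme.Modules.pullback a).obj (L2 (ULift.{u} ℤ) n m) ≅
        (Scheme.Modules.pullback f2).obj (Twist.twistOver m S 1) :=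
      pbSquareIso a (p2 (ULift.{u} ℤ) n m) f2 αm ha2 (Twist.twistProjSpace m (ULift.{u} ℤ) 1)
    obtain ⟨e5⟩ := nonempty_tensorModCongr e3 e4
    exact ⟨e1 ≪≫ e2 ≪≫ e5⟩

end basechange

/-- **Very ample ⊗ globally generated is very ample** (for the `P^n` notion). -/
theorem isRelVeryAmplePn_tensorMod_of_generatedBy {X S : Scheme.{u}} (q : X ⟶ S)
    (L L' : X.Modules) (hva : RelAmple.IsRelVeryAmplePn q L)
    (hL' : PicF.IsInvertible L') {m : ℕ} (s : Fin m → ProjUP.Γm L')
    (hs : ProjUP.GeneratedBy L' s) :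
    RelAmple.IsRelVeryAmplePn q (CohB1.tensorMod L L') := by
  obtain ⟨n, i, hi, hiq, ⟨eL⟩⟩ := hva
  let s' : Fin (m + 1) → ProjUP.Γm L' := Fin.cons 0 s
  have hcov : ∀ x : X, ∃ j, x ∈ genOpen L' (s' j) := by
    intro x
    obtain ⟨j, hj⟩ := exists_mem_genOpen L' hL' s hs x
    refine ⟨j.succ, ?_⟩
    have : s' j.succ = s j := Fin.cons_succ _ _ _
    rw [this]
    exact hj
  obtain ⟨r, hr, τ, -⟩ := exists_projSpace' m (specULiftZIsTerminal.from X) L' s' hcov
  let βn := CohB1.ProjSpaceOver.toBase n S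
  let βm := CohB1.ProjSpaceOver.toBase m S
  let r' : X ⟶ CohB1.ProjSpaceOver m S :=
    pullback.lift r q (specULiftZIsTerminal.hom_ext _ _)
  have hr'1 : r' ≫ pullback.fst (CohB1.ProjSpace.toSpec m (ULift.{u} ℤ))
      (specULiftZIsTerminal.from S) = r := pullback.lift_fst _ _ _
  have hr'2 : r' ≫ βm = q := pullback.lift_snd _ _ _
  have hiq' : i ≫ βn = q := hiq
  let ψ : X ⟶ pullback βn βm := pullback.lift i r' (by rw [hiq', hr'2])
  have hψ1 : ψ ≫ pullback.fst βn βm = i := pullback.lift_fst _ _ _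
  have hψ2 : ψ ≫ pullback.snd βn βm = r' := pullback.lift_snd _ _ _
  obtain ⟨φ, hφ, hφb, ⟨eφ⟩⟩ := exists_segre_over_tau S n m
  haveI : IsImmersion ψ := by
    haveI : IsImmersion (ψ ≫ pullback.fst βn βm) := by rw [hψ1]; exact hi
    exact IsImmersion.of_comp ψ (pullback.fst βn βm)
  refine ⟨n * m + n + m, ψ ≫ φ, inferInstance, ?_, ?_⟩
  · have : (ψ ≫ φ) ≫ CohB1.ProjSpaceOver.toBase (n * m + n + m) S = q := by
      rw [Category.assoc, hφb, ← Category.assoc, hψ1]
      exact hiq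
    exact this
  · -- the iso
    have e1 : L' ≅ (Scheme.Modules.pullback r').obj (Twist.twistOver m S 1) :=
      τ.symm ≪≫ (pbCompIso r' _ r hr'1 (Twist.twistProjSpace m (ULift.{u} ℤ) 1)).symm
    have e2 : L ≅ (Scheme.Modules.pullback ψ).obj
        ((Scheme.Modules.pullback (pullback.fst βn βm)).obj (Twist.twistOver n S 1)) :=
      eL ≪≫ (pbCompIso ψ (pullback.fst βn βm) i hψ1 (Twist.twistOver n S 1)).symm
    have e3 : L' ≅ (Scheme.Modules.pullback ψ).obj
        ((Scheme.Modules.pullback (pullback.snd βn βm)).obj (Twist.twistOver m S 1)) :=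
      e1 ≪≫ (pbCompIso ψ (pullback.snd βn βm) r' hψ2 (Twist.twistOver m S 1)).symm
    obtain ⟨e4⟩ := nonempty_tensorModCongr e2 e3
    have hI1 : PicF.IsInvertible ((Scheme.Modules.pullback (pullback.fst βn βm)).obj
        (Twist.twistOver n S 1)) := by
      have := isInvertible_pullback_twist n (pullback.fst βn βm ≫
        pullback.fst (CohB1.ProjSpace.toSpec n (ULift.{u} ℤ)) (specULiftZIsTerminal.from S))
      exact Groth.Agent.Lib.Helper35.ModRestrict.isInvertible_of_iso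
        (pbCompIso _ _ _ rfl (Twist.twistProjSpace n (ULift.{u} ℤ) 1)).symm this
    have hI2 : PicF.IsInvertible ((Scheme.Modules.pullback (pullback.snd βn βm)).obj
        (Twist.twistOver m S 1)) := by
      have := isInvertible_pullback_twist m (pullback.snd βn βm ≫
        pullback.fst (CohB1.ProjSpace.toSpec m (ULift.{u} ℤ)) (specULiftZIsTerminal.from S))
      exact Groth.Agent.Lib.Helper35.ModRestrict.isInvertible_of_iso
        (pbCompIso _ _ _ rfl (Twist.twistProjSpace m (ULift.{u} ℤ) 1)).symm this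
    obtain ⟨e5⟩ := PbTensor.nonempty_pullback_tensorMod ψ hI1 hI2
    exact ⟨e4 ≪≫ e5.symm ≪≫ (Scheme.Modules.pullback ψ).mapIso eφ.symm ≪≫
      pbCompIso ψ φ (ψ ≫ φ) rfl (Twist.twistOver (n * m + n + m) S 1)⟩

end Groth.Agent.Lib.Helper35.VA
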