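import Groth.Agent.Lib.Helper35.Ample3

/-!
# Ample iff the opens `X_s` form a basis (EGA II 4.5.2)
-/

universe u

open CategoryTheory AlgebraicGeometry TopologicalSpace Opposite

namespace Groth.Agent.Lib.Helper35.Ample

open Groth.Agent.Lib.Helper35.AbSheaf Groth.Agent.Lib.Helper35.QcohSec
open Groth.Agent.Lib.Helper35.Cocycle Groth.Agent.Lib.Helper35.Gen
open Groth.Agent.Lib.Helper35.GlobGen

variable {X : Scheme.{u}} {L : X.Modules}

theorem quasiSeparatedSpace_of_cover_genLocus (hL : PicF.IsInvertible L)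
    (h : ∀ x : X, ∃ (n : ℕ) (s : Coh.structureModule X ⟶ CohB1.tensorPow L (n + 1)),
      x ∈ CohB1.genLocus _ s ∧ IsAffineOpen (CohB1.genLocus _ s)) :
    QuasiSeparatedSpace X := by
  apply Groth.Agent.Lib.Helper35.AffDiag.quasiSeparatedSpace_of_cover
  intro x
  obtain ⟨n, s, hx, hA⟩ := h x
  exact ⟨_, hx, hA, Groth.Agent.Lib.Helper35.GenLocus.isAffineHom_genLocus_ι _
    (isInvertible_tensorPow hL (n + 1)) s⟩

theorem exists_succ_section (N : ℕ) (hN : N ≠ 0)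
    (s' : Coh.structureModule X ⟶ CohB1.tensorPow L N) :
    ∃ (m : ℕ) (s'' : Coh.structureModule X ⟶ CohB1.tensorPow L (m + 1)),
      CohB1.genLocus _ s'' = CohB1.genLocus _ s' := by
  cases N with
  | zero => exact absurd rfl hN
  | succ m => exact ⟨m, s', rfl⟩

theorem isBasis_of_isAmple (h : CohB1.IsAmple L) :
    Opens.IsBasis {U : X.Opens | ∃ (n : ℕ)
      (s : Coh.structureModule X ⟶ CohB1.tensorPow L (n + 1)), U = CohB1.genLocus _ s} := by
  obtain ⟨hL, hc, hcov⟩ := h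
  haveI := hc
  haveI : QuasiSeparatedSpace X := quasiSeparatedSpace_of_cover_genLocus hL hcov
  rw [Opens.isBasis_iff_nbhd]
  intro W x hxW
  obtain ⟨n, s, hx, hA⟩ := hcov x
  obtain ⟨a, ha1, ha2⟩ := hA.exists_basicOpen_le (V := W) ⟨x, hxW⟩ hx
  obtain ⟨k, s', hs'⟩ := exists_section_genLocus_eq_basicOpen hL (n + 1) s a
  obtain ⟨m, s'', hs''⟩ := exists_succ_section ((n + 1) * (k + 1)) (by positivity) s'
  refine ⟨_, ⟨m, s'', rfl⟩, ?_, ?_⟩
  · rw [hs'', hs']
    exact ha2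
  · rw [hs'', hs']
    exact ha1

theorem isAmple_of_isBasis [CompactSpace X] (hL : PicF.IsInvertible L)
    (hB : Opens.IsBasis {U : X.Opens | ∃ (n : ℕ)
      (s : Coh.structureModule X ⟶ CohB1.tensorPow L (n + 1)), U = CohB1.genLocus _ s}) :
    CohB1.IsAmple L := by
  refine ⟨hL, inferInstance, ?_⟩
  intro x
  rw [Opens.isBasis_iff_nbhd] at hB
  obtain ⟨V, hV, hxV, -⟩ := exists_isAffineOpen_mem_and_subset (x := x) (U := ⊤) trivial
  obtain ⟨G, ⟨n, s, rfl⟩, hxG, hGV⟩ := hB (U := V) hxV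
  refine ⟨n, s, hxG, ?_⟩
  haveI := Groth.Agent.Lib.Helper35.GenLocus.isAffineHom_genLocus_ι _
    (isInvertible_tensorPow hL (n + 1)) s
  have := Groth.Agent.Lib.Helper35.AffDiag.isAffineOpen_inf_of_isAffineHom
    (CohB1.genLocus (CohB1.tensorPow L (n + 1)) s) V hV
  rwa [inf_eq_left.mpr hGV] at this

theorem isAmple_iff_isBasis [CompactSpace X] (hL : PicF.IsInvertible L) :
    CohB1.IsAmple L ↔ Opens.IsBasis {U : X.Opens | ∃ (n : ℕ)
      (s : Coh.structureModule X ⟶ CohB1.tensorPow L (n + 1)), U = CohB1.genLocus _ s} :=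
  ⟨isBasis_of_isAmple, isAmple_of_isBasis hL⟩

end Groth.Agent.Lib.Helper35.Ample
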