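import Groth.Agent.Lib.Helper35.Gen2

/-!
# The generating locus in terms of local generators
-/

universe u

open CategoryTheory AlgebraicGeometry TopologicalSpace Opposite TensorProduct

namespace Groth.Agent.Lib.Helper35.Gen

open Groth.Agent.Lib.Helper35.AbSheaf Groth.Agent.Lib.Helper35.GenLocus

variable {X : Scheme.{u}}

/-- a morphism out of the structure sheaf is multiplication with its value -/
theorem app_eq_smul_val {L : X.Modules} (s : Coh.structureModule X ⟶ L) (W : X.Opens)
    (r : Γ(X, W)) : (s.app W).hom r = r • SecTwist.val s W := by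
  have e1 : r • (((1 : Γ(X, W)) : Γ(Coh.structureModule X, W))) =
      (r : Γ(Coh.structureModule X, W)) := mul_one r
  have := Scheme.Modules.Hom.app_smul s r (((1 : Γ(X, W)) : Γ(Coh.structureModule X, W)))
  exact Eq.trans (congrArg (s.app W).hom e1.symm) this

theorem rs_val {L : X.Modules} (s : Coh.structureModule X ⟶ L) {U V : X.Opens} (h : V ≤ U) :
    rs L h (SecTwist.val s U) = SecTwist.val s V :=
  SecTwist.map_val s (homOfLE h)

theorem isGen_val_iff {L : X.Modules} (s : Coh.structureModule X ⟶ L) (U : X.Opens) :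
    IsGen L U (SecTwist.val s U) ↔ U ≤ CohB1.genLocus L s := by
  rw [le_genLocus_iff]
  constructor
  · intro h W hW
    have h1 := h W hW
    rw [rs_val] at h1
    have : ((s.app W).hom : Γ(X, W) → Γ(L, W)) = fun r => r • SecTwist.val s W :=
      funext (app_eq_smul_val s W)
    rw [this]
    exact h1
  · intro h W hW
    have h1 := h W hW
    have : ((s.app W).hom : Γ(X, W) → Γ(L, W)) = fun r => r • SecTwist.val s W :=
      funext (app_eq_smul_val s W)
    rw [this] at h1
    rw [rs_val]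
    exact h1

theorem forall_isUnit_iff_le_basicOpen {U : X.Opens} (a : Γ(X, U)) (W : X.Opens) (hW : W ≤ U) :
    (∀ (W' : X.Opens) (h : W' ≤ W), IsUnit (rr X (h.trans hW) a)) ↔ W ≤ X.basicOpen a := by
  constructor
  · intro h
    have h1 := h W le_rfl
    have h2 := X.basicOpen_of_isUnit h1
    change X.basicOpen (X.presheaf.map (homOfLE hW).op a) = W at h2
    rw [Scheme.basicOpen_res] at h2
    exact inf_eq_left.mp h2
  · intro h W' hW'
    have h1 : IsUnit (X.presheaf.map (homOfLE (X.basicOpen_le a)).op a) :=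
      RingedSpace.isUnit_res_basicOpen X.toRingedSpace a
    have h2 := h1.map (X.presheaf.map (homOfLE (hW'.trans h)).op).hom
    have h3 : (X.presheaf.map (homOfLE (hW'.trans h)).op).hom
        (X.presheaf.map (homOfLE (X.basicOpen_le a)).op a) = rr X (hW'.trans hW) a :=
      rr_rr (X.basicOpen_le a) (hW'.trans h) a
    rw [← h3]
    exact h2

theorem isGen_smul_iff {L : X.Modules} {U : X.Opens} {e : Γ(L, U)} (he : IsGen L U e)
    (a : Γ(X, U)) : IsGen L U (a • e) ↔ U ≤ X.basicOpen a := by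
  rw [← forall_isUnit_iff_le_basicOpen a U le_rfl]
  have key : ∀ (W : X.Opens) (hW : W ≤ U),
      Function.Bijective (fun r : Γ(X, W) => r • rs L hW (a • e)) ↔ IsUnit (rr X hW a) := by
    intro W hW
    have h1 : (fun r : Γ(X, W) => r • rs L hW (a • e)) =
        (fun r : Γ(X, W) => r • rs L hW e) ∘ (fun r : Γ(X, W) => r * rr X hW a) := by
      funext r
      simp only [Function.comp_apply]
      rw [rs_smul, mul_smul]
    rw [h1, Function.Bijective.of_comp_iff' (he W hW)]
    constructor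
    · intro h
      obtain ⟨r, hr⟩ := h.2 (1 : Γ(X, W))
      exact IsUnit.of_mul_eq_one _ (by rw [mul_comm]; exact hr)
    · intro h
      obtain ⟨b, hb⟩ := h
      rw [← hb]
      exact (Units.mulRight b).bijective
  constructor
  · intro h W hW
    exact (key W hW).mp (h W hW)
  · intro h W hW
    exact (key W hW).mpr (h W hW)

/-- On an open where `L` has a generator `e` and `s = a • e`, the generating locus is `D(a)`. -/
theorem genLocus_inf_eq_basicOpen {L : X.Modules} (s : Coh.structureModule X ⟶ L) {U : X.Opens}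
    {e : Γ(L, U)} (he : IsGen L U e) (a : Γ(X, U)) (hs : SecTwist.val s U = a • e) :
    CohB1.genLocus L s ⊓ U = X.basicOpen a := by
  have key : ∀ (W : X.Opens), W ≤ U → (W ≤ CohB1.genLocus L s ↔ W ≤ X.basicOpen a) := by
    intro W hW
    rw [← isGen_val_iff, ← rs_val s hW, hs, rs_smul]
    have := isGen_smul_iff (he.mono hW) (rr X hW a)
    rw [this]
    change W ≤ X.basicOpen (X.presheaf.map (homOfLE hW).op a) ↔ _
    rw [Scheme.basicOpen_res]
    exact ⟨fun h => h.trans inf_le_right, fun h => le_inf le_rfl h⟩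
  apply le_antisymm
  · exact (key _ inf_le_right).mp inf_le_left
  · exact le_inf ((key _ (X.basicOpen_le a)).mpr le_rfl) (X.basicOpen_le a)

theorem opens_eq_of_inf_eq {A B : X.Opens}
    (h : ∀ x : X, ∃ U : X.Opens, x ∈ U ∧ A ⊓ U = B ⊓ U) : A = B := by
  ext x
  obtain ⟨U, hxU, hU⟩ := h x
  constructor
  · intro hx
    have : x ∈ A ⊓ U := ⟨hx, hxU⟩
    rw [hU] at this
    exact this.1
  · intro hx
    have : x ∈ B ⊓ U := ⟨hx, hxU⟩
    rw [← hU] at this
    exact this.1

theorem genLocus_tmulHom {L L' : X.Modules} (hL : PicF.IsInvertible L)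
    (hL' : PicF.IsInvertible L') (f : Coh.structureModule X ⟶ L)
    (g : Coh.structureModule X ⟶ L') :
    CohB1.genLocus (CohB1.tensorMod L L') (SecTwist.tmulHom f g) =
      CohB1.genLocus L f ⊓ CohB1.genLocus L' g := by
  apply opens_eq_of_inf_eq
  intro x
  obtain ⟨U₁, hx₁, e₁', he₁'⟩ := exists_isGen_of_isInvertible hL x
  obtain ⟨U₂, hx₂, e₂', he₂'⟩ := exists_isGen_of_isInvertible hL' x
  have he₁ := he₁'.mono (inf_le_left : U₁ ⊓ U₂ ≤ U₁)
  have he₂ := he₂'.mono (inf_le_right : U₁ ⊓ U₂ ≤ U₂)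
  refine ⟨U₁ ⊓ U₂, ⟨hx₁, hx₂⟩, ?_⟩
  obtain ⟨a, ha⟩ := he₁.exists_eq_smul (SecTwist.val f (U₁ ⊓ U₂))
  obtain ⟨b, hb⟩ := he₂.exists_eq_smul (SecTwist.val g (U₁ ⊓ U₂))
  have h1 := genLocus_inf_eq_basicOpen f he₁ a ha
  have h2 := genLocus_inf_eq_basicOpen g he₂ b hb
  have h3 : SecTwist.val (SecTwist.tmulHom f g) (U₁ ⊓ U₂) =
      (a * b) • tm L L' (rs L inf_le_left e₁') (rs L' inf_le_right e₂') := by
    rw [SecTwist.val_tmulHom]
    change tm L L' (SecTwist.val f (U₁ ⊓ U₂)) (SecTwist.val g (U₁ ⊓ U₂)) = _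
    rw [ha, hb, tm_smul_left, tm_smul_right, ← mul_smul]
  have h4 := genLocus_inf_eq_basicOpen (SecTwist.tmulHom f g) (IsGen.tm he₁ he₂) (a * b) h3
  rw [h4, Scheme.basicOpen_mul, ← h1, ← h2]
  ext y
  simp only [Opens.coe_inf, Set.mem_inter_iff, SetLike.mem_coe]
  tauto

end Groth.Agent.Lib.Helper35.Gen
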