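import Mathlib
import Groth.Agent.Lib.Helper35.Gen3

/-!
# The unit map `Γ(M, V) → Γ(u^* M, u⁻¹ V)` of the pullback of modules
-/

universe u

open CategoryTheory AlgebraicGeometry TopologicalSpace Opposite

namespace Groth.Agent.Lib.Helper35.PbInv

open Groth.Agent.Lib.Helper35.Gen Groth.Agent.Lib.Helper35.AbSheaf Scheme.Modules

variable {X' X : Scheme.{u}} (u : X' ⟶ X)

/-- the pullback of sections: the unit of the pullback-pushforward adjunction on sections -/
noncomputable def pbSec (M : X.Modules) (V : X.Opens) :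
    Γ(M, V) →+ Γ((Scheme.Modules.pullback u).obj M, u ⁻¹ᵁ V) :=
  (((pullbackPushforwardAdjunction u).unit.app M).app V).hom

/-- scalar multiplication on a pushforward -/
lemma pushforward_smul (N : X'.Modules) (V : X.Opens) (r : Γ(X, V))
    (n : Γ((pushforward u).obj N, V)) :
    r • n = ((u.app V).hom r • (show Γ(N, u ⁻¹ᵁ V) from n) : Γ(N, u ⁻¹ᵁ V)) := rfl

lemma pbSec_smul (M : X.Modules) (V : X.Opens) (r : Γ(X, V)) (m : Γ(M, V)) :
    pbSec u M V (r • m) = (u.app V).hom r • pbSec u M V m := by
  have h := Scheme.Modules.Hom.app_smul ((pullbackPushforwardAdjunction u).unit.app M) r m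
  exact h

lemma pbSec_rs (M : X.Modules) {V V' : X.Opens} (h : V' ≤ V) (m : Γ(M, V)) :
    rs ((Scheme.Modules.pullback u).obj M) (u.preimage_mono h) (pbSec u M V m) = pbSec u M V' (rs M h m) := by
  have := nat_res ((pullbackPushforwardAdjunction u).unit.app M).mapPresheaf h m
  exact this.symm

lemma pbSec_nat {M N : X.Modules} (φ : M ⟶ N) (V : X.Opens) (m : Γ(M, V)) :
    (((Scheme.Modules.pullback u).map φ).app (u ⁻¹ᵁ V)).hom (pbSec u M V m) = pbSec u N V ((φ.app V).hom m) := by
  have h := (pullbackPushforwardAdjunction u).unit.naturality φ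
  have h2 := congrArg (fun ψ => (Scheme.Modules.Hom.app ψ V).hom m) h
  exact h2.symm

lemma adj_app {M : X.Modules} {N : X'.Modules} (β : M ⟶ (pushforward u).obj N) (V : X.Opens)
    (m : Γ(M, V)) :
    ((((pullbackPushforwardAdjunction u).homEquiv M N).symm β).app (u ⁻¹ᵁ V)).hom
      (pbSec u M V m) = (β.app V).hom m := by
  have h : (pullbackPushforwardAdjunction u).unit.app M ≫
      (pushforward u).map (((pullbackPushforwardAdjunction u).homEquiv M N).symm β) = β := by
    exact ((pullbackPushforwardAdjunction u).homEquiv_unit _ _ _).symm.trans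
      (Equiv.apply_symm_apply _ _)
  have h2 := congrArg (fun ψ => (Scheme.Modules.Hom.app ψ V).hom m) h
  exact h2

end Groth.Agent.Lib.Helper35.PbInv
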