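import Mathlib
import Groth.Agent.Lib.Helper35.PbSec
import Groth.Agent.Lib.Helper60.Twist
import Groth.Agent.Lib.Helper7.FinLocFreePullback

/-!
# The pullback of a local generator is a local generator
-/

universe u

open CategoryTheory AlgebraicGeometry TopologicalSpace Opposite

namespace Groth.Agent.Lib.Helper35.PbInv

open Groth.Agent.Lib.Helper35.Gen Groth.Agent.Lib.Helper35.AbSheaf Scheme.Modules
  Groth.Agent.Lib.Helper60.TwistLib

section IsoOfGen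

variable {X Y : Scheme.{u}} (M : X.Modules) (f : Y ⟶ X) [IsOpenImmersion f]
    (U₀ : X.Opens) (hf : f.opensRange ≤ U₀) (G : Γ(M, U₀))
    (hG : ∀ (W : X.Opens) (hW : W ≤ U₀),
      Function.Bijective (fun r : Γ(X, W) => r • M.presheaf.map (homOfLE hW).op G))

/-- the trivialization attached to a generator -/
noncomputable def isoOfGen : Coh.structureModule Y ≅ M.restrict f :=
  (SheafOfModules.fullyFaithfulForget _).preimageIso <| PresheafOfModules.isoMk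
    (fun V ↦ LinearEquiv.toModuleIso (LinearEquiv.ofBijective (sectionHom M f U₀ hf G V.unop)
      (sectionHom_bijective M f U₀ hf G hG V.unop))) (by
    intro V W i
    ext
    have h1 : (1 : Γ(Y, W.unop)) • resG M f U₀ hf G W.unop = resG M f U₀ hf G W.unop :=
      one_smul _ _
    have h2 : (M.restrict f).presheaf.map i ((1 : Γ(Y, V.unop)) • resG M f U₀ hf G V.unop)
        = resG M f U₀ hf G W.unop := by
      rw [one_smul]
      exact resG_map M f U₀ hf G i.unop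
    refine Eq.trans ?_ h2.symm
    refine Eq.trans ?_ h1
    have h3 : (Y.ringCatSheaf.obj.map i).hom (1 : Γ(Y, V.unop)) = (1 : Γ(Y, W.unop)) :=
      map_one _
    change (show Γ(Y, W.unop) from (Y.ringCatSheaf.obj.map i).hom (1 : Γ(Y, V.unop))) •
      resG M f U₀ hf G W.unop = _
    rw [h3])

lemma isoOfGen_hom_app (V : Y.Opens) (r : Γ(Y, V)) :
    (((isoOfGen M f U₀ hf G hG).hom.app V).hom r : Γ(M.restrict f, V)) =
      r • resG M f U₀ hf G V := rfl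

lemma isoOfGen_inv_app_resG (V : Y.Opens) :
    (((isoOfGen M f U₀ hf G hG).inv.app V).hom (resG M f U₀ hf G V)) =
      ((1 : Γ(Y, V)) : Γ(Coh.structureModule Y, V)) := by
  have h1 := isoOfGen_hom_app M f U₀ hf G hG V 1
  rw [one_smul] at h1
  rw [← h1]
  have h2 := congrArg (fun ψ : Coh.structureModule Y ⟶ Coh.structureModule Y =>
    (Scheme.Modules.Hom.app ψ V).hom
    (show Γ(Coh.structureModule Y, V) from (1 : Γ(Y, V))))
    (isoOfGen M f U₀ hf G hG).hom_inv_id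
  exact h2

end IsoOfGen

section Beta

variable {X' X : Scheme.{u}} (u : X' ⟶ X) (L : X.Modules) (U : X.Opens)
  (φ : L.restrict U.ι ⟶ Coh.structureModule (U : Scheme.{u}))

/-- target module on `X'` -/
noncomputable abbrev tgt : X'.Modules :=
  (pushforward (u ⁻¹ᵁ U).ι).obj (Coh.structureModule ((u ⁻¹ᵁ U : X'.Opens) : Scheme.{u}))

noncomputable def betaA : L ⟶ (pushforward U.ι).obj (Coh.structureModule (U : Scheme.{u})) :=
  (restrictAdjunction U.ι).unit.app L ≫ (pushforward U.ι).map φ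

noncomputable def betaB : (pushforward U.ι).obj (Coh.structureModule (U : Scheme.{u})) ⟶
    (pushforward U.ι).obj ((pushforward (u ∣_ U)).obj
      (Coh.structureModule ((u ⁻¹ᵁ U : X'.Opens) : Scheme.{u}))) :=
  (pushforward U.ι).map (SheafOfModules.unitToPushforwardObjUnit (u ∣_ U).toRingCatSheafHom)

noncomputable def betaC : (pushforward U.ι).obj ((pushforward (u ∣_ U)).obj
      (Coh.structureModule ((u ⁻¹ᵁ U : X'.Opens) : Scheme.{u}))) ⟶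
    (pushforward u).obj (tgt u U) :=
  (pushforwardComp (u ∣_ U) U.ι).hom.app _ ≫
    (pushforwardCongr (morphismRestrict_ι u U)).hom.app _ ≫
    (pushforwardComp (u ⁻¹ᵁ U).ι u).inv.app _

noncomputable def beta : L ⟶ (pushforward u).obj (tgt u U) :=
  betaA L U φ ≫ betaB u U ≫ betaC u U

lemma betaA_app (V : X.Opens) (m : Γ(L, V)) :
    ((betaA L U φ).app V).hom m = (φ.app (U.ι ⁻¹ᵁ V)).hom
      ((L.presheaf.map (homOfLE (U.ι.image_preimage_le V)).op).hom m) := rfl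

lemma betaB_app (V : X.Opens) (a : Γ((U : Scheme.{u}), U.ι ⁻¹ᵁ V)) :
    ((betaB u U).app V).hom (show Γ(Coh.structureModule (U : Scheme.{u}), U.ι ⁻¹ᵁ V) from a) =
      (show Γ(Coh.structureModule ((u ⁻¹ᵁ U : X'.Opens) : Scheme.{u}), (u ∣_ U) ⁻¹ᵁ (U.ι ⁻¹ᵁ V))
        from ((u ∣_ U).app (U.ι ⁻¹ᵁ V)).hom a) := rfl


lemma betaC_app_one (V : X.Opens) :
    ((betaC u U).app V).hom
      (show Γ(Coh.structureModule ((u ⁻¹ᵁ U : X'.Opens) : Scheme.{u}), (u ∣_ U) ⁻¹ᵁ (U.ι ⁻¹ᵁ V))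
        from (1 : Γ(((u ⁻¹ᵁ U : X'.Opens) : Scheme.{u}), (u ∣_ U) ⁻¹ᵁ (U.ι ⁻¹ᵁ V)))) =
      (show Γ(Coh.structureModule ((u ⁻¹ᵁ U : X'.Opens) : Scheme.{u}), (u ⁻¹ᵁ U).ι ⁻¹ᵁ (u ⁻¹ᵁ V))
        from (1 : Γ(((u ⁻¹ᵁ U : X'.Opens) : Scheme.{u}), (u ⁻¹ᵁ U).ι ⁻¹ᵁ (u ⁻¹ᵁ V)))) := by
  unfold betaC
  simp only [Scheme.Modules.Hom.comp_app, pushforwardComp_hom_app_app,
    pushforwardComp_inv_app_app, pushforwardCongr_hom_app_app]
  exact PresheafOfModules.unit_map_one _ _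


lemma beta_app_eq_one (e : Γ(L, U))
    (h : (φ.app (U.ι ⁻¹ᵁ U)).hom
      ((L.presheaf.map (homOfLE (U.ι.image_preimage_le U)).op).hom e) =
        (show Γ(Coh.structureModule (U : Scheme.{u}), U.ι ⁻¹ᵁ U) from
          (1 : Γ((U : Scheme.{u}), U.ι ⁻¹ᵁ U)))) :
    ((beta u L U φ).app U).hom e =
      (show Γ(Coh.structureModule ((u ⁻¹ᵁ U : X'.Opens) : Scheme.{u}),
          (u ⁻¹ᵁ U).ι ⁻¹ᵁ (u ⁻¹ᵁ U))
        from (1 : Γ(((u ⁻¹ᵁ U : X'.Opens) : Scheme.{u}), (u ⁻¹ᵁ U).ι ⁻¹ᵁ (u ⁻¹ᵁ U)))) := by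
  change ((betaC u U).app U).hom (((betaB u U).app U).hom (((betaA L U φ).app U).hom e)) = _
  rw [betaA_app, h, betaB_app, map_one]
  exact betaC_app_one u U U

end Beta

section Main

variable {X' X : Scheme.{u}} (u : X' ⟶ X)

/-- **The pullback of a local generator is a local generator.** -/
theorem isGen_pbSec (L : X.Modules) (U : X.Opens) (e : Γ(L, U)) (he : IsGen L U e) :
    IsGen ((Scheme.Modules.pullback u).obj L) (u ⁻¹ᵁ U) (pbSec u L U e) := by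
  let iso : Coh.structureModule (U : Scheme.{u}) ≅ L.restrict U.ι :=
    isoOfGen L U.ι U (Scheme.Opens.opensRange_ι U).le e (fun W hW => he W hW)
  have h1 : (iso.inv.app (U.ι ⁻¹ᵁ U)).hom
      ((L.presheaf.map (homOfLE (U.ι.image_preimage_le U)).op).hom e) =
        (show Γ(Coh.structureModule (U : Scheme.{u}), U.ι ⁻¹ᵁ U) from
          (1 : Γ((U : Scheme.{u}), U.ι ⁻¹ᵁ U))) :=
    isoOfGen_inv_app_resG L U.ι U (Scheme.Opens.opensRange_ι U).le e (fun W hW => he W hW)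
      (U.ι ⁻¹ᵁ U)
  let κ : (Scheme.Modules.pullback u).obj L ⟶ tgt u U :=
    ((pullbackPushforwardAdjunction u).homEquiv L (tgt u U)).symm (beta u L U iso.inv)
  have hκ : (κ.app (u ⁻¹ᵁ U)).hom (pbSec u L U e) =
      (show Γ(Coh.structureModule ((u ⁻¹ᵁ U : X'.Opens) : Scheme.{u}),
          (u ⁻¹ᵁ U).ι ⁻¹ᵁ (u ⁻¹ᵁ U))
        from (1 : Γ(((u ⁻¹ᵁ U : X'.Opens) : Scheme.{u}), (u ⁻¹ᵁ U).ι ⁻¹ᵁ (u ⁻¹ᵁ U)))) :=
    (adj_app u (beta u L U iso.inv) U e).trans (beta_app_eq_one u L U iso.inv e h1)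
  -- abstract triviality of the pullback on the preimage
  let iso2 : ((Scheme.Modules.pullback u).obj L).restrict (u ⁻¹ᵁ U).ι ≅
      Coh.structureModule ((u ⁻¹ᵁ U : X'.Opens) : Scheme.{u}) :=
    Groth.Agent.Lib.Helper7.FinLocFree.restrictPullbackIso u L U ≪≫
      (Scheme.Modules.pullback (u ∣_ U)).mapIso iso.symm ≪≫
      Groth.Agent.Lib.Helper40.NisGen.pullbackUnitIso (u ∣_ U)
  obtain ⟨ε, hε⟩ := exists_isGen_of_iso (u ⁻¹ᵁ U) iso2
  obtain ⟨g, hg⟩ := hε.exists_eq_smul (pbSec u L U e)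
  -- `g` is a unit
  have h2 : (κ.app (u ⁻¹ᵁ U)).hom (g • ε) = g • (κ.app (u ⁻¹ᵁ U)).hom ε :=
    Scheme.Modules.Hom.app_smul κ g ε
  rw [← hg, hκ] at h2
  have h3 : (((u ⁻¹ᵁ U).ι.app (u ⁻¹ᵁ U)).hom g) *
      (show Γ(((u ⁻¹ᵁ U : X'.Opens) : Scheme.{u}), (u ⁻¹ᵁ U).ι ⁻¹ᵁ (u ⁻¹ᵁ U)) from
        (κ.app (u ⁻¹ᵁ U)).hom ε) = 1 := h2.symm
  have h4 : IsUnit (((u ⁻¹ᵁ U).ι.app (u ⁻¹ᵁ U)).hom g) := IsUnit.of_mul_eq_one _ h3
  haveI : IsIso ((u ⁻¹ᵁ U).ι.app (u ⁻¹ᵁ U)) :=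
    Scheme.Hom.isIso_app _ _ (Scheme.Opens.opensRange_ι _).ge
  have h5 : IsUnit g := by
    have h6 := h4.map (inv ((u ⁻¹ᵁ U).ι.app (u ⁻¹ᵁ U))).hom
    have h7 : (inv ((u ⁻¹ᵁ U).ι.app (u ⁻¹ᵁ U))).hom (((u ⁻¹ᵁ U).ι.app (u ⁻¹ᵁ U)).hom g) = g := by
      have := congrArg (fun f => f.hom g) (IsIso.hom_inv_id ((u ⁻¹ᵁ U).ι.app (u ⁻¹ᵁ U)))
      exact this
    rwa [h7] at h6
  rw [hg]
  exact (isGen_smul_iff hε g).mpr (X'.basicOpen_of_isUnit h5).ge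

end Main

end Groth.Agent.Lib.Helper35.PbInv
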