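import Mathlib
import Groth.Agent.Lib.Helper35.PbGen
import Groth.Agent.Lib.Helper35.Ample1

/-!
# Families of compatible local generators along a morphism, and pulled back sections
-/

universe u

open CategoryTheory AlgebraicGeometry TopologicalSpace Opposite

namespace Groth.Agent.Lib.Helper35.PbInv

open Groth.Agent.Lib.Helper35.Gen Groth.Agent.Lib.Helper35.AbSheaf Scheme.Modules
  Groth.Agent.Lib.Helper35.Ample Groth.Agent.Lib.Helper35.GlobGen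

variable {X' X : Scheme.{u}} (u : X' ⟶ X)

lemma app_rr {U V : X.Opens} (h : V ≤ U) (c : Γ(X, U)) :
    (u.app V).hom (rr X h c) = rr X' (u.preimage_mono h) ((u.app U).hom c) := by
  have := congrArg (fun f => f.hom c) (u.naturality (homOfLE h).op)
  exact this

/-- a restriction-closed family of compatible pairs of local generators of `N` and `N'` -/
structure PbFamily (N : X.Modules) (N' : X'.Modules) where
  P : (U : X.Opens) → Γ(N, U) → Γ(N', u ⁻¹ᵁ U) → Prop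
  gen : ∀ {U e e'}, P U e e' → IsGen N U e
  gen' : ∀ {U e e'}, P U e e' → IsGen N' (u ⁻¹ᵁ U) e'
  cover : ∀ x' : X', ∃ U e e', u x' ∈ U ∧ P U e e'
  mono : ∀ {U e e'} (V : X.Opens) (h : V ≤ U), P U e e' →
    P V (rs N h e) (rs N' (u.preimage_mono h) e')
  compat : ∀ {U e₁ e₁' e₂ e₂'}, P U e₁ e₁' → P U e₂ e₂' → ∀ a : Γ(X, U), e₁ = a • e₂ →
    e₁' = (u.app U).hom a • e₂'

variable {u}

/-- the family given by pulling back generators of an invertible module -/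
noncomputable def PbFamily.base {L : X.Modules} (hL : PicF.IsInvertible L) :
    PbFamily u L ((Scheme.Modules.pullback u).obj L) where
  P U e e' := IsGen L U e ∧ e' = pbSec u L U e
  gen h := h.1
  gen' := by
    rintro U e e' ⟨h, rfl⟩
    exact isGen_pbSec u L U e h
  cover x' := by
    obtain ⟨U, hxU, e, he⟩ := exists_isGen_of_isInvertible hL (u x')
    exact ⟨U, e, _, hxU, he, rfl⟩
  mono := by
    rintro U e e' V h ⟨he, rfl⟩
    exact ⟨he.mono h, pbSec_rs u L h e⟩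
  compat := by
    rintro U e₁ e₁' e₂ e₂' ⟨-, rfl⟩ ⟨-, rfl⟩ a rfl
    exact pbSec_smul u L U a e₂

/-- the family of the structure sheaves -/
noncomputable def PbFamily.unit : PbFamily u (Coh.structureModule X) (Coh.structureModule X') where
  P U e e' := e = ((1 : Γ(X, U)) : Γ(Coh.structureModule X, U)) ∧
    e' = ((1 : Γ(X', u ⁻¹ᵁ U)) : Γ(Coh.structureModule X', u ⁻¹ᵁ U))
  gen := by
    rintro U e e' ⟨rfl, rfl⟩
    exact isGen_one U
  gen' := by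
    rintro U e e' ⟨rfl, rfl⟩
    exact isGen_one _
  cover x' := ⟨⊤, _, _, trivial, rfl, rfl⟩
  mono := by
    rintro U e e' V h ⟨rfl, rfl⟩
    exact ⟨PresheafOfModules.unit_map_one _ _, PresheafOfModules.unit_map_one _ _⟩
  compat := by
    rintro U e₁ e₁' e₂ e₂' ⟨rfl, rfl⟩ ⟨rfl, rfl⟩ a h
    have h1 : a • ((1 : Γ(X, U)) : Γ(Coh.structureModule X, U)) =
        (a : Γ(Coh.structureModule X, U)) := mul_one a
    have h2 : a = 1 := (h.trans h1).symm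
    rw [h2, map_one]
    exact (one_smul _ _).symm

/-- tensor product of families -/
noncomputable def PbFamily.tensor {N₁ N₂ : X.Modules} {N₁' N₂' : X'.Modules}
    (F₁ : PbFamily u N₁ N₁') (F₂ : PbFamily u N₂ N₂') :
    PbFamily u (CohB1.tensorMod N₁ N₂) (CohB1.tensorMod N₁' N₂') where
  P U e e' := ∃ e₁ e₁' e₂ e₂', F₁.P U e₁ e₁' ∧ F₂.P U e₂ e₂' ∧ e = tm N₁ N₂ e₁ e₂ ∧
    e' = tm N₁' N₂' e₁' e₂'
  gen := by
    rintro U e e' ⟨e₁, e₁', e₂, e₂', h₁, h₂, rfl, rfl⟩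
    exact (F₁.gen h₁).tm (F₂.gen h₂)
  gen' := by
    rintro U e e' ⟨e₁, e₁', e₂, e₂', h₁, h₂, rfl, rfl⟩
    exact (F₁.gen' h₁).tm (F₂.gen' h₂)
  cover x' := by
    obtain ⟨U₁, e₁, e₁', hx₁, h₁⟩ := F₁.cover x'
    obtain ⟨U₂, e₂, e₂', hx₂, h₂⟩ := F₂.cover x'
    exact ⟨U₁ ⊓ U₂, _, _, ⟨hx₁, hx₂⟩, _, _, _, _, F₁.mono _ inf_le_left h₁,
      F₂.mono _ inf_le_right h₂, rfl, rfl⟩
  mono := by
    rintro U e e' V h ⟨e₁, e₁', e₂, e₂', h₁, h₂, rfl, rfl⟩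
    exact ⟨_, _, _, _, F₁.mono V h h₁, F₂.mono V h h₂, rs_tm _ _ h _ _, rs_tm _ _ _ _ _⟩
  compat := by
    rintro U e f e' f' ⟨e₁, e₁', e₂, e₂', h₁, h₂, rfl, rfl⟩ ⟨f₁, f₁', f₂, f₂', k₁, k₂, rfl, rfl⟩ a h
    obtain ⟨b₁, hb₁⟩ := (F₁.gen k₁).exists_eq_smul e₁
    obtain ⟨b₂, hb₂⟩ := (F₂.gen k₂).exists_eq_smul e₂
    have hc₁ := F₁.compat h₁ k₁ b₁ hb₁
    have hc₂ := F₂.compat h₂ k₂ b₂ hb₂
    have h3 : tm N₁ N₂ e₁ e₂ = (b₁ * b₂) • tm N₁ N₂ f₁ f₂ := by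
      rw [hb₁, hb₂, tm_smul_left, tm_smul_right, smul_smul]
    have h4 : a = b₁ * b₂ := ((F₁.gen k₁).tm (F₂.gen k₂)).smul_injective (h.symm.trans h3)
    rw [hc₁, hc₂, tm_smul_left, tm_smul_right, smul_smul, h4, map_mul]

/-- tensor powers of a family -/
noncomputable def PbFamily.pow {N : X.Modules} {N' : X'.Modules} (F : PbFamily u N N') :
    (n : ℕ) → PbFamily u (CohB1.tensorPow N n) (CohB1.tensorPow N' n)
  | 0 => PbFamily.unit
  | n + 1 => (F.pow n).tensor F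

/-- **Pulling back sections along a family of compatible generators.** -/
theorem PbFamily.exists_section {N : X.Modules} {N' : X'.Modules} (F : PbFamily u N N')
    (s : Coh.structureModule X ⟶ N) :
    ∃ s' : Coh.structureModule X' ⟶ N',
      (∀ (U : X.Opens) (e : Γ(N, U)) (e' : Γ(N', u ⁻¹ᵁ U)) (c : Γ(X, U)), F.P U e e' →
        SecTwist.val s U = c • e → SecTwist.val s' (u ⁻¹ᵁ U) = (u.app U).hom c • e') ∧
      CohB1.genLocus N' s' = u ⁻¹ᵁ CohB1.genLocus N s := by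
  classical
  let ι : Type u := {p : (U : X.Opens) × Γ(N, U) × Γ(N', u ⁻¹ᵁ U) // F.P p.1 p.2.1 p.2.2}
  let U : ι → X.Opens := fun i => i.1.1
  let e : ∀ i : ι, Γ(N, U i) := fun i => i.1.2.1
  let e' : ∀ i : ι, Γ(N', u ⁻¹ᵁ U i) := fun i => i.1.2.2
  have hP : ∀ i : ι, F.P (U i) (e i) (e' i) := fun i => i.2
  have hc : ∀ i : ι, ∃ c : Γ(X, U i), SecTwist.val s (U i) = c • e i := fun i =>
    (F.gen (hP i)).exists_eq_smul _
  choose c hc using hc
  let V : ι → X'.Opens := fun i => u ⁻¹ᵁ U i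
  let g : ∀ i : ι, Γ(N', V i) := fun i => (u.app (U i)).hom (c i) • e' i
  have hcov : (⊤ : X'.Opens) ≤ iSup V := by
    intro x' _
    obtain ⟨U₀, e₀, e₀', hx, h₀⟩ := F.cover x'
    exact Opens.mem_iSup.mpr ⟨⟨⟨U₀, e₀, e₀'⟩, h₀⟩, hx⟩
  have hcompat : ∀ i j, rs N' (inf_le_left : V i ⊓ V j ≤ V i) (g i) =
      rs N' (inf_le_right : V i ⊓ V j ≤ V j) (g j) := by
    intro i j
    have hi : U i ⊓ U j ≤ U i := inf_le_left
    have hj : U i ⊓ U j ≤ U j := inf_le_right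
    have hPi := F.mono (U i ⊓ U j) hi (hP i)
    have hPj := F.mono (U i ⊓ U j) hj (hP j)
    obtain ⟨a, ha⟩ := (F.gen hPj).exists_eq_smul (rs N hi (e i))
    have hcomp := F.compat hPi hPj a ha
    have h1 : rr X hi (c i) * a = rr X hj (c j) := by
      apply (F.gen hPj).smul_injective
      rw [mul_smul, ← ha, ← rs_smul, ← hc i, ← rs_smul, ← hc j, rs_val, rs_val]
    have e1 : rs N' (inf_le_left : V i ⊓ V j ≤ V i) (g i) =
        (u.app (U i ⊓ U j)).hom (rr X hi (c i) * a) •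
          rs N' (u.preimage_mono hj) (e' j) := by
      change rs N' (u.preimage_mono hi) ((u.app (U i)).hom (c i) • e' i) = _
      rw [rs_smul, hcomp, smul_smul, map_mul, app_rr]
    have e2 : rs N' (inf_le_right : V i ⊓ V j ≤ V j) (g j) =
        (u.app (U i ⊓ U j)).hom (rr X hj (c j)) •
          rs N' (u.preimage_mono hj) (e' j) := by
      change rs N' (u.preimage_mono hj) ((u.app (U j)).hom (c j) • e' j) = _
      rw [rs_smul, app_rr]
    rw [e1, e2, h1]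
  obtain ⟨σ, hσ⟩ := glue' N'.presheaf N'.isSheaf V (W := ⊤) (fun i => le_top) hcov g hcompat
  have hval : ∀ i : ι, SecTwist.val (secHom N' σ) (V i) = g i := by
    intro i
    rw [val_secHom]
    exact hσ i
  have hloc : ∀ (U₀ : X.Opens) (e₀ : Γ(N, U₀)) (e₀' : Γ(N', u ⁻¹ᵁ U₀)) (c₀ : Γ(X, U₀)),
      F.P U₀ e₀ e₀' → SecTwist.val s U₀ = c₀ • e₀ →
        SecTwist.val (secHom N' σ) (u ⁻¹ᵁ U₀) = (u.app U₀).hom c₀ • e₀' := by
    intro U₀ e₀ e₀' c₀ h₀ hc₀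
    let i : ι := ⟨⟨U₀, e₀, e₀'⟩, h₀⟩
    have h1 : c i = c₀ := (F.gen h₀).smul_injective ((hc i).symm.trans hc₀)
    have h2 := hval i
    rw [← h1]
    exact h2
  refine ⟨secHom N' σ, hloc, ?_⟩
  apply opens_eq_of_inf_eq
  intro x'
  obtain ⟨U₀, e₀, e₀', hx, h₀⟩ := F.cover x'
  refine ⟨u ⁻¹ᵁ U₀, hx, ?_⟩
  obtain ⟨c₀, hc₀⟩ := (F.gen h₀).exists_eq_smul (SecTwist.val s U₀)
  have h1 := genLocus_inf_eq_basicOpen (secHom N' σ) (F.gen' h₀) ((u.app U₀).hom c₀)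
    (hloc U₀ e₀ e₀' c₀ h₀ hc₀)
  have h2 := genLocus_inf_eq_basicOpen s (F.gen h₀) c₀ hc₀
  rw [h1]
  have h3 : u ⁻¹ᵁ CohB1.genLocus N s ⊓ u ⁻¹ᵁ U₀ = u ⁻¹ᵁ (CohB1.genLocus N s ⊓ U₀) := rfl
  rw [h3, h2, Scheme.preimage_basicOpen]

end Groth.Agent.Lib.Helper35.PbInv
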