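import Mathlib
import Groth.Agent.Lib.Helper35.PbFam
import Groth.Agent.Lib.Helper35.Ample4

/-!
# Pullbacks of invertible and ample modules
-/

universe u

open CategoryTheory AlgebraicGeometry TopologicalSpace Opposite

namespace Groth.Agent.Lib.Helper35.PbInv

open Groth.Agent.Lib.Helper35.Gen Groth.Agent.Lib.Helper35.AbSheaf Scheme.Modules
  Groth.Agent.Lib.Helper35.Ample Groth.Agent.Lib.Helper35.GlobGen
  Groth.Agent.Lib.Helper35.GenLocus

variable {X' X : Scheme.{u}} (u : X' ⟶ X)

/-- the pullback of an invertible module is invertible -/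
theorem isInvertible_pullback {L : X.Modules} (hL : PicF.IsInvertible L) :
    PicF.IsInvertible ((Scheme.Modules.pullback u).obj L) := by
  apply isInvertible_of_isGen
  intro x'
  obtain ⟨U, hxU, e, he⟩ := exists_isGen_of_isInvertible hL (u x')
  exact ⟨u ⁻¹ᵁ U, hxU, _, isGen_pbSec u L U e he⟩

/-- sections of tensor powers can be pulled back, compatibly with generating loci -/
theorem exists_pullback_section {L : X.Modules} (hL : PicF.IsInvertible L) (n : ℕ)
    (s : Coh.structureModule X ⟶ CohB1.tensorPow L n) :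
    ∃ s' : Coh.structureModule X' ⟶ CohB1.tensorPow ((Scheme.Modules.pullback u).obj L) n,
      CohB1.genLocus _ s' = u ⁻¹ᵁ CohB1.genLocus _ s := by
  obtain ⟨s', -, hs'⟩ := ((PbFamily.base (u := u) hL).pow n).exists_section s
  exact ⟨s', hs'⟩

/-- the pullback of an ample module along a topological embedding from a quasi-compact scheme is
ample -/
theorem isAmple_pullback_of_isEmbedding [CompactSpace X'] (hu : Topology.IsEmbedding u)
    {L : X.Modules} (hL : CohB1.IsAmple L) :
    CohB1.IsAmple ((Scheme.Modules.pullback u).obj L) := by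
  have hB := isBasis_of_isAmple hL
  rw [Opens.isBasis_iff_nbhd] at hB
  apply isAmple_of_isBasis (isInvertible_pullback u hL.1)
  rw [Opens.isBasis_iff_nbhd]
  intro W' x' hx'
  obtain ⟨W, hW, hWW'⟩ := hu.isInducing.isOpen_iff.mp W'.isOpen
  have hxW : u x' ∈ (⟨W, hW⟩ : X.Opens) := by
    have : x' ∈ u ⁻¹' W := by rw [hWW']; exact hx'
    exact this
  obtain ⟨G, ⟨n, s, rfl⟩, hxG, hGW⟩ := hB hxW
  obtain ⟨s', hs'⟩ := exists_pullback_section u hL.1 (n + 1) s
  refine ⟨_, ⟨n, s', rfl⟩, ?_, ?_⟩
  · rw [hs']; exact hxG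
  · rw [hs']
    intro y hy
    have h1 : u y ∈ W := hGW hy
    have h2 : y ∈ u ⁻¹' W := h1
    rw [hWW'] at h2
    exact h2

/-- the pullback of an ample module along an affine morphism is ample -/
theorem isAmple_pullback_of_isAffineHom [IsAffineHom u] {L : X.Modules} (hL : CohB1.IsAmple L) :
    CohB1.IsAmple ((Scheme.Modules.pullback u).obj L) := by
  obtain ⟨hinv, hc, hcov⟩ := hL
  haveI := hc
  haveI : CompactSpace X' := QuasiCompact.compactSpace_of_compactSpace u
  refine ⟨isInvertible_pullback u hinv, inferInstance, ?_⟩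
  intro x'
  obtain ⟨n, s, hx, haff⟩ := hcov (u x')
  obtain ⟨s', hs'⟩ := exists_pullback_section u hinv (n + 1) s
  refine ⟨n, s', ?_, ?_⟩
  · rw [hs']; exact hx
  · rw [hs']; exact haff.preimage u

end Groth.Agent.Lib.Helper35.PbInv
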