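import Mathlib
import Groth.Agent.Lib.Helper35.PbAmple

/-!
# The generating locus of a pulled back section
-/

universe u

open CategoryTheory AlgebraicGeometry TopologicalSpace Opposite

namespace Groth.Agent.Lib.Helper35.PbInv

open Groth.Agent.Lib.Helper35.Gen Groth.Agent.Lib.Helper35.AbSheaf Scheme.Modules
  Groth.Agent.Lib.Helper35.Ample Groth.Agent.Lib.Helper35.GlobGen
  Groth.Agent.Lib.Helper35.GenLocus

variable {X' X : Scheme.{u}} (u : X' ⟶ X)

theorem genLocus_eq_top_of_isIso {M : X.Modules} (t : Coh.structureModule X ⟶ M) [IsIso t] :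
    CohB1.genLocus M t = ⊤ := by
  rw [eq_top_iff, le_genLocus_iff]
  intro W _
  exact (ConcreteCategory.isIso_iff_bijective (t.app W)).mp inferInstance

/-- `S4413`: the generating locus of the pullback of a section. -/
theorem genLocus_pullback_section (L : X.Modules) (hL : PicF.IsInvertible L)
    (s : Coh.structureModule X ⟶ L)
    (e : Coh.structureModule X' ≅ (Scheme.Modules.pullback u).obj (Coh.structureModule X)) :
    CohB1.genLocus ((Scheme.Modules.pullback u).obj L)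
      (e.hom ≫ (Scheme.Modules.pullback u).map s) = u ⁻¹ᵁ CohB1.genLocus L s := by
  -- `ω = e(1)` and `p = pbSec 1` both generate `u^* O`
  obtain ⟨p, hp⟩ : ∃ p : Γ((Scheme.Modules.pullback u).obj (Coh.structureModule X), u ⁻¹ᵁ ⊤),
      p = pbSec u (Coh.structureModule X) ⊤
        ((1 : Γ(X, ⊤)) : Γ(Coh.structureModule X, ⊤)) := ⟨_, rfl⟩
  have hpgen : IsGen ((Scheme.Modules.pullback u).obj (Coh.structureModule X)) (u ⁻¹ᵁ ⊤) p := by
    rw [hp]; exact isGen_pbSec u _ ⊤ _ (isGen_one ⊤)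
  have hωgen : IsGen ((Scheme.Modules.pullback u).obj (Coh.structureModule X)) (u ⁻¹ᵁ ⊤)
      (SecTwist.val e.hom (u ⁻¹ᵁ ⊤)) := by
    rw [isGen_val_iff, genLocus_eq_top_of_isIso]
    exact le_top
  obtain ⟨w, hw⟩ := hpgen.exists_eq_smul (SecTwist.val e.hom (u ⁻¹ᵁ ⊤))
  have hwtop : u ⁻¹ᵁ ⊤ ≤ X'.basicOpen w := by
    rw [hw] at hωgen
    exact (isGen_smul_iff hpgen w).mp hωgen
  apply opens_eq_of_inf_eq
  intro x'
  obtain ⟨U, hxU, e₀, he₀⟩ := exists_isGen_of_isInvertible hL (u x')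
  refine ⟨u ⁻¹ᵁ U, hxU, ?_⟩
  obtain ⟨c, hc⟩ := he₀.exists_eq_smul (SecTwist.val s U)
  have hU : u ⁻¹ᵁ U ≤ u ⁻¹ᵁ ⊤ := u.preimage_mono le_top
  have key : SecTwist.val (e.hom ≫ (Scheme.Modules.pullback u).map s) (u ⁻¹ᵁ U) =
      (rr X' hU w * (u.app U).hom c) • pbSec u L U e₀ := by
    have h1 : SecTwist.val (e.hom ≫ (Scheme.Modules.pullback u).map s) (u ⁻¹ᵁ U) =
        (((Scheme.Modules.pullback u).map s).app (u ⁻¹ᵁ U)).hom
          (SecTwist.val e.hom (u ⁻¹ᵁ U)) := rfl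
    have h2 : SecTwist.val e.hom (u ⁻¹ᵁ U) = rr X' hU w •
        pbSec u (Coh.structureModule X) U ((1 : Γ(X, U)) : Γ(Coh.structureModule X, U)) := by
      rw [← rs_val e.hom hU, hw, rs_smul, hp, pbSec_rs u _ (le_top : U ≤ ⊤)]
      congr 2
      exact PresheafOfModules.unit_map_one _ _
    rw [h1, h2, Scheme.Modules.Hom.app_smul, pbSec_nat]
    have h3 : (s.app U).hom ((1 : Γ(X, U)) : Γ(Coh.structureModule X, U)) =
        SecTwist.val s U := rfl
    rw [h3, hc, pbSec_smul, smul_smul]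
  have h1 := genLocus_inf_eq_basicOpen (e.hom ≫ (Scheme.Modules.pullback u).map s)
    (isGen_pbSec u L U e₀ he₀) _ key
  have h2 := genLocus_inf_eq_basicOpen s he₀ c hc
  rw [h1]
  have h3 : u ⁻¹ᵁ CohB1.genLocus L s ⊓ u ⁻¹ᵁ U = u ⁻¹ᵁ (CohB1.genLocus L s ⊓ U) := rfl
  rw [h3, h2, Scheme.preimage_basicOpen, Scheme.basicOpen_mul]
  have h4 : X'.basicOpen (rr X' hU w) = u ⁻¹ᵁ U ⊓ X'.basicOpen w :=
    Scheme.basicOpen_res X' w (homOfLE hU).op
  rw [h4]
  apply le_antisymm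
  · exact inf_le_right
  · refine le_inf (le_inf (X'.basicOpen_le _) ((X'.basicOpen_le _).trans (hU.trans hwtop))) le_rfl

end Groth.Agent.Lib.Helper35.PbInv
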