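import Mathlib
import Groth.Agent.Lib.Helper35.PbAmple
import Groth.Prelude.Def_Mor2
import Groth.Prelude.Def_LCI2

/-!
# Pullbacks of (relatively) ample modules along quasi-affine morphisms and embeddings
-/

universe u

open CategoryTheory AlgebraicGeometry TopologicalSpace Opposite

namespace Groth.Agent.Lib.Helper35.PbInv

open Groth.Agent.Lib.Helper35.Gen Groth.Agent.Lib.Helper35.AbSheaf Scheme.Modules
  Groth.Agent.Lib.Helper35.Ample Groth.Agent.Lib.Helper35.GlobGen
  Groth.Agent.Lib.Helper35.GenLocus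

set_option backward.isDefEq.respectTransparency.types false in
theorem quasiSeparated_of_isQuasiAffine {X' X : Scheme.{u}} (u : X' ⟶ X)
    (h : ∀ V : X.Opens, IsAffineOpen V → Scheme.IsQuasiAffine (u ⁻¹ᵁ V : Scheme.{u})) :
    QuasiSeparated u := by
  rw [HasAffineProperty.eq_targetAffineLocally @QuasiSeparated]
  intro V
  haveI := h V.1 V.2
  show QuasiSeparatedSpace ↑(u ⁻¹ᵁ V.1)
  infer_instance

/-- a point of a quasi-affine open has an affine basic open neighbourhood inside it -/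
theorem exists_affine_basicOpen_of_isQuasiAffine {Y : Scheme.{u}} (Q : Y.Opens)
    [hQ : (Q : Scheme.{u}).IsQuasiAffine] (x : Y) (hx : x ∈ Q) :
    ∃ a : Γ(Y, Q), x ∈ Y.basicOpen a ∧ IsAffineOpen (Y.basicOpen a) := by
  obtain ⟨_, ⟨r, hr, rfl⟩, hxr, -⟩ :=
    Opens.isBasis_iff_nbhd.mp (Scheme.IsQuasiAffine.isBasis_basicOpen (Q : Scheme.{u}))
      (U := ⊤) (x := ⟨x, hx⟩) trivial
  refine ⟨Y.presheaf.map (eqToHom Q.ι_image_top.symm).op r, ?_, ?_⟩
  · rw [← Scheme.Opens.ι_image_basicOpen' Q r]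
    exact ⟨⟨x, hx⟩, hxr, rfl⟩
  · rw [← Scheme.Opens.ι_image_basicOpen' Q r]
    exact hr.image_of_isOpenImmersion Q.ι

variable {X' X : Scheme.{u}} (u : X' ⟶ X)

/-- the pullback of an ample module along a quasi-affine morphism is ample -/
theorem isAmple_pullback_of_isQuasiAffine (hu : Mor2.IsQuasiAffine u) {L : X.Modules}
    (hL : CohB1.IsAmple L) : CohB1.IsAmple ((Scheme.Modules.pullback u).obj L) := by
  obtain ⟨hinv, hc, hcov⟩ := hL
  haveI := hc
  haveI := hu.1
  haveI : CompactSpace X' := QuasiCompact.compactSpace_of_compactSpace u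
  haveI : QuasiSeparatedSpace X := quasiSeparatedSpace_of_cover_genLocus hinv hcov
  haveI : QuasiSeparated u := quasiSeparated_of_isQuasiAffine u hu.2
  haveI : QuasiSeparatedSpace X' := quasiSeparatedSpace_of_quasiSeparated u
  have hinv' := isInvertible_pullback u hinv
  refine ⟨hinv', inferInstance, ?_⟩
  intro x'
  obtain ⟨n, s, hx, haff⟩ := hcov (u x')
  obtain ⟨s', hs'⟩ := exists_pullback_section u hinv (n + 1) s
  haveI : (CohB1.genLocus _ s' : Scheme.{u}).IsQuasiAffine := by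
    rw [hs']
    exact hu.2 _ haff
  have hx' : x' ∈ CohB1.genLocus _ s' := by rw [hs']; exact hx
  obtain ⟨a, hxa, haaff⟩ := exists_affine_basicOpen_of_isQuasiAffine (CohB1.genLocus _ s') x' hx'
  obtain ⟨k, s'', hs''⟩ := exists_section_genLocus_eq_basicOpen hinv' (n + 1) s' a
  obtain ⟨m, s₃, hs₃⟩ := exists_succ_section ((n + 1) * (k + 1)) (by positivity) s''
  refine ⟨m, s₃, ?_, ?_⟩
  · rw [hs₃, hs'']; exact hxa
  · rw [hs₃, hs'']; exact haaff

theorem isQuasiAffine_of_iso {A B : Scheme.{u}} (e : A ≅ B) [B.IsQuasiAffine] :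
    A.IsQuasiAffine := by
  haveI : CompactSpace A := QuasiCompact.compactSpace_of_compactSpace e.hom
  exact Scheme.IsQuasiAffine.of_isImmersion e.hom

/-- the restriction of a quasi-affine morphism to an open of the target is quasi-affine -/
theorem isQuasiAffine_morphismRestrict (hu : Mor2.IsQuasiAffine u) (U : X.Opens) :
    Mor2.IsQuasiAffine (u ∣_ U) := by
  haveI := hu.1
  refine ⟨inferInstance, ?_⟩
  intro V hV
  haveI : (u ⁻¹ᵁ (U.ι ''ᵁ V) : Scheme.{u}).IsQuasiAffine :=
    hu.2 _ (hV.image_of_isOpenImmersion U.ι)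
  exact isQuasiAffine_of_iso ((Scheme.Opens.ι _).isoImage _ ≪≫
    Scheme.isoOfEq _ (image_morphismRestrict_preimage u U V))

/-- the restriction of a topological embedding to an open of the target is an embedding -/
theorem isEmbedding_morphismRestrict (hu : Topology.IsEmbedding u) (U : X.Opens) :
    Topology.IsEmbedding (u ∣_ U) := by
  have h1 : Topology.IsEmbedding ((u ⁻¹ᵁ U).ι ≫ u) := by
    have : ⇑((u ⁻¹ᵁ U).ι ≫ u) = ⇑u ∘ ⇑(u ⁻¹ᵁ U).ι := by
      funext x; exact Scheme.Hom.comp_apply _ _ _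
    rw [this]
    exact hu.comp (u ⁻¹ᵁ U).ι.isEmbedding
  rw [← morphismRestrict_ι] at h1
  have h2 : ⇑(u ∣_ U ≫ U.ι) = ⇑U.ι ∘ ⇑(u ∣_ U) := by
    funext x; exact Scheme.Hom.comp_apply _ _ _
  rw [h2] at h1
  exact Topology.IsEmbedding.of_comp (u ∣_ U).continuous U.ι.continuous h1

section Rel

variable {Y : Scheme.{u}} (f : X ⟶ Y) (g : X' ⟶ X)

/-- general principle for pulling back relatively ample modules -/
theorem isRelAmple_pullback_of_forall [QuasiCompact (g ≫ f)] (L : X.Modules)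
    (hL : RelAmple.IsRelAmple f L)
    (H : ∀ V : Y.affineOpens, CohB1.IsAmple (L.restrict (f ⁻¹ᵁ V.1).ι) →
      CohB1.IsAmple ((Scheme.Modules.pullback (g ∣_ (f ⁻¹ᵁ V.1))).obj
        (L.restrict (f ⁻¹ᵁ V.1).ι))) :
    RelAmple.IsRelAmple (g ≫ f) ((Scheme.Modules.pullback g).obj L) := by
  refine ⟨inferInstance, ?_⟩
  intro V
  have h1 := H V (hL.2 V)
  exact isAmple_of_iso
    (Groth.Agent.Lib.Helper7.FinLocFree.restrictPullbackIso g L (f ⁻¹ᵁ V.1)).symm h1

theorem isRelAmple_pullback_of_isQuasiAffine [QuasiCompact f] (hg : Mor2.IsQuasiAffine g)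
    (L : X.Modules) (hL : RelAmple.IsRelAmple f L) :
    RelAmple.IsRelAmple (g ≫ f) ((Scheme.Modules.pullback g).obj L) := by
  haveI := hg.1
  exact isRelAmple_pullback_of_forall f g L hL (fun V hV =>
    isAmple_pullback_of_isQuasiAffine _ (isQuasiAffine_morphismRestrict g hg _) hV)

theorem isRelAmple_pullback_of_isEmbedding [QuasiCompact f] [QuasiCompact g]
    (hg : Topology.IsEmbedding g) (L : X.Modules) (hL : RelAmple.IsRelAmple f L) :
    RelAmple.IsRelAmple (g ≫ f) ((Scheme.Modules.pullback g).obj L) := by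
  refine isRelAmple_pullback_of_forall f g L hL (fun V hV => ?_)
  haveI : CompactSpace ↑(g ⁻¹ᵁ (f ⁻¹ᵁ V.1)) := by
    have h1 : IsCompact ((g ≫ f) ⁻¹ᵁ V.1 : Set X') :=
      (g ≫ f).isCompact_preimage V.2.isCompact
    exact isCompact_iff_compactSpace.mp h1
  exact isAmple_pullback_of_isEmbedding _ (isEmbedding_morphismRestrict g hg _) hV

end Rel

end Groth.Agent.Lib.Helper35.PbInv
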