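import Groth.Agent.Lib.Helper35.PushBC
import Groth.Prelude.Def_CohB1

/-!
# The locus `X_s` where a section generates an invertible module
-/

universe u

open CategoryTheory AlgebraicGeometry TopologicalSpace Opposite

namespace Groth.Agent.Lib.Helper35.GenLocus

open Groth.Agent.Lib.Helper35.AbSheaf Groth.Agent.Lib.Helper35.InvHom
open Groth.Agent.Lib.Helper35.InvPush Groth.Agent.Lib.Helper35.InvLocal
open Groth.Agent.Lib.Helper35.PushBC
open Groth.Agent.Lib.Helper35.ModRestrict Scheme.Modules

section top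

variable {X : TopCat.{u}}

/-- local-to-global for bijectivity of a morphism of sheaves -/
theorem bijective_app_of_local {P Q : TopCat.Presheaf AddCommGrpCat.{u} X} (hP : P.IsSheaf)
    (hQ : Q.IsSheaf) (β : P ⟶ Q) {ι : Type u} (B : ι → Opens X) (W : Opens X)
    (hW : W ≤ iSup B)
    (h : ∀ (V : Opens X) (i : ι), V ≤ B i → Function.Bijective (β.app (op V)).hom) :
    Function.Bijective (β.app (op W)).hom := by
  have hcov : W ≤ ⨆ i, W ⊓ B i := by
    intro x hx
    obtain ⟨i, hi⟩ := Opens.mem_iSup.mp (hW hx)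
    exact Opens.mem_iSup.mpr ⟨i, hx, hi⟩
  have hWi : ∀ i, W ⊓ B i ≤ W := fun i => inf_le_left
  constructor
  · intro s t hst
    refine ext_cover P hP (fun i => W ⊓ B i) hWi hcov s t (fun i => ?_)
    apply (h (W ⊓ B i) i inf_le_right).1
    rw [nat_res, nat_res, hst]
  · intro t
    have hsi : ∀ i, ∃ si : P.obj (op (W ⊓ B i)),
        (β.app (op (W ⊓ B i))).hom si = res Q (hWi i) t :=
      fun i => (h (W ⊓ B i) i inf_le_right).2 _
    choose sf hsf using hsi
    obtain ⟨s, hs⟩ := glue' P hP (fun i => W ⊓ B i) hWi hcov sf (by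
      intro i j
      apply (h ((W ⊓ B i) ⊓ (W ⊓ B j)) i (inf_le_left.trans inf_le_right)).1
      rw [nat_res, nat_res, hsf, hsf, res_res, res_res])
    refine ⟨s, ?_⟩
    refine ext_cover Q hQ (fun i => W ⊓ B i) hWi hcov _ _ (fun i => ?_)
    rw [← nat_res, hs i, hsf i]

end top

variable {X : Scheme.{u}}

lemma app_bijective_congr {M N : X.Modules} (φ : M ⟶ N) {A B : X.Opens} (h : A = B) :
    Function.Bijective (φ.app A).hom ↔ Function.Bijective (φ.app B).hom := by
  subst h
  rfl

theorem isIso_restrict_iff {M N : X.Modules} (φ : M ⟶ N) (U : X.Opens) :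
    IsIso ((restrictFunctor U.ι).map φ) ↔
      ∀ W : X.Opens, W ≤ U → Function.Bijective (φ.app W).hom := by
  rw [Hom.isIso_iff_isIso_app]
  constructor
  · intro h W hW
    have h1 := h (U.ι ⁻¹ᵁ W)
    rw [ConcreteCategory.isIso_iff_bijective] at h1
    have E : U.ι ''ᵁ (U.ι ⁻¹ᵁ W) = W := by
      rw [Scheme.Hom.image_preimage_eq_opensRange_inf, Scheme.Opens.opensRange_ι]
      exact inf_eq_right.mpr hW
    exact (app_bijective_congr φ E).mp h1
  · intro h W'
    rw [ConcreteCategory.isIso_iff_bijective]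
    exact h (U.ι ''ᵁ W') (U.ι_image_le W')

/-- the generating locus itself has the defining property -/
theorem bijective_app_of_le_genLocus (L : X.Modules) (s : Coh.structureModule X ⟶ L)
    (W : X.Opens) (hW : W ≤ CohB1.genLocus L s) : Function.Bijective (s.app W).hom := by
  let S : Set X.Opens := {U : X.Opens | IsIso ((Scheme.Modules.restrictFunctor U.ι).map s)}
  have hW' : W ≤ ⨆ U : S, (U : X.Opens) := by
    rw [← sSup_eq_iSup']
    exact hW
  refine bijective_app_of_local (Coh.structureModule X).isSheaf L.isSheaf s.mapPresheaf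
    (fun U : S => (U : X.Opens)) W hW' ?_
  intro V U hV
  exact (isIso_restrict_iff s U.1).mp U.2 V hV

theorem le_genLocus_iff (L : X.Modules) (s : Coh.structureModule X ⟶ L) (U : X.Opens) :
    U ≤ CohB1.genLocus L s ↔ ∀ W : X.Opens, W ≤ U → Function.Bijective (s.app W).hom := by
  constructor
  · intro hU W hW
    exact bijective_app_of_le_genLocus L s W (hW.trans hU)
  · intro h
    exact le_sSup ((isIso_restrict_iff s U).mpr h)


section unitEnd

variable (Y : Scheme.{u}) (t : Coh.structureModule Y ⟶ Coh.structureModule Y)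

/-- the function defining an endomorphism of the structure module -/
noncomputable def endSection : Γ(Y, ⊤) := (t.app ⊤).hom (1 : Γ(Y, ⊤))

theorem end_app_apply (W : Y.Opens) (r : Γ(Y, W)) :
    (t.app W).hom r = r * Y.presheaf.map (homOfLE (le_top : W ≤ ⊤)).op (endSection Y t) := by
  have h1 : (t.app W).hom r = r • (t.app W).hom (1 : Γ(Y, W)) := by
    have := Scheme.Modules.Hom.app_smul t r (1 : Γ(Y, W))
    rw [← this]
    congr 1
    exact (mul_one r).symm
  have h2 : (t.app W).hom (1 : Γ(Y, W)) =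
      Y.presheaf.map (homOfLE (le_top : W ≤ ⊤)).op (endSection Y t) := by
    have nat := t.mapPresheaf.naturality (homOfLE (le_top : W ≤ ⊤)).op
    have := congrArg (fun φ => φ.hom (1 : Γ(Y, ⊤))) nat
    simp only [AddCommGrpCat.hom_comp, AddMonoidHom.coe_comp, Function.comp_apply] at this
    have h3 : ((Coh.structureModule Y).presheaf.map (homOfLE (le_top : W ≤ ⊤)).op).hom
        (1 : Γ(Y, ⊤)) = (1 : Γ(Y, W)) :=
      map_one (Y.presheaf.map (homOfLE (le_top : W ≤ ⊤)).op).hom
    rw [h3] at this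
    exact this
  rw [h1, h2]
  rfl

theorem end_app_bijective_iff (W : Y.Opens) :
    Function.Bijective (t.app W).hom ↔
      IsUnit (Y.presheaf.map (homOfLE (le_top : W ≤ ⊤)).op (endSection Y t)) := by
  have hfun : ∀ r : Γ(Y, W), (t.app W).hom r =
      r * Y.presheaf.map (homOfLE (le_top : W ≤ ⊤)).op (endSection Y t) := end_app_apply Y t W
  constructor
  · intro h
    obtain ⟨r, hr⟩ := h.2 (1 : Γ(Y, W))
    rw [hfun] at hr
    exact IsUnit.of_mul_eq_one _ (by rw [mul_comm]; exact hr)
  · intro h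
    obtain ⟨b, hb⟩ := h
    have : ((t.app W).hom : Γ(Y, W) → Γ(Y, W)) =
        fun r => r * Y.presheaf.map (homOfLE (le_top : W ≤ ⊤)).op (endSection Y t) :=
      funext hfun
    rw [this, ← hb]
    exact (Units.mulRight b).bijective

theorem forall_bijective_iff_le_basicOpen (W : Y.Opens) :
    (∀ W' : Y.Opens, W' ≤ W → Function.Bijective (t.app W').hom) ↔
      W ≤ Y.basicOpen (endSection Y t) := by
  constructor
  · intro h
    have h1 := (end_app_bijective_iff Y t W).mp (h W le_rfl)
    have h2 := Y.basicOpen_of_isUnit h1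
    rw [Scheme.basicOpen_res] at h2
    exact inf_eq_left.mp h2
  · intro h W' hW'
    rw [end_app_bijective_iff]
    have h1 : IsUnit (Y.presheaf.map (homOfLE (Y.basicOpen_le (endSection Y t))).op
        (endSection Y t)) := RingedSpace.isUnit_res_basicOpen Y.toRingedSpace (endSection Y t)
    have h2 := h1.map (Y.presheaf.map (homOfLE (hW'.trans h)).op).hom
    have h3 : (Y.presheaf.map (homOfLE (hW'.trans h)).op).hom
        (Y.presheaf.map (homOfLE (Y.basicOpen_le (endSection Y t))).op (endSection Y t)) =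
        Y.presheaf.map (homOfLE (le_top : W' ≤ ⊤)).op (endSection Y t) := by
      rw [← CommRingCat.comp_apply, ← Y.presheaf.map_comp]
      rfl
    rw [← h3]
    exact h2

end unitEnd


/-- a trivialization on `U₀` restricts to a trivialization on any smaller open -/
theorem trivial_of_le (L : X.Modules) {U₀ V : X.Opens} (h : V ≤ U₀)
    (e₀ : L.restrict U₀.ι ≅ Coh.structureModule (U₀ : Scheme.{u})) :
    Nonempty (L.restrict V.ι ≅ Coh.structureModule (V : Scheme.{u})) :=
  ⟨(restrictFunctorCongr (X.homOfLE_ι h).symm).app L ≪≫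
    (restrictFunctorComp (X.homOfLE h) U₀.ι).app L ≪≫
    (restrictFunctor (X.homOfLE h)).mapIso e₀ ≪≫ restrictUnitIso _⟩

/-- On a trivializing open `V`, the generating locus is a basic open. -/
theorem genLocus_inf_eq (L : X.Modules) (s : Coh.structureModule X ⟶ L) (V : X.Opens)
    (e : L.restrict V.ι ≅ Coh.structureModule (V : Scheme.{u})) :
    ∃ a : Γ((V : Scheme.{u}), ⊤),
      CohB1.genLocus L s ⊓ V = V.ι ''ᵁ ((V : Scheme.{u}).basicOpen a) := by
  let t : Coh.structureModule (V : Scheme.{u}) ⟶ Coh.structureModule (V : Scheme.{u}) :=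
    (restrictUnitIso V.ι).inv ≫ (restrictFunctor V.ι).map s ≫ e.hom
  refine ⟨endSection _ t, ?_⟩
  have key : ∀ W' : (V : Scheme.{u}).Opens,
      Function.Bijective (t.app W').hom ↔ Function.Bijective (s.app (V.ι ''ᵁ W')).hom := by
    intro W'
    have hb1 : Function.Bijective ((restrictUnitIso V.ι).inv.app W').hom :=
      (ConcreteCategory.isIso_iff_bijective _).mp inferInstance
    have hb2 : Function.Bijective (e.hom.app W').hom :=
      (ConcreteCategory.isIso_iff_bijective _).mp inferInstance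
    have hcomp : (t.app W').hom = (e.hom.app W').hom ∘ (s.app (V.ι ''ᵁ W')).hom ∘
        ((restrictUnitIso V.ι).inv.app W').hom := rfl
    rw [hcomp]
    constructor
    · intro h
      have h1 := (Function.Bijective.of_comp_iff' hb2 _).mp h
      exact (Function.Bijective.of_comp_iff _ hb1).mp h1
    · intro h
      exact hb2.comp (h.comp hb1)
  have himg : ∀ W : X.Opens, W ≤ V → V.ι ''ᵁ (V.ι ⁻¹ᵁ W) = W := by
    intro W hW
    rw [Scheme.Hom.image_preimage_eq_opensRange_inf, Scheme.Opens.opensRange_ι]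
    exact inf_eq_right.mpr hW
  apply le_antisymm
  · -- `G ⊓ V ≤ V.ι '' D(a)`
    have hW : CohB1.genLocus L s ⊓ V ≤ V := inf_le_right
    have h1 : V.ι ⁻¹ᵁ (CohB1.genLocus L s ⊓ V) ≤ (V : Scheme.{u}).basicOpen (endSection _ t) := by
      rw [← forall_bijective_iff_le_basicOpen]
      intro W'' hW''
      rw [key]
      apply bijective_app_of_le_genLocus
      have : V.ι ''ᵁ W'' ≤ V.ι ''ᵁ (V.ι ⁻¹ᵁ (CohB1.genLocus L s ⊓ V)) := V.ι.image_mono hW''
      rw [himg _ hW] at this
      exact this.trans inf_le_left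
    have h2 := V.ι.image_mono h1
    rw [himg _ hW] at h2
    exact h2
  · refine le_inf ?_ (V.ι_image_le _)
    rw [le_genLocus_iff]
    intro W hW
    have hWV : W ≤ V := hW.trans (V.ι_image_le _)
    have h1 : V.ι ⁻¹ᵁ W ≤ (V : Scheme.{u}).basicOpen (endSection _ t) := by
      intro y hy
      obtain ⟨z, hz, hzy⟩ := hW hy
      have : z = y := V.ι.isOpenEmbedding.injective hzy
      exact this ▸ hz
    have h2 := (forall_bijective_iff_le_basicOpen _ t (V.ι ⁻¹ᵁ W)).mpr h1 _ le_rfl
    rw [key] at h2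
    exact (app_bijective_congr s (himg W hWV)).mp h2

theorem isAffineHom_genLocus_ι (L : X.Modules) (hL : PicF.IsInvertible L)
    (s : Coh.structureModule X ⟶ L) : IsAffineHom (CohB1.genLocus L s).ι := by
  apply isAffineHom_of_forall_exists_isAffineOpen
  intro x
  obtain ⟨U₀, hxU₀, ⟨e₀⟩⟩ := hL x
  obtain ⟨V, hV, hxV, hVU₀⟩ := exists_isAffineOpen_mem_and_subset (x := x) (U := U₀) hxU₀
  obtain ⟨e⟩ := trivial_of_le L hVU₀ e₀
  obtain ⟨a, ha⟩ := genLocus_inf_eq L s V e
  refine ⟨V, hxV, hV, ?_⟩
  rw [← (CohB1.genLocus L s).ι.isAffineOpen_iff_of_isOpenImmersion,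
    Scheme.Hom.image_preimage_eq_opensRange_inf, Scheme.Opens.opensRange_ι, ha]
  haveI : IsAffine (V : Scheme.{u}) := hV
  exact ((isAffineOpen_top (V : Scheme.{u})).basicOpen a).image_of_isOpenImmersion V.ι

end Groth.Agent.Lib.Helper35.GenLocus
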