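import Mathlib
import Groth.Agent.Lib.Helper35.PbRel
import Groth.Agent.S4380
import Groth.Agent.S4381

/-!
# Base change of relatively ample modules
-/

universe u

open CategoryTheory CategoryTheory.Limits AlgebraicGeometry TopologicalSpace Opposite

namespace Groth.Agent.Lib.Helper35.PbInv

open Groth.Agent.Lib.Helper35.Gen Groth.Agent.Lib.Helper35.Ample

/-- restriction of a pullback to an open mapping into a given open -/
noncomputable def restrictPullbackIsoLE {X' X : Scheme.{u}} (p : X' ⟶ X) (L : X.Modules)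
    (W : X.Opens) (W' : X'.Opens) (e : W' ≤ p ⁻¹ᵁ W) :
    ((Scheme.Modules.pullback p).obj L).restrict W'.ι ≅
      (Scheme.Modules.pullback (p.resLE W W' e)).obj (L.restrict W.ι) :=
  (Scheme.Modules.restrictFunctorIsoPullback W'.ι).app _ ≪≫
    (Scheme.Modules.pullbackComp W'.ι p).app L ≪≫
    (Scheme.Modules.pullbackCongr (Scheme.Hom.resLE_comp_ι p e).symm).app L ≪≫
    ((Scheme.Modules.pullbackComp (p.resLE W W' e) W.ι).app L).symm ≪≫
    (Scheme.Modules.pullback (p.resLE W W' e)).mapIso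
      ((Scheme.Modules.restrictFunctorIsoPullback W.ι).app L).symm

section

variable {X Y Y' : Scheme.{u}} (f : X ⟶ Y) (g : Y' ⟶ Y)

/-- in a fibre product, the intersection of preimages of compatible affine opens is affine -/
theorem isAffineOpen_inf_preimage_of_pullback (A : X.Opens) (V : Y.Opens) (U' : Y'.Opens)
    (hA : IsAffineOpen A) (hV : IsAffineOpen V) (hU' : IsAffineOpen U')
    (hAV : A ≤ f ⁻¹ᵁ V) (hUV : U' ≤ g ⁻¹ᵁ V) :
    IsAffineOpen (pullback.fst f g ⁻¹ᵁ A ⊓ pullback.snd f g ⁻¹ᵁ U') := by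
  haveI : IsAffine (A : Scheme.{u}) := hA
  haveI : IsAffine (V : Scheme.{u}) := hV
  haveI : IsAffine (U' : Scheme.{u}) := hU'
  let m := pullback.map (f.resLE V A hAV) (g.resLE V U' hUV) f g A.ι U'.ι V.ι
    (Scheme.Hom.resLE_comp_ι f hAV) (Scheme.Hom.resLE_comp_ι g hUV)
  have h1 : IsAffineOpen m.opensRange := isAffineOpen_opensRange m
  have h2 : m.opensRange = pullback.fst f g ⁻¹ᵁ A ⊓ pullback.snd f g ⁻¹ᵁ U' := by
    apply SetLike.coe_injective
    have := Scheme.Pullback.range_map (f.resLE V A hAV) (g.resLE V U' hUV) f g A.ι U'.ι V.ι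
      (Scheme.Hom.resLE_comp_ι f hAV) (Scheme.Hom.resLE_comp_ι g hUV)
    rw [Scheme.Hom.coe_opensRange, this, Scheme.Opens.range_ι, Scheme.Opens.range_ι]
    rfl
  rwa [h2] at h1

end

section

variable {X Y Y' : Scheme.{u}} (f : X ⟶ Y) (g : Y' ⟶ Y)

/-- the projection from the part of a fibre product over compatible affine opens is affine -/
theorem isAffineHom_resLE_fst (V : Y.Opens) (U' : Y'.Opens) (hV : IsAffineOpen V)
    (hU' : IsAffineOpen U') (hUV : U' ≤ g ⁻¹ᵁ V)
    (e : pullback.snd f g ⁻¹ᵁ U' ≤ pullback.fst f g ⁻¹ᵁ (f ⁻¹ᵁ V)) :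
    IsAffineHom ((pullback.fst f g).resLE (f ⁻¹ᵁ V) (pullback.snd f g ⁻¹ᵁ U') e) := by
  apply isAffineHom_of_forall_exists_isAffineOpen
  intro x
  obtain ⟨B, hB, hxB, -⟩ := exists_isAffineOpen_mem_and_subset (x := x) (U := ⊤) trivial
  refine ⟨B, hxB, hB, ?_⟩
  rw [Scheme.Hom.resLE_preimage,
    ← Scheme.Hom.isAffineOpen_iff_of_isOpenImmersion (pullback.snd f g ⁻¹ᵁ U').ι,
    Scheme.Hom.image_preimage_eq_opensRange_inf, Scheme.Opens.opensRange_ι, inf_comm]
  refine isAffineOpen_inf_preimage_of_pullback f g _ V U'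
    (hB.image_of_isOpenImmersion (f ⁻¹ᵁ V).ι) hV hU' ?_ hUV
  exact (f ⁻¹ᵁ V).ι_image_le B

/-- **Base change of a relatively ample module.** -/
theorem isRelAmple_baseChange [QuasiCompact f] (L : X.Modules) (hL : RelAmple.IsRelAmple f L) :
    RelAmple.IsRelAmple (pullback.snd f g)
      ((Scheme.Modules.pullback (pullback.fst f g)).obj L) := by
  -- a cover of `Y'` by affine opens mapping into affine opens of `Y`
  have hcov : ∀ y' : Y', ∃ (V : Y.Opens) (U' : Y'.Opens), IsAffineOpen V ∧ IsAffineOpen U' ∧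
      y' ∈ U' ∧ U' ≤ g ⁻¹ᵁ V := by
    intro y'
    obtain ⟨V, hV, hyV, -⟩ := exists_isAffineOpen_mem_and_subset (x := g y') (U := ⊤) trivial
    obtain ⟨U', hU', hyU', hU'V⟩ :=
      exists_isAffineOpen_mem_and_subset (x := y') (U := g ⁻¹ᵁ V) hyV
    exact ⟨V, U', hV, hU', hyU', hU'V⟩
  choose V U' hV hU' hyU' hU'V using hcov
  have hsup : ⨆ y', U' y' = ⊤ := by
    rw [eq_top_iff]
    intro y' _
    exact Opens.mem_iSup.mpr ⟨y', hyU' y'⟩
  refine (Groth.Agent.S4380.result (pullback.snd f g)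
    ((Scheme.Modules.pullback (pullback.fst f g)).obj L) U' hsup).mpr ?_
  intro y'
  haveI : IsAffine (U' y' : Scheme.{u}) := hU' y'
  rw [Groth.Agent.S4381.result]
  have e : pullback.snd f g ⁻¹ᵁ U' y' ≤ pullback.fst f g ⁻¹ᵁ (f ⁻¹ᵁ V y') := by
    intro z hz
    have h1 : g (pullback.snd f g z) ∈ V y' := hU'V y' hz
    have h2 : f (pullback.fst f g z) = g (pullback.snd f g z) := by
      rw [← Scheme.Hom.comp_apply, ← Scheme.Hom.comp_apply, pullback.condition]
    show f (pullback.fst f g z) ∈ V y'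
    rw [h2]
    exact h1
  haveI := isAffineHom_resLE_fst f g (V y') (U' y') (hV y') (hU' y') (hU'V y') e
  have h3 := isAmple_pullback_of_isAffineHom
    ((pullback.fst f g).resLE (f ⁻¹ᵁ V y') (pullback.snd f g ⁻¹ᵁ U' y') e)
    (hL.2 ⟨V y', hV y'⟩)
  exact isAmple_of_iso (restrictPullbackIsoLE (pullback.fst f g) L _ _ e).symm h3

end

end Groth.Agent.Lib.Helper35.PbInv
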