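import Groth.Agent.Lib.Helper35.InvPush

/-!
# Invertible modules on a "local" scheme, and `InvRestrictEquiv` vs `PicTrivial`
-/

universe u

open CategoryTheory AlgebraicGeometry TopologicalSpace Opposite

namespace Groth.Agent.Lib.Helper35.InvLocal

open Groth.Agent.Lib.Helper35.AbSheaf Groth.Agent.Lib.Helper35.InvHom
open Groth.Agent.Lib.Helper35.InvPush
open Groth.Agent.Lib.Helper35.ModRestrict Scheme.Modules

variable {X : Scheme.{u}}

/-- a module which is trivial after restriction along an isomorphism is trivial -/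
theorem nonempty_iso_structureModule_of_isIso {Z : Scheme.{u}} (f : Z ⟶ X) [IsIso f]
    (N : X.Modules) (e : N.restrict f ≅ Coh.structureModule Z) :
    Nonempty (N ≅ Coh.structureModule X) := by
  haveI : (restrictFunctor f).IsEquivalence :=
    (restrictEquivalence (asIso f)).isEquivalence_functor
  exact ⟨(restrictFunctor f).preimageIso (e ≪≫ (restrictUnitIso f).symm)⟩

/-- On a scheme with a point all of whose neighbourhoods are everything, invertible modules are
trivial. -/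
theorem picTrivial_of_local (x₀ : X) (hx₀ : ∀ W : X.Opens, x₀ ∈ W → W = ⊤) :
    ParaF.PicTrivial X := by
  intro N hN
  obtain ⟨W, hW, ⟨e⟩⟩ := hN x₀
  obtain rfl := hx₀ W hW
  haveI : IsIso (⊤ : X.Opens).ι := (inferInstance : IsIso X.topIso.hom)
  exact nonempty_iso_structureModule_of_isIso (⊤ : X.Opens).ι N e

theorem picTrivial_of_invRestrictEquiv {Z : Scheme.{u}} (f : Z ⟶ X) [IsOpenImmersion f]
    (hX : ParaF.PicTrivial X) (h : ParaF.InvRestrictEquiv f) : ParaF.PicTrivial Z := by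
  intro L hL
  obtain ⟨N, hN, ⟨e⟩⟩ := h.2 L hL
  obtain ⟨i⟩ := hX N hN
  exact ⟨e.symm ≪≫ (restrictFunctor f).mapIso i ≪≫ restrictUnitIso f⟩

theorem invRestrictEquiv_of_picTrivial {Z : Scheme.{u}} (f : Z ⟶ X) [IsOpenImmersion f]
    (h : ∀ V : X.Opens,
      Function.Bijective (X.presheaf.map (homOfLE (inf_le_left : V ⊓ f.opensRange ≤ V)).op))
    (hPic : ParaF.PicTrivial Z) : ParaF.InvRestrictEquiv f := by
  refine ⟨fun L L' _ hL' => restrict_hom_bijective' f h L L' hL', fun L₀ h₀ => ?_⟩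
  obtain ⟨i⟩ := hPic L₀ h₀
  exact ⟨Coh.structureModule X, isInvertible_structureModule X, ⟨restrictUnitIso f ≪≫ i.symm⟩⟩

lemma presheaf_bijective_of_eq {A B : X.Opens} (h : B ≤ A) (e : B = A) :
    Function.Bijective (X.presheaf.map (homOfLE h).op) := by
  subst e
  have : (homOfLE h).op = 𝟙 (op B) := rfl
  rw [this, X.presheaf.map_id]
  exact Function.bijective_id

theorem invRestrictEquiv_homOfLE_of_eq {A B : X.Opens} (h : B ≤ A) (e : B = A) :
    ParaF.InvRestrictEquiv (X.homOfLE h) := by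
  subst e
  have h1 : X.homOfLE h = 𝟙 _ := X.homOfLE_rfl B
  exact (invRestrictEquiv_congr h1).mpr (invRestrictEquiv_of_isIso _)

/-- comparing the inclusion `U ⊆ X` with `⊤ ⊓ U ⊆ ⊤` -/
theorem invRestrictEquiv_ι_iff (U U' : X.Opens) (hU' : U' ≤ ⊤) (e : U' = U) :
    ParaF.InvRestrictEquiv U.ι ↔ ParaF.InvRestrictEquiv (X.homOfLE hU') := by
  subst e
  have w : 𝟙 (U' : Scheme.{u}) ≫ U'.ι = X.homOfLE hU' ≫ (⊤ : X.Opens).ι := by
    rw [Category.id_comp, Scheme.homOfLE_ι]
  haveI : IsIso (⊤ : X.Opens).ι := (inferInstance : IsIso X.topIso.hom)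
  constructor
  · intro h
    exact invRestrictEquiv_of_square (X.homOfLE hU') U'.ι (𝟙 _) (⊤ : X.Opens).ι w h
  · intro h
    have w' : 𝟙 (U' : Scheme.{u}) ≫ X.homOfLE hU' = U'.ι ≫ inv (⊤ : X.Opens).ι := by
      rw [Category.id_comp, IsIso.eq_comp_inv, Scheme.homOfLE_ι]
    exact invRestrictEquiv_of_square U'.ι (X.homOfLE hU') (𝟙 _) (inv (⊤ : X.Opens).ι) w' h

end Groth.Agent.Lib.Helper35.InvLocal
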