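import Groth.Agent.Lib.Helper35.TwistExt
import Groth.Agent.Lib.Helper35.PbBase
import Groth.Agent.Lib.Helper60.TensorRestrictPow
import Groth.Agent.Lib.Lead.RelAmp2
import Groth.Prelude.Def_MoreMor

/-!
# Relatively ample modules over a base with an ample family
-/

set_option autoImplicit false
universe u

open CategoryTheory AlgebraicGeometry TopologicalSpace Opposite

namespace Groth.Agent.Lib.Helper35.AmpleFamily

open Groth.Agent.Lib.Helper35.AbSheaf Groth.Agent.Lib.Helper35.Gen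
open Groth.Agent.Lib.Helper35.GlobGen Groth.Agent.Lib.Helper60.TensorLib
open Groth.Agent.Lib.Helper35.PbInv

variable {X Y : Scheme.{u}}

theorem nonempty_tensorPow_one (M : X.Modules) : Nonempty (M ≅ CohB1.tensorPow M 1) := by
  obtain ⟨e⟩ := nonempty_tensorMod_unit_left M
  exact ⟨e.symm⟩

/-- a relatively ample module is invertible -/
theorem isInvertible_of_isRelAmple (f : X ⟶ Y) {L : X.Modules} (hL : RelAmple.IsRelAmple f L) :
    PicF.IsInvertible L := by
  apply Groth.Agent.Lib.Lead.Inv.isInvertible_of_restrict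
  intro x
  obtain ⟨V, hV, hxV, -⟩ := exists_isAffineOpen_mem_and_subset (x := f x) (U := ⊤) trivial
  exact ⟨f ⁻¹ᵁ V, hxV, (hL.2 ⟨V, hV⟩).1⟩

/-- a morphism carrying a relatively ample module is quasi-separated -/
theorem quasiSeparated_of_isRelAmple (f : X ⟶ Y) {L : X.Modules}
    (hL : RelAmple.IsRelAmple f L) : QuasiSeparated f := by
  rw [HasAffineProperty.eq_targetAffineLocally @QuasiSeparated]
  intro V
  have h := hL.2 V
  show QuasiSeparatedSpace ↑(f ⁻¹ᵁ V.1)
  exact Groth.Agent.Lib.Helper35.Ample.quasiSeparatedSpace_of_cover_genLocus h.1 h.2.2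

theorem quasiSeparatedSpace_of_hasAmpleFamily (hY : MoreMor.HasAmpleFamily Y) :
    QuasiSeparatedSpace Y := by
  apply Groth.Agent.Lib.Helper35.AffDiag.quasiSeparatedSpace_of_cover
  intro y
  obtain ⟨K, n, t, hK, -, hy, haff⟩ := hY.2 y
  exact ⟨_, hy, haff, Groth.Agent.Lib.Helper35.GenLocus.isAffineHom_genLocus_ι _
    (isInvertible_tensorPow hK n) t⟩

/-- `S1499` -/
theorem hasAmpleFamily_of_isRelAmple (f : X ⟶ Y) (hY : MoreMor.HasAmpleFamily Y)
    (L : X.Modules) (hL : RelAmple.IsRelAmple f L) : MoreMor.HasAmpleFamily X := by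
  haveI := hL.1
  haveI := hY.1
  haveI : CompactSpace X := QuasiCompact.compactSpace_of_compactSpace f
  haveI : QuasiSeparatedSpace Y := quasiSeparatedSpace_of_hasAmpleFamily hY
  haveI : QuasiSeparated f := quasiSeparated_of_isRelAmple f hL
  haveI : QuasiSeparatedSpace X := quasiSeparatedSpace_of_quasiSeparated f
  have hLinv := isInvertible_of_isRelAmple f hL
  refine ⟨inferInstance, fun x => ?_⟩
  obtain ⟨K, n, t, hK, -, hy, haff⟩ := hY.2 (f x)
  have hKn := isInvertible_tensorPow hK n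
  obtain ⟨t', -, ht'⟩ := (PbFamily.base (u := f) hKn).exists_section t
  have hB := isInvertible_pullback (u := f) hKn
  obtain ⟨a, s₁, hx₁, haff₁⟩ := (hL.2 ⟨_, haff⟩).2.2 ⟨x, hy⟩
  obtain ⟨s₂, hs₂⟩ := Groth.Agent.Lib.Lead.Inv.exists_section_of_iso
    ⟨(Groth.Agent.Lib.Helper60.TensorRestrict.restrictTensorPowIso
      (f ⁻¹ᵁ CohB1.genLocus _ t).ι L (a + 1)).symm⟩ s₁
  have hM := isInvertible_tensorPow hLinv (a + 1)
  obtain ⟨n₀, h⟩ := Groth.Agent.Lib.Helper35.TwistExt.exists_twist_section hM hB t'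
    (f ⁻¹ᵁ CohB1.genLocus _ t) ht'.symm s₂
  obtain ⟨τ, hτ⟩ := h n₀ le_rfl
  have hL' := isInvertible_tensorMod hM (isInvertible_tensorPow hB n₀)
  obtain ⟨τ', hτ'⟩ := Groth.Agent.Lib.Lead.Inv.exists_section_of_iso (nonempty_tensorPow_one _) τ
  refine ⟨_, 1, τ', hL', le_rfl, ?_, ?_⟩
  · rw [hτ', hτ, hs₂]
    exact ⟨⟨x, hy⟩, hx₁, rfl⟩
  · rw [hτ', hτ, hs₂]
    exact haff₁.image_of_isOpenImmersion _

end Groth.Agent.Lib.Helper35.AmpleFamily
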