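import Mathlib
import Groth.Prelude.Def_Found
import Groth.Agent.Lib.Helper76.RegularLocal

/-!
Regular ring maps between fields: `k → K` is regular iff `K/k` is geometrically reduced.
-/

universe u

namespace Groth.Agent.Lib.Helper35.RegField

open TensorProduct

theorem isReduced_of_isRegularRing (R : Type u) [CommRing R] [IsRegularRing R] : IsReduced R := by
  apply isReduced_ofLocalizationMaximal
  intro J hJ
  haveI : IsDomain (Localization.AtPrime J) :=
    Groth.Agent.Lib.Helper76.isDomain_of_isRegularLocalRing _
  infer_instance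

theorem isRegularRing_of_isArtinianRing_of_isReduced (R : Type u) [CommRing R] [IsArtinianRing R]
    [IsReduced R] : IsRegularRing R := by
  rw [isRegularRing_iff]
  intro p hp
  have hF : IsField (Localization.AtPrime p) :=
    IsArtinianRing.isField_of_isReduced_of_isLocalRing _
  haveI := hF.isDomain
  haveI := hF.isPrincipalIdealRing
  infer_instance

variable (k K : Type u) [Field k] [Field K] [Algebra k K]

theorem isRegularHom_of_isGeometricallyReduced [Algebra.IsGeometricallyReduced k K] :
    CAlg.IsRegularHom k K := by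
  refine ⟨inferInstance, fun p hp => ?_⟩
  let e : k ≃ₐ[k] p.ResidueField := p.algEquivResidueFieldOfField
  refine ⟨?_, ?_⟩
  · let f : p.ResidueField ⊗[k] K ≃ₐ[k] K :=
      (Algebra.TensorProduct.congr e.symm AlgEquiv.refl).trans (Algebra.TensorProduct.lid k K)
    exact isNoetherianRing_of_ringEquiv K f.symm.toRingEquiv
  · intro k' _ _ hfin
    letI : Algebra k k' :=
      ((algebraMap p.ResidueField k').comp (algebraMap k p.ResidueField)).toAlgebra
    haveI : IsScalarTower k p.ResidueField k' := IsScalarTower.of_algebraMap_eq (fun _ => rfl)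
    haveI : Module.Finite k p.ResidueField := Module.Finite.equiv e.toLinearEquiv
    haveI : Module.Finite k k' := Module.Finite.trans p.ResidueField k'
    haveI : Algebra.IsAlgebraic k k' := Algebra.IsAlgebraic.of_finite k k'
    haveI : IsReduced (k' ⊗[k] K) := inferInstance
    let g : k' ⊗[p.ResidueField] (p.ResidueField ⊗[k] K) ≃ₐ[p.ResidueField] k' ⊗[k] K :=
      Algebra.TensorProduct.cancelBaseChange k p.ResidueField p.ResidueField k' K
    let c : k' ⊗[k] K ≃ₐ[k] K ⊗[k] k' := Algebra.TensorProduct.comm k k' K
    haveI : IsReduced (K ⊗[k] k') := isReduced_of_injective c.symm.toRingHom c.symm.injective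
    haveI : IsArtinianRing (K ⊗[k] k') := IsArtinianRing.of_finite K (K ⊗[k] k')
    haveI : IsRegularRing (K ⊗[k] k') := isRegularRing_of_isArtinianRing_of_isReduced _
    exact IsRegularRing.of_ringEquiv (c.symm.toRingEquiv.trans g.symm.toRingEquiv)

theorem isGeometricallyReduced_of_isRegularHom (h : CAlg.IsRegularHom k K) :
    Algebra.IsGeometricallyReduced k K := by
  rw [Algebra.isGeometricallyReduced_field_iff]
  obtain ⟨-, h⟩ := h
  obtain ⟨-, hreg⟩ := h ⊥
  let κ := (⊥ : Ideal k).ResidueField
  let e : k ≃ₐ[k] κ := (⊥ : Ideal k).algEquivResidueFieldOfField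
  -- it suffices to treat `K ⊗ k̄`
  suffices H : IsReduced (K ⊗[k] AlgebraicClosure k) by
    let c : AlgebraicClosure k ⊗[k] K ≃ₐ[k] K ⊗[k] AlgebraicClosure k :=
      Algebra.TensorProduct.comm k _ K
    exact isReduced_of_injective c.toRingHom c.injective
  apply IsReduced.tensorProduct_of_flat_of_forall_fg
  intro B hB
  -- `B` is a finite field extension of `k`
  haveI : Algebra.FiniteType k B := (Subalgebra.fg_iff_finiteType B).mp hB
  haveI : Algebra.IsIntegral k B := Algebra.IsIntegral.of_injective B.val Subtype.val_injective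
  haveI : Module.Finite k B := Algebra.IsIntegral.finite
  have hBf : IsField B := isField_of_isIntegral_of_isField' (Field.toIsField k)
  letI : Field B := hBf.toField
  letI : Algebra κ B := ((algebraMap k B).comp e.symm.toRingHom).toAlgebra
  haveI : IsScalarTower k κ B := IsScalarTower.of_algebraMap_eq (fun x => by
    change algebraMap k B x = algebraMap k B (e.symm (algebraMap k κ x))
    rw [← Ideal.algEquivResidueFieldOfField_apply, AlgEquiv.symm_apply_apply])
  haveI : Module.Finite κ B := Module.Finite.of_restrictScalars_finite k κ B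
  have h1 : IsRegularRing (B ⊗[κ] (κ ⊗[k] K)) := hreg B inferInstance
  let g : B ⊗[κ] (κ ⊗[k] K) ≃ₐ[κ] B ⊗[k] K :=
    Algebra.TensorProduct.cancelBaseChange k κ κ B K
  let c : B ⊗[k] K ≃ₐ[k] K ⊗[k] B := Algebra.TensorProduct.comm k B K
  haveI : IsRegularRing (K ⊗[k] B) :=
    IsRegularRing.of_ringEquiv (g.toRingEquiv.trans c.toRingEquiv)
  exact isReduced_of_isRegularRing _

end Groth.Agent.Lib.Helper35.RegField
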