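import Groth.Agent.Lib.Helper35.Ample1
import Groth.Agent.Lib.Lead.QCohLocal

/-!
# Invertible modules are quasi-coherent; on an affine scheme they are ample
-/

universe u

open CategoryTheory AlgebraicGeometry TopologicalSpace Opposite TensorProduct Limits

namespace Groth.Agent.Lib.Helper35.Ample

open Groth.Agent.Lib.Helper35.AbSheaf Groth.Agent.Lib.Helper35.GenLocus
open Groth.Agent.Lib.Helper35.Gen Groth.Agent.Lib.Helper35.GlobGen
open Groth.Agent.Lib.Helper35.ModRestrict Groth.Agent.Lib.Helper35.InvPush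

variable {X : Scheme.{u}}

theorem isQuasicoherent_unit (X : Scheme.{u}) :
    (SheafOfModules.unit X.ringCatSheaf).IsQuasicoherent := by
  have h : (SheafOfModules.free (R := X.ringCatSheaf) PUnit.{u+1}).IsQuasicoherent := inferInstance
  exact ObjectProperty.prop_of_iso (SheafOfModules.isQuasicoherent X.ringCatSheaf)
    (coproductUniqueIso (fun _ : PUnit.{u+1} => SheafOfModules.unit X.ringCatSheaf)) h

theorem isQuasicoherent_of_isInvertible {L : X.Modules} (hL : PicF.IsInvertible L) :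
    L.IsQuasicoherent := by
  apply Groth.Agent.Lib.Lead.QCohLocal.isQuasicoherent_of_forall_affine
  intro x
  obtain ⟨U₀, hx, e, he⟩ := exists_isGen_of_isInvertible hL x
  obtain ⟨U, hU, hxU, hUU₀⟩ := exists_isAffineOpen_mem_and_subset (x := x) (U := U₀) hx
  refine ⟨U, hU, hxU, ?_⟩
  obtain ⟨φ⟩ := Groth.Agent.Lib.Helper60.TwistLib.nonempty_restrict_iso_unit L hU.fromSpec U₀
    (hU.opensRange_fromSpec.le.trans hUU₀) e (fun W hW => he W hW)
  exact ObjectProperty.prop_of_iso (SheafOfModules.isQuasicoherent (Spec Γ(X, U)).ringCatSheaf)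
    φ.symm (isQuasicoherent_unit _)

/-- for invertible `L`, a section multiplied with a function `f` generates at most on `D(f)` -/
theorem genLocus_secHom_smul_le {L : X.Modules} (hL : PicF.IsInvertible L) (f : Γ(X, ⊤))
    (σ : Γ(L, ⊤)) : CohB1.genLocus L (secHom L (f • σ)) ≤ X.basicOpen f := by
  intro x hx
  obtain ⟨U, hxU, e, he⟩ := exists_isGen_of_isInvertible hL x
  obtain ⟨c, hc⟩ := he.exists_eq_smul (rs L le_top σ)
  have h1 := genLocus_inf_eq_basicOpen (secHom L (f • σ)) he (rr X le_top f * c) (by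
    rw [val_secHom, rs_smul, hc, mul_smul])
  have hx' : x ∈ CohB1.genLocus L (secHom L (f • σ)) ⊓ U := ⟨hx, hxU⟩
  rw [h1, Scheme.basicOpen_mul] at hx'
  have h2 : X.basicOpen (rr X (le_top : U ≤ ⊤) f) = U ⊓ X.basicOpen f :=
    Scheme.basicOpen_res X f (homOfLE le_top).op
  rw [h2] at hx'
  exact hx'.1.2

theorem isAmple_of_isAffine [IsAffine X] {L : X.Modules} (hL : PicF.IsInvertible L) :
    CohB1.IsAmple L := by
  refine ⟨hL, inferInstance, ?_⟩
  intro x
  haveI : L.IsQuasicoherent := isQuasicoherent_of_isInvertible hL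
  obtain ⟨U, hxU, e, he⟩ := exists_isGen_of_isInvertible hL x
  obtain ⟨_, ⟨f, rfl⟩, hxf, hfU⟩ := Opens.isBasis_iff_nbhd.mp (isBasis_basicOpen X) hxU
  obtain ⟨n, hn, σ, hσ⟩ := Groth.Agent.S4341.main X f L (rs L hfU e)
  -- the section `f • σ`
  let s₁ := secHom L (f • σ)
  have hle : CohB1.genLocus L s₁ ≤ X.basicOpen f := genLocus_secHom_smul_le hL f σ
  have hge : X.basicOpen f ≤ CohB1.genLocus L s₁ := by
    have h1 := genLocus_inf_eq_basicOpen s₁ (he.mono hfU)
      (rr X le_top f * (rr X le_top f) ^ n) (by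
        rw [val_secHom, rs_smul, mul_smul]
        congr 1)
    have h2 : X.basicOpen (rr X (le_top : X.basicOpen f ≤ ⊤) f) = X.basicOpen f ⊓ X.basicOpen f :=
      Scheme.basicOpen_res X f (homOfLE le_top).op
    rw [Scheme.basicOpen_mul, Scheme.basicOpen_pow X _ hn, h2, inf_idem, inf_idem] at h1
    exact inf_eq_right.mp h1
  have heq : CohB1.genLocus L s₁ = X.basicOpen f := le_antisymm hle hge
  refine ⟨0, SecTwist.tmulHom (𝟙 _) s₁, ?_⟩
  have h0 := genLocus_tmulHom (isInvertible_structureModule X) hL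
    (𝟙 (Coh.structureModule X)) s₁
  rw [genLocus_id, heq, top_inf_eq] at h0
  have h : CohB1.genLocus (CohB1.tensorPow L (0 + 1)) (SecTwist.tmulHom (𝟙 _) s₁) =
      X.basicOpen f := h0
  rw [h]
  exact ⟨hxf, (isAffineOpen_top X).basicOpen f⟩

end Groth.Agent.Lib.Helper35.Ample
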