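import Mathlib
import Groth.Agent.Lib.Helper35.Gen3
import Groth.Agent.Lib.Helper78.ModStalkExact
import Groth.Prelude.Def_Curv2

/-!
# Globally generated invertible modules: some generating section does not vanish at a given point
-/

universe u

open CategoryTheory CategoryTheory.Limits AlgebraicGeometry TopologicalSpace Opposite

namespace Groth.Agent.Lib.Helper35.GlobGen2

open Groth.Agent.Lib.Helper35.Gen Groth.Agent.Lib.Helper35.AbSheaf
  Groth.Agent.Lib.Helper78.ModStalk Groth.Agent.Lib.Helper78.ModStalkExact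

/-- In `Ab`, a colimit is generated by the images of the cocone legs. -/
theorem ab_closure_eq_top {J : Type u} [SmallCategory J] {F : J ⥤ AddCommGrpCat.{u}}
    (c : Cocone F) (hc : IsColimit c) :
    AddSubgroup.closure ((⋃ j, Set.range fun a : F.obj j => (c.ι.app j).hom a) : Set c.pt) = ⊤ := by
  set H := AddSubgroup.closure ((⋃ j, Set.range fun a : F.obj j => (c.ι.app j).hom a) : Set c.pt)
    with hH
  let π : c.pt ⟶ AddCommGrpCat.of (c.pt ⧸ H) := AddCommGrpCat.ofHom (QuotientAddGroup.mk' H)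
  have h0 : π = 0 := by
    apply hc.hom_ext
    intro j
    ext a
    have h1 : (c.ι.app j).hom a ∈ H :=
      AddSubgroup.subset_closure (Set.mem_iUnion.mpr ⟨j, ⟨a, rfl⟩⟩)
    have h2 : (QuotientAddGroup.mk' H) ((c.ι.app j).hom a) = 0 :=
      (QuotientAddGroup.eq_zero_iff _).mpr h1
    simpa [π] using h2
  rw [eq_top_iff]
  intro g _
  have h1 : π.hom g = 0 := by rw [h0]; rfl
  exact (QuotientAddGroup.eq_zero_iff g).mp h1

variable {X : Scheme.{u}}

/-- the stalk functor on `O_X`-modules, with values in abelian groups -/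
noncomputable def stk (x : X) : X.Modules ⥤ AddCommGrpCat.{u} :=
  toSh X ⋙ TopCat.Sheaf.forget Ab.{u} X ⋙ TopCat.Presheaf.stalkFunctor Ab.{u} x

theorem stk_map_hom {M N : X.Modules} (φ : M ⟶ N) (x : X) (z : M.presheaf.stalk x) :
    ((stk x).map φ).hom z = stalkMap φ x z := rfl

theorem stalkMap_comp {M N P : X.Modules} (φ : M ⟶ N) (ψ : N ⟶ P) (x : X)
    (z : M.presheaf.stalk x) : stalkMap (φ ≫ ψ) x z = stalkMap ψ x (stalkMap φ x z) := by
  rw [← stk_map_hom, ← stk_map_hom, ← stk_map_hom, Functor.map_comp]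
  rfl

instance (x : X) : PreservesColimitsOfSize.{u, u} (stk x) := by
  haveI h1 : PreservesColimitsOfSize.{u, u} (SheafOfModules.toSheaf.{u} X.ringCatSheaf) :=
    Groth.Agent.Lib.Helper42.ModSheaf.toSheaf_preservesColimitsOfSize X.ringCatSheaf
  haveI h2 : PreservesColimitsOfSize.{u, u}
      (TopCat.Sheaf.forget Ab.{u} X ⋙ TopCat.Presheaf.stalkFunctor Ab.{u} x) := inferInstance
  exact @comp_preservesColimits _ _ _ _ _ _ (SheafOfModules.toSheaf.{u} X.ringCatSheaf)
    (TopCat.Sheaf.forget Ab.{u} X ⋙ TopCat.Presheaf.stalkFunctor Ab.{u} x) h1 h2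

theorem free_stalk_closure (ι : Type u) (x : X) :
    AddSubgroup.closure (⋃ i : ι, Set.range
      (stalkMap (SheafOfModules.ιFree (R := X.ringCatSheaf) i) x)) = ⊤ := by
  have h := ab_closure_eq_top _
    (isColimitOfPreserves (stk x) (SheafOfModules.isColimitFreeCofan (R := X.ringCatSheaf) ι))
  rw [eq_top_iff] at h ⊢
  refine h.trans (AddSubgroup.closure_mono ?_)
  intro z hz
  obtain ⟨⟨i⟩, a, rfl⟩ := Set.mem_iUnion.mp hz
  exact Set.mem_iUnion.mpr ⟨i, ⟨a, rfl⟩⟩


theorem stalkMap_surjective_of_epi' {M N : X.Modules} (p : M ⟶ N) [Epi p] (x : X) :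
    Function.Surjective (stalkMap p x) := by
  have h0 : Epi ((toSh X).map p) := inferInstance
  have h1 : Epi ((TopCat.Sheaf.forget Ab.{u} X ⋙ TopCat.Presheaf.stalkFunctor Ab.{u} x).map
      ((toSh X).map p)) := inferInstance
  exact (AddCommGrpCat.epi_iff_surjective _).mp h1

lemma germ_rs (M : X.Modules) {U V : X.Opens} (h : V ≤ U) (x : X) (hx : x ∈ V) (m : Γ(M, U)) :
    M.presheaf.germ V x hx (rs M h m) = M.presheaf.germ U x (h hx) m :=
  TopCat.Presheaf.germ_res_apply M.presheaf (homOfLE h) x hx m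

/-- If an invertible module is a quotient of a free module, then at every point one of the
generating sections generates. -/
theorem exists_mem_genLocus_of_epi {L : X.Modules} (hL : PicF.IsInvertible L) {ι : Type u}
    (p : (SheafOfModules.free ι : X.Modules) ⟶ L) (hp : Epi p) (x : X) :
    ∃ i : ι, x ∈ CohB1.genLocus L (SheafOfModules.ιFree i ≫ p) := by
  by_contra hcon
  push_neg at hcon
  obtain ⟨U, hxU, e, he⟩ := exists_isGen_of_isInvertible hL x
  let P : L.presheaf.stalk x → Prop := fun y =>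
    ∃ (W : X.Opens) (hW : W ≤ U) (hx : x ∈ W) (c : Γ(X, W)),
      y = L.presheaf.germ W x hx (c • rs L hW e) ∧ x ∉ X.basicOpen c
  have hP : ∀ y, P y := by
    intro y
    obtain ⟨z, rfl⟩ := @stalkMap_surjective_of_epi' X _ _ p hp x y
    have hz : z ∈ AddSubgroup.closure (⋃ i : ι, Set.range
        (stalkMap (SheafOfModules.ιFree (R := X.ringCatSheaf) i) x)) := by
      rw [free_stalk_closure]; trivial
    induction hz using AddSubgroup.closure_induction with
    | mem z hz =>
      obtain ⟨i, a, rfl⟩ := Set.mem_iUnion.mp hz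
      rw [← stalkMap_comp]
      set t : Coh.structureModule X ⟶ L := SheafOfModules.ιFree i ≫ p with ht
      obtain ⟨V, hxV, r, rfl⟩ := (Coh.structureModule X).presheaf.exists_germ_eq (x := x) a
      have hxW : x ∈ V ⊓ U := ⟨hxV, hxU⟩
      have hWU : V ⊓ U ≤ U := inf_le_right
      rw [← germ_rs (Coh.structureModule X) (inf_le_left : V ⊓ U ≤ V) x hxW r, stalkMap_germ]
      set r' : Γ(X, V ⊓ U) := rs (Coh.structureModule X) (inf_le_left : V ⊓ U ≤ V) r with hr'
      obtain ⟨c, hc⟩ := (he.mono hWU).exists_eq_smul (SecTwist.val t (V ⊓ U))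
      have h1 := genLocus_inf_eq_basicOpen t (he.mono hWU) c hc
      refine ⟨V ⊓ U, hWU, hxW, r' * c, ?_, ?_⟩
      · have := app_eq_smul_val t (V ⊓ U) r'
        rw [mul_smul, ← hc]
        exact congrArg _ this
      · rw [Scheme.basicOpen_mul]
        intro hx
        have : x ∈ CohB1.genLocus L t ⊓ (V ⊓ U) := by rw [h1]; exact hx.2
        exact hcon i this.1
    | zero =>
      refine ⟨U, le_rfl, hxU, 0, ?_, ?_⟩
      · rw [zero_smul, map_zero, map_zero]
      · rw [Scheme.basicOpen_zero]; exact fun h => h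
    | add a b _ _ ha hb =>
      obtain ⟨W₁, hW₁, hx₁, c₁, hc₁, hn₁⟩ := ha
      obtain ⟨W₂, hW₂, hx₂, c₂, hc₂, hn₂⟩ := hb
      have hx : x ∈ W₁ ⊓ W₂ := ⟨hx₁, hx₂⟩
      refine ⟨W₁ ⊓ W₂, inf_le_left.trans hW₁, hx,
        rr X inf_le_left c₁ + rr X inf_le_right c₂, ?_, ?_⟩
      · rw [map_add, hc₁, hc₂, add_smul, map_add,
          ← germ_rs L (inf_le_left : W₁ ⊓ W₂ ≤ W₁) x hx,
          ← germ_rs L (inf_le_right : W₁ ⊓ W₂ ≤ W₂) x hx, rs_smul, rs_smul, rs_rs, rs_rs]
      · intro h
        rcases X.basicOpen_add_le _ _ h with h' | h'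
        · have h2 : x ∈ X.basicOpen (X.presheaf.map (homOfLE
              (inf_le_left : W₁ ⊓ W₂ ≤ W₁)).op c₁) := h'
          rw [Scheme.basicOpen_res] at h2
          exact hn₁ h2.2
        · have h2 : x ∈ X.basicOpen (X.presheaf.map (homOfLE
              (inf_le_right : W₁ ⊓ W₂ ≤ W₂)).op c₂) := h'
          rw [Scheme.basicOpen_res] at h2
          exact hn₂ h2.2
    | neg a _ ha =>
      obtain ⟨W₁, hW₁, hx₁, c₁, hc₁, hn₁⟩ := ha
      refine ⟨W₁, hW₁, hx₁, -c₁, ?_, ?_⟩
      · rw [map_neg, hc₁, neg_smul, map_neg]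
      · intro h
        have h2 : -c₁ = (-1) * c₁ := by ring
        rw [h2, Scheme.basicOpen_mul] at h
        exact hn₁ h.2
  obtain ⟨W, hW, hxW, c, hc, hxc⟩ := hP (L.presheaf.germ U x hxU e)
  obtain ⟨W', hxW', iU, iV, h⟩ := TopCat.Presheaf.germ_eq L.presheaf x hxU hxW _ _ hc
  have h' : rs L iU.le e = rs L iV.le (c • rs L hW e) := by
    have h1 := map_eq_res L.presheaf iU e
    have h2 := map_eq_res L.presheaf iV (c • rs L hW e)
    exact h1.symm.trans (h.trans h2)
  rw [rs_smul, rs_rs] at h'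
  have h3 : (1 : Γ(X, W')) • rs L iU.le e = rr X iV.le c • rs L iU.le e := by
    rw [one_smul]; exact h'
  have h4 := (he.mono iU.le).smul_injective h3
  have h5 : x ∈ X.basicOpen (X.presheaf.map (homOfLE iV.le).op c) := by
    have : X.presheaf.map (homOfLE iV.le).op c = 1 := h4.symm
    rw [this, Scheme.basicOpen_one]
    exact hxW'
  rw [Scheme.basicOpen_res] at h5
  exact hxc h5.2

/-- A globally generated invertible module has, at each point, a global section generating it
there. -/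
theorem exists_section_of_isGloballyGenerated {L : X.Modules} (hL : PicF.IsInvertible L)
    (hg : Curv2.IsGloballyGenerated L) (x : X) :
    ∃ t : Coh.structureModule X ⟶ L, x ∈ CohB1.genLocus L t := by
  obtain ⟨ι, p, hp⟩ := hg
  obtain ⟨i, hi⟩ := exists_mem_genLocus_of_epi hL p hp x
  exact ⟨_, hi⟩

end Groth.Agent.Lib.Helper35.GlobGen2
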