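import Mathlib
import Groth.Agent.Lib.Helper35.GlobGen2
import Groth.Agent.Lib.Helper35.Ample2

/-!
# Sections of invertible modules on quasi-affine schemes avoiding finitely many points
-/

universe u

open CategoryTheory CategoryTheory.Limits AlgebraicGeometry TopologicalSpace Opposite

namespace Groth.Agent.Lib.Helper35.QAffSec

open Groth.Agent.Lib.Helper35.Gen Groth.Agent.Lib.Helper35.GenLocus
  Groth.Agent.Lib.Helper35.GlobGen2 Groth.Agent.Lib.Helper35.Ample
  Groth.Agent.Lib.Helper35.GlobGen Groth.Agent.Lib.Helper35.InvPush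

variable {X : Scheme.{u}}

lemma not_mem_basicOpen_neg {U : X.Opens} (g : Γ(X, U)) (x : X) (h : x ∉ X.basicOpen g) :
    x ∉ X.basicOpen (-g) := by
  intro h'
  have h2 : -g = (-1) * g := by ring
  rw [h2, Scheme.basicOpen_mul] at h'
  exact h h'.2

lemma mem_basicOpen_add {U : X.Opens} (f g : Γ(X, U)) (x : X) (hf : x ∈ X.basicOpen f)
    (hg : x ∉ X.basicOpen g) : x ∈ X.basicOpen (f + g) := by
  have h1 : f = (f + g) + (-g) := by ring
  rw [h1] at hf
  rcases X.basicOpen_add_le _ _ hf with h | h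
  · exact h
  · exact absurd h (not_mem_basicOpen_neg g x hg)

lemma not_mem_basicOpen_sum {U : X.Opens} {ι : Type*} (F : Finset ι) (g : ι → Γ(X, U)) (x : X)
    (h : ∀ j ∈ F, x ∉ X.basicOpen (g j)) : x ∉ X.basicOpen (∑ j ∈ F, g j) := by
  classical
  induction F using Finset.induction_on with
  | empty => rw [Finset.sum_empty, Scheme.basicOpen_zero]; exact fun h => h
  | insert i F hi ih =>
    rw [Finset.sum_insert hi]
    intro hx
    rcases X.basicOpen_add_le _ _ hx with h' | h'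
    · exact h i (Finset.mem_insert_self i F) h'
    · exact ih (fun j hj => h j (Finset.mem_insert_of_mem hj)) h'

lemma basicOpen_rr_top (f : Γ(X, ⊤)) (U : X.Opens) :
    X.basicOpen (rr X (le_top : U ≤ ⊤) f) = U ⊓ X.basicOpen f :=
  Scheme.basicOpen_res X f (homOfLE le_top).op

/-- multiplying a section with a function intersects the generating locus with `D(f)` -/
theorem genLocus_secHom_smul {L : X.Modules} (hL : PicF.IsInvertible L) (f : Γ(X, ⊤))
    (σ : Γ(L, ⊤)) :
    CohB1.genLocus L (secHom L (f • σ)) = X.basicOpen f ⊓ CohB1.genLocus L (secHom L σ) := by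
  apply opens_eq_of_inf_eq
  intro x
  obtain ⟨U, hxU, e, he⟩ := exists_isGen_of_isInvertible hL x
  refine ⟨U, hxU, ?_⟩
  obtain ⟨c, hc⟩ := he.exists_eq_smul (rs L le_top σ)
  have h1 := genLocus_inf_eq_basicOpen (secHom L (f • σ)) he (rr X le_top f * c) (by
    rw [val_secHom, rs_smul, hc, mul_smul])
  have h2 := genLocus_inf_eq_basicOpen (secHom L σ) he c (by rw [val_secHom, hc])
  rw [h1, Scheme.basicOpen_mul, basicOpen_rr_top, inf_assoc (X.basicOpen f), h2]
  ext y
  constructor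
  · rintro ⟨⟨-, hy⟩, hy'⟩; exact ⟨hy, hy'⟩
  · rintro ⟨hy, hy'⟩; exact ⟨⟨X.basicOpen_le c hy', hy⟩, hy'⟩

/-- A linear combination generates at `x` when exactly one coefficient is invertible at `x`
and the corresponding section generates at `x`. -/
theorem mem_genLocus_secHom_sum {L : X.Modules} (hL : PicF.IsInvertible L) {ι : Type*}
    (F : Finset ι) (a : ι → Γ(X, ⊤)) (m : ι → Γ(L, ⊤)) (i : ι) (hi : i ∈ F) (x : X)
    (hxa : x ∈ X.basicOpen (a i)) (hxm : x ∈ CohB1.genLocus L (secHom L (m i)))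
    (hj : ∀ j ∈ F, j ≠ i → x ∉ X.basicOpen (a j)) :
    x ∈ CohB1.genLocus L (secHom L (∑ j ∈ F, a j • m j)) := by
  classical
  obtain ⟨U, hxU, e, he⟩ := exists_isGen_of_isInvertible hL x
  have hc : ∀ j, ∃ c : Γ(X, U), rs L le_top (m j) = c • e := fun j =>
    he.exists_eq_smul (rs L le_top (m j))
  choose c hc using hc
  have h1 := genLocus_inf_eq_basicOpen (secHom L (∑ j ∈ F, a j • m j)) he
    (∑ j ∈ F, rr X le_top (a j) * c j) (by
      rw [val_secHom, map_sum, Finset.sum_smul]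
      refine Finset.sum_congr rfl (fun j _ => ?_)
      rw [rs_smul, hc j, mul_smul])
  have h2 := genLocus_inf_eq_basicOpen (secHom L (m i)) he (c i) (by rw [val_secHom, hc i])
  have hx1 : x ∈ X.basicOpen (rr X (le_top : U ≤ ⊤) (a i) * c i) := by
    rw [Scheme.basicOpen_mul, basicOpen_rr_top]
    refine ⟨⟨hxU, hxa⟩, ?_⟩
    rw [← h2]
    exact ⟨hxm, hxU⟩
  have hx2 : x ∉ X.basicOpen (∑ j ∈ F.erase i, rr X (le_top : U ≤ ⊤) (a j) * c j) := by
    apply not_mem_basicOpen_sum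
    intro j hj'
    rw [Scheme.basicOpen_mul, basicOpen_rr_top]
    intro h
    exact hj j (Finset.mem_of_mem_erase hj') (Finset.ne_of_mem_erase hj') h.1.2
  have hx3 : x ∈ X.basicOpen (∑ j ∈ F, rr X (le_top : U ≤ ⊤) (a j) * c j) := by
    rw [← Finset.add_sum_erase F _ hi]
    exact mem_basicOpen_add _ _ x hx1 hx2
  rw [← h1] at hx3
  exact hx3.1

/-- In a `T0` space a finite set has a subset of pairwise non-specializing points to which all its
points specialize. -/
theorem exists_antichain {T : Type*} [TopologicalSpace T] [T0Space T] (E : Set T)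
    (hE : E.Finite) :
    ∃ E' : Set T, E' ⊆ E ∧ (∀ x ∈ E, ∃ x' ∈ E', x ⤳ x') ∧
      ∀ x ∈ E', ∀ y ∈ E', x ⤳ y → x = y := by
  letI := specializationPreorder T
  refine ⟨{b | Minimal (· ∈ E) b}, fun b hb => hb.1, ?_, ?_⟩
  · intro x hx
    obtain ⟨b, hbx, hb⟩ := hE.exists_le_minimal hx
    exact ⟨b, hb, hbx⟩
  · intro x hx y hy hxy
    have h1 : x ⤳ y := hxy
    have h2 : y ⤳ x := hx.2 hy.1 hxy
    exact (h1.antisymm h2).eq

/-- In a quasi-affine scheme, a finite subset of an open `W` is contained in an affine `X_f ⊆ W`. -/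
theorem exists_basicOpen_affine [X.IsQuasiAffine] (W : X.Opens) (E : Set X) (hE : E.Finite)
    (hEW : E ⊆ W) :
    ∃ f : Γ(X, ⊤), IsAffineOpen (X.basicOpen f) ∧ E ⊆ X.basicOpen f ∧ X.basicOpen f ≤ W := by
  classical
  by_cases hne : E.Nonempty
  swap
  · refine ⟨0, ?_, ?_, ?_⟩
    · rw [Scheme.basicOpen_zero]; exact isAffineOpen_bot X
    · rw [Set.not_nonempty_iff_eq_empty] at hne
      rw [hne]; exact Set.empty_subset _
    · rw [Scheme.basicOpen_zero]; exact bot_le
  obtain ⟨x₀, hx₀⟩ := hne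
  set Z : Set (PrimeSpectrum Γ(X, ⊤)) := ((X.toSpecΓ ''ᵁ W).1 : Set (PrimeSpectrum Γ(X, ⊤)))ᶜ
    with hZ
  have hZc : IsClosed Z := IsOpen.isClosed_compl (X.toSpecΓ ''ᵁ W).2
  set I := PrimeSpectrum.vanishingIdeal Z with hI
  have hnot : ¬ ((I : Set Γ(X, ⊤)) ⊆ ⋃ x ∈ (hE.toFinset : Set X),
      ((X.toSpecΓ x : PrimeSpectrum Γ(X, ⊤)).asIdeal : Set Γ(X, ⊤))) := by
    rw [Ideal.subset_union_prime x₀ x₀ (fun x _ _ _ => (X.toSpecΓ x : PrimeSpectrum _).isPrime)]
    rintro ⟨x, hx, hIx⟩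
    have hxE : x ∈ E := hE.mem_toFinset.mp hx
    have h1 : (X.toSpecΓ x : PrimeSpectrum Γ(X, ⊤)) ∈ PrimeSpectrum.zeroLocus (I : Set _) := hIx
    rw [hI, PrimeSpectrum.zeroLocus_vanishingIdeal_eq_closure, hZc.closure_eq] at h1
    exact h1 ⟨x, hEW hxE, rfl⟩
  obtain ⟨r, hrI, hr⟩ := Set.not_subset.mp hnot
  have hrD : ((PrimeSpectrum.basicOpen r : Set (PrimeSpectrum Γ(X, ⊤)))) ⊆
      ((X.toSpecΓ ''ᵁ W).1 : Set (PrimeSpectrum Γ(X, ⊤))) := by
    intro q hq
    by_contra hqW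
    exact hq ((PrimeSpectrum.mem_vanishingIdeal _ _).mp hrI q hqW)
  have hpre : X.basicOpen r = X.toSpecΓ ⁻¹ᵁ (PrimeSpectrum.basicOpen r) :=
    (X.toSpecΓ_preimage_basicOpen r).symm
  refine ⟨r, ?_, ?_, ?_⟩
  · rw [hpre, ← Scheme.Hom.isAffineOpen_iff_of_isOpenImmersion X.toSpecΓ]
    convert! IsAffineOpen.Spec_basicOpen r
    exact SetLike.coe_injective (Set.image_preimage_eq_of_subset
      (hrD.trans (Set.image_subset_range _ _)))
  · intro x hxE
    rw [hpre]
    intro hmem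
    exact hr (Set.mem_iUnion₂.mpr ⟨x, hE.mem_toFinset.mpr hxE, hmem⟩)
  · intro y hy
    rw [hpre] at hy
    obtain ⟨w, hwW, hwy⟩ := hrD hy
    have : w = y := X.toSpecΓ.isEmbedding.injective hwy
    exact this ▸ hwW


theorem secHom_surjective (L : X.Modules) (t : Coh.structureModule X ⟶ L) :
    ∃ m : Γ(L, ⊤), secHom L m = t := by
  refine ⟨sectionsTopEquiv L (L.unitHomEquiv t), ?_⟩
  rw [secHom, Equiv.symm_apply_apply, Equiv.symm_apply_apply]

/-- On a quasi-affine scheme, an invertible module has a section whose generating locus is affine,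
contains a given finite set and lies in a given open neighbourhood of it. -/
theorem exists_section_avoiding [X.IsQuasiAffine] (L : X.Modules) (hL : PicF.IsInvertible L)
    (W : X.Opens) (E : Set X) (hE : E.Finite) (hEW : E ⊆ W) :
    ∃ s : Coh.structureModule X ⟶ L, IsAffineOpen (CohB1.genLocus L s) ∧
      E ⊆ CohB1.genLocus L s ∧ CohB1.genLocus L s ≤ W := by
  classical
  haveI : L.IsQuasicoherent := isQuasicoherent_of_isInvertible hL
  have hgg := isGloballyGenerated_of_isQuasiAffine L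
  have hsec : ∀ x : X, ∃ m : Γ(L, ⊤), x ∈ CohB1.genLocus L (secHom L m) := by
    intro x
    obtain ⟨t, ht⟩ := exists_section_of_isGloballyGenerated hL hgg x
    obtain ⟨m, rfl⟩ := secHom_surjective L t
    exact ⟨m, ht⟩
  choose m hm using hsec
  obtain ⟨E', hE'E, hspec, hanti⟩ := exists_antichain E hE
  have hE' : E'.Finite := hE.subset hE'E
  have hsep : ∀ x : X, ∃ a : Γ(X, ⊤), x ∈ E' →
      (x ∈ X.basicOpen a ∧ ∀ y ∈ E', y ≠ x → y ∉ X.basicOpen a) := by
    intro x
    by_cases hx : x ∈ E'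
    swap
    · exact ⟨0, fun h => absurd h hx⟩
    let C : Set X := ⋃ y ∈ E' \ {x}, closure {y}
    have hC : IsClosed C := (hE'.subset Set.diff_subset).isClosed_biUnion
      (fun y _ => isClosed_closure)
    have hxC : x ∉ C := by
      intro h
      obtain ⟨y, hy, hxy⟩ := Set.mem_iUnion₂.mp h
      have h1 : y ⤳ x := specializes_iff_mem_closure.mpr hxy
      exact hy.2 (hanti y hy.1 x hx h1)
    let V : X.Opens := ⟨Cᶜ, hC.isOpen_compl⟩
    have hxV : x ∈ V := hxC
    obtain ⟨_, ⟨a, -, rfl⟩, hxa, haV⟩ :=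
      Opens.isBasis_iff_nbhd.mp (Scheme.IsQuasiAffine.isBasis_basicOpen X) hxV
    refine ⟨a, fun _ => ⟨hxa, fun y hy hyx hya => ?_⟩⟩
    have h1 : y ∈ C := Set.mem_iUnion₂.mpr ⟨y, ⟨hy, hyx⟩, subset_closure rfl⟩
    exact haV hya h1
  choose a ha using hsep
  set σ : Γ(L, ⊤) := ∑ x ∈ hE'.toFinset, a x • m x with hσ
  have h1 : E' ⊆ CohB1.genLocus L (secHom L σ) := by
    intro x hx
    refine mem_genLocus_secHom_sum hL hE'.toFinset a m x (hE'.mem_toFinset.mpr hx) x
      (ha x hx).1 (hm x) ?_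
    intro j hj hjx
    exact (ha j (hE'.mem_toFinset.mp hj)).2 x hx (Ne.symm hjx)
  have h2 : E ⊆ CohB1.genLocus L (secHom L σ) := by
    intro x hx
    obtain ⟨x', hx', hxx'⟩ := hspec x hx
    exact hxx'.mem_open (CohB1.genLocus L (secHom L σ)).isOpen (h1 hx')
  obtain ⟨f, hfaff, hEf, hfW⟩ := exists_basicOpen_affine (W ⊓ CohB1.genLocus L (secHom L σ)) E hE
    (fun x hx => ⟨hEW hx, h2 hx⟩)
  have h3 : CohB1.genLocus L (secHom L (f • σ)) = X.basicOpen f := by
    rw [genLocus_secHom_smul hL]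
    exact inf_eq_left.mpr (hfW.trans inf_le_right)
  refine ⟨secHom L (f • σ), ?_, ?_, ?_⟩
  · rw [h3]; exact hfaff
  · rw [h3]; exact hEf
  · rw [h3]; exact hfW.trans inf_le_left

end Groth.Agent.Lib.Helper35.QAffSec
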