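import Mathlib
import Groth.Agent.Lib.Helper35.QAffSec
import Groth.Agent.Lib.Helper35.ModRestrict

/-!
# Trivializing an invertible module around finitely many points of an affine open
-/

universe u

open CategoryTheory AlgebraicGeometry TopologicalSpace Opposite

namespace Groth.Agent.Lib.Helper35.Triv

open Groth.Agent.Lib.Helper35.Gen Groth.Agent.Lib.Helper35.AbSheaf Scheme.Modules
  Groth.Agent.Lib.Helper35.QAffSec

variable {X : Scheme.{u}}

/-- a generator of the restriction of `L` to an open subscheme is a generator of `L` -/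
theorem isGen_of_restrict (L : X.Modules) (U₀ : X.Opens) (G : (U₀ : Scheme.{u}).Opens)
    (e : Γ(L.restrict U₀.ι, G)) (he : IsGen (L.restrict U₀.ι) G e) :
    IsGen L (U₀.ι ''ᵁ G) (show Γ(L, U₀.ι ''ᵁ G) from e) := by
  intro W hW
  let W' : (U₀ : Scheme.{u}).Opens := U₀.ι ⁻¹ᵁ W
  have hW'G : W' ≤ G := by
    intro y hy
    obtain ⟨z, hz, hzy⟩ := hW hy
    have : z = y := U₀.ι.isOpenEmbedding.injective hzy
    exact this ▸ hz
  have hW' : U₀.ι ''ᵁ W' = W := by
    rw [Scheme.Hom.image_preimage_eq_opensRange_inf, Scheme.Opens.opensRange_ι]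
    exact inf_eq_right.mpr (hW.trans (U₀.ι_image_le G))
  have hle : U₀.ι ''ᵁ W' ≤ U₀.ι ''ᵁ G := Scheme.Hom.image_mono U₀.ι hW'G
  let x : Γ(L, U₀.ι ''ᵁ W') := rs L hle (show Γ(L, U₀.ι ''ᵁ G) from e)
  have hx : rs L hW'.ge x = rs L hW (show Γ(L, U₀.ι ''ᵁ G) from e) := by
    rw [rs_rs]
  rw [← hx, ← bij_smul_congr L hW' x]
  have h1 := he W' hW'G
  have hb2 : Function.Bijective (U₀.ι.appIso W').hom :=
    ConcreteCategory.bijective_of_isIso (U₀.ι.appIso W').hom
  have key : (fun r : Γ(X, U₀.ι ''ᵁ W') => r • x) =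
      (fun r' : Γ((U₀ : Scheme.{u}), W') => r' • rs (L.restrict U₀.ι) hW'G e) ∘
        (U₀.ι.appIso W').hom := by
    funext r
    change r • x = ((U₀.ι.appIso W').hom r) • rs (L.restrict U₀.ι) hW'G e
    have h4 : ((U₀.ι.appIso W').hom r) • rs (L.restrict U₀.ι) hW'G e =
        ((U₀.ι.appIso W').inv ((U₀.ι.appIso W').hom r) • x : Γ(L, U₀.ι ''ᵁ W')) := rfl
    rw [h4]
    congr 1
    exact (congrArg (fun f => f.hom r) (U₀.ι.appIso W').hom_inv_id).symm
  rw [key]
  exact h1.comp hb2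

/-- An invertible module is trivial on some affine open neighbourhood of any finite set of points
lying in a common affine open. -/
theorem exists_affine_trivial (L : X.Modules) (hL : PicF.IsInvertible L) (T : Finset X)
    (hU : ∃ U : X.Opens, IsAffineOpen U ∧ ∀ x ∈ T, x ∈ U) :
    ∃ U : X.Opens, IsAffineOpen U ∧ (∀ x ∈ T, x ∈ U) ∧
      Nonempty (L.restrict U.ι ≅ Coh.structureModule (↑U : Scheme.{u})) := by
  obtain ⟨U₀, hU₀, hT⟩ := hU
  haveI : IsAffine (U₀ : Scheme.{u}) := hU₀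
  have hL₀ : PicF.IsInvertible (L.restrict U₀.ι) :=
    Groth.Agent.Lib.Helper35.ModRestrict.isInvertible_restrict U₀.ι L hL
  let E : Set (U₀ : Scheme.{u}) := U₀.ι ⁻¹' (T : Set X)
  have hE : E.Finite :=
    Set.Finite.preimage (U₀.ι.isOpenEmbedding.injective.injOn) T.finite_toSet
  obtain ⟨s, haff, hEs, -⟩ := exists_section_avoiding (L.restrict U₀.ι) hL₀ ⊤ E hE
    (fun _ _ => trivial)
  have hgen : IsGen (L.restrict U₀.ι) (CohB1.genLocus _ s) (SecTwist.val s _) :=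
    (isGen_val_iff s _).mpr le_rfl
  have hgen' := isGen_of_restrict L U₀ _ _ hgen
  refine ⟨U₀.ι ''ᵁ CohB1.genLocus _ s, haff.image_of_isOpenImmersion U₀.ι, ?_, ?_⟩
  · intro x hx
    exact ⟨⟨x, hT x hx⟩, hEs (show (⟨x, hT x hx⟩ : (U₀ : Scheme.{u})) ∈ E from hx), rfl⟩
  · exact Groth.Agent.Lib.Helper60.TwistLib.nonempty_restrict_iso_unit L
      (U₀.ι ''ᵁ CohB1.genLocus _ s).ι (U₀.ι ''ᵁ CohB1.genLocus _ s)
      (Scheme.Opens.opensRange_ι _).le _ (fun W hW => hgen' W hW)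

end Groth.Agent.Lib.Helper35.Triv
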