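import Groth.Agent.Lib.Helper35.ResProp3

/-!
# Resolutions from an ample family of invertible modules
-/

set_option autoImplicit false
universe u

open AlgebraicGeometry CategoryTheory Opposite TopologicalSpace Limits

namespace Groth.Agent.Lib.Helper35.ResProp

open Groth.Agent.Lib.Helper35.GlobGen Groth.Agent.Lib.Helper35.Gen
open Groth.Agent.Lib.Helper35.AbSheaf Groth.Agent.Lib.Helper35.Dual
open Groth.Agent.Lib.Helper60.TensorLib

variable {X : Scheme.{u}}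

/-- `π` is locally surjective at the points of `Ω` -/
def LocSurjOn (Ω : X.Opens) {E F : X.Modules} (π : E ⟶ F) : Prop :=
  ∀ (V : X.Opens) (t : Γ(F, V)) (x : X), x ∈ V → x ∈ Ω → ∃ (W : X.Opens) (hW : W ≤ V), x ∈ W ∧
    ∃ z : Γ(E, W), (π.app W).hom z = F.presheaf.map (homOfLE hW).op t

theorem epi_of_locSurjOn {E F : X.Modules} (π : E ⟶ F) {ι : Type*} (Ω : ι → X.Opens)
    (hcov : ∀ x : X, ∃ i, x ∈ Ω i) (h : ∀ i, LocSurjOn (Ω i) π) : Epi π := by
  have h1 : Epi ((SheafOfModules.toSheaf _).map π) := by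
    refine (CategoryTheory.Sheaf.isLocallySurjective_iff_epi'
      (J := Opens.grothendieckTopology X) AddCommGrpCat _).mp ?_
    refine (TopCat.Presheaf.isLocallySurjective_iff (X := X.toTopCat) _).mpr ?_
    intro U t x hx
    obtain ⟨i, hi⟩ := hcov x
    obtain ⟨W, hW, hxW, z, hz⟩ := h i U t x hx hi
    exact ⟨W, hW, ⟨z, hz⟩, hxW⟩
  exact Functor.epi_of_epi_map (SheafOfModules.toSheaf _) h1

theorem locSurjOn_comp_of_eq {Ω : X.Opens} {E E' F : X.Modules} (ι : E ⟶ E') (π' : E' ⟶ F)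
    (π : E ⟶ F) (hπ : ι ≫ π' = π) (h : LocSurjOn Ω π) : LocSurjOn Ω π' := by
  intro V t x hxV hxΩ
  obtain ⟨W, hW, hxW, z, hz⟩ := h V t x hxV hxΩ
  refine ⟨W, hW, hxW, (ι.app W).hom z, ?_⟩
  rw [← hz, ← hπ]
  rfl

theorem locSurjOn_of_iso {Ω : X.Opens} {E E' F : X.Modules} (e : E' ≅ E) (π : E ⟶ F)
    (h : LocSurjOn Ω π) : LocSurjOn Ω (e.hom ≫ π) :=
  locSurjOn_comp_of_eq e.inv (e.hom ≫ π) π (by simp) h

/-- local generation by global sections at the points of `Ω` -/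
def LocSpanOn (Ω : X.Opens) (F : X.Modules) {κ : Type*} (σ : κ → Γ(F, ⊤)) : Prop :=
  ∀ (U : X.Opens) (t : Γ(F, U)) (x : X), x ∈ U → x ∈ Ω → ∃ (W : X.Opens) (hW : W ≤ U), x ∈ W ∧
    F.presheaf.map (homOfLE hW).op t ∈ Submodule.span Γ(X, W)
      (Set.range fun j => F.presheaf.map (homOfLE (le_top : W ≤ ⊤)).op (σ j))

/-- transport of `LocSpanOn` along an isomorphism -/
theorem locSpanOn_of_iso {Ω : X.Opens} {F G : X.Modules} (e : F ≅ G) {κ : Type*}
    (σ : κ → Γ(F, ⊤)) (hσ : LocSpanOn Ω F σ) :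
    LocSpanOn Ω G (fun j => (e.hom.app ⊤).hom (σ j)) := by
  intro U t x hxU hxΩ
  have hb : Function.Bijective (e.hom.app U) := app_bijective_of_isIso e.hom U
  obtain ⟨t₀, ht₀⟩ := hb.2 t
  obtain ⟨W, hW, hxW, hmem⟩ := hσ U t₀ x hxU hxΩ
  refine ⟨W, hW, hxW, ?_⟩
  let Ψ : Γ(F, W) →ₗ[Γ(X, W)] Γ(G, W) :=
    { toFun := fun y => (e.hom.app W).hom y
      map_add' := fun a b => map_add _ a b
      map_smul' := fun r a => Scheme.Modules.Hom.app_smul e.hom r a }
  have h1 : Ψ (F.presheaf.map (homOfLE hW).op t₀) = G.presheaf.map (homOfLE hW).op t := by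
    have := rs_app e.hom hW t₀
    rw [← ht₀]
    exact this.symm
  rw [← h1]
  have h2 := Submodule.mem_map_of_mem (f := Ψ) hmem
  rw [Submodule.map_span] at h2
  refine Submodule.span_mono ?_ h2
  rintro _ ⟨_, ⟨j, rfl⟩, rfl⟩
  exact ⟨j, rs_app e.hom (le_top : W ≤ ⊤) (σ j)⟩

open Groth.Agent.Lib.Lead.Inv in
/-- from finitely many sections of `M ⊗ A` generating at the points of `Ω` to a morphism from
copies of `O ⊗ N`, locally surjective at the points of `Ω` -/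
theorem exists_locSurjOn_of_locSpanOn (Ω : X.Opens) (M A N : X.Modules) (hA : PicF.IsInvertible A)
    (hN : PicF.IsInvertible N) (e : CohB1.tensorMod A N ≅ Coh.structureModule X) (k : ℕ)
    (σ : Fin k → Γ(CohB1.tensorMod M A, ⊤)) (hσ : LocSpanOn Ω (CohB1.tensorMod M A) σ) :
    ∃ π : (∐ fun _ : Fin k => CohB1.tensorMod (Coh.structureModule X) N) ⟶ M, LocSurjOn Ω π := by
  obtain ⟨ρ⟩ := nonempty_unit_right M
  let c : CohB1.tensorMod (CohB1.tensorMod M A) N ≅ M :=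
    assocIso (assocOK_of_mid_right (A := M) hA hN) ≪≫ tensorModCongrRight M e ≪≫ ρ
  let p : Fin k → (CohB1.tensorMod (Coh.structureModule X) N ⟶ M) :=
    fun j => mapLeft (secHom _ (σ j)) N ≫ c.hom
  refine ⟨Sigma.desc p, ?_⟩
  set π : (∐ fun _ : Fin k => CohB1.tensorMod (Coh.structureModule X) N) ⟶ M :=
    Sigma.desc p with hπ
  intro U t x hx hxΩ
  obtain ⟨U₁, hxU₁, ν, hν⟩ := exists_isGen_of_isInvertible hN x
  have hc : Function.Bijective (c.hom.app (U ⊓ U₁)) := app_bijective_of_isIso c.hom (U ⊓ U₁)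
  obtain ⟨w, hw⟩ := hc.2 (rs M (inf_le_left : U ⊓ U₁ ≤ U) t)
  obtain ⟨y, hy⟩ := (tm_right_bijective (CohB1.tensorMod M A) N ν hν (U ⊓ U₁)
    inf_le_right).2 w
  obtain ⟨W, hW, hxW, hmem⟩ := hσ (U ⊓ U₁) y x ⟨hx, hxU₁⟩ hxΩ
  refine ⟨W, hW.trans inf_le_left, hxW, ?_⟩
  let S : Submodule Γ(X, W) Γ(M, W) :=
    { carrier := Set.range (π.app W).hom
      add_mem' := by
        rintro _ _ ⟨a, rfl⟩ ⟨b, rfl⟩
        exact ⟨a + b, map_add _ a b⟩
      zero_mem' := ⟨0, map_zero _⟩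
      smul_mem' := by
        rintro r _ ⟨z, rfl⟩
        exact ⟨r • z, Scheme.Modules.Hom.app_smul π r z⟩ }
  let νW : Γ(N, W) := rs N (hW.trans inf_le_right) ν
  let Ψ : Γ(CohB1.tensorMod M A, W) →ₗ[Γ(X, W)] Γ(M, W) :=
    { toFun := fun y' => (c.hom.app W).hom (tm (CohB1.tensorMod M A) N y' νW)
      map_add' := by
        intro a b
        rw [tm_add_left, map_add]
      map_smul' := by
        intro r a
        rw [tm_smul_left]
        exact Scheme.Modules.Hom.app_smul c.hom r _ }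
  have hle : Submodule.span Γ(X, W) (Set.range fun j =>
      (CohB1.tensorMod M A).presheaf.map (homOfLE (le_top : W ≤ ⊤)).op (σ j)) ≤
      S.comap Ψ := by
    rw [Submodule.span_le]
    rintro _ ⟨j, rfl⟩
    refine ⟨((Sigma.ι (fun _ : Fin k => CohB1.tensorMod (Coh.structureModule X) N) j).app
      W).hom (tm (Coh.structureModule X) N
        (show Γ(Coh.structureModule X, W) from (1 : Γ(X, W))) νW), ?_⟩
    have e1 : Sigma.ι (fun _ : Fin k => CohB1.tensorMod (Coh.structureModule X) N) j ≫ π =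
        p j := by
      rw [hπ, Sigma.ι_desc]
    have e2 := congrArg (fun φ : CohB1.tensorMod (Coh.structureModule X) N ⟶ M =>
      (Scheme.Modules.Hom.app φ W).hom (tm (Coh.structureModule X) N
        (show Γ(Coh.structureModule X, W) from (1 : Γ(X, W))) νW)) e1
    refine e2.trans ?_
    change (c.hom.app W).hom (((mapLeft (secHom _ (σ j)) N).app W).hom _) = _
    rw [mapLeft_tm, secHom_app_one]
    rfl
  have h2 := hle hmem
  obtain ⟨z, hz⟩ := h2
  refine ⟨z, hz.trans ?_⟩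
  change (c.hom.app W).hom (tm (CohB1.tensorMod M A) N (rs _ hW y) νW) = _
  have h3 : tm (CohB1.tensorMod M A) N (rs _ hW y) νW = rs _ hW w := by
    rw [← hy, rs_tm, rs_rs]
  rw [h3, ← rs_app, ]
  have h4 : (c.hom.app (U ⊓ U₁)).hom w = rs M (inf_le_left : U ⊓ U₁ ≤ U) t := hw
  rw [h4, rs_rs]
  rfl

/-- the same with copies of `N` itself -/
theorem exists_locSurjOn_sigma (Ω : X.Opens) (M A N : X.Modules) (hA : PicF.IsInvertible A)
    (hN : PicF.IsInvertible N) (e : CohB1.tensorMod A N ≅ Coh.structureModule X) (k : ℕ)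
    (σ : Fin k → Γ(CohB1.tensorMod M A, ⊤)) (hσ : LocSpanOn Ω (CohB1.tensorMod M A) σ) :
    ∃ π : (∐ fun _ : Fin k => N) ⟶ M, LocSurjOn Ω π := by
  obtain ⟨π, hπ⟩ := exists_locSurjOn_of_locSpanOn Ω M A N hA hN e k σ hσ
  obtain ⟨u⟩ := nonempty_tensorMod_unit_left N
  exact ⟨(Sigma.mapIso (fun _ : Fin k => u.symm)).hom ≫ π, locSurjOn_of_iso _ π hπ⟩

section
open Groth.Agent.Lib.Lead.QCohAff Groth.Agent.Lib.Lead.Inv Groth.Agent.Lib.Lead.CohAff

/-- **Serre, local finite form**: `s : O ⟶ L` with `X_s` affine, `M` quasi-coherent of finite type;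
for all large `n`, finitely many global sections of `M ⊗ L^n` generate at the points of `X_s`. -/
theorem exists_locSpanOn [CompactSpace X] [QuasiSeparatedSpace X] {L : X.Modules}
    (hL : PicF.IsInvertible L) (s : Coh.structureModule X ⟶ L)
    (haff : IsAffineOpen (CohB1.genLocus L s)) (M : X.Modules) (hM : Coh.IsCoh M) :
    ∃ n₀ : ℕ, ∀ n, n₀ ≤ n → ∃ (k : ℕ)
      (σ : Fin k → Γ(CohB1.tensorMod M (CohB1.tensorPow L n), ⊤)),
      LocSpanOn (CohB1.genLocus L s) (CohB1.tensorMod M (CohB1.tensorPow L n)) σ := by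
  have := hM.1
  have fin : Module.Finite Γ(X, CohB1.genLocus _ s) Γ(M, CohB1.genLocus _ s) :=
    finite_sections_of_isFiniteType M hM.2 haff
  obtain ⟨T, hT⟩ := fin.fg_top
  obtain ⟨n₀, hn₀⟩ := exists_uniform_finset T
    (fun τ n => ∃ t' : Γ(CohB1.tensorMod M (CohB1.tensorPow L n), ⊤),
      (CohB1.tensorMod M (CohB1.tensorPow L n)).presheaf.map
        (homOfLE (le_top : CohB1.genLocus _ s ≤ ⊤)).op t' =
        tmul M (CohB1.tensorPow L n) τ (genPow (val s (CohB1.genLocus _ s)) n))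
    (fun τ _ => exists_twist_extends_ge hL s M τ)
  refine ⟨n₀, fun n hn => ?_⟩
  have h2 := hn₀ n hn
  choose t' ht' using h2
  let κ : Type u := {τ // τ ∈ T}
  haveI : Finite κ := inferInstance
  let σ₀ : κ → Γ(CohB1.tensorMod M (CohB1.tensorPow L n), ⊤) := fun j => t' j.1 j.2
  have hσ₀ : LocSpanOn (CohB1.genLocus L s) _ σ₀ := by
    intro U t x hxU hxs
    have hTi : Submodule.span Γ(X, CohB1.genLocus _ s)
        (Set.range fun τ : {τ // τ ∈ T} => (τ.1 : Γ(M, CohB1.genLocus _ s))) = ⊤ := by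
      rw [← hT]
      congr 1
      ext z
      simp
    exact spanGen_local_fin M s haff n
      (fun τ : {τ // τ ∈ T} => (τ.1 : Γ(M, CohB1.genLocus _ s))) hTi
      (fun τ => t' τ.1 τ.2) (fun τ => ht' τ.1 τ.2) U t x hxU hxs
  obtain ⟨k, ⟨e⟩⟩ := Finite.exists_equiv_fin κ
  refine ⟨k, σ₀ ∘ e.symm, ?_⟩
  intro U t x hxU hxs
  obtain ⟨W, hW, hxW, hmem⟩ := hσ₀ U t x hxU hxs
  refine ⟨W, hW, hxW, Submodule.span_mono ?_ hmem⟩
  rintro _ ⟨j, rfl⟩
  exact ⟨e j, by simp⟩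

end

/-- for `s : O ⟶ L` with `X_s` affine and all large `n`: a morphism from copies of `(L^n)^∨` to
`M`, locally surjective at the points of `X_s` -/
theorem exists_locSurjOn_dual [CompactSpace X] [QuasiSeparatedSpace X] {L : X.Modules}
    (hL : PicF.IsInvertible L) (s : Coh.structureModule X ⟶ L)
    (haff : IsAffineOpen (CohB1.genLocus L s)) (M : X.Modules) (hM : Coh.IsCoh M) :
    ∃ n₀ : ℕ, ∀ n, n₀ ≤ n → ∃ (k : ℕ)
      (π : (∐ fun _ : Fin k => dual (CohB1.tensorPow L n)) ⟶ M),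
      LocSurjOn (CohB1.genLocus L s) π := by
  obtain ⟨n₀, hn₀⟩ := exists_locSpanOn hL s haff M hM
  refine ⟨n₀, fun n hn => ?_⟩
  obtain ⟨k, σ, hσ⟩ := hn₀ n hn
  have hA : PicF.IsInvertible (CohB1.tensorPow L n) := Gen.isInvertible_tensorPow hL n
  obtain ⟨e⟩ := isInverseOf_dual' hA
  obtain ⟨π, hπ⟩ := exists_locSurjOn_sigma _ M _ (dual (CohB1.tensorPow L n)) hA
    (isInvertible_dual hA) e k σ hσ
  exact ⟨k, π, hπ⟩

/-- **resolution from a finite cover by affine `X_{s_a}`** -/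
theorem exists_epi_of_finite_cover [CompactSpace X] [QuasiSeparatedSpace X] (M : X.Modules)
    (hM : Coh.IsCoh M) {r : ℕ} (L : Fin r → X.Modules) (hL : ∀ a, PicF.IsInvertible (L a))
    (s : ∀ a, Coh.structureModule X ⟶ L a)
    (haff : ∀ a, IsAffineOpen (CohB1.genLocus (L a) (s a)))
    (hcov : ∀ x : X, ∃ a, x ∈ CohB1.genLocus (L a) (s a)) :
    ∃ (n : ℕ) (_ : 0 < n) (k : Fin r → ℕ)
      (π : (∐ fun a : Fin r => ∐ fun _ : Fin (k a) => dual (CohB1.tensorPow (L a) n)) ⟶ M),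
      Epi π := by
  obtain ⟨n₀, hn₀⟩ := Groth.Agent.Lib.Lead.Inv.exists_uniform_finite
    (fun (a : Fin r) n => ∃ (k : ℕ) (π : (∐ fun _ : Fin k => dual (CohB1.tensorPow (L a) n)) ⟶ M),
      LocSurjOn (CohB1.genLocus (L a) (s a)) π)
    (fun a => exists_locSurjOn_dual (hL a) (s a) (haff a) M hM)
  have h := hn₀ (n₀ + 1) (Nat.le_succ _)
  choose k π hπ using h
  refine ⟨n₀ + 1, Nat.succ_pos _, k, Sigma.desc π, ?_⟩
  refine epi_of_locSurjOn _ (fun a => CohB1.genLocus (L a) (s a)) hcov (fun a => ?_)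
  exact locSurjOn_comp_of_eq
    (Sigma.ι (fun a : Fin r => ∐ fun _ : Fin (k a) => dual (CohB1.tensorPow (L a) (n₀ + 1))) a)
    (Sigma.desc π) (π a) (Sigma.ι_desc _ _) (hπ a)

end Groth.Agent.Lib.Helper35.ResProp
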