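import Groth.Agent.S10848
import Groth.Agent.S0934
import Groth.Agent.Lib.Helper21.QCohKernel
import Groth.Agent.Lib.Helper21.CohNoeth
import Groth.Agent.Lib.Helper2.KerSec
import Groth.Agent.Lib.Helper2.LocFreeAff
import Groth.Agent.Lib.Helper7.FinLocFreePullback
import Groth.Agent.Lib.Lead.CohAff3
import Groth.Agent.Lib.Helper35.PbSec
import Groth.Agent.Lib.Helper35.ResFam
import Groth.Prelude.Def_PerfAux

/-!
# Lifting the resolution property along quasi-compact quasi-separated morphisms: the core step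
-/

set_option autoImplicit false
universe u

open AlgebraicGeometry CategoryTheory Opposite TopologicalSpace Limits

namespace Groth.Agent.Lib.Helper35.PushRes

open Groth.Agent.Lib.Helper35.GlobGen Groth.Agent.Lib.Helper35.AbSheaf
open Groth.Agent.Lib.Helper35.PbInv

theorem isFiniteType_freeMod (Z : Scheme.{u}) (k : ℕ) :
    SheafOfModules.IsFiniteType (R := Z.ringCatSheaf) (FlatMod.freeMod Z k) := by
  haveI := Groth.Agent.Lib.Helper2.LocFreeAff.freeMod_isQuasicoherent Z k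
  rw [Groth.Agent.Lib.Lead.CohAff.isFiniteType_iff_finite_sections]
  intro U hU
  obtain ⟨e⟩ := Groth.Agent.Lib.Helper2.LocFreeAff.nonempty_sections_freeMod_equiv Z k hU
  exact Module.Finite.equiv e.symm

variable {X Y : Scheme.{u}} (f : X ⟶ Y)

/-- **Core step.** `Y` qcqs with the resolution property, `f` qcqs, `P` quasi-coherent on `X`,
`V ⊆ Y` affine and finitely many sections `m_b` of `P` over `f⁻¹ V`: there is a finite locally
free `E` on `Y` and `φ : f^* E ⟶ P` such that every `m_b` is locally in the image of `φ`. -/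
theorem exists_local_lift_pullback [QuasiCompact f] [QuasiSeparated f] [CompactSpace Y]
    [QuasiSeparatedSpace Y] (hY : PerfAux.HasResolutionProperty Y) (P : X.Modules)
    [P.IsQuasicoherent] (V : Y.Opens) (hV : IsAffineOpen V) {k : ℕ}
    (m : Fin k → Γ(P, f ⁻¹ᵁ (V.ι ''ᵁ ⊤))) :
    ∃ (E : Y.Modules) (φ : (Scheme.Modules.pullback f).obj E ⟶ P), FlatMod.IsFinLocFree E ∧
      ∀ b, ∀ x ∈ f ⁻¹ᵁ (V.ι ''ᵁ ⊤), ∃ (W : X.Opens) (hW : W ≤ f ⁻¹ᵁ (V.ι ''ᵁ ⊤)), x ∈ W ∧
        ∃ z : Γ((Scheme.Modules.pullback f).obj E, W),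
          (φ.app W).hom z = P.presheaf.map (homOfLE hW).op (m b) := by
  let G : Y.Modules := (Scheme.Modules.pushforward f).obj P
  haveI : G.IsQuasicoherent :=
    Groth.Agent.Lib.Helper2.KerSec.isQuasicoherent_pushforward_of_qcqs f P
  let GV : (V : Scheme.{u}).Modules := G.restrict V.ι
  haveI : GV.IsQuasicoherent := inferInstance
  let m' : Fin k → Γ(GV, ⊤) := fun b => m b
  let ψ : FlatMod.freeMod (V : Scheme.{u}) k ⟶ GV := Sigma.desc (fun b => secHom GV (m' b))
  haveI := Groth.Agent.Lib.Helper2.LocFreeAff.freeMod_isQuasicoherent (V : Scheme.{u}) k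
  haveI : (cokernel ψ).IsQuasicoherent :=
    Groth.Agent.Lib.Helper21.QCohKernel.isQuasicoherent_cokernel ψ
  let F' : (V : Scheme.{u}).Modules := kernel (cokernel.π ψ)
  haveI : F'.IsQuasicoherent :=
    Groth.Agent.Lib.Helper21.QCohKernel.isQuasicoherent_kernel (cokernel.π ψ)
  let i' : F' ⟶ GV := kernel.ι (cokernel.π ψ)
  let q : FlatMod.freeMod (V : Scheme.{u}) k ⟶ F' := Abelian.factorThruImage ψ
  have hq : q ≫ i' = ψ := Abelian.image.fac ψ
  haveI : Epi q := inferInstance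
  have hFT : CohB1.IsFT F' :=
    Groth.Agent.Lib.Helper21.CohNoeth.isFiniteType_of_epi q (isFiniteType_freeMod _ k)
  obtain ⟨F, i, e, hmono, hqF, hftF, hcomp⟩ :=
    Groth.Agent.S10848.result V hV.isCompact G F' hFT i'
  obtain ⟨E, π, hE, hπ⟩ := hY F hqF hftF
  haveI := hπ
  refine ⟨E, ((Scheme.Modules.pullbackPushforwardAdjunction f).homEquiv E P).symm (π ≫ i), hE, ?_⟩
  intro b x hx
  let one_b : Γ(FlatMod.freeMod (V : Scheme.{u}) k, ⊤) :=
    ((Sigma.ι (fun _ : Fin k => Coh.structureModule (V : Scheme.{u})) b).app ⊤).hom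
      (show Γ(Coh.structureModule (V : Scheme.{u}), ⊤) from (1 : Γ((V : Scheme.{u}), ⊤)))
  let ν : Γ(F', ⊤) := (q.app ⊤).hom one_b
  have hν : (i'.app ⊤).hom ν = m' b := by
    have h1 : (i'.app ⊤).hom ν = (ψ.app ⊤).hom one_b := by
      rw [← hq]
      rfl
    rw [h1]
    have h2 : Sigma.ι (fun _ : Fin k => Coh.structureModule (V : Scheme.{u})) b ≫ ψ =
        secHom GV (m' b) := Sigma.ι_desc _ _
    have h3 : (ψ.app ⊤).hom one_b = ((secHom GV (m' b)).app ⊤).hom
        (1 : Γ((V : Scheme.{u}), ⊤)) := by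
      rw [← h2]
      rfl
    rw [h3, secHom_app_one]
    exact res_self _ _
  let n' : Γ(F.restrict V.ι, ⊤) := (e.inv.app ⊤).hom ν
  have hn' : (i.app (V.ι ''ᵁ ⊤)).hom n' = m b := by
    have h1 : (((Scheme.Modules.restrictFunctor V.ι).map i).app ⊤).hom n' =
        ((e.hom ≫ i').app ⊤).hom n' := by rw [hcomp]
    have h2 : ((e.hom ≫ i').app ⊤).hom n' = (i'.app ⊤).hom ν := by
      change (i'.app ⊤).hom ((e.hom.app ⊤).hom ((e.inv.app ⊤).hom ν)) = _
      have h3 : (e.hom.app ⊤).hom ((e.inv.app ⊤).hom ν) = ν := by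
        have := congrArg (fun ξ : F' ⟶ F' => (Scheme.Modules.Hom.app ξ ⊤).hom ν) e.inv_hom_id
        exact this
      rw [h3]
    exact (h1.trans h2).trans hν
  obtain ⟨V'', hV'', hyV'', ε, hε⟩ := Groth.Agent.S0934.exists_local_lift π (V.ι ''ᵁ ⊤) n' (f x) hx
  refine ⟨f ⁻¹ᵁ V'', f.preimage_mono hV'', hyV'', pbSec f E V'' ε, ?_⟩
  rw [adj_app]
  change (i.app V'').hom ((π.app V'').hom ε) = _
  have hε' : (π.app V'').hom ε = F.presheaf.map (homOfLE hV'').op n' := hε
  rw [hε']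
  have h4 := nat_res i.mapPresheaf hV'' n'
  refine h4.trans ?_
  change G.presheaf.map (homOfLE hV'').op ((i.app (V.ι ''ᵁ ⊤)).hom n') = _
  rw [hn']
  rfl

end Groth.Agent.Lib.Helper35.PushRes
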