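import Mathlib.RingTheory.TensorProduct.Nontrivial
import Mathlib.RingTheory.LocalRing.ResidueField.Ideal
import Mathlib.RingTheory.Spectrum.Prime.Basic
import Mathlib.RingTheory.Ideal.Quotient.Operations
import Mathlib.Tactic

set_option autoImplicit false

namespace Groth.Agent.Lib.Helper35

open TensorProduct

universe u₁ u₂ u₃

theorem exists_common_field {R : Type u₁} {KA : Type u₂} {KB : Type u₃}
    [CommRing R] [Field KA] [Field KB]
    (a : R →+* KA) (b : R →+* KB) (h : RingHom.ker a = RingHom.ker b) :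
    ∃ (L : Type (max u₂ u₃)) (_ : CommRing L) (_ : Nontrivial L) (u : KA →+* L) (v : KB →+* L),
      u.comp a = v.comp b := by
  let p := RingHom.ker a
  have hp : p.IsPrime := RingHom.ker_isPrime a
  let a' : R ⧸ p →+* KA := Ideal.Quotient.lift p a (fun r hr => hr)
  let b' : R ⧸ p →+* KB := Ideal.Quotient.lift p b (fun r hr => by
    have : r ∈ RingHom.ker b := h ▸ hr
    exact this)
  have ha' : Function.Injective a' := RingHom.lift_injective_of_ker_le_ideal p _ le_rfl
  have hb' : Function.Injective b' := RingHom.lift_injective_of_ker_le_ideal p _ (h ▸ le_rfl)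
  letI : Algebra (R ⧸ p) KA := a'.toAlgebra
  letI : Algebra (R ⧸ p) KB := b'.toAlgebra
  have hnt : Nontrivial (KA ⊗[R ⧸ p] KB) :=
    Algebra.TensorProduct.nontrivial_of_algebraMap_injective_of_isDomain (R ⧸ p) KA KB ha' hb'
  refine ⟨KA ⊗[R ⧸ p] KB, inferInstance, hnt, Algebra.TensorProduct.includeLeftRingHom,
    (Algebra.TensorProduct.includeRight : KB →ₐ[R ⧸ p] KA ⊗[R ⧸ p] KB).toRingHom, ?_⟩
  ext r
  change (a r) ⊗ₜ[R ⧸ p] (1 : KB) = (1 : KA) ⊗ₜ[R ⧸ p] (b r)
  have e1 : a r = (Ideal.Quotient.mk p r) • (1 : KA) := by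
    rw [Algebra.smul_def, mul_one]
    rfl
  have e2 : b r = (Ideal.Quotient.mk p r) • (1 : KB) := by
    rw [Algebra.smul_def, mul_one]
    rfl
  rw [e1, e2, TensorProduct.smul_tmul]

theorem exists_prime_tensor {R : Type u₁} {A : Type u₂} {B : Type u₃}
    [CommRing R] [CommRing A] [CommRing B] [Algebra R A] [Algebra R B]
    (P : Ideal A) [P.IsPrime] (Q : Ideal B) [Q.IsPrime]
    (h : P.comap (algebraMap R A) = Q.comap (algebraMap R B)) :
    ∃ 𝔮 : Ideal (A ⊗[R] B), 𝔮.IsPrime ∧
      𝔮.comap (Algebra.TensorProduct.includeLeftRingHom : A →+* A ⊗[R] B) = P ∧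
      𝔮.comap (Algebra.TensorProduct.includeRight : B →ₐ[R] A ⊗[R] B).toRingHom = Q := by
  let a : R →+* P.ResidueField := (algebraMap A P.ResidueField).comp (algebraMap R A)
  let b : R →+* Q.ResidueField := (algebraMap B Q.ResidueField).comp (algebraMap R B)
  have hab : RingHom.ker a = RingHom.ker b := by
    rw [← RingHom.comap_ker, ← RingHom.comap_ker, Ideal.ker_algebraMap_residueField,
      Ideal.ker_algebraMap_residueField, h]
  obtain ⟨L, _, _, u, v, huv⟩ := exists_common_field a b hab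
  letI : Algebra R L := (u.comp a).toAlgebra
  let FA : A →ₐ[R] L :=
    { u.comp (algebraMap A P.ResidueField) with commutes' := fun r => rfl }
  let FB : B →ₐ[R] L :=
    { v.comp (algebraMap B Q.ResidueField) with
      commutes' := fun r => (RingHom.congr_fun huv r).symm }
  let Φ := Algebra.TensorProduct.productMap FA FB
  obtain ⟨𝔐, h𝔐⟩ := Ideal.exists_maximal L
  have hprime : 𝔐.IsPrime := h𝔐.isPrime
  refine ⟨𝔐.comap Φ.toRingHom, Ideal.comap_isPrime _ _, ?_, ?_⟩
  · rw [Ideal.comap_comap]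
    have e : Φ.toRingHom.comp (Algebra.TensorProduct.includeLeftRingHom : A →+* A ⊗[R] B) =
        u.comp (algebraMap A P.ResidueField) := by
      ext x
      change Φ (x ⊗ₜ 1) = _
      rw [Algebra.TensorProduct.productMap_apply_tmul, map_one, mul_one]
      rfl
    rw [e, ← Ideal.comap_comap]
    have : 𝔐.comap u = ⊥ := Ideal.eq_bot_of_prime _
    rw [this, ← RingHom.ker_eq_comap_bot, Ideal.ker_algebraMap_residueField]
  · rw [Ideal.comap_comap]
    have e : Φ.toRingHom.comp
        (Algebra.TensorProduct.includeRight : B →ₐ[R] A ⊗[R] B).toRingHom =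
        v.comp (algebraMap B Q.ResidueField) := by
      ext x
      change Φ (1 ⊗ₜ x) = _
      rw [Algebra.TensorProduct.productMap_apply_tmul, map_one, one_mul]
      rfl
    rw [e, ← Ideal.comap_comap]
    have : 𝔐.comap v = ⊥ := Ideal.eq_bot_of_prime _
    rw [this, ← RingHom.ker_eq_comap_bot, Ideal.ker_algebraMap_residueField]

end Groth.Agent.Lib.Helper35
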