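import Mathlib.Topology.Constructible
import Mathlib.Topology.NoetherianSpace
import Mathlib.Topology.Sober

set_option autoImplicit false
universe u v

namespace Groth.Agent.Lib.Helper35

open Topology TopologicalSpace

variable {X : Type u} [TopologicalSpace X]

theorem constr_dichotomy {E : Set X} (hE : IsConstructible E) {Y : Set X} (hY : IsIrreducible Y) :
    (∃ U : Set X, IsOpen U ∧ (U ∩ Y).Nonempty ∧ U ∩ Y ⊆ E) ∨
      (∃ U : Set X, IsOpen U ∧ (U ∩ Y).Nonempty ∧ U ∩ Y ⊆ Eᶜ) := by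
  induction hE using IsConstructible.empty_union_induction with
  | open_retrocompact U hUopen _ =>
    by_cases h : (U ∩ Y).Nonempty
    · exact Or.inl ⟨U, hUopen, h, Set.inter_subset_left⟩
    · refine Or.inr ⟨Set.univ, isOpen_univ, by simpa using hY.nonempty, ?_⟩
      intro y hy hyU
      exact h ⟨y, hyU, hy.2⟩
  | union s _ t _ ihs iht =>
    rcases ihs with ⟨U, hU, hne, hsub⟩ | ⟨U, hU, hne, hsub⟩
    · exact Or.inl ⟨U, hU, hne, hsub.trans Set.subset_union_left⟩
    · rcases iht with ⟨V, hV, hne', hsub'⟩ | ⟨V, hV, hne', hsub'⟩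
      · exact Or.inl ⟨V, hV, hne', hsub'.trans Set.subset_union_right⟩
      · refine Or.inr ⟨U ∩ V, hU.inter hV, ?_, ?_⟩
        · have := hY.2 U V hU hV (by rwa [Set.inter_comm]) (by rwa [Set.inter_comm])
          rwa [Set.inter_comm]
        · intro y hy
          rw [Set.compl_union]
          exact ⟨hsub ⟨hy.1.1, hy.2⟩, hsub' ⟨hy.1.2, hy.2⟩⟩
  | compl s _ ih =>
    rcases ih with h | h
    · exact Or.inr (by simpa using h)
    · exact Or.inl h

theorem constr_exists_open_of_dense {E : Set X} (hE : IsConstructible E) {Y : Set X}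
    (hY : IsIrreducible Y) (hd : Y ⊆ closure (E ∩ Y)) :
    ∃ U : Set X, IsOpen U ∧ (U ∩ Y).Nonempty ∧ U ∩ Y ⊆ E := by
  rcases constr_dichotomy hE hY with h | ⟨U, hU, ⟨y, hyU, hyY⟩, hsub⟩
  · exact h
  · exfalso
    have hy := hd hyY
    rw [mem_closure_iff] at hy
    obtain ⟨z, hzU, hzE, hzY⟩ := hy U hU hyU
    exact hsub ⟨hzU, hzY⟩ hzE

theorem noeth_isConstructible_of_isOpen [NoetherianSpace X] {U : Set X} (hU : IsOpen U) :
    IsConstructible U :=
  IsRetrocompact.isConstructible hU (fun _ _ _ => NoetherianSpace.isCompact _)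

theorem noeth_isConstructible_of_isClosed [NoetherianSpace X] {Z : Set X} (hZ : IsClosed Z) :
    IsConstructible Z := by
  rw [← isConstructible_compl]
  exact noeth_isConstructible_of_isOpen hZ.isOpen_compl

theorem noeth_closed_induction [NoetherianSpace X] (P : Set X → Prop) (h0 : P ∅)
    (hunion : ∀ Z₁ Z₂ : Set X, IsClosed Z₁ → IsClosed Z₂ → P Z₁ → P Z₂ → P (Z₁ ∪ Z₂))
    (hirr : ∀ Z : Set X, IsClosed Z → IsIrreducible Z →
      (∀ Z' : Set X, IsClosed Z' → Z' ⊂ Z → P Z') → P Z) :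
    ∀ Z : Set X, IsClosed Z → P Z := by
  suffices H : ∀ Z : Closeds X, P (Z : Set X) from fun Z hZ => H ⟨Z, hZ⟩
  intro Z
  induction Z using WellFoundedLT.induction with
  | ind Z IH =>
    obtain ⟨Zs, hZs⟩ := Z
    have IH' : ∀ Z' : Set X, IsClosed Z' → Z' ⊂ Zs → P Z' := fun Z' hZ' hlt =>
      IH ⟨Z', hZ'⟩ (by exact hlt)
    show P Zs
    by_cases hne : Zs = ∅
    · rw [hne]; exact h0
    by_cases hpre : IsPreirreducible Zs
    · exact hirr _ hZs ⟨Set.nonempty_iff_ne_empty.mpr hne, hpre⟩ IH'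
    · rw [isPreirreducible_iff_isClosed_union_isClosed] at hpre
      push Not at hpre
      obtain ⟨z₁, z₂, hz₁, hz₂, hsub, h1, h2⟩ := hpre
      have e : Zs = (Zs ∩ z₁) ∪ (Zs ∩ z₂) := by
        rw [← Set.inter_union_distrib_left]
        exact (Set.inter_eq_left.mpr hsub).symm
      rw [e]
      refine hunion _ _ (hZs.inter hz₁) (hZs.inter hz₂) ?_ ?_
      · refine IH' _ (hZs.inter hz₁) ⟨Set.inter_subset_left, ?_⟩
        intro h
        exact h1 (fun x hx => (h hx).2)
      · refine IH' _ (hZs.inter hz₂) ⟨Set.inter_subset_left, ?_⟩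
        intro h
        exact h2 (fun x hx => (h hx).2)

omit [TopologicalSpace X] in
theorem sdiff_open_ssubset {Z U : Set X} (hne : (U ∩ Z).Nonempty) : Z \ U ⊂ Z := by
  refine ⟨Set.sdiff_subset, ?_⟩
  intro h
  obtain ⟨y, hyU, hyZ⟩ := hne
  exact (h hyZ).2 hyU

end Groth.Agent.Lib.Helper35
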