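import Groth.Agent.Lib.Helper35.Gen
import Groth.Agent.Lib.Helper60.Twist

/-!
# Local generators: API, tensor products and powers, invertibility
-/

universe u

open CategoryTheory AlgebraicGeometry TopologicalSpace Opposite TensorProduct

namespace Groth.Agent.Lib.Helper35.Gen

open Groth.Agent.Lib.Helper35.AbSheaf

variable {X : Scheme.{u}}

lemma rs_add (M : X.Modules) {U V : X.Opens} (h : V ≤ U) (m m' : Γ(M, U)) :
    rs M h (m + m') = rs M h m + rs M h m' := map_add _ _ _

lemma rs_zero (M : X.Modules) {U V : X.Opens} (h : V ≤ U) : rs M h (0 : Γ(M, U)) = 0 := map_zero _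

lemma rs_congr (M : X.Modules) {U V : X.Opens} (h h' : V ≤ U) (m : Γ(M, U)) :
    rs M h m = rs M h' m := rfl

theorem IsGen.mono {L : X.Modules} {U : X.Opens} {e : Γ(L, U)} (he : IsGen L U e) {V : X.Opens}
    (h : V ≤ U) : IsGen L V (rs L h e) := by
  intro W hW
  have := he W (hW.trans h)
  rw [← rs_rs L h hW e] at this
  exact this

theorem IsGen.bij {L : X.Modules} {U : X.Opens} {e : Γ(L, U)} (he : IsGen L U e) :
    Function.Bijective (fun r : Γ(X, U) => r • e) := by
  have := he U le_rfl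
  rw [rs_self] at this
  exact this

theorem IsGen.exists_eq_smul {L : X.Modules} {U : X.Opens} {e : Γ(L, U)} (he : IsGen L U e)
    (t : Γ(L, U)) : ∃ a : Γ(X, U), t = a • e := by
  obtain ⟨a, ha⟩ := he.bij.2 t
  exact ⟨a, ha.symm⟩

theorem IsGen.smul_injective {L : X.Modules} {U : X.Opens} {e : Γ(L, U)} (he : IsGen L U e)
    {a b : Γ(X, U)} (h : a • e = b • e) : a = b := he.bij.1 h

/-- `1` generates the structure sheaf -/
theorem isGen_one (U : X.Opens) :
    IsGen (Coh.structureModule X) U ((1 : Γ(X, U)) : Γ(Coh.structureModule X, U)) := by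
  intro W hW
  have h1 : rs (Coh.structureModule X) hW ((1 : Γ(X, U)) : Γ(Coh.structureModule X, U)) =
      ((1 : Γ(X, W)) : Γ(Coh.structureModule X, W)) :=
    PresheafOfModules.unit_map_one _ _
  rw [h1]
  have key : ∀ r : Γ(X, W), r • ((1 : Γ(X, W)) : Γ(Coh.structureModule X, W)) = r :=
    fun r => mul_one r
  exact ⟨fun a b hab => (key a).symm.trans (Eq.trans hab (key b)), fun t => ⟨t, key t⟩⟩

theorem IsGen.tm {M N : X.Modules} {U : X.Opens} {e₁ : Γ(M, U)} {e₂ : Γ(N, U)}
    (h₁ : IsGen M U e₁) (h₂ : IsGen N U e₂) : IsGen (CohB1.tensorMod M N) U (tm M N e₁ e₂) := by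
  intro W hW
  have hb := tm_right_bijective M N e₂ h₂ W hW
  have h3 : (fun r : Γ(X, W) => r • rs _ hW (Gen.tm M N e₁ e₂)) =
      (fun m : Γ(M, W) => Gen.tm M N m (rs N hW e₂)) ∘ (fun r : Γ(X, W) => r • rs M hW e₁) := by
    funext r
    simp only [Function.comp_apply]
    rw [rs_tm, tm_smul_left]
  rw [h3]
  exact hb.comp (h₁ W hW)

/-- powers of a local section -/
noncomputable def gpow {L : X.Modules} {U : X.Opens} (e : Γ(L, U)) :
    (n : ℕ) → Γ(CohB1.tensorPow L n, U)
  | 0 => ((1 : Γ(X, U)) : Γ(Coh.structureModule X, U))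
  | n + 1 => Gen.tm (CohB1.tensorPow L n) L (gpow e n) e

theorem IsGen.gpow {L : X.Modules} {U : X.Opens} {e : Γ(L, U)} (he : IsGen L U e) (n : ℕ) :
    IsGen (CohB1.tensorPow L n) U (Gen.gpow e n) := by
  induction n with
  | zero => exact isGen_one U
  | succ n ih => exact IsGen.tm ih he

theorem rs_gpow {L : X.Modules} {U V : X.Opens} (h : V ≤ U) (e : Γ(L, U)) (n : ℕ) :
    rs _ h (gpow e n) = gpow (rs L h e) n := by
  induction n with
  | zero => exact PresheafOfModules.unit_map_one _ _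
  | succ n ih =>
    change rs _ h (Gen.tm (CohB1.tensorPow L n) L (gpow e n) e) = _
    rw [rs_tm, ih]
    rfl

theorem gpow_smul {L : X.Modules} {U : X.Opens} (a : Γ(X, U)) (e : Γ(L, U)) (n : ℕ) :
    gpow (a • e) n = a ^ n • gpow e n := by
  induction n with
  | zero =>
    rw [pow_zero, one_smul]
    rfl
  | succ n ih =>
    change Gen.tm (CohB1.tensorPow L n) L (gpow (a • e) n) (a • e) =
      a ^ (n + 1) • Gen.tm (CohB1.tensorPow L n) L (gpow e n) e
    rw [ih, tm_smul_left, tm_smul_right, ← mul_smul, pow_succ]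

theorem pow_eq_gpow {L : X.Modules} (s : Coh.structureModule X ⟶ L) (n : ℕ) (U : X.Opens) :
    SecTwist.pow s n U = gpow (SecTwist.val s U) n := by
  induction n with
  | zero => rfl
  | succ n ih =>
    change SecTwist.tmul _ _ U (SecTwist.pow s n U) (SecTwist.val s U) = _
    rw [ih]
    rfl

lemma bij_smul_congr (L : X.Modules) {A B : X.Opens} (h : A = B) (x : Γ(L, A)) :
    Function.Bijective (fun r : Γ(X, A) => r • x) ↔
      Function.Bijective (fun r : Γ(X, B) => r • rs L h.ge x) := by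
  subst h
  rw [rs_self]

theorem isInvertible_of_isGen {L : X.Modules}
    (h : ∀ x : X, ∃ U : X.Opens, x ∈ U ∧ ∃ e : Γ(L, U), IsGen L U e) : PicF.IsInvertible L := by
  intro x
  obtain ⟨U, hxU, e, he⟩ := h x
  refine ⟨U, hxU, ?_⟩
  exact Groth.Agent.Lib.Helper60.TwistLib.nonempty_restrict_iso_unit L U.ι U
    (Scheme.Opens.opensRange_ι U).le e (fun W hW => he W hW)

theorem exists_isGen_of_iso {L : X.Modules} (U : X.Opens)
    (φ : L.restrict U.ι ≅ Coh.structureModule (U : Scheme.{u})) :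
    ∃ e : Γ(L, U), IsGen L U e := by
  let ψ : Coh.structureModule (U : Scheme.{u}) ⟶ L.restrict U.ι := φ.inv
  let e₀ : Γ(L, U.ι ''ᵁ ⊤) := (ψ.app ⊤).hom (1 : Γ((U : Scheme.{u}), ⊤))
  have hU : U ≤ U.ι ''ᵁ ⊤ := (Scheme.Opens.ι_image_top U).ge
  refine ⟨rs L hU e₀, ?_⟩
  intro W hW
  let W' : (U : Scheme.{u}).Opens := U.ι ⁻¹ᵁ W
  have hW' : U.ι ''ᵁ W' = W := by
    rw [Scheme.Hom.image_preimage_eq_opensRange_inf, Scheme.Opens.opensRange_ι]
    exact inf_eq_right.mpr hW
  have hle : U.ι ''ᵁ W' ≤ U.ι ''ᵁ ⊤ := Scheme.Hom.image_mono U.ι le_top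
  let x : Γ(L, U.ι ''ᵁ W') := rs L hle e₀
  have hx : rs L hW'.ge x = rs L hW (rs L hU e₀) := by
    rw [rs_rs, rs_rs]
  rw [← hx, ← bij_smul_congr L hW' x]
  -- now on `U.ι ''ᵁ W'`
  have hb : Function.Bijective (ψ.app W').hom :=
    (ConcreteCategory.isIso_iff_bijective _).mp inferInstance
  have hb2 : Function.Bijective (U.ι.appIso W').hom :=
    ConcreteCategory.bijective_of_isIso (U.ι.appIso W').hom
  have key : (fun r : Γ(X, U.ι ''ᵁ W') => r • x) =
      (ψ.app W').hom ∘ (U.ι.appIso W').hom := by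
    funext r
    change r • x = (ψ.app W').hom ((U.ι.appIso W').hom r)
    let one' : Γ(Coh.structureModule (U : Scheme.{u}), W') :=
      ((1 : Γ((U : Scheme.{u}), W')) : Γ(Coh.structureModule (U : Scheme.{u}), W'))
    have e1 : ∀ r' : Γ((U : Scheme.{u}), W'),
        r' • one' = (r' : Γ(Coh.structureModule (U : Scheme.{u}), W')) := fun r' => mul_one r'
    have h1 : (ψ.app W').hom ((U.ι.appIso W').hom r) =
        ((U.ι.appIso W').hom r) • (ψ.app W').hom one' := by
      have := Scheme.Modules.Hom.app_smul ψ ((U.ι.appIso W').hom r) one'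
      rw [e1] at this
      exact this
    have h2 : (ψ.app W').hom one' = x := by
      have nat := nat_res ψ.mapPresheaf (le_top : W' ≤ ⊤)
        (((1 : Γ((U : Scheme.{u}), ⊤)) : Γ(Coh.structureModule (U : Scheme.{u}), ⊤)))
      have h3 : res (Coh.structureModule (U : Scheme.{u})).presheaf (le_top : W' ≤ ⊤)
          (((1 : Γ((U : Scheme.{u}), ⊤)) : Γ(Coh.structureModule (U : Scheme.{u}), ⊤))) = one' :=
        PresheafOfModules.unit_map_one _ _
      rw [h3] at nat
      exact nat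
    rw [h1, h2]
    have h4 : ((U.ι.appIso W').hom r) • (show Γ(L.restrict U.ι, W') from x) =
        ((U.ι.appIso W').inv ((U.ι.appIso W').hom r) • x : Γ(L, U.ι ''ᵁ W')) := rfl
    rw [h4]
    congr 1
    exact (congrArg (fun f => f.hom r) (U.ι.appIso W').hom_inv_id).symm
  rw [key]
  exact hb.comp hb2


theorem exists_isGen_of_isInvertible {L : X.Modules} (hL : PicF.IsInvertible L) (x : X) :
    ∃ U : X.Opens, x ∈ U ∧ ∃ e : Γ(L, U), IsGen L U e := by
  obtain ⟨U, hxU, ⟨φ⟩⟩ := hL x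
  exact ⟨U, hxU, exists_isGen_of_iso U φ⟩

theorem isInvertible_tensorMod {M N : X.Modules} (hM : PicF.IsInvertible M)
    (hN : PicF.IsInvertible N) : PicF.IsInvertible (CohB1.tensorMod M N) := by
  apply isInvertible_of_isGen
  intro x
  obtain ⟨U₁, hx₁, e₁, he₁⟩ := exists_isGen_of_isInvertible hM x
  obtain ⟨U₂, hx₂, e₂, he₂⟩ := exists_isGen_of_isInvertible hN x
  exact ⟨U₁ ⊓ U₂, ⟨hx₁, hx₂⟩, _, IsGen.tm (he₁.mono inf_le_left) (he₂.mono inf_le_right)⟩

theorem isInvertible_tensorPow {L : X.Modules} (hL : PicF.IsInvertible L) (n : ℕ) :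
    PicF.IsInvertible (CohB1.tensorPow L n) := by
  apply isInvertible_of_isGen
  intro x
  obtain ⟨U, hx, e, he⟩ := exists_isGen_of_isInvertible hL x
  exact ⟨U, hx, _, he.gpow n⟩

end Groth.Agent.Lib.Helper35.Gen
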