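import Mathlib.Topology.Sheaves.Sheaf
import Mathlib.Topology.Sheaves.SheafCondition.UniqueGluing
import Mathlib.Algebra.Category.Grp.Basic
import Mathlib.Algebra.Category.Grp.Limits

/-!
Restriction maps of presheaves of abelian groups on a space, gluing, and a local-to-global
principle for bijectivity of `F(V) → F(V ⊓ U)`.
-/

set_option autoImplicit false
universe u

namespace Groth.Agent.Lib.Helper35.AbSheaf

open CategoryTheory TopologicalSpace Opposite

variable {X : TopCat.{u}}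

def res (P : TopCat.Presheaf AddCommGrpCat.{u} X) {U V : Opens X} (h : V ≤ U) :
    P.obj (op U) →+ P.obj (op V) := (P.map (homOfLE h).op).hom

lemma res_res (P : TopCat.Presheaf AddCommGrpCat.{u} X) {U V W : Opens X} (h₁ : V ≤ U)
    (h₂ : W ≤ V) (s : P.obj (op U)) : res P h₂ (res P h₁ s) = res P (h₂.trans h₁) s := by
  change (P.map (homOfLE h₁).op ≫ P.map (homOfLE h₂).op).hom s = _
  rw [← P.map_comp, ← op_comp, homOfLE_comp]
  rfl

lemma res_self (P : TopCat.Presheaf AddCommGrpCat.{u} X) {U : Opens X} (s : P.obj (op U)) :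
    res P (le_refl U) s = s := by
  change (P.map (homOfLE (le_refl U)).op).hom s = s
  have : (homOfLE (le_refl U)).op = 𝟙 (op U) := rfl
  rw [this, P.map_id]
  rfl

lemma map_eq_res (P : TopCat.Presheaf AddCommGrpCat.{u} X) {U V : Opens X} (i : V ⟶ U)
    (s : P.obj (op U)) : (P.map i.op).hom s = res P i.le s := by
  have : i = homOfLE i.le := Subsingleton.elim _ _
  rw [this]
  rfl

lemma nat_res {P Q : TopCat.Presheaf AddCommGrpCat.{u} X} (β : P ⟶ Q) {U V : Opens X}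
    (h : V ≤ U) (s : P.obj (op U)) :
    (β.app (op V)).hom (res P h s) = res Q h ((β.app (op U)).hom s) := by
  have := congrArg (fun φ => φ.hom s) (β.naturality (homOfLE h).op)
  exact this

lemma glue (P : TopCat.Presheaf AddCommGrpCat.{u} X) (hP : P.IsSheaf) {ι : Type u}
    (V : ι → Opens X) (g : ∀ i, P.obj (op (V i)))
    (compat : ∀ i j, res P (inf_le_left : V i ⊓ V j ≤ V i) (g i) =
      res P (inf_le_right : V i ⊓ V j ≤ V j) (g j)) :
    ∃ s : P.obj (op (iSup V)), ∀ i, res P (le_iSup V i) s = g i := by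
  obtain ⟨s, hs, -⟩ := TopCat.Sheaf.existsUnique_gluing
    (⟨P, hP⟩ : TopCat.Sheaf AddCommGrpCat.{u} X) V g
    (by
      intro i j
      change (P.map _).hom (g i) = (P.map _).hom (g j)
      rw [map_eq_res, map_eq_res]
      exact compat i j)
  refine ⟨s, fun i => ?_⟩
  have := hs i
  change (P.map _).hom s = g i at this
  rw [map_eq_res] at this
  exact this

lemma ext_cover (P : TopCat.Presheaf AddCommGrpCat.{u} X) (hP : P.IsSheaf) {ι : Type u}
    (V : ι → Opens X) {W : Opens X} (hV : ∀ i, V i ≤ W) (hW : W ≤ iSup V)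
    (s t : P.obj (op W)) (h : ∀ i, res P (hV i) s = res P (hV i) t) : s = t := by
  refine TopCat.Sheaf.eq_of_locally_eq' (⟨P, hP⟩ : TopCat.Sheaf AddCommGrpCat.{u} X) V W
    (fun i => homOfLE (hV i)) hW s t (fun i => ?_)
  exact h i

lemma glue' (P : TopCat.Presheaf AddCommGrpCat.{u} X) (hP : P.IsSheaf) {ι : Type u}
    (V : ι → Opens X) {W : Opens X} (hV : ∀ i, V i ≤ W) (hW : W ≤ iSup V)
    (g : ∀ i, P.obj (op (V i)))
    (compat : ∀ i j, res P (inf_le_left : V i ⊓ V j ≤ V i) (g i) =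
      res P (inf_le_right : V i ⊓ V j ≤ V j) (g j)) :
    ∃ s : P.obj (op W), ∀ i, res P (hV i) s = g i := by
  obtain ⟨s, hs⟩ := glue P hP V g compat
  refine ⟨res P hW s, fun i => ?_⟩
  rw [res_res]
  exact hs i

/-- Local-to-global principle: if `F(V) → F(V ⊓ U)` is bijective for all sufficiently small `V`,
it is bijective for all `V`. -/
theorem bijective_res_inf_of_local (P : TopCat.Presheaf AddCommGrpCat.{u} X) (hP : P.IsSheaf)
    (U : Opens X) {ι : Type u} (B : ι → Opens X) (hB : ∀ x : X, ∃ i, x ∈ B i)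
    (h : ∀ (V : Opens X) (i : ι), V ≤ B i →
      Function.Bijective (res P (inf_le_left : V ⊓ U ≤ V)))
    (V : Opens X) : Function.Bijective (res P (inf_le_left : V ⊓ U ≤ V)) := by
  have hcov : V ≤ ⨆ i, V ⊓ B i := by
    intro x hx
    obtain ⟨i, hi⟩ := hB x
    exact Opens.mem_iSup.mpr ⟨i, hx, hi⟩
  have hcovU : V ⊓ U ≤ ⨆ i, (V ⊓ B i) ⊓ U := by
    intro x hx
    obtain ⟨i, hi⟩ := hB x
    exact Opens.mem_iSup.mpr ⟨i, ⟨hx.1, hi⟩, hx.2⟩
  have hVi : ∀ i, V ⊓ B i ≤ V := fun i => inf_le_left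
  have hWi : ∀ i, (V ⊓ B i) ⊓ U ≤ V ⊓ U := fun i => inf_le_inf_right U inf_le_left
  constructor
  · intro s t hst
    refine ext_cover P hP (fun i => V ⊓ B i) hVi hcov s t (fun i => ?_)
    apply (h (V ⊓ B i) i inf_le_right).1
    rw [res_res, res_res]
    have e1 : res P ((inf_le_left : (V ⊓ B i) ⊓ U ≤ V ⊓ B i).trans (hVi i)) s =
        res P (hWi i) (res P (inf_le_left : V ⊓ U ≤ V) s) := by rw [res_res]
    have e2 : res P ((inf_le_left : (V ⊓ B i) ⊓ U ≤ V ⊓ B i).trans (hVi i)) t =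
        res P (hWi i) (res P (inf_le_left : V ⊓ U ≤ V) t) := by rw [res_res]
    rw [e1, e2, hst]
  · intro t
    have hsi : ∀ i, ∃ si : P.obj (op (V ⊓ B i)),
        res P (inf_le_left : (V ⊓ B i) ⊓ U ≤ V ⊓ B i) si = res P (hWi i) t :=
      fun i => (h (V ⊓ B i) i inf_le_right).2 _
    choose sf hsf using hsi
    obtain ⟨s, hs⟩ := glue' P hP (fun i => V ⊓ B i) hVi hcov sf (by
      intro i j
      apply (h ((V ⊓ B i) ⊓ (V ⊓ B j)) i (inf_le_left.trans inf_le_right)).1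
      rw [res_res, res_res]
      have e1 : res P ((inf_le_left : ((V ⊓ B i) ⊓ (V ⊓ B j)) ⊓ U ≤ _).trans
          (inf_le_left : (V ⊓ B i) ⊓ (V ⊓ B j) ≤ V ⊓ B i)) (sf i) =
          res P (inf_le_inf_right U inf_le_left : ((V ⊓ B i) ⊓ (V ⊓ B j)) ⊓ U ≤ (V ⊓ B i) ⊓ U)
            (res P (inf_le_left : (V ⊓ B i) ⊓ U ≤ V ⊓ B i) (sf i)) := by rw [res_res]
      have e2 : res P ((inf_le_left : ((V ⊓ B i) ⊓ (V ⊓ B j)) ⊓ U ≤ _).trans
          (inf_le_right : (V ⊓ B i) ⊓ (V ⊓ B j) ≤ V ⊓ B j)) (sf j) =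
          res P (inf_le_inf_right U inf_le_right : ((V ⊓ B i) ⊓ (V ⊓ B j)) ⊓ U ≤ (V ⊓ B j) ⊓ U)
            (res P (inf_le_left : (V ⊓ B j) ⊓ U ≤ V ⊓ B j) (sf j)) := by rw [res_res]
      rw [e1, e2, hsf, hsf, res_res, res_res])
    refine ⟨s, ?_⟩
    refine ext_cover P hP (fun i => (V ⊓ B i) ⊓ U) hWi hcovU _ _ (fun i => ?_)
    rw [res_res, ← hsf i, ← hs i, res_res]

end Groth.Agent.Lib.Helper35.AbSheaf
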