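import Groth.Agent.Lib.Helper35.Twist1
import Groth.Agent.Lib.Helper35.Ample2

/-!
# Sections of tensor powers with prescribed generating locus (towards EGA II 4.5.2)
-/

universe u

open CategoryTheory AlgebraicGeometry TopologicalSpace Opposite

namespace Groth.Agent.Lib.Helper35.Ample

open Groth.Agent.Lib.Helper35.AbSheaf Groth.Agent.Lib.Helper35.QcohSec
open Groth.Agent.Lib.Helper35.Cocycle Groth.Agent.Lib.Helper35.Gen
open Groth.Agent.Lib.Helper35.GlobGen

variable {X : Scheme.{u}} {L : X.Modules}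

theorem rs_unit {U V : X.Opens} (h : V ≤ U) (x : Γ(X, U)) :
    rs (Coh.structureModule X) h (x : Γ(Coh.structureModule X, U)) = rr X h x := rfl

theorem smul_unit {U : X.Opens} (r x : Γ(X, U)) :
    (r • (x : Γ(Coh.structureModule X, U)) : Γ(Coh.structureModule X, U)) = r * x := rfl

/-- **Key proposition**: for a section `s` of `L^{⊗p}` and a function `a` on `X_s`, some
`L^{⊗ p(k+1)}` has a section whose generating locus is `D(a) ⊆ X_s`. -/
theorem exists_section_genLocus_eq_basicOpen [CompactSpace X] [QuasiSeparatedSpace X]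
    (hL : PicF.IsInvertible L) (p : ℕ) (s : Coh.structureModule X ⟶ CohB1.tensorPow L p)
    (a : Γ(X, CohB1.genLocus _ s)) :
    ∃ (k : ℕ) (s' : Coh.structureModule X ⟶ CohB1.tensorPow L (p * (k + 1))),
      CohB1.genLocus _ s' = X.basicOpen a := by
  obtain ⟨C⟩ := exists_genCover hL
  haveI : (Coh.structureModule X).IsQuasicoherent := isQuasicoherent_unit X
  -- local equations of `s`
  have key : ∃ (c : ∀ i : C.ι, Γ(X, C.V i)) (n : ℕ) (_ : 0 < n) (x : ∀ i : C.ι, Γ(X, C.V i)),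
      (∀ i : C.ι, X.basicOpen (c i) = CohB1.genLocus _ s ⊓ C.V i) ∧
      (∀ i j : C.ι, rr X (inf_le_left : C.V i ⊓ C.V j ≤ C.V i) (c i) =
        C.u i j ^ p * rr X (inf_le_right : C.V i ⊓ C.V j ≤ C.V j) (c j)) ∧
      (∀ i : C.ι, rr X (inf_le_right : CohB1.genLocus _ s ⊓ C.V i ≤ C.V i) (x i) =
        (rr X (inf_le_right : CohB1.genLocus _ s ⊓ C.V i ≤ C.V i) (c i)) ^ n *
          rr X (inf_le_left : CohB1.genLocus _ s ⊓ C.V i ≤ CohB1.genLocus _ s) a) ∧
      (∀ i j : C.ι, rr X (inf_le_left : C.V i ⊓ C.V j ≤ C.V i) (x i) =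
        (C.u i j ^ p) ^ n * rr X (inf_le_right : C.V i ⊓ C.V j ≤ C.V j) (x j)) := by
    obtain ⟨n, hn, x, hx1, hx2⟩ :=
      ((C.pow p).data s).exists_extension (Coh.structureModule X) a
    exact ⟨(C.pow p).c s, n, hn, x, ((C.pow p).data s).hU, ((C.pow p).data s).hcu, hx1, hx2⟩
  obtain ⟨c, n, hn, x, hc, hcu, hx1', hx2'⟩ := key
  -- the glued section
  let G := CohB1.tensorPow L (p * (n + 1))
  have hglue : ∃ g : Γ(G, ⊤), ∀ i : C.ι, rs G (le_top : C.V i ≤ ⊤) g =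
      (c i * x i) • gpow (C.e i) (p * (n + 1)) := by
    have hcov : (⊤ : X.Opens) ≤ iSup C.V := by
      intro y _
      obtain ⟨i, hi⟩ := C.cover y
      exact Opens.mem_iSup.mpr ⟨i, hi⟩
    refine glue' G.presheaf G.isSheaf C.V (fun _ => le_top) hcov
      (fun i => (c i * x i) • gpow (C.e i) (p * (n + 1))) ?_
    intro i j
    change rs G inf_le_left ((c i * x i) • gpow (C.e i) (p * (n + 1))) =
      rs G inf_le_right ((c j * x j) • gpow (C.e j) (p * (n + 1)))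
    rw [rs_smul, rs_smul, C.gpow_trans (p * (n + 1)) i j (C.V i ⊓ C.V j) le_rfl, rr_self,
      ← mul_smul, map_mul, map_mul, hcu i j, hx2' i j]
    congr 1
    ring
  obtain ⟨g, hg⟩ := hglue
  refine ⟨n, secHom G g, ?_⟩
  apply opens_eq_of_inf_eq
  intro y
  obtain ⟨i, hyi⟩ := C.cover y
  refine ⟨C.V i, hyi, ?_⟩
  have h1 := genLocus_inf_eq_basicOpen (secHom G g) ((C.he i).gpow (p * (n + 1)))
    (c i * x i) (by rw [val_secHom, hg i])
  rw [h1, Scheme.basicOpen_mul, hc i]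
  -- `D(x i) ⊓ (U ⊓ V i) = D(a) ⊓ V i`
  have h2 : (CohB1.genLocus _ s ⊓ C.V i) ⊓ X.basicOpen (x i) =
      X.basicOpen (rr X (inf_le_right : CohB1.genLocus _ s ⊓ C.V i ≤ C.V i) (x i)) :=
    (basicOpen_rr _ _).symm
  rw [h2, hx1' i, Scheme.basicOpen_mul, Scheme.basicOpen_pow X _ hn, basicOpen_rr, basicOpen_rr,
    hc i]
  ext z
  simp only [Opens.coe_inf, Set.mem_inter_iff, SetLike.mem_coe]
  have := X.basicOpen_le a
  constructor
  · rintro ⟨_, ⟨_, hz2⟩, hz3⟩
    exact ⟨hz3, hz2⟩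
  · rintro ⟨hz1, hz2⟩
    exact ⟨⟨⟨this hz1, hz2⟩, this hz1, hz2⟩, ⟨this hz1, hz2⟩, hz1⟩

end Groth.Agent.Lib.Helper35.Ample
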