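import Mathlib
import Groth.Agent.Lib.Helper35.GlobGen2
import Groth.Agent.Lib.Helper35.Ample1
import Groth.Agent.Lib.Helper35.AffDiag

/-!
# An ample module from enough globally generated invertible modules
-/

universe u

open CategoryTheory CategoryTheory.Limits AlgebraicGeometry TopologicalSpace Opposite

namespace Groth.Agent.Lib.Helper35.AmpleFam

open Groth.Agent.Lib.Helper35.Gen Groth.Agent.Lib.Helper35.GenLocus
  Groth.Agent.Lib.Helper35.GlobGen2 Groth.Agent.Lib.Helper35.Ample
  Groth.Agent.Lib.Helper35.AffDiag Groth.Agent.Lib.Helper35.InvPush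

variable {X : Scheme.{u}}

theorem isAffineOpen_genLocus_tmulHom_left {L L' : X.Modules} (hL : PicF.IsInvertible L)
    (hL' : PicF.IsInvertible L') (f : Coh.structureModule X ⟶ L)
    (g : Coh.structureModule X ⟶ L') (hf : IsAffineOpen (CohB1.genLocus L f)) :
    IsAffineOpen (CohB1.genLocus (CohB1.tensorMod L L') (SecTwist.tmulHom f g)) := by
  rw [genLocus_tmulHom hL hL', inf_comm]
  haveI := isAffineHom_genLocus_ι L' hL' g
  exact isAffineOpen_inf_of_isAffineHom _ _ hf

theorem isAffineOpen_genLocus_tmulHom_right {L L' : X.Modules} (hL : PicF.IsInvertible L)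
    (hL' : PicF.IsInvertible L') (f : Coh.structureModule X ⟶ L)
    (g : Coh.structureModule X ⟶ L') (hg : IsAffineOpen (CohB1.genLocus L' g)) :
    IsAffineOpen (CohB1.genLocus (CohB1.tensorMod L L') (SecTwist.tmulHom f g)) := by
  rw [genLocus_tmulHom hL hL']
  haveI := isAffineHom_genLocus_ι L hL f
  exact isAffineOpen_inf_of_isAffineHom _ _ hg

theorem exists_isAmple_of_cover [CompactSpace X]
    (h : ∀ x : X, ∃ (L : X.Modules) (s : Coh.structureModule X ⟶ L), PicF.IsInvertible L ∧
      Curv2.IsGloballyGenerated L ∧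
      x ∈ CohB1.genLocus L s ∧ IsAffineOpen (CohB1.genLocus L s)) :
    ∃ M : X.Modules, CohB1.IsAmple M := by
  classical
  choose L s hinv hgg hx haff using h
  have key : ∀ T : Finset X, ∃ M : X.Modules, PicF.IsInvertible M ∧
      (∀ y : X, ∃ t : Coh.structureModule X ⟶ M, y ∈ CohB1.genLocus M t) ∧
      ∀ x ∈ T, ∀ y ∈ CohB1.genLocus (L x) (s x), ∃ t : Coh.structureModule X ⟶ M,
        y ∈ CohB1.genLocus M t ∧ IsAffineOpen (CohB1.genLocus M t) := by
    intro T
    induction T using Finset.induction_on with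
    | empty =>
      refine ⟨Coh.structureModule X, isInvertible_structureModule X, fun y => ⟨𝟙 _, ?_⟩, ?_⟩
      · rw [genLocus_id]; trivial
      · intro x hx'; simp at hx'
    | insert x T hxT ih =>
      obtain ⟨M', hM', hgen', haff'⟩ := ih
      refine ⟨CohB1.tensorMod (L x) M', isInvertible_tensorMod (hinv x) hM', ?_, ?_⟩
      · intro y
        obtain ⟨t₁, ht₁⟩ := exists_section_of_isGloballyGenerated (hinv x) (hgg x) y
        obtain ⟨t₂, ht₂⟩ := hgen' y
        refine ⟨SecTwist.tmulHom t₁ t₂, ?_⟩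
        rw [genLocus_tmulHom (hinv x) hM']
        exact ⟨ht₁, ht₂⟩
      · intro x' hx' y hy
        rcases Finset.mem_insert.mp hx' with rfl | hx''
        · obtain ⟨t₂, ht₂⟩ := hgen' y
          refine ⟨SecTwist.tmulHom (s x') t₂, ?_,
            isAffineOpen_genLocus_tmulHom_left (hinv x') hM' _ _ (haff x')⟩
          rw [genLocus_tmulHom (hinv x') hM']
          exact ⟨hy, ht₂⟩
        · obtain ⟨t₂, ht₂, haff₂⟩ := haff' x' hx'' y hy
          obtain ⟨t₁, ht₁⟩ := exists_section_of_isGloballyGenerated (hinv x) (hgg x) y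
          refine ⟨SecTwist.tmulHom t₁ t₂, ?_,
            isAffineOpen_genLocus_tmulHom_right (hinv x) hM' _ _ haff₂⟩
          rw [genLocus_tmulHom (hinv x) hM']
          exact ⟨ht₁, ht₂⟩
  obtain ⟨T, hT⟩ := isCompact_univ.elim_finite_subcover
    (fun x : X => (CohB1.genLocus (L x) (s x) : Set X))
    (fun x => (CohB1.genLocus (L x) (s x)).isOpen)
    (fun y _ => Set.mem_iUnion.mpr ⟨y, hx y⟩)
  obtain ⟨M, hM, -, hMaff⟩ := key T
  refine ⟨M, hM, inferInstance, fun y => ?_⟩
  obtain ⟨x, hxT, hyx⟩ : ∃ x ∈ T, y ∈ CohB1.genLocus (L x) (s x) := by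
    have := hT (Set.mem_univ y)
    simpa using this
  obtain ⟨t, hyt, hta⟩ := hMaff x hxT y hyx
  refine ⟨0, SecTwist.tmulHom (𝟙 _) t, ?_⟩
  have h0 := genLocus_tmulHom (isInvertible_structureModule X) hM
    (𝟙 (Coh.structureModule X)) t
  rw [genLocus_id, top_inf_eq] at h0
  have h1 : CohB1.genLocus (CohB1.tensorPow M (0 + 1)) (SecTwist.tmulHom (𝟙 _) t) =
      CohB1.genLocus M t := h0
  rw [h1]
  exact ⟨hyt, hta⟩

end Groth.Agent.Lib.Helper35.AmpleFam
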