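import Groth.Agent.Lib.Helper35.Sep
import Groth.Agent.Lib.Helper35.Ample4

/-!
# Ample implies separated: the ratio function `s'^p / s^q` on `X_s`
-/

universe u

open CategoryTheory AlgebraicGeometry TopologicalSpace Opposite

namespace Groth.Agent.Lib.Helper35.AmpleSep

open Groth.Agent.Lib.Helper35.AbSheaf Groth.Agent.Lib.Helper35.QcohSec
open Groth.Agent.Lib.Helper35.Gen Groth.Agent.Lib.Helper35.Sep

variable {X : Scheme.{u}} {L : X.Modules}

/-- a chart: an open with a generator of `L` and the local equations of `s`, `s'` -/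
structure Chart (L : X.Modules) {p q : ℕ} (s : Coh.structureModule X ⟶ CohB1.tensorPow L p)
    (s' : Coh.structureModule X ⟶ CohB1.tensorPow L q) where
  V : X.Opens
  e : Γ(L, V)
  he : IsGen L V e
  c : Γ(X, V)
  c' : Γ(X, V)
  hc : SecTwist.val s V = c • gpow e p
  hc' : SecTwist.val s' V = c' • gpow e q

variable {p q : ℕ} {s : Coh.structureModule X ⟶ CohB1.tensorPow L p}
  {s' : Coh.structureModule X ⟶ CohB1.tensorPow L q}

theorem exists_chart (hL : PicF.IsInvertible L) (s : Coh.structureModule X ⟶ CohB1.tensorPow L p)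
    (s' : Coh.structureModule X ⟶ CohB1.tensorPow L q) (x : X) :
    ∃ K : Chart L s s', x ∈ K.V := by
  obtain ⟨V, hxV, e, he⟩ := exists_isGen_of_isInvertible hL x
  obtain ⟨c, hc⟩ := (he.gpow p).exists_eq_smul (SecTwist.val s V)
  obtain ⟨c', hc'⟩ := (he.gpow q).exists_eq_smul (SecTwist.val s' V)
  exact ⟨⟨V, e, he, c, c', hc, hc'⟩, hxV⟩

/-- the swapped chart -/
def Chart.swap (K : Chart L s s') : Chart L s' s :=
  ⟨K.V, K.e, K.he, K.c', K.c, K.hc', K.hc⟩

theorem Chart.inf_eq (K : Chart L s s') : CohB1.genLocus _ s ⊓ K.V = X.basicOpen K.c :=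
  genLocus_inf_eq_basicOpen s (K.he.gpow p) K.c K.hc

theorem Chart.inf_eq' (K : Chart L s s') : CohB1.genLocus _ s' ⊓ K.V = X.basicOpen K.c' :=
  genLocus_inf_eq_basicOpen s' (K.he.gpow q) K.c' K.hc'

theorem Chart.isUnit_c (K : Chart L s s') (Z : X.Opens) (hZ : Z ≤ CohB1.genLocus _ s ⊓ K.V) :
    IsUnit (rr X (hZ.trans inf_le_right) K.c) := by
  have hZ' : Z ≤ X.basicOpen K.c := hZ.trans K.inf_eq.le
  have h1 : IsUnit (X.presheaf.map (homOfLE (X.basicOpen_le K.c)).op K.c) :=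
    RingedSpace.isUnit_res_basicOpen X.toRingedSpace K.c
  have h2 := h1.map (rr X hZ')
  have h3 : rr X hZ' (X.presheaf.map (homOfLE (X.basicOpen_le K.c)).op K.c) =
      rr X (hZ.trans inf_le_right) K.c := rr_rr (X.basicOpen_le K.c) hZ' K.c
  rw [← h3]
  exact h2

/-- comparison of two charts on a common open -/
theorem Chart.compat (K₁ K₂ : Chart L s s') (Z : X.Opens) (h₁ : Z ≤ K₁.V) (h₂ : Z ≤ K₂.V) :
    ∃ w : Γ(X, Z), rr X h₁ K₁.c = w ^ p * rr X h₂ K₂.c ∧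
      rr X h₁ K₁.c' = w ^ q * rr X h₂ K₂.c' := by
  obtain ⟨w, hw⟩ := (K₁.he.mono h₁).exists_eq_smul (rs L h₂ K₂.e)
  refine ⟨w, ?_, ?_⟩
  · have e1 : SecTwist.val s Z = rr X h₁ K₁.c • gpow (rs L h₁ K₁.e) p := by
      rw [← rs_val s h₁, K₁.hc, rs_smul, rs_gpow]
    have e2 : SecTwist.val s Z = rr X h₂ K₂.c • gpow (rs L h₂ K₂.e) p := by
      rw [← rs_val s h₂, K₂.hc, rs_smul, rs_gpow]
    rw [hw, gpow_smul, ← mul_smul, e1] at e2
    have := ((K₁.he.mono h₁).gpow p).smul_injective e2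
    rw [this, mul_comm]
  · have e1 : SecTwist.val s' Z = rr X h₁ K₁.c' • gpow (rs L h₁ K₁.e) q := by
      rw [← rs_val s' h₁, K₁.hc', rs_smul, rs_gpow]
    have e2 : SecTwist.val s' Z = rr X h₂ K₂.c' • gpow (rs L h₂ K₂.e) q := by
      rw [← rs_val s' h₂, K₂.hc', rs_smul, rs_gpow]
    rw [hw, gpow_smul, ← mul_smul, e1] at e2
    have := ((K₁.he.mono h₁).gpow q).smul_injective e2
    rw [this, mul_comm]

theorem Chart.exists_ratio (K : Chart L s s') :
    ∃ β : Γ(X, CohB1.genLocus _ s ⊓ K.V),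
      β * (rr X (inf_le_right : CohB1.genLocus _ s ⊓ K.V ≤ K.V) K.c) ^ q =
        (rr X (inf_le_right : CohB1.genLocus _ s ⊓ K.V ≤ K.V) K.c') ^ p := by
  obtain ⟨v, hv⟩ := K.isUnit_c _ le_rfl
  refine ⟨(rr X (inf_le_right : CohB1.genLocus _ s ⊓ K.V ≤ K.V) K.c') ^ p *
    ((v ^ q)⁻¹ : Γ(X, CohB1.genLocus _ s ⊓ K.V)ˣ), ?_⟩
  rw [← hv, mul_assoc, ← Units.val_pow_eq_pow_val, Units.inv_mul, mul_one]

/-- the local ratio `s'^p / s^q` on a chart -/
noncomputable def Chart.ratio (K : Chart L s s') : Γ(X, CohB1.genLocus _ s ⊓ K.V) :=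
  K.exists_ratio.choose

theorem Chart.ratio_spec (K : Chart L s s') :
    K.ratio * (rr X (inf_le_right : CohB1.genLocus _ s ⊓ K.V ≤ K.V) K.c) ^ q =
      (rr X (inf_le_right : CohB1.genLocus _ s ⊓ K.V ≤ K.V) K.c') ^ p :=
  K.exists_ratio.choose_spec

theorem Chart.ratio_spec_res (K : Chart L s s') (Z : X.Opens)
    (hZ : Z ≤ CohB1.genLocus _ s ⊓ K.V) :
    rr X hZ K.ratio * (rr X (hZ.trans inf_le_right) K.c) ^ q =
      (rr X (hZ.trans inf_le_right) K.c') ^ p := by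
  have := congrArg (rr X hZ) K.ratio_spec
  rw [map_mul, map_pow, map_pow, rr_rr, rr_rr] at this
  exact this

theorem Chart.ratio_compat (K₁ K₂ : Chart L s s') (Z : X.Opens)
    (h₁ : Z ≤ CohB1.genLocus _ s ⊓ K₁.V) (h₂ : Z ≤ CohB1.genLocus _ s ⊓ K₂.V) :
    rr X h₁ K₁.ratio = rr X h₂ K₂.ratio := by
  have e1 := K₁.ratio_spec_res Z h₁
  have e2 := K₂.ratio_spec_res Z h₂
  obtain ⟨w, hw1, hw2⟩ := K₁.compat K₂ Z (h₁.trans inf_le_right) (h₂.trans inf_le_right)
  have hu := (K₁.isUnit_c Z h₁).pow q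
  apply hu.mul_left_injective
  change _ * _ = _ * _
  rw [e1, hw2, hw1, mul_pow, mul_pow, ← mul_assoc, mul_comm _ ((w ^ p) ^ q), mul_assoc, e2]
  ring

/-- the global ratio function `s'^p / s^q` on `X_s` -/
theorem exists_ratio (hL : PicF.IsInvertible L) (s : Coh.structureModule X ⟶ CohB1.tensorPow L p)
    (s' : Coh.structureModule X ⟶ CohB1.tensorPow L q) :
    ∃ b : Γ(X, CohB1.genLocus _ s), ∀ K : Chart L s s',
      rr X (inf_le_left : CohB1.genLocus _ s ⊓ K.V ≤ CohB1.genLocus _ s) b = K.ratio := by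
  choose K hK using exists_chart hL s s'
  have hcov : CohB1.genLocus _ s ≤ ⨆ x, CohB1.genLocus _ s ⊓ (K x).V := by
    intro y hy
    exact Opens.mem_iSup.mpr ⟨y, hy, hK y⟩
  obtain ⟨b, hb⟩ := glue' (Coh.structureModule X).presheaf (Coh.structureModule X).isSheaf
    (fun x => CohB1.genLocus _ s ⊓ (K x).V) (fun _ => inf_le_left) hcov
    (fun x => ((K x).ratio : Γ(Coh.structureModule X, CohB1.genLocus _ s ⊓ (K x).V)))
    (fun x y => (K x).ratio_compat (K y) _ inf_le_left inf_le_right)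
  refine ⟨b, fun K₀ => ?_⟩
  have hcov' : CohB1.genLocus _ s ⊓ K₀.V ≤
      ⨆ x, (CohB1.genLocus _ s ⊓ K₀.V) ⊓ (CohB1.genLocus _ s ⊓ (K x).V) := by
    intro y hy
    exact Opens.mem_iSup.mpr ⟨y, hy, hy.1, hK y⟩
  refine ext_cover (Coh.structureModule X).presheaf (Coh.structureModule X).isSheaf
    (fun x => (CohB1.genLocus _ s ⊓ K₀.V) ⊓ (CohB1.genLocus _ s ⊓ (K x).V))
    (fun _ => inf_le_left) hcov' _ _ (fun x => ?_)
  change rr X _ (rr X _ b) = rr X _ K₀.ratio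
  rw [rr_rr, K₀.ratio_compat (K x) _ inf_le_left inf_le_right, ← hb x]
  exact (rr_rr _ _ _).symm

theorem basicOpen_ratio (hL : PicF.IsInvertible L) (hp : 0 < p)
    (b : Γ(X, CohB1.genLocus _ s)) (hb : ∀ K : Chart L s s',
      rr X (inf_le_left : CohB1.genLocus _ s ⊓ K.V ≤ CohB1.genLocus _ s) b = K.ratio) :
    X.basicOpen b = CohB1.genLocus _ s ⊓ CohB1.genLocus _ s' := by
  apply opens_eq_of_inf_eq
  intro x
  obtain ⟨K, hxK⟩ := exists_chart hL s s' x
  refine ⟨K.V, hxK, ?_⟩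
  have h1 : X.basicOpen K.ratio = (CohB1.genLocus _ s ⊓ K.V) ⊓ X.basicOpen b := by
    rw [← hb K, basicOpen_rr]
  have h2 : X.basicOpen K.ratio ⊓ (CohB1.genLocus _ s ⊓ K.V) =
      (CohB1.genLocus _ s ⊓ K.V) ⊓ (CohB1.genLocus _ s' ⊓ K.V) := by
    have e := congrArg X.basicOpen K.ratio_spec
    rw [Scheme.basicOpen_mul, Scheme.basicOpen_pow X _ hp, basicOpen_rr, ← K.inf_eq',
      X.basicOpen_of_isUnit ((K.isUnit_c _ le_rfl).pow q)] at e
    exact e
  have h3 : X.basicOpen K.ratio ≤ CohB1.genLocus _ s ⊓ K.V := X.basicOpen_le _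
  rw [inf_eq_left.mpr h3, h1] at h2
  have h4 := X.basicOpen_le b
  ext z
  have h5 := congrArg (fun O : X.Opens => z ∈ O) h2
  simp only [Opens.mem_inf, eq_iff_iff] at h5
  simp only [Opens.coe_inf, Set.mem_inter_iff, SetLike.mem_coe]
  constructor
  · rintro ⟨hz1, hz2⟩
    have := h5.mp ⟨⟨h4 hz1, hz2⟩, hz1⟩
    exact ⟨⟨this.1.1, this.2.1⟩, hz2⟩
  · rintro ⟨⟨hz1, hz2⟩, hz3⟩
    have := h5.mpr ⟨⟨hz1, hz3⟩, hz2, hz3⟩
    exact ⟨this.2, hz3⟩

theorem ratio_mul_ratio (hL : PicF.IsInvertible L)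
    (b : Γ(X, CohB1.genLocus _ s)) (hb : ∀ K : Chart L s s',
      rr X (inf_le_left : CohB1.genLocus _ s ⊓ K.V ≤ CohB1.genLocus _ s) b = K.ratio)
    (b' : Γ(X, CohB1.genLocus _ s')) (hb' : ∀ K : Chart L s' s,
      rr X (inf_le_left : CohB1.genLocus _ s' ⊓ K.V ≤ CohB1.genLocus _ s') b' = K.ratio)
    (W : X.Opens) (hW : W ≤ CohB1.genLocus _ s) (hW' : W ≤ CohB1.genLocus _ s') :
    rr X hW b * rr X hW' b' = 1 := by
  choose K hK using exists_chart hL s s'
  have hcov : W ≤ ⨆ x, W ⊓ (K x).V := by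
    intro y hy
    exact Opens.mem_iSup.mpr ⟨y, hy, hK y⟩
  refine ext_cover (Coh.structureModule X).presheaf (Coh.structureModule X).isSheaf
    (fun x => W ⊓ (K x).V) (fun _ => inf_le_left) hcov
    ((rr X hW b * rr X hW' b' : Γ(X, W)) : Γ(Coh.structureModule X, W))
    ((1 : Γ(X, W)) : Γ(Coh.structureModule X, W)) (fun x => ?_)
  change rr X _ (rr X hW b * rr X hW' b') = rr X _ 1
  rw [map_mul, map_one, rr_rr, rr_rr]
  have hZ : W ⊓ (K x).V ≤ CohB1.genLocus _ s ⊓ (K x).V := inf_le_inf_right _ hW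
  have hZ' : W ⊓ (K x).V ≤ CohB1.genLocus _ s' ⊓ (K x).V := inf_le_inf_right _ hW'
  have e1 := (K x).ratio_spec_res _ hZ
  have e2 := (K x).swap.ratio_spec_res _ hZ'
  rw [← hb (K x), rr_rr] at e1
  rw [← hb' (K x).swap, rr_rr] at e2
  have hu1 := ((K x).isUnit_c _ hZ).pow q
  have hu2 := ((K x).swap.isUnit_c _ hZ').pow p
  apply (hu1.mul hu2).mul_left_injective
  change _ * _ = _ * _
  rw [one_mul]
  calc rr X _ b * rr X _ b' * (rr X _ (K x).c ^ q * rr X _ (K x).swap.c ^ p)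
      = (rr X _ b * rr X _ (K x).c ^ q) * (rr X _ b' * rr X _ (K x).swap.c ^ p) := by ring
    _ = rr X _ (K x).c' ^ p * rr X _ (K x).swap.c' ^ q := by rw [e1, e2]
    _ = rr X _ (K x).c ^ q * rr X _ (K x).swap.c ^ p := by
        change rr X _ (K x).c' ^ p * rr X _ (K x).c ^ q = rr X _ (K x).c ^ q * rr X _ (K x).c' ^ p
        ring

theorem genBy (hL : PicF.IsInvertible L) (hp : 0 < p) (hq : 0 < q)
    (s : Coh.structureModule X ⟶ CohB1.tensorPow L p)
    (s' : Coh.structureModule X ⟶ CohB1.tensorPow L q)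
    (hU : IsAffineOpen (CohB1.genLocus _ s)) :
    GenBy X (CohB1.genLocus _ s) (CohB1.genLocus _ s') (CohB1.genLocus _ s ⊓ CohB1.genLocus _ s')
      inf_le_left inf_le_right := by
  obtain ⟨b, hb⟩ := exists_ratio hL s s'
  obtain ⟨b', hb'⟩ := exists_ratio hL s' s
  have hD := basicOpen_ratio hL hp b hb
  have hA : X.basicOpen b ≤ CohB1.genLocus _ s := X.basicOpen_le b
  have hB : X.basicOpen b ≤ CohB1.genLocus _ s' := hD.le.trans inf_le_right
  have key : GenBy X (CohB1.genLocus _ s) (CohB1.genLocus _ s') (X.basicOpen b) hA hB := by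
    intro y
    haveI := hU.isLocalization_basicOpen b
    obtain ⟨n, a, hna⟩ := IsLocalization.Away.surj b y
    have h1 : rr X hA b * rr X hB b' = 1 := ratio_mul_ratio hL b hb b' hb' _ hA hB
    have h2 : algebraMap Γ(X, CohB1.genLocus _ s) Γ(X, X.basicOpen b) b = rr X hA b := rfl
    have h3 : algebraMap Γ(X, CohB1.genLocus _ s) Γ(X, X.basicOpen b) a = rr X hA a := rfl
    rw [h2, h3] at hna
    have h4 : y = rr X hA a * rr X hB b' ^ n := by
      calc y = y * (rr X hA b * rr X hB b') ^ n := by rw [h1, one_pow, mul_one]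
        _ = (y * rr X hA b ^ n) * rr X hB b' ^ n := by ring
        _ = rr X hA a * rr X hB b' ^ n := by rw [hna]
    rw [h4]
    have ha : rr X hA a ∈ Subring.closure (Set.range (rr X hA) ∪ Set.range (rr X hB)) :=
      Subring.subset_closure (Or.inl ⟨a, rfl⟩)
    have hb'' : rr X hB b' ∈ Subring.closure (Set.range (rr X hA) ∪ Set.range (rr X hB)) :=
      Subring.subset_closure (Or.inr ⟨b', rfl⟩)
    exact Subring.mul_mem _ ha (pow_mem hb'' n)
  exact key.congr rfl rfl hD.symm _ _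

/-- **Ample implies separated**. -/
theorem isSeparated_of_cover_genLocus (hL : PicF.IsInvertible L)
    (h : ∀ x : X, ∃ (n : ℕ) (s : Coh.structureModule X ⟶ CohB1.tensorPow L (n + 1)),
      x ∈ CohB1.genLocus _ s ∧ IsAffineOpen (CohB1.genLocus _ s)) :
    X.IsSeparated := by
  choose n s hx hA using h
  have hι : ∀ x, IsAffineHom (CohB1.genLocus _ (s x)).ι := fun x =>
    Groth.Agent.Lib.Helper35.GenLocus.isAffineHom_genLocus_ι _
      (isInvertible_tensorPow hL (n x + 1)) (s x)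
  refine isSeparated_of_cover (fun x => CohB1.genLocus _ (s x)) ?_ hA ?_ ?_
  · change ⨆ x, CohB1.genLocus _ (s x) = ⊤
    exact top_le_iff.1 fun x _ => Opens.mem_iSup.2 ⟨x, hx x⟩
  · intro x y
    haveI := hι x
    exact Groth.Agent.Lib.Helper35.AffDiag.isAffineOpen_inf_of_isAffineHom _ _ (hA y)
  · intro x y
    exact genBy hL (Nat.succ_pos _) (Nat.succ_pos _) (s x) (s y) (hA x)

end Groth.Agent.Lib.Helper35.AmpleSep
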