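import Groth.Agent.Lib.Helper35.GenCover

/-!
# EGA I 9.3.1 for invertible modules: annihilation and extension up to twisting
-/

universe u

open CategoryTheory AlgebraicGeometry TopologicalSpace Opposite

namespace Groth.Agent.Lib.Helper35.Gen

open Groth.Agent.Lib.Helper35.AbSheaf Groth.Agent.Lib.Helper35.QcohSec
open Groth.Agent.Lib.Helper35.Cocycle

variable {X : Scheme.{u}} {L : X.Modules}

theorem tm_zero_left (M N : X.Modules) {U : X.Opens} (n : Γ(N, U)) :
    tm M N (0 : Γ(M, U)) n = 0 := by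
  have := tm_smul_left M N (0 : Γ(X, U)) (0 : Γ(M, U)) n
  rw [zero_smul, zero_smul] at this
  exact this

/-- the twist `t ⊗ s^n` in `Γ`-notation -/
noncomputable def tw (s : Coh.structureModule X ⟶ L) (n : ℕ) (F : X.Modules) {U : X.Opens}
    (t : Γ(F, U)) : Γ(CohB1.tensorMod F (CohB1.tensorPow L n), U) :=
  SecTwist.twist s n F U t

theorem GenCover.gpow_trans (C : GenCover L) (n : ℕ) (i j : C.ι) (W : X.Opens)
    (hW : W ≤ C.V i ⊓ C.V j) :
    rs (CohB1.tensorPow L n) (hW.trans inf_le_right) (gpow (C.e j) n) =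
      (rr X hW (C.u i j)) ^ n • rs (CohB1.tensorPow L n) (hW.trans inf_le_left)
        (gpow (C.e i) n) := by
  rw [rs_gpow, rs_gpow, ← rs_rs L (inf_le_right : C.V i ⊓ C.V j ≤ C.V j) hW, C.hu i j,
    rs_smul, rs_rs, gpow_smul]

theorem GenCover.tm_trans (C : GenCover L) (F : X.Modules) (n : ℕ) (i j : C.ι) (W : X.Opens)
    (hW : W ≤ C.V i ⊓ C.V j) (x : Γ(F, W)) :
    tm F (CohB1.tensorPow L n) x (rs _ (hW.trans inf_le_right) (gpow (C.e j) n)) =
      tm F (CohB1.tensorPow L n) ((rr X hW (C.u i j)) ^ n • x)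
        (rs _ (hW.trans inf_le_left) (gpow (C.e i) n)) := by
  rw [C.gpow_trans n i j W hW, tm_smul_right, tm_smul_left]

theorem rs_twist (s : Coh.structureModule X ⟶ L) (n : ℕ) (F : X.Modules) {U V : X.Opens}
    (h : V ≤ U) (t : Γ(F, U)) :
    rs (CohB1.tensorMod F (CohB1.tensorPow L n)) h (tw s n F t) = tw s n F (rs F h t) :=
  SecTwist.map_twist s n F (homOfLE h) t

theorem GenCover.twist_eq (C : GenCover L) (s : Coh.structureModule X ⟶ L) (n : ℕ)
    (F : X.Modules) (i : C.ι) (W : X.Opens) (hW : W ≤ C.V i) (t : Γ(F, W)) :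
    tw s n F t = tm F (CohB1.tensorPow L n) ((rr X hW (C.c s i)) ^ n • t)
      (rs _ hW (gpow (C.e i) n)) := by
  change tm F (CohB1.tensorPow L n) t (SecTwist.pow s n W) = _
  rw [pow_eq_gpow, C.val_eq s i W hW, gpow_smul, tm_smul_right, tm_smul_left, rs_gpow]

/-- annihilation (EGA I 9.3.1 (i)) -/
theorem twist_eq_zero [CompactSpace X] (hL : PicF.IsInvertible L)
    (s : Coh.structureModule X ⟶ L) (F : X.Modules) [F.IsQuasicoherent] (t : Γ(F, ⊤))
    (ht : rs F (le_top : CohB1.genLocus L s ≤ ⊤) t = 0) :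
    ∃ n : ℕ, 0 < n ∧ tw s n F t = 0 := by
  obtain ⟨C⟩ := exists_genCover hL
  obtain ⟨n, hn, h⟩ := (C.data s).exists_pow_smul_eq_zero F t ht
  refine ⟨n, hn, ?_⟩
  have hcov : (⊤ : X.Opens) ≤ iSup C.V := by
    intro y _
    obtain ⟨i, hi⟩ := C.cover y
    exact Opens.mem_iSup.mpr ⟨i, hi⟩
  refine ext_cover (CohB1.tensorMod F (CohB1.tensorPow L n)).presheaf
    (CohB1.tensorMod F (CohB1.tensorPow L n)).isSheaf C.V (fun _ => le_top) hcov _ _ (fun i => ?_)
  change rs _ (le_top : C.V i ≤ ⊤) (tw s n F t) = rs _ (le_top : C.V i ≤ ⊤) 0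
  rw [rs_zero, rs_twist, C.twist_eq s n F i (C.V i) le_rfl, rr_self]
  have h' : C.c s i ^ n • rs F (le_top : C.V i ≤ ⊤) t = 0 := h i
  rw [h', tm_zero_left]

/-- extension (EGA I 9.3.1 (ii)) -/
theorem exists_twist_extends [CompactSpace X] [QuasiSeparatedSpace X] (hL : PicF.IsInvertible L)
    (s : Coh.structureModule X ⟶ L) (F : X.Modules) [F.IsQuasicoherent]
    (t : Γ(F, CohB1.genLocus L s)) :
    ∃ n : ℕ, 0 < n ∧ ∃ t' : Γ(CohB1.tensorMod F (CohB1.tensorPow L n), ⊤),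
      rs _ (le_top : CohB1.genLocus L s ≤ ⊤) t' = tw s n F t := by
  obtain ⟨C⟩ := exists_genCover hL
  obtain ⟨n, hn, g, hg⟩ := (C.data s).exists_global F t
    (fun n => CohB1.tensorMod F (CohB1.tensorPow L n))
    (fun n i W hW x => tm F (CohB1.tensorPow L n) x (rs _ hW (gpow (C.e i) n)))
    (by
      intro n i W W' hW h x
      rw [rs_tm, rs_rs])
    (fun n i j W hW x => C.tm_trans F n i j W hW x)
  refine ⟨n, hn, g, ?_⟩
  have hcov : CohB1.genLocus L s ≤ ⨆ i, CohB1.genLocus L s ⊓ C.V i := by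
    intro y hy
    obtain ⟨i, hi⟩ := C.cover y
    exact Opens.mem_iSup.mpr ⟨i, hy, hi⟩
  refine ext_cover (CohB1.tensorMod F (CohB1.tensorPow L n)).presheaf
    (CohB1.tensorMod F (CohB1.tensorPow L n)).isSheaf (fun i => CohB1.genLocus L s ⊓ C.V i)
    (fun _ => inf_le_left) hcov _ _ (fun i => ?_)
  change rs _ (inf_le_left : CohB1.genLocus L s ⊓ C.V i ≤ CohB1.genLocus L s) (rs _ _ g) =
    rs _ (inf_le_left : CohB1.genLocus L s ⊓ C.V i ≤ CohB1.genLocus L s) (tw s n F t)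
  rw [rs_rs, rs_twist, C.twist_eq s n F i _ inf_le_right]
  exact hg i

end Groth.Agent.Lib.Helper35.Gen
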