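import Groth.Agent.Lib.Lead.Avoid1
import Groth.Agent.Lib.Helper35.Triv
import Groth.Agent.Lib.Helper35.Twist1
import Groth.Agent.Lib.Helper35.Ample4

/-!
# Sections of twists `L ⊗ A^N` generating at finitely many points (`A` ample)
-/

set_option autoImplicit false
universe u

open CategoryTheory AlgebraicGeometry TopologicalSpace Opposite

namespace Groth.Agent.Lib.Helper35.FinTwist

open Groth.Agent.Lib.Helper35.AbSheaf Groth.Agent.Lib.Helper35.Gen
open Groth.Agent.Lib.Helper35.GlobGen Groth.Agent.Lib.Helper60.TensorLib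

variable {X : Scheme.{u}}

/-- `(L ⊗ A^c) ⊗ (A^m)^a ≅ L ⊗ A^{c + m a}` -/
theorem nonempty_twist_iso {L A : X.Modules} (hL : PicF.IsInvertible L)
    (hA : PicF.IsInvertible A) (c m a : ℕ) :
    Nonempty (CohB1.tensorMod (CohB1.tensorMod L (CohB1.tensorPow A c))
        (CohB1.tensorPow (CohB1.tensorPow A m) a) ≅
      CohB1.tensorMod L (CohB1.tensorPow A (c + m * a))) := by
  obtain ⟨α⟩ := Groth.Agent.Lib.Lead.Inv.nonempty_assoc L (CohB1.tensorPow A c)
    (CohB1.tensorPow (CohB1.tensorPow A m) a) hL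
    (isInvertible_tensorPow (isInvertible_tensorPow hA m) a)
  obtain ⟨μ⟩ := Groth.Agent.Lib.Lead.Inv.nonempty_tensorPow_mul hA m a
  obtain ⟨σ⟩ := Groth.Agent.Lib.Lead.Inv.nonempty_tensorPow_add hA c (m * a)
  exact ⟨α ≪≫ tensorModCongrRight L (tensorModCongrRight (CohB1.tensorPow A c) μ ≪≫ σ.symm)⟩

/-- `(F ⊗ B^n) ⊗ B^j ≅ F ⊗ B^{n+j}` -/
theorem nonempty_twist_add {F B : X.Modules} (hF : PicF.IsInvertible F)
    (hB : PicF.IsInvertible B) (n j : ℕ) :
    Nonempty (CohB1.tensorMod (CohB1.tensorMod F (CohB1.tensorPow B n)) (CohB1.tensorPow B j) ≅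
      CohB1.tensorMod F (CohB1.tensorPow B (n + j))) := by
  obtain ⟨α⟩ := Groth.Agent.Lib.Lead.Inv.nonempty_assoc F (CohB1.tensorPow B n)
    (CohB1.tensorPow B j) hF (isInvertible_tensorPow hB j)
  obtain ⟨σ⟩ := Groth.Agent.Lib.Lead.Inv.nonempty_tensorPow_add hB n j
  exact ⟨α ≪≫ tensorModCongrRight F σ.symm⟩

theorem genLocus_le_secPow {B : X.Modules} (hB : PicF.IsInvertible B)
    (s : Coh.structureModule X ⟶ B) (j : ℕ) :
    CohB1.genLocus B s ≤ CohB1.genLocus _ (Groth.Agent.Lib.Lead.Inv.secPow s j) := by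
  cases j with
  | zero =>
    change _ ≤ CohB1.genLocus _ (𝟙 (Coh.structureModule X))
    rw [Groth.Agent.Lib.Lead.Inv.genLocus_id]
    exact le_top
  | succ j => rw [Groth.Agent.Lib.Lead.Inv.genLocus_secPow hB s j]

/-- a generator `e` of `F` over `X_s` gives, for all large `q`, a global section of `F ⊗ B^q`
generating over `X_s`. -/
theorem exists_section_of_isGen [CompactSpace X] [QuasiSeparatedSpace X] {B : X.Modules}
    (hB : PicF.IsInvertible B) (s : Coh.structureModule X ⟶ B) (F : X.Modules)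
    (hF : PicF.IsInvertible F) (e : Γ(F, CohB1.genLocus B s))
    (he : IsGen F (CohB1.genLocus B s) e) :
    ∃ n : ℕ, ∀ q : ℕ, n ≤ q →
      ∃ σ : Coh.structureModule X ⟶ CohB1.tensorMod F (CohB1.tensorPow B q),
        CohB1.genLocus B s ≤ CohB1.genLocus _ σ := by
  haveI : F.IsQuasicoherent := Groth.Agent.Lib.Helper35.Ample.isQuasicoherent_of_isInvertible hF
  obtain ⟨n, -, t', ht'⟩ := exists_twist_extends hB s F e
  refine ⟨n, fun q hq => ?_⟩
  obtain ⟨j, rfl⟩ : ∃ j, q = n + j := ⟨q - n, by omega⟩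
  have h0 : CohB1.genLocus B s ≤
      CohB1.genLocus _ (secHom (CohB1.tensorMod F (CohB1.tensorPow B n)) t') := by
    rw [← isGen_val_iff, Groth.Agent.Lib.Helper35.Ample.val_secHom, ht']
    change IsGen _ _ (tm F (CohB1.tensorPow B n) e (SecTwist.pow s n _))
    rw [pow_eq_gpow]
    exact IsGen.tm he (IsGen.gpow ((isGen_val_iff s _).mpr le_rfl) n)
  have h1 := Groth.Agent.Lib.Lead.Inv.genLocus_secMul
    (isInvertible_tensorMod hF (isInvertible_tensorPow hB n)) (isInvertible_tensorPow hB j)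
    (secHom (CohB1.tensorMod F (CohB1.tensorPow B n)) t') (Groth.Agent.Lib.Lead.Inv.secPow s j)
  obtain ⟨σ', hσ'⟩ := Groth.Agent.Lib.Lead.Inv.exists_section_of_iso
    (nonempty_twist_add hF hB n j) (Groth.Agent.Lib.Lead.Inv.secMul
      (secHom (CohB1.tensorMod F (CohB1.tensorPow B n)) t') (Groth.Agent.Lib.Lead.Inv.secPow s j))
  refine ⟨σ', ?_⟩
  rw [hσ', h1]
  exact le_inf h0 (genLocus_le_secPow hB s j)

/-- **Main lemma**: `A` ample, `L` invertible, `T` a finite set of points. There are `m > 0` and an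
open `W ⊇ T` such that for every residue `r` and all large `q`, `L ⊗ A^{r + m q}` has a global
section generating over `W`. -/
theorem exists_sections {A L : X.Modules} (hA : CohB1.IsAmple A) (hL : PicF.IsInvertible L)
    (T : Finset X) :
    ∃ (m : ℕ) (_ : 0 < m) (W : X.Opens), (∀ x ∈ T, x ∈ W) ∧ ∀ r : ℕ, ∃ n : ℕ, ∀ q : ℕ, n ≤ q →
      ∃ σ : Coh.structureModule X ⟶ CohB1.tensorMod L (CohB1.tensorPow A (r + m * q)),
        W ≤ CohB1.genLocus _ σ := by
  haveI := hA.2.1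
  haveI : QuasiSeparatedSpace X :=
    Groth.Agent.Lib.Helper35.Ample.quasiSeparatedSpace_of_cover_genLocus hA.1 hA.2.2
  obtain ⟨m₀, -, s₀, hs₀, -, haff₀⟩ := Groth.Agent.Lib.Lead.Inv.exists_section_avoid hA ⊤ T
    (fun _ _ => trivial)
  obtain ⟨U₁, -, hT₁, ⟨φ₁⟩⟩ := Groth.Agent.Lib.Helper35.Triv.exists_affine_trivial L hL T
    ⟨_, haff₀, hs₀⟩
  obtain ⟨U₂, -, hT₂, ⟨φ₂⟩⟩ := Groth.Agent.Lib.Helper35.Triv.exists_affine_trivial A hA.1 T
    ⟨_, haff₀, hs₀⟩
  obtain ⟨e₁, he₁⟩ := exists_isGen_of_iso U₁ φ₁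
  obtain ⟨e₂, he₂⟩ := exists_isGen_of_iso U₂ φ₂
  obtain ⟨m, hm, s, hsT, hsU, -⟩ := Groth.Agent.Lib.Lead.Inv.exists_section_avoid hA (U₁ ⊓ U₂) T
    (fun x hx => ⟨hT₁ x hx, hT₂ x hx⟩)
  refine ⟨m, hm, CohB1.genLocus _ s, hsT, fun r => ?_⟩
  have hF : PicF.IsInvertible (CohB1.tensorMod L (CohB1.tensorPow A r)) :=
    isInvertible_tensorMod hL (isInvertible_tensorPow hA.1 r)
  obtain ⟨n, hn⟩ := exists_section_of_isGen (isInvertible_tensorPow hA.1 m) s
    (CohB1.tensorMod L (CohB1.tensorPow A r)) hF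
    (tm L (CohB1.tensorPow A r) (rs L (hsU.trans inf_le_left) e₁)
      (gpow (rs A (hsU.trans inf_le_right) e₂) r))
    (IsGen.tm (he₁.mono _) ((he₂.mono _).gpow r))
  refine ⟨n, fun q hq => ?_⟩
  obtain ⟨σ, hσ⟩ := hn q hq
  obtain ⟨σ', hσ'⟩ := Groth.Agent.Lib.Lead.Inv.exists_section_of_iso
    (nonempty_twist_iso hL hA.1 r m q) σ
  exact ⟨σ', hσ'.symm ▸ hσ⟩

end Groth.Agent.Lib.Helper35.FinTwist
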