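import Groth.Agent.Lib.Lead.Tw4
import Groth.Agent.Lib.Helper35.FinTwist

/-!
# Extending sections over `X_t` to twists, keeping the generating locus
-/

set_option autoImplicit false
universe u

open CategoryTheory AlgebraicGeometry TopologicalSpace Opposite

namespace Groth.Agent.Lib.Helper35.TwistExt

open Groth.Agent.Lib.Helper35.AbSheaf Groth.Agent.Lib.Helper35.Gen
open Groth.Agent.Lib.Helper35.GlobGen Groth.Agent.Lib.Helper60.TensorLib

variable {X : Scheme.{u}}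

theorem isGen_congr_opens (L : X.Modules) {A B : X.Opens} (h : A = B) (x : Γ(L, A)) :
    IsGen L A x ↔ IsGen L B (rs L h.ge x) := by
  subst h
  rw [rs_self]

/-- cancelling a generator on the right of a tensor -/
theorem IsGen.of_tm {M N : X.Modules} {U : X.Opens} {m : Γ(M, U)} {g : Γ(N, U)}
    (hg : IsGen N U g) (h : IsGen (CohB1.tensorMod M N) U (tm M N m g)) : IsGen M U m := by
  intro W hW
  have hb := tm_right_bijective M N g hg W hW
  have h1 := h W hW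
  have h3 : (fun r : Γ(X, W) => r • rs _ hW (tm M N m g)) =
      (fun m' : Γ(M, W) => tm M N m' (rs N hW g)) ∘ (fun r : Γ(X, W) => r • rs M hW m) := by
    funext r
    change r • rs _ hW (tm M N m g) = tm M N (r • rs M hW m) (rs N hW g)
    rw [rs_tm, tm_smul_left]
  rw [h3] at h1
  exact (Function.Bijective.of_comp_iff' hb _).mp h1

/-- converse of `Triv.isGen_of_restrict` -/
theorem isGen_restrict_of_isGen (L : X.Modules) (U₀ : X.Opens) (G : (U₀ : Scheme.{u}).Opens)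
    (e : Γ(L.restrict U₀.ι, G))
    (he : IsGen L (U₀.ι ''ᵁ G) (show Γ(L, U₀.ι ''ᵁ G) from e)) :
    IsGen (L.restrict U₀.ι) G e := by
  intro W hW
  have h1 := he (U₀.ι ''ᵁ W) (Scheme.Hom.image_mono U₀.ι hW)
  have hb2 : Function.Bijective (U₀.ι.appIso W).inv.hom :=
    ConcreteCategory.bijective_of_isIso (U₀.ι.appIso W).inv
  have key : (fun r' : Γ((U₀ : Scheme.{u}), W) => r' • rs (L.restrict U₀.ι) hW e) =
      (fun r : Γ(X, U₀.ι ''ᵁ W) => r • rs L (Scheme.Hom.image_mono U₀.ι hW)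
        (show Γ(L, U₀.ι ''ᵁ G) from e)) ∘ (U₀.ι.appIso W).inv.hom := by
    funext r'
    rfl
  rw [key]
  exact h1.comp hb2

theorem isGen_restrict_iff (L : X.Modules) (U₀ : X.Opens) (G : (U₀ : Scheme.{u}).Opens)
    (e : Γ(L.restrict U₀.ι, G)) :
    IsGen (L.restrict U₀.ι) G e ↔ IsGen L (U₀.ι ''ᵁ G) (show Γ(L, U₀.ι ''ᵁ G) from e) :=
  ⟨Groth.Agent.Lib.Helper35.Triv.isGen_of_restrict L U₀ G e, isGen_restrict_of_isGen L U₀ G e⟩

/-- **bridge**: where a section of `M|_U` generates, in terms of the corresponding section of `M`. -/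
theorem isGen_rs_iff (M : X.Modules) (U : X.Opens)
    (s₁ : Coh.structureModule (U : Scheme.{u}) ⟶ M.restrict U.ι) (W : X.Opens) (hW : W ≤ U) :
    IsGen M W (rs M (hW.trans U.ι_image_top.ge)
      (show Γ(M, U.ι ''ᵁ ⊤) from SecTwist.val s₁ ⊤)) ↔ U.ι ⁻¹ᵁ W ≤ CohB1.genLocus _ s₁ := by
  have E : U.ι ''ᵁ (U.ι ⁻¹ᵁ W) = W := by
    rw [Scheme.Hom.image_preimage_eq_opensRange_inf, Scheme.Opens.opensRange_ι]
    exact inf_eq_right.mpr hW
  have hval : (show Γ(M, U.ι ''ᵁ (U.ι ⁻¹ᵁ W)) from SecTwist.val s₁ (U.ι ⁻¹ᵁ W)) =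
      rs M (Scheme.Hom.image_mono U.ι (le_top : U.ι ⁻¹ᵁ W ≤ ⊤))
        (show Γ(M, U.ι ''ᵁ ⊤) from SecTwist.val s₁ ⊤) :=
    (rs_val s₁ (le_top : U.ι ⁻¹ᵁ W ≤ ⊤)).symm
  rw [← isGen_val_iff s₁ (U.ι ⁻¹ᵁ W), isGen_restrict_iff, hval, isGen_congr_opens M E, rs_rs]

theorem le_image_iff (U : X.Opens) (G : (U : Scheme.{u}).Opens) (W : X.Opens) :
    W ≤ U.ι ''ᵁ G ↔ W ≤ U ∧ U.ι ⁻¹ᵁ W ≤ G := by
  constructor
  · intro h
    refine ⟨h.trans (Scheme.Opens.ι_image_le U G), ?_⟩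
    have := Scheme.Hom.preimage_mono U.ι h
    rwa [Scheme.Hom.preimage_image_eq] at this
  · rintro ⟨hW, h⟩
    have E : U.ι ''ᵁ (U.ι ⁻¹ᵁ W) = W := by
      rw [Scheme.Hom.image_preimage_eq_opensRange_inf, Scheme.Opens.opensRange_ι]
      exact inf_eq_right.mpr hW
    rw [← E]
    exact Scheme.Hom.image_mono U.ι h

/-- **Extension with the same generating locus.**  On a qcqs scheme, let `t` be a section of an
invertible `B`, `U = X_t`, and `s₁` a section of `M|_U` (`M` invertible).  For all large `n` there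
is a global section of `M ⊗ B^n` whose generating locus is the generating locus of `s₁`. -/
theorem exists_twist_section [CompactSpace X] [QuasiSeparatedSpace X] {M B : X.Modules}
    (hM : PicF.IsInvertible M) (hB : PicF.IsInvertible B) (t : Coh.structureModule X ⟶ B)
    (U : X.Opens) (hU : U = CohB1.genLocus B t)
    (s₁ : Coh.structureModule (U : Scheme.{u}) ⟶ M.restrict U.ι) :
    ∃ n₀ : ℕ, ∀ n, n₀ ≤ n →
      ∃ τ : Coh.structureModule X ⟶ CohB1.tensorMod M (CohB1.tensorPow B n),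
        CohB1.genLocus _ τ = U.ι ''ᵁ CohB1.genLocus _ s₁ := by
  subst hU
  haveI : M.IsQuasicoherent := Groth.Agent.Lib.Helper35.Ample.isQuasicoherent_of_isInvertible hM
  obtain ⟨σ, hσ⟩ : ∃ σ : Γ(M, CohB1.genLocus B t), σ =
      rs M (CohB1.genLocus B t).ι_image_top.ge
        (show Γ(M, (CohB1.genLocus B t).ι ''ᵁ ⊤) from SecTwist.val s₁ ⊤) := ⟨_, rfl⟩
  obtain ⟨n₀, h⟩ := Groth.Agent.Lib.Lead.Inv.exists_twist_extends_ge hB t M σ
  refine ⟨n₀ + 1, fun N hN => ?_⟩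
  obtain ⟨n, rfl, hn⟩ : ∃ n, N = n + 1 ∧ n₀ ≤ n := ⟨N - 1, by omega, by omega⟩
  obtain ⟨τ₀, hτ₀⟩ := h n hn
  rw [← Groth.Agent.Lib.Lead.Inv.gen_tw_eq] at hτ₀
  have hτ₀' : rs _ (le_top : CohB1.genLocus B t ≤ ⊤) τ₀ = tw t n M σ := hτ₀
  have key : ∀ (W : X.Opens) (hW : W ≤ CohB1.genLocus B t),
      W ≤ CohB1.genLocus _ (secHom (CohB1.tensorMod M (CohB1.tensorPow B n)) τ₀) ↔
        IsGen M W (rs M hW σ) := by
    intro W hW
    have hg : IsGen (CohB1.tensorPow B n) W (gpow (SecTwist.val t W) n) :=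
      IsGen.gpow ((isGen_val_iff t W).mpr hW) n
    have hv : SecTwist.val (secHom (CohB1.tensorMod M (CohB1.tensorPow B n)) τ₀) W =
        tm M (CohB1.tensorPow B n) (rs M hW σ) (gpow (SecTwist.val t W) n) := by
      rw [Groth.Agent.Lib.Helper35.Ample.val_secHom,
        ← rs_rs _ (le_top : CohB1.genLocus B t ≤ ⊤) hW, hτ₀', rs_twist]
      change tm M (CohB1.tensorPow B n) (rs M hW σ) (SecTwist.pow t n W) = _
      rw [pow_eq_gpow]
    rw [← isGen_val_iff, hv]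
    exact ⟨fun h => IsGen.of_tm hg h, fun h => IsGen.tm h hg⟩
  have h1 := Groth.Agent.Lib.Lead.Inv.genLocus_secMul
    (isInvertible_tensorMod hM (isInvertible_tensorPow hB n)) (isInvertible_tensorPow hB 1)
    (secHom (CohB1.tensorMod M (CohB1.tensorPow B n)) τ₀) (Groth.Agent.Lib.Lead.Inv.secPow t 1)
  obtain ⟨τ, hτ⟩ := Groth.Agent.Lib.Lead.Inv.exists_section_of_iso
    (Groth.Agent.Lib.Helper35.FinTwist.nonempty_twist_add hM hB n 1)
    (Groth.Agent.Lib.Lead.Inv.secMul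
      (secHom (CohB1.tensorMod M (CohB1.tensorPow B n)) τ₀) (Groth.Agent.Lib.Lead.Inv.secPow t 1))
  refine ⟨τ, ?_⟩
  rw [hτ, h1, Groth.Agent.Lib.Lead.Inv.genLocus_secPow hB t 0]
  refine eq_of_forall_le_iff fun W => ?_
  rw [le_inf_iff, le_image_iff]
  constructor
  · rintro ⟨h2, hW⟩
    refine ⟨hW, ?_⟩
    have h3 := (key W hW).mp h2
    rw [hσ, rs_rs] at h3
    exact (isGen_rs_iff M _ s₁ W hW).mp h3
  · rintro ⟨hW, h2⟩
    refine ⟨?_, hW⟩
    have h3 := (isGen_rs_iff M _ s₁ W hW).mpr h2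
    rw [key W hW, hσ, rs_rs]
    exact h3

end Groth.Agent.Lib.Helper35.TwistExt
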