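import Groth.Agent.Lib.Helper35.IntegralSec
import Groth.Agent.Lib.Helper35.TwistExt
import Groth.Agent.Lib.Helper35.GlobGen2
import Groth.Agent.Lib.Helper35.Ample4
import Groth.Agent.Lib.Lead.TensorMap
import Groth.Agent.Lib.Lead.AmpleDescent1
import Groth.Agent.Lib.Lead.Inv6

/-!
# Sections of powers of a big invertible module (helper35)

* `ne_zero_of_mem_genLocus`: a section with nonempty generating locus on an integral scheme is nonzero.
* `comp_tensorMapLeft_ne_zero`: tensoring a "nonzero" map of invertible modules with an invertible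
  module keeps nonzero sections nonzero.
* `exists_section_twist`: for `B` ample and `L` invertible, `L ⊗ B'^n` has a nonzero section for a
  suitable ample power `B'` of `B` with a nonzero section.
* `nontrivial_HH_zero`, `exists_ne_zero_of_nontrivial`: `H⁰` versus sections.
* `eventually_sections`: if `L^m` and `L^(m+1)` have nonzero sections, so do all `L^M`, `M ≥ m * m`.
-/

set_option autoImplicit false
universe u

open CategoryTheory AlgebraicGeometry TopologicalSpace Opposite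

namespace Groth.Agent.Lib.Helper35.BigSec

open Groth.Agent.Lib.Helper35.AbSheaf Groth.Agent.Lib.Helper35.Gen
open Groth.Agent.Lib.Helper60.TensorLib
open Groth.Agent.Lib.Helper35.IntegralSec

variable {X : Scheme.{u}}

/-- a section generating somewhere on an integral scheme is nonzero -/
theorem ne_zero_of_mem_genLocus [IsIntegral X] {L : X.Modules} (s : Coh.structureModule X ⟶ L)
    (x : X) (hx : x ∈ CohB1.genLocus L s) : s ≠ 0 := by
  intro h0
  have hb := Groth.Agent.Lib.Helper35.GenLocus.bijective_app_of_le_genLocus L s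
    (CohB1.genLocus L s) le_rfl
  haveI : Nonempty ((CohB1.genLocus L s : X.Opens) : Scheme.{u}) := ⟨⟨x, hx⟩⟩
  haveI : IsDomain Γ(X, CohB1.genLocus L s) := IsIntegral.component_integral _
  have h1 : (s.app (CohB1.genLocus L s)).hom
      ((1 : Γ(X, CohB1.genLocus L s)) : Γ(Coh.structureModule X, CohB1.genLocus L s)) =
      (s.app (CohB1.genLocus L s)).hom
      ((0 : Γ(X, CohB1.genLocus L s)) : Γ(Coh.structureModule X, CohB1.genLocus L s)) := by
    rw [h0]; rfl
  have h2 : (1 : Γ(X, CohB1.genLocus L s)) = 0 := hb.1 h1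
  exact one_ne_zero h2

theorem val_comp {L M : X.Modules} (s : Coh.structureModule X ⟶ L) (φ : L ⟶ M) (W : X.Opens) :
    SecTwist.val (s ≫ φ) W = (φ.app W).hom (SecTwist.val s W) := rfl

theorem tensorMapLeft_tm {A B : X.Modules} (φ : A ⟶ B) (C : X.Modules) {W : X.Opens}
    (a : Γ(A, W)) (c : Γ(C, W)) :
    ((Groth.Agent.Lib.Lead.Inv.tensorMapLeft φ C).app W).hom (tm A C a c) =
      tm B C ((φ.app W).hom a) c :=
  Groth.Agent.Lib.Lead.Inv.tensorMapLeft_tmul φ C a c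

/-- tensoring a nonzero map of invertible modules with an invertible module keeps nonzero sections
nonzero -/
theorem comp_tensorMapLeft_ne_zero [IsIntegral X] {A N L : X.Modules} (hA : PicF.IsInvertible A)
    (hN : PicF.IsInvertible N) (hL : PicF.IsInvertible L) (φ : A ⟶ N)
    (σ : Coh.structureModule X ⟶ A) (hσ : σ ≫ φ ≠ 0)
    (τ : Coh.structureModule X ⟶ CohB1.tensorMod A L) (hτ : τ ≠ 0) :
    τ ≫ Groth.Agent.Lib.Lead.Inv.tensorMapLeft φ L ≠ 0 := by
  intro h0
  obtain ⟨x⟩ : Nonempty X := inferInstance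
  obtain ⟨U₁, hx₁, a, ha⟩ := exists_isGen_of_isInvertible hA x
  obtain ⟨U₂, hx₂, l, hl⟩ := exists_isGen_of_isInvertible hL x
  obtain ⟨U₃, hx₃, g, hg⟩ := exists_isGen_of_isInvertible hN x
  set W : X.Opens := U₁ ⊓ U₂ ⊓ U₃ with hW
  have hW1 : W ≤ U₁ := inf_le_left.trans inf_le_left
  have hW2 : W ≤ U₂ := inf_le_left.trans inf_le_right
  have hW3 : W ≤ U₃ := inf_le_right
  haveI : Nonempty ((W : X.Opens) : Scheme.{u}) := ⟨⟨x, ⟨hx₁, hx₂⟩, hx₃⟩⟩
  have hne : ((W : X.Opens) : Set X).Nonempty := ⟨x, ⟨hx₁, hx₂⟩, hx₃⟩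
  haveI : IsDomain Γ(X, W) := IsIntegral.component_integral W
  have ha' := ha.mono hW1
  have hl' := hl.mono hW2
  have hg' := hg.mono hW3
  have hAL := Groth.Agent.Lib.Lead.Inv.isInvertible_tensorMod hA hL
  obtain ⟨r, hr⟩ := (IsGen.tm ha' hl').exists_eq_smul (SecTwist.val τ W)
  have hr0 : r ≠ 0 := fun h => val_ne_zero hAL τ hτ _ hne (by rw [hr, h]; exact zero_smul _ _)
  obtain ⟨c, hc⟩ := hg'.exists_eq_smul ((φ.app W).hom (rs A hW1 a))
  obtain ⟨r₂, hr₂⟩ := ha'.exists_eq_smul (SecTwist.val σ W)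
  have hc0 : c ≠ 0 := by
    intro h
    apply val_ne_zero hN (σ ≫ φ) hσ W hne
    rw [val_comp, hr₂, Scheme.Modules.Hom.app_smul, hc, h, zero_smul, smul_zero]
    rfl
  have h1 : SecTwist.val (τ ≫ Groth.Agent.Lib.Lead.Inv.tensorMapLeft φ L) W =
      (r * c) • tm N L (rs N hW3 g) (rs L hW2 l) := by
    rw [val_comp, hr, Scheme.Modules.Hom.app_smul, tensorMapLeft_tm, hc, tm_smul_left, mul_smul]
  have h2 : SecTwist.val (τ ≫ Groth.Agent.Lib.Lead.Inv.tensorMapLeft φ L) W = 0 := by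
    rw [h0]; rfl
  have h3 : r * c = 0 :=
    (IsGen.tm hg' hl').smul_injective ((h1.symm.trans h2).trans (zero_smul _ _).symm)
  exact mul_ne_zero hr0 hc0 h3

/-- `H⁰ ≠ 0` from a nonzero section -/
theorem nontrivial_HH_zero [IsIntegral X] {F : X.Modules} (hF : PicF.IsInvertible F)
    (w : Coh.structureModule X ⟶ F) (hw : w ≠ 0) : Nontrivial (Coh.HH X F 0) := by
  let E := Sheaf.H.equiv₀ (Coh.toAb F) Limits.isTerminalTop
  obtain ⟨x⟩ : Nonempty X := inferInstance
  have h1 : SecTwist.val w ⊤ ≠ 0 := val_ne_zero hF w hw ⊤ ⟨x, trivial⟩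
  refine ⟨E.symm (SecTwist.val w ⊤), 0, fun h => h1 ?_⟩
  have := congrArg E h
  rw [AddEquiv.apply_symm_apply, map_zero] at this
  exact this

/-- a nonzero section from `H⁰ ≠ 0` -/
theorem exists_ne_zero_of_nontrivial (F : X.Modules) (hF : Nontrivial (Coh.HH X F 0)) :
    ∃ s : Coh.structureModule X ⟶ F, s ≠ 0 := by
  obtain ⟨x, hx⟩ := exists_ne (0 : Coh.HH X F 0)
  let E := Sheaf.H.equiv₀ (Coh.toAb F) Limits.isTerminalTop
  have hne : E x ≠ 0 := fun h => hx (E.injective (h.trans (map_zero E).symm))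
  refine ⟨Groth.Agent.Lib.Helper35.GlobGen.secHom F (E x), fun h0 => hne ?_⟩
  have h1 := Groth.Agent.Lib.Lead.Inv.val_secHom (M := F) (E x) ⊤
  rw [h0] at h1
  have h2 : F.presheaf.map (homOfLE (le_top : (⊤ : X.Opens) ≤ ⊤)).op (E x) = E x := by
    have : (homOfLE (le_top : (⊤ : X.Opens) ≤ ⊤)).op = 𝟙 _ := rfl
    rw [this, CategoryTheory.Functor.map_id]
    rfl
  rw [h2] at h1
  exact h1.symm

/-- if `L^m` and `L^(m+1)` have nonzero sections then so has `L^M` for `M ≥ m * m` -/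
theorem eventually_sections [IsIntegral X] {L : X.Modules} (hL : PicF.IsInvertible L) (m : ℕ)
    (u : Coh.structureModule X ⟶ CohB1.tensorPow L m) (hu : u ≠ 0)
    (v : Coh.structureModule X ⟶ CohB1.tensorPow L (m + 1)) (hv : v ≠ 0)
    (M : ℕ) (hM : m * m ≤ M) (hm : 0 < m) :
    ∃ w : Coh.structureModule X ⟶ CohB1.tensorPow L M, w ≠ 0 := by
  -- arithmetic
  obtain ⟨a, b, rfl⟩ : ∃ a b : ℕ, M = m * a + (m + 1) * b := by
    have h1 := Nat.div_add_mod M m
    have h2 : M % m < m := Nat.mod_lt _ hm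
    have h3 : m ≤ M / m := by
      rw [Nat.le_div_iff_mul_le hm]
      exact hM
    obtain ⟨a, ha⟩ : ∃ a, M / m = a + M % m := ⟨M / m - M % m, by omega⟩
    refine ⟨a, M % m, ?_⟩
    rw [ha] at h1
    linarith
  have hLm := Groth.Agent.Lib.Lead.Inv.isInvertible_tensorPow hL m
  have hLm1 := Groth.Agent.Lib.Lead.Inv.isInvertible_tensorPow hL (m + 1)
  have hua := secPow_ne_zero hLm u hu a
  have hvb := secPow_ne_zero hLm1 v hv b
  have hP := secMul_ne_zero (Groth.Agent.Lib.Lead.Inv.isInvertible_tensorPow hLm a)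
    (Groth.Agent.Lib.Lead.Inv.isInvertible_tensorPow hLm1 b) _ _ hua hvb
  obtain ⟨e1⟩ := Groth.Agent.Lib.Lead.Inv.nonempty_tensorPow_mul hL m a
  obtain ⟨e2⟩ := Groth.Agent.Lib.Lead.Inv.nonempty_tensorPow_mul hL (m + 1) b
  obtain ⟨e3⟩ := Groth.Agent.Lib.Lead.Inv.nonempty_tensorPow_add hL (m * a) ((m + 1) * b)
  let ψ : CohB1.tensorMod (CohB1.tensorPow (CohB1.tensorPow L m) a)
      (CohB1.tensorPow (CohB1.tensorPow L (m + 1)) b) ≅
      CohB1.tensorPow L (m * a + (m + 1) * b) :=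
    tensorModCongrLeft e1 _ ≪≫ tensorModCongrRight _ e2 ≪≫ e3.symm
  refine ⟨Groth.Agent.Lib.Lead.Inv.secMul (Groth.Agent.Lib.Lead.Inv.secPow u a)
    (Groth.Agent.Lib.Lead.Inv.secPow v b) ≫ ψ.hom, fun h => hP ?_⟩
  rw [← cancel_mono ψ.hom, h, Limits.zero_comp]

/-- **Twisting into effectivity.** For `B` ample and `L` invertible on an integral scheme there
is an ample `A` with a nonzero section such that `A ⊗ L` has a nonzero section. -/
theorem exists_section_twist [IsIntegral X] {B L : X.Modules} (hB : CohB1.IsAmple B)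
    (hL : PicF.IsInvertible L) :
    ∃ (A : X.Modules) (σ : Coh.structureModule X ⟶ A)
      (τ : Coh.structureModule X ⟶ CohB1.tensorMod A L),
      CohB1.IsAmple A ∧ σ ≠ 0 ∧ τ ≠ 0 := by
  obtain ⟨x⟩ : Nonempty X := inferInstance
  obtain ⟨hBinv, hcomp, hcov⟩ := hB
  haveI := hcomp
  haveI : QuasiSeparatedSpace X :=
    Groth.Agent.Lib.Helper35.Ample.quasiSeparatedSpace_of_cover_genLocus hBinv hcov
  obtain ⟨n, s, hxs, haff⟩ := hcov x
  have hB' : CohB1.IsAmple (CohB1.tensorPow B (n + 1)) :=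
    Groth.Agent.Lib.Lead.AmpleDescent.isAmple_tensorPow_succ ⟨hBinv, hcomp, hcov⟩ n
  have hB'inv := hB'.1
  set U : X.Opens := CohB1.genLocus _ s with hU
  haveI : IsAffine (U : Scheme.{u}) := haff
  have hLU : PicF.IsInvertible (L.restrict U.ι) :=
    Groth.Agent.Lib.Helper35.ModRestrict.isInvertible_restrict U.ι L hL
  haveI : (L.restrict U.ι).IsQuasicoherent :=
    Groth.Agent.Lib.Helper35.Ample.isQuasicoherent_of_isInvertible hLU
  have hgg := Groth.Agent.Lib.Helper35.GlobGen.isGloballyGenerated_of_isQuasiAffine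
    (L.restrict U.ι)
  obtain ⟨s₁, hs₁⟩ := Groth.Agent.Lib.Helper35.GlobGen2.exists_section_of_isGloballyGenerated
    hLU hgg ⟨x, hxs⟩
  obtain ⟨n₀, hn₀⟩ := Groth.Agent.Lib.Helper35.TwistExt.exists_twist_section hL hB'inv s U hU s₁
  obtain ⟨τ, hτ⟩ := hn₀ (n₀ + 1) (by omega)
  have hτ0 : τ ≠ 0 := by
    apply ne_zero_of_mem_genLocus τ x
    rw [hτ]
    exact ⟨⟨x, hxs⟩, hs₁, rfl⟩
  have hA : CohB1.IsAmple (CohB1.tensorPow (CohB1.tensorPow B (n + 1)) (n₀ + 1)) :=
    Groth.Agent.Lib.Lead.AmpleDescent.isAmple_tensorPow_succ hB' n₀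
  have hs0 : s ≠ 0 := ne_zero_of_mem_genLocus s x hxs
  obtain ⟨c⟩ := Groth.Agent.Lib.Lead.Inv.nonempty_comm L
    (CohB1.tensorPow (CohB1.tensorPow B (n + 1)) (n₀ + 1))
  refine ⟨_, Groth.Agent.Lib.Lead.Inv.secPow s (n₀ + 1), τ ≫ c.hom, hA,
    secPow_ne_zero hB'inv s hs0 _, fun h => hτ0 ?_⟩
  rw [← cancel_mono c.hom, h, Limits.zero_comp]

end Groth.Agent.Lib.Helper35.BigSec
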