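import Groth.Agent.Lib.Helper35.FinPic
import Groth.Agent.Lib.Lead.SheafPts

/-!
# Gluing invertible modules given on a closed cover with discrete pairwise intersections
-/

universe u

open CategoryTheory AlgebraicGeometry TopologicalSpace Opposite

namespace Groth.Agent.Lib.Helper35.ClosedCoverPic

open Groth.Agent.Lib.Helper35.AbSheaf Groth.Agent.Lib.Helper35.Gen
open Groth.Agent.Lib.Helper35.PbInv Groth.Agent.Lib.Helper35.PerfAmple
open Groth.Agent.Lib.Lead.CocycleMod Groth.Agent.Lib.Helper35.FinPic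
open Groth.Agent.Lib.Lead.SheafGlue

section general

variable {X : Scheme.{u}}

theorem subsingleton_of_eq_bot {O : X.Opens} (h : O = ⊥) : Subsingleton Γ(X, O) := by
  subst h
  exact CommRingCat.subsingleton_of_isTerminal (X.sheaf.isTerminalOfEqEmpty rfl)

theorem isGen_bot (L : X.Modules) (e : Γ(L, ⊥)) : IsGen L ⊥ e := by
  intro W hW
  have hW' : W = ⊥ := le_bot_iff.mp hW
  haveI : Subsingleton Γ(X, W) := subsingleton_of_eq_bot hW'
  haveI : Subsingleton Γ(L, W) := Module.subsingleton Γ(X, W) _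
  exact ⟨fun a b _ => Subsingleton.elim a b, fun m => ⟨0, Subsingleton.elim _ _⟩⟩

end general

variable {X : Scheme.{u}} [IsReduced X] {n : ℕ} (Z : Fin n → X.IdealSheafData)

/-- the supports -/
def A (a : Fin n) : Set X := ((Z a).support : Set X)

theorem isClosed_A (a : Fin n) : IsClosed (A Z a) := (Z a).support.isClosed

theorem range_ι (a : Fin n) : Set.range (Z a).subschemeι = A Z a := (Z a).range_subschemeι

/-- lying in two different members -/
def InT (z : X) : Prop := ∃ a b, a ≠ b ∧ z ∈ A Z a ∧ z ∈ A Z b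

/-- the open part of `Z a` missing the other members -/
def Y (a : Fin n) : X.Opens :=
  ⟨(⋃ b ∈ {b : Fin n | b ≠ a}, A Z b)ᶜ,
    (Set.Finite.isClosed_biUnion (Set.toFinite _) (fun b _ => isClosed_A Z b)).isOpen_compl⟩

theorem mem_Y {a : Fin n} {z : X} : z ∈ Y Z a ↔ ∀ b, b ≠ a → z ∉ A Z b := by
  change z ∈ (⋃ b ∈ {b : Fin n | b ≠ a}, A Z b)ᶜ ↔ _
  constructor
  · intro h b hb hz
    exact h (Set.mem_iUnion₂.mpr ⟨b, hb, hz⟩)
  · intro h hz
    obtain ⟨b, hb, hzb⟩ := Set.mem_iUnion₂.mp hz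
    exact h b hb hzb

variable (hcov : ⋃ i, ((Z i).support : Set X) = Set.univ)
include hcov

theorem exists_mem_A (z : X) : ∃ a, z ∈ A Z a := by
  have : z ∈ ⋃ i, ((Z i).support : Set X) := hcov ▸ Set.mem_univ z
  exact Set.mem_iUnion.mp this

theorem Y_le_A {a : Fin n} {z : X} (hz : z ∈ Y Z a) : z ∈ A Z a := by
  obtain ⟨b, hb⟩ := exists_mem_A Z hcov z
  by_cases hba : b = a
  · exact hba ▸ hb
  · exact absurd hb ((mem_Y Z).mp hz b hba)

theorem mem_Y_of_not_inT {z : X} (hz : ¬ InT Z z) {a : Fin n} (hza : z ∈ A Z a) : z ∈ Y Z a := by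
  rw [mem_Y]
  intro b hb hzb
  exact hz ⟨b, a, hb, hzb, hza⟩

theorem Y_inf_eq_bot {a b : Fin n} (hab : a ≠ b) : Y Z a ⊓ Y Z b = ⊥ := by
  rw [eq_bot_iff]
  rintro z ⟨hza, hzb⟩
  exact absurd (Y_le_A Z hcov hzb) ((mem_Y Z).mp hza b (Ne.symm hab))

theorem isIso_restrict (a : Fin n) : IsIso ((Z a).subschemeι ∣_ Y Z a) := by
  haveI : Surjective ((Z a).subschemeι ∣_ Y Z a) := by
    constructor
    rintro ⟨y, hy⟩
    obtain ⟨w, hw⟩ : y ∈ Set.range (Z a).subschemeι := by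
      rw [range_ι]
      exact Y_le_A Z hcov hy
    refine ⟨⟨w, show (Z a).subschemeι w ∈ Y Z a from hw ▸ hy⟩, ?_⟩
    apply Subtype.ext
    rw [morphismRestrict_base_coe]
    exact hw
  haveI : IsReduced ((Y Z a : X.Opens) : Scheme.{u}) := isReduced_of_isOpenImmersion (Y Z a).ι
  exact isIso_of_isClosedImmersion_of_surjective _

theorem bij (a : Fin n) (S : X.Opens) (hS : S ≤ Y Z a) :
    Function.Bijective (((Z a).subschemeι).app S).hom := by
  haveI := isIso_restrict Z hcov a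
  exact app_bijective_of_le _ (Y Z a) S hS

theorem eq_of_papp_eq {S : X.Opens} (hS : ∀ z ∈ S, ¬ InT Z z) (f g : Γ(X, S))
    (h : ∀ a, papp (Z a).subschemeι S f = papp (Z a).subschemeι S g) : f = g := by
  apply eq_of_locally_eq_ptsX
  intro z hz
  obtain ⟨a, ha⟩ := exists_mem_A Z hcov z
  have hzY := mem_Y_of_not_inT Z hcov (hS z hz) ha
  refine ⟨S ⊓ Y Z a, inf_le_left, ⟨hz, hzY⟩, ?_⟩
  apply (bij Z hcov a (S ⊓ Y Z a) inf_le_right).1
  change papp _ _ (rr X inf_le_left f) = papp _ _ (rr X inf_le_left g)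
  rw [papp_rr, papp_rr, h a]

theorem exists_eta {S : X.Opens} (hS : ∀ z ∈ S, ¬ InT Z z)
    (v : ∀ a, Γ((Z a).subscheme, (Z a).subschemeι ⁻¹ᵁ S)) :
    ∃ η : Γ(X, S), ∀ a, papp (Z a).subschemeι S η = v a := by
  classical
  have hidx : ∀ z : S, ∃ a, z.1 ∈ Y Z a := fun z => by
    obtain ⟨a, ha⟩ := exists_mem_A Z hcov z.1
    exact ⟨a, mem_Y_of_not_inT Z hcov (hS z.1 z.2) ha⟩
  choose idx hidx using hidx
  have hloc : ∀ a, ∃ c : Γ(X, S ⊓ Y Z a), papp (Z a).subschemeι (S ⊓ Y Z a) c =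
      rr _ ((Z a).subschemeι.preimage_mono (inf_le_left : S ⊓ Y Z a ≤ S)) (v a) := fun a =>
    (bij Z hcov a _ inf_le_right).2 _
  choose c hc using hloc
  have compat : ∀ a b, rr X (inf_le_left : (S ⊓ Y Z a) ⊓ (S ⊓ Y Z b) ≤ S ⊓ Y Z a) (c a) =
      rr X (inf_le_right : (S ⊓ Y Z a) ⊓ (S ⊓ Y Z b) ≤ S ⊓ Y Z b) (c b) := by
    intro a b
    by_cases hab : a = b
    · subst hab
      rfl
    · haveI : Subsingleton Γ(X, (S ⊓ Y Z a) ⊓ (S ⊓ Y Z b)) := subsingleton_of_eq_bot (by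
        apply le_bot_iff.mp
        rw [← Y_inf_eq_bot Z hcov hab]
        exact inf_le_inf inf_le_right inf_le_right)
      exact Subsingleton.elim _ _
  obtain ⟨η, hη⟩ := exists_glue_ptsX (W := S) (fun z => S ⊓ Y Z (idx z)) (fun z => inf_le_left)
    (fun z => ⟨z.2, hidx z⟩) (fun z => c (idx z)) (fun z z' => compat (idx z) (idx z'))
  refine ⟨η, fun a => ?_⟩
  apply eq_of_locally_eq_ptsX
  intro w hw
  have hzA : (Z a).subschemeι w ∈ A Z a := by
    rw [← range_ι]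
    exact ⟨w, rfl⟩
  have h1 := hη ⟨(Z a).subschemeι w, hw⟩
  have hY := hidx ⟨(Z a).subschemeι w, hw⟩
  have hb : idx ⟨(Z a).subschemeι w, hw⟩ = a := by
    by_contra hne
    exact hS _ hw ⟨idx ⟨_, hw⟩, a, hne, Y_le_A Z hcov (hidx ⟨_, hw⟩), hzA⟩
  obtain ⟨b, hbdef⟩ : ∃ b, b = idx ⟨(Z a).subschemeι w, hw⟩ := ⟨_, rfl⟩
  rw [← hbdef] at h1 hb hY
  subst hb
  refine ⟨(Z b).subschemeι ⁻¹ᵁ (S ⊓ Y Z b), (Z b).subschemeι.preimage_mono inf_le_left,
    ⟨hw, hY⟩, ?_⟩
  have h2 : rr X (inf_le_left : S ⊓ Y Z b ≤ S) η = c b := h1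
  change rr _ ((Z b).subschemeι.preimage_mono (inf_le_left : S ⊓ Y Z b ≤ S))
    (papp (Z b).subschemeι S η) = rr _ _ (v b)
  rw [← papp_rr (Z b).subschemeι (inf_le_left : S ⊓ Y Z b ≤ S) η, h2, hc b]

variable (hdisc : ∀ i j, i ≠ j →
    DiscreteTopology ↥(((Z i).support : Set X) ∩ ((Z j).support : Set X)))
  (L : ∀ i, (Z i).subscheme.Modules) (hL : ∀ i, PicF.IsInvertible (L i))

omit hcov in
include hdisc hL in
theorem exists_nhd (x : X) :
    ∃ W : X.Opens, x ∈ W ∧ (∀ z ∈ W, InT Z z → z = x) ∧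
      ∀ a, ∃ e : Γ(L a, (Z a).subschemeι ⁻¹ᵁ W), IsGen (L a) ((Z a).subschemeι ⁻¹ᵁ W) e := by
  classical
  have h1 : ∀ p : Fin n × Fin n, ∃ O : X.Opens, x ∈ O ∧
      ∀ z ∈ O, p.1 ≠ p.2 → z ∈ A Z p.1 → z ∈ A Z p.2 → z = x := by
    intro p
    by_cases hp : p.1 ≠ p.2 ∧ x ∈ A Z p.1 ∧ x ∈ A Z p.2
    · haveI : DiscreteTopology ↥(A Z p.1 ∩ A Z p.2) := hdisc p.1 p.2 hp.1
      have hopen : IsOpen ({⟨x, hp.2.1, hp.2.2⟩} : Set ↥(A Z p.1 ∩ A Z p.2)) :=
        isOpen_discrete _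
      obtain ⟨t, ht, hte⟩ := isOpen_induced_iff.mp hopen
      refine ⟨⟨t, ht⟩, ?_, ?_⟩
      · have : (⟨x, hp.2.1, hp.2.2⟩ : ↥(A Z p.1 ∩ A Z p.2)) ∈ Subtype.val ⁻¹' t := by
          rw [hte]; rfl
        exact this
      · intro z hz _ hz1 hz2
        have : (⟨z, hz1, hz2⟩ : ↥(A Z p.1 ∩ A Z p.2)) ∈ Subtype.val ⁻¹' t := hz
        rw [hte] at this
        exact congrArg Subtype.val (Set.mem_singleton_iff.mp this)
    · by_cases hne : p.1 ≠ p.2
      · have hx : x ∉ A Z p.1 ∩ A Z p.2 := fun h => hp ⟨hne, h.1, h.2⟩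
        refine ⟨⟨(A Z p.1 ∩ A Z p.2)ᶜ,
          ((isClosed_A Z p.1).inter (isClosed_A Z p.2)).isOpen_compl⟩, hx, ?_⟩
        intro z hz _ hz1 hz2
        exact absurd ⟨hz1, hz2⟩ hz
      · exact ⟨⊤, trivial, fun z _ h => absurd h hne⟩
  choose O hxO hO using h1
  have h2 : ∀ a, ∃ O' : X.Opens, x ∈ O' ∧ ∃ U' : (Z a).subscheme.Opens,
      (Z a).subschemeι ⁻¹ᵁ O' ≤ U' ∧ ∃ e : Γ(L a, U'), IsGen (L a) U' e := by
    intro a
    by_cases hxa : x ∈ A Z a
    · obtain ⟨w, rfl⟩ : x ∈ Set.range (Z a).subschemeι := by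
        rw [range_ι]
        exact hxa
      obtain ⟨U', hwU', e, he⟩ := exists_isGen_of_isInvertible (hL a) w
      obtain ⟨t, ht, hte⟩ :=
        (Z a).subschemeι.isClosedEmbedding.isEmbedding.isInducing.isOpen_iff.mp U'.isOpen
      refine ⟨⟨t, ht⟩, ?_, U', ?_, e, he⟩
      · have : w ∈ (Z a).subschemeι ⁻¹' t := by rw [hte]; exact hwU'
        exact this
      · intro y hy
        have : y ∈ (Z a).subschemeι ⁻¹' t := hy
        rw [hte] at this
        exact this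
    · refine ⟨⟨(A Z a)ᶜ, (isClosed_A Z a).isOpen_compl⟩, hxa, ⊥, ?_, 0, isGen_bot _ _⟩
      intro y hy
      have : (Z a).subschemeι y ∈ A Z a := by
        rw [← range_ι]
        exact ⟨y, rfl⟩
      exact absurd this hy
  choose O' hxO' U' hU' e he using h2
  let W : X.Opens := ⟨(⋂ p, (O p : Set X)) ∩ (⋂ a, (O' a : Set X)),
    (isOpen_iInter_of_finite (fun p => (O p).isOpen)).inter
      (isOpen_iInter_of_finite (fun a => (O' a).isOpen))⟩
  refine ⟨W, ⟨Set.mem_iInter.mpr hxO, Set.mem_iInter.mpr hxO'⟩, ?_, ?_⟩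
  · rintro z ⟨hz1, _⟩ ⟨a, b, hab, hza, hzb⟩
    exact hO (a, b) z (Set.mem_iInter.mp hz1 (a, b)) hab hza hzb
  · intro a
    have hle : (Z a).subschemeι ⁻¹ᵁ W ≤ U' a := fun y hy =>
      hU' a (Set.mem_iInter.mp hy.2 a)
    exact ⟨rs (L a) hle (e a), (he a).mono hle⟩

include hdisc hL in
theorem exists_glued :
    ∃ M : X.Modules, PicF.IsInvertible M ∧
      ∀ a, Nonempty ((Scheme.Modules.pullback (Z a).subschemeι).obj M ≅ L a) := by
  classical
  choose W hxW hWT e he using exists_nhd Z hdisc L hL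
  have hWW : ∀ x y, x ≠ y → ∀ z ∈ W x ⊓ W y, ¬ InT Z z := by
    intro x y hxy z hz hT
    exact hxy ((hWT x z hz.1 hT).symm.trans (hWT y z hz.2 hT))
  -- transition functions of the `L a`
  have hu0 : ∀ a x y, ∃ c : Γ((Z a).subscheme, (Z a).subschemeι ⁻¹ᵁ (W x ⊓ W y)),
      rs (L a) ((Z a).subschemeι.preimage_mono (inf_le_left : W x ⊓ W y ≤ W x)) (e x a) =
        c • rs (L a) ((Z a).subschemeι.preimage_mono (inf_le_right : W x ⊓ W y ≤ W y))
          (e y a) := fun a x y =>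
    ((he y a).mono ((Z a).subschemeι.preimage_mono
      (inf_le_right : W x ⊓ W y ≤ W y))).exists_eq_smul _
  choose u hu using hu0
  have huself : ∀ a x, u a x x = 1 := by
    intro a x
    have h1 := hu a x x
    have h2 : (1 : Γ((Z a).subscheme, (Z a).subschemeι ⁻¹ᵁ (W x ⊓ W x))) •
        rs (L a) ((Z a).subschemeι.preimage_mono (inf_le_right : W x ⊓ W x ≤ W x)) (e x a) =
        u a x x • rs (L a) ((Z a).subschemeι.preimage_mono
          (inf_le_right : W x ⊓ W x ≤ W x)) (e x a) := by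
      rw [one_smul]
      exact h1
    exact (((he x a).mono ((Z a).subschemeι.preimage_mono
      (inf_le_right : W x ⊓ W x ≤ W x))).smul_injective h2).symm
  have hcoc : ∀ (a : Fin n) (i j k : X) (T : X.Opens) (h1 : T ≤ W i ⊓ W j) (h2 : T ≤ W j ⊓ W k)
      (h3 : T ≤ W i ⊓ W k), rr _ ((Z a).subschemeι.preimage_mono h3) (u a i k) =
      rr _ ((Z a).subschemeι.preimage_mono h1) (u a i j) *
        rr _ ((Z a).subschemeι.preimage_mono h2) (u a j k) := by
    intro a i j k T h1 h2 h3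
    have hYi : (Z a).subschemeι ⁻¹ᵁ T ≤ (Z a).subschemeι ⁻¹ᵁ W i :=
      (Z a).subschemeι.preimage_mono (h1.trans inf_le_left)
    have hYj : (Z a).subschemeι ⁻¹ᵁ T ≤ (Z a).subschemeι ⁻¹ᵁ W j :=
      (Z a).subschemeι.preimage_mono (h1.trans inf_le_right)
    have hYk : (Z a).subschemeι ⁻¹ᵁ T ≤ (Z a).subschemeι ⁻¹ᵁ W k :=
      (Z a).subschemeι.preimage_mono (h2.trans inf_le_right)
    have A1 : rs (L a) hYi (e i a) =
        rr _ ((Z a).subschemeι.preimage_mono h1) (u a i j) • rs (L a) hYj (e j a) := by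
      have := congrArg (rs (L a) ((Z a).subschemeι.preimage_mono h1)) (hu a i j)
      rw [rs_rs, rs_smul, rs_rs] at this
      exact this
    have B1 : rs (L a) hYj (e j a) =
        rr _ ((Z a).subschemeι.preimage_mono h2) (u a j k) • rs (L a) hYk (e k a) := by
      have := congrArg (rs (L a) ((Z a).subschemeι.preimage_mono h2)) (hu a j k)
      rw [rs_rs, rs_smul, rs_rs] at this
      exact this
    have C1 : rs (L a) hYi (e i a) =
        rr _ ((Z a).subschemeι.preimage_mono h3) (u a i k) • rs (L a) hYk (e k a) := by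
      have := congrArg (rs (L a) ((Z a).subschemeι.preimage_mono h3)) (hu a i k)
      rw [rs_rs, rs_smul, rs_rs] at this
      exact this
    rw [B1, ← mul_smul] at A1
    rw [A1] at C1
    exact (((he k a).mono hYk).smul_injective C1).symm
  -- descend the transition functions
  have hη0 : ∀ x y, ∃ c : Γ(X, W x ⊓ W y),
      (∀ a, papp (Z a).subschemeι (W x ⊓ W y) c = u a x y) ∧ (x = y → c = 1) := by
    intro x y
    by_cases hxy : x = y
    · subst hxy
      exact ⟨1, fun a => by rw [map_one, huself], fun _ => rfl⟩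
    · obtain ⟨c, hc⟩ := exists_eta Z hcov (hWW x y hxy) (fun a => u a x y)
      exact ⟨c, hc, fun h => absurd h hxy⟩
  choose η hηu hηself using hη0
  have hη : ∀ (i j k : X) (T : X.Opens) (h1 : T ≤ W i ⊓ W j) (h2 : T ≤ W j ⊓ W k)
      (h3 : T ≤ W i ⊓ W k), rr X h3 (η i k) = rr X h1 (η i j) * rr X h2 (η j k) := by
    intro i j k T h1 h2 h3
    by_cases hijk : i = j ∧ j = k
    · obtain ⟨rfl, rfl⟩ := hijk
      rw [hηself i i rfl, map_one, mul_one]
    · have hT : ∀ z ∈ T, ¬ InT Z z := by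
        by_cases hij : i = j
        · have hjk : j ≠ k := fun h => hijk ⟨hij, h⟩
          exact fun z hz => hWW j k hjk z (h2 hz)
        · exact fun z hz => hWW i j hij z (h1 hz)
      apply eq_of_papp_eq Z hcov hT
      intro a
      rw [map_mul, papp_rr, papp_rr, papp_rr, hηu, hηu, hηu]
      exact hcoc a i j k T h1 h2 h3
  have hηunit : ∀ i, IsUnit (η i i) := by
    intro i
    rw [hηself i i rfl]
    exact isUnit_one
  have hgenM : ∀ i, IsGen (cocMod W η) (W i) (gen hη i) := fun i S h =>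
    gen_bijective hη hηunit i S h
  have hMinv : PicF.IsInvertible (cocMod W η) := by
    apply isInvertible_of_isGen
    intro x
    exact ⟨W x, hxW x, gen hη x, hgenM x⟩
  refine ⟨cocMod W η, hMinv, fun a => ?_⟩
  refine Groth.Agent.Lib.Helper35.CocIso.nonempty_iso (fun x => (Z a).subschemeι ⁻¹ᵁ W x)
    (fun x => pbSec (Z a).subschemeι (cocMod W η) (W x) (gen hη x))
    (fun x => isGen_pbSec (Z a).subschemeι (cocMod W η) (W x) (gen hη x) (hgenM x))
    (fun x => e x a) ?_ (fun x => he x a)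
    (fun w => ⟨(Z a).subschemeι w, hxW ((Z a).subschemeι w)⟩)
  intro x y
  have e2 : rs ((Scheme.Modules.pullback (Z a).subschemeι).obj (cocMod W η))
      ((Z a).subschemeι.preimage_mono (inf_le_left : W x ⊓ W y ≤ W x))
        (pbSec (Z a).subschemeι (cocMod W η) (W x) (gen hη x)) =
      u a x y • rs ((Scheme.Modules.pullback (Z a).subschemeι).obj (cocMod W η))
        ((Z a).subschemeι.preimage_mono (inf_le_right : W x ⊓ W y ≤ W y))
          (pbSec (Z a).subschemeι (cocMod W η) (W y) (gen hη y)) := by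
    rw [pbSec_rs (Z a).subschemeι _ (inf_le_left : W x ⊓ W y ≤ W x),
      pbSec_rs (Z a).subschemeι _ (inf_le_right : W x ⊓ W y ≤ W y), gen_rel hη x y, pbSec_smul,
      ← hηu x y a]
    rfl
  exact ⟨u a x y, e2, hu a x y⟩

end Groth.Agent.Lib.Helper35.ClosedCoverPic
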