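import Groth.Agent.Lib.Helper35.PbTensor
import Groth.Agent.Lib.Helper2.HomGlue

/-!
# Two modules with local generators having the same transition functions are isomorphic
-/

universe u

open CategoryTheory AlgebraicGeometry TopologicalSpace Opposite

namespace Groth.Agent.Lib.Helper35.CocIso

open Groth.Agent.Lib.Helper35.AbSheaf Groth.Agent.Lib.Helper35.Gen

variable {X : Scheme.{u}} {M N : X.Modules} {ι : Type u} (V : ι → X.Opens)
  (e : ∀ i, Γ(M, V i)) (he : ∀ i, IsGen M (V i) (e i))
  (e' : ∀ i, Γ(N, V i))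

/-- the coefficient of a section with respect to the generator `e i` -/
noncomputable def co (i : ι) (W : X.Opens) (h : W ≤ V i) (a : Γ(M, W)) : Γ(X, W) :=
  (((he i).mono h).exists_eq_smul a).choose

theorem co_spec (i : ι) (W : X.Opens) (h : W ≤ V i) (a : Γ(M, W)) :
    a = co V e he i W h a • rs M h (e i) := by
  exact (((he i).mono h).exists_eq_smul a).choose_spec

theorem co_unique (i : ι) (W : X.Opens) (h : W ≤ V i) (a : Γ(M, W)) (c : Γ(X, W))
    (hc : a = c • rs M h (e i)) : co V e he i W h a = c := by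
  have h1 := co_spec V e he i W h a
  rw [hc] at h1
  rw [hc]
  exact (((he i).mono h).smul_injective h1).symm

variable (hrel : ∀ i j, ∃ u : Γ(X, V i ⊓ V j),
    rs M (inf_le_left : V i ⊓ V j ≤ V i) (e i) = u • rs M (inf_le_right : V i ⊓ V j ≤ V j) (e j) ∧
    rs N (inf_le_left : V i ⊓ V j ≤ V i) (e' i) = u • rs N (inf_le_right : V i ⊓ V j ≤ V j) (e' j))

include hrel in
theorem indep (i j : ι) (W : X.Opens) (hi : W ≤ V i) (hj : W ≤ V j) (a : Γ(M, W)) :
    co V e he i W hi a • rs N hi (e' i) = co V e he j W hj a • rs N hj (e' j) := by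
  obtain ⟨u, hu, hu'⟩ := hrel i j
  have hW : W ≤ V i ⊓ V j := le_inf hi hj
  have h1 : rs M hi (e i) = rr X hW u • rs M hj (e j) := by
    have := congrArg (rs M hW) hu
    rw [rs_rs, rs_smul, rs_rs] at this
    exact this
  have h1' : rs N hi (e' i) = rr X hW u • rs N hj (e' j) := by
    have := congrArg (rs N hW) hu'
    rw [rs_rs, rs_smul, rs_rs] at this
    exact this
  have h2 : co V e he j W hj a = co V e he i W hi a * rr X hW u := by
    apply co_unique
    rw [mul_smul, ← h1]
    exact co_spec V e he i W hi a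
  rw [h2, h1', mul_smul]

/-- the local maps -/
noncomputable def T (W : X.Opens) (hW : ∃ i, W ≤ V i) (a : Γ(M, W)) : Γ(N, W) :=
  co V e he hW.choose W hW.choose_spec a • rs N hW.choose_spec (e' hW.choose)

include hrel in
theorem T_eq (W : X.Opens) (hW : ∃ i, W ≤ V i) (i : ι) (hi : W ≤ V i) (a : Γ(M, W)) :
    T V e he e' W hW a = co V e he i W hi a • rs N hi (e' i) :=
  indep V e he e' hrel _ i W _ hi a

include hrel he in
theorem exists_hom (hcov : ∀ x : X, ∃ i, x ∈ V i) :
    ∃ τ : M ⟶ N, ∀ i, (τ.app (V i)).hom (e i) = e' i := by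
  obtain ⟨τ, hτ⟩ := Groth.Agent.Lib.Helper2.HomGlue.exists_hom (M := M) (N := N)
    (good := fun W => ∃ i, W ≤ V i) (t := T V e he e')
    (by
      intro U x hx
      obtain ⟨i, hi⟩ := hcov x
      exact ⟨U ⊓ V i, ⟨i, inf_le_right⟩, ⟨hx, hi⟩, inf_le_left⟩)
    (by
      intro W hW a b
      obtain ⟨i, hi⟩ := hW
      rw [T_eq V e he e' hrel W ⟨i, hi⟩ i hi, T_eq V e he e' hrel W ⟨i, hi⟩ i hi,
        T_eq V e he e' hrel W ⟨i, hi⟩ i hi, ← add_smul]
      congr 1
      apply co_unique
      rw [add_smul, ← co_spec, ← co_spec])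
    (by
      intro W hW r a
      obtain ⟨i, hi⟩ := hW
      rw [T_eq V e he e' hrel W ⟨i, hi⟩ i hi, T_eq V e he e' hrel W ⟨i, hi⟩ i hi, ← mul_smul]
      congr 1
      apply co_unique
      rw [mul_smul, ← co_spec])
    (by
      intro W W' hW hW' h a
      obtain ⟨i, hi⟩ := hW
      rw [T_eq V e he e' hrel W ⟨i, hi⟩ i hi, T_eq V e he e' hrel W' hW' i (h.trans hi)]
      change rs N h (co V e he i W hi a • rs N hi (e' i)) = _
      rw [rs_smul, rs_rs]
      congr 1
      symm
      apply co_unique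
      change rs M h a = _
      rw [← rs_rs M hi h, ← rs_smul, ← co_spec])
  refine ⟨τ, fun i => ?_⟩
  have h1 := hτ (V i) ⟨i, le_rfl⟩ (e i)
  rw [T_eq V e he e' hrel (V i) ⟨i, le_rfl⟩ i le_rfl] at h1
  have h2 : co V e he i (V i) le_rfl (e i) = 1 := by
    apply co_unique
    rw [one_smul, rs_self]
  rw [h2, one_smul, rs_self] at h1
  exact h1

include hrel he in
/-- modules with generators on a common cover with the same transition functions are isomorphic -/
theorem nonempty_iso (he' : ∀ i, IsGen N (V i) (e' i)) (hcov : ∀ x : X, ∃ i, x ∈ V i) :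
    Nonempty (M ≅ N) := by
  obtain ⟨τ, hτ⟩ := exists_hom V e he e' hrel hcov
  haveI : IsIso τ := by
    apply Groth.Agent.Lib.Helper35.PbTensor.isIso_of_isGen_map
    intro x
    obtain ⟨i, hi⟩ := hcov x
    refine ⟨V i, hi, e i, he i, ?_⟩
    rw [hτ i]
    exact he' i
  exact ⟨asIso τ⟩

end Groth.Agent.Lib.Helper35.CocIso
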