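import Groth.Agent.Lib.Helper35.QcohSec

/-!
# Extension of sections up to powers of a "Cartier cocycle" (abstract form of EGA I 9.3.1)
-/

universe u

open CategoryTheory AlgebraicGeometry TopologicalSpace Opposite

namespace Groth.Agent.Lib.Helper35.Cocycle

open Groth.Agent.Lib.Helper35.AbSheaf Groth.Agent.Lib.Helper35.Gen
open Groth.Agent.Lib.Helper35.QcohSec

variable {X : Scheme.{u}}

/-- local equations `c i` on a finite affine cover of an open `U`, with transition units -/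
structure Data (X : Scheme.{u}) where
  ι : Type u
  fin : Finite ι
  V : ι → X.Opens
  hV : ∀ i, IsAffineOpen (V i)
  cover : ∀ x : X, ∃ i, x ∈ V i
  c : ∀ i, Γ(X, V i)
  u : ∀ i j, Γ(X, V i ⊓ V j)
  hcu : ∀ i j, rr X inf_le_left (c i) = u i j * rr X inf_le_right (c j)
  U : X.Opens
  hU : ∀ i, X.basicOpen (c i) = U ⊓ V i

theorem rs_pow_smul (F : X.Modules) {U V : X.Opens} (h : V ≤ U) (c : Γ(X, U)) (n : ℕ)
    (x : Γ(F, U)) : rs F h (c ^ n • x) = rr X h c ^ n • rs F h x := by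
  rw [rs_smul, rr_pow]

theorem rs_sub (F : X.Modules) {U V : X.Opens} (h : V ≤ U) (x y : Γ(F, U)) :
    rs F h (x - y) = rs F h x - rs F h y := map_sub _ _ _

variable (D : Data X) (F : X.Modules) [F.IsQuasicoherent]

/-- annihilation -/
theorem Data.exists_pow_smul_eq_zero (t : Γ(F, ⊤)) (ht : rs F (le_top : D.U ≤ ⊤) t = 0) :
    ∃ n : ℕ, 0 < n ∧ ∀ i, D.c i ^ n • rs F (le_top : D.V i ≤ ⊤) t = 0 := by
  haveI := D.fin
  haveI := Fintype.ofFinite D.ι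
  have hloc : ∀ i, ∃ n : ℕ, D.c i ^ n • rs F (le_top : D.V i ≤ ⊤) t = 0 := by
    intro i
    apply exists_pow_smul_eq_zero_of_affine F (D.hV i)
    have h1 : X.basicOpen (D.c i) ≤ D.U := (D.hU i).le.trans inf_le_left
    rw [rs_rs, ← rs_rs F (le_top : D.U ≤ ⊤) h1, ht, rs_zero]
  choose n hn using hloc
  refine ⟨(∑ i, n i) + 1, Nat.succ_pos _, fun i => ?_⟩
  have hN : (∑ i, n i) + 1 = ((∑ i, n i) + 1 - n i) + n i := by
    have : n i ≤ ∑ i, n i := Finset.single_le_sum (fun _ _ => Nat.zero_le _) (Finset.mem_univ i)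
    omega
  rw [hN, pow_add, mul_smul, hn i, smul_zero]

theorem Data.exists_extension [QuasiSeparatedSpace X] (t : Γ(F, D.U)) :
    ∃ n : ℕ, 0 < n ∧ ∃ x : ∀ i, Γ(F, D.V i),
      (∀ i, rs F (inf_le_right : D.U ⊓ D.V i ≤ D.V i) (x i) =
        (rr X (inf_le_right : D.U ⊓ D.V i ≤ D.V i) (D.c i)) ^ n • rs F (inf_le_left : D.U ⊓ D.V i ≤ D.U) t) ∧
      (∀ i j, rs F (inf_le_left : D.V i ⊓ D.V j ≤ D.V i) (x i) =
        (D.u i j) ^ n • rs F (inf_le_right : D.V i ⊓ D.V j ≤ D.V j) (x j)) := by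
  haveI := D.fin
  haveI := Fintype.ofFinite D.ι
  have hDU : ∀ i, X.basicOpen (D.c i) ≤ D.U := fun i => (D.hU i).le.trans inf_le_left
  have hUD : ∀ i, D.U ⊓ D.V i ≤ X.basicOpen (D.c i) := fun i => (D.hU i).ge
  -- Step 1: local extensions
  have h1 : ∀ i, ∃ (n : ℕ) (x : Γ(F, D.V i)),
      rs F (inf_le_right : D.U ⊓ D.V i ≤ D.V i) x =
        (rr X (inf_le_right : D.U ⊓ D.V i ≤ D.V i) (D.c i)) ^ n • rs F (inf_le_left : D.U ⊓ D.V i ≤ D.U) t := by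
    intro i
    obtain ⟨n, x, hx⟩ := exists_extension_of_affine F (D.hV i) (D.c i) (rs F (hDU i) t)
    refine ⟨n, x, ?_⟩
    have := congrArg (rs F (hUD i)) hx
    rw [rs_rs, rs_smul, rr_pow, rr_rr, rs_rs] at this
    exact this
  choose n₁ x₁ hx₁ using h1
  obtain ⟨N, hN⟩ : ∃ N : ℕ, ∀ i, n₁ i ≤ N :=
    ⟨∑ i, n₁ i, fun i => Finset.single_le_sum (fun _ _ => Nat.zero_le _) (Finset.mem_univ i)⟩
  obtain ⟨x₂, hx₂def⟩ : ∃ x₂ : ∀ i, Γ(F, D.V i), ∀ i, x₂ i = D.c i ^ (N - n₁ i) • x₁ i :=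
    ⟨_, fun _ => rfl⟩
  have hx₂ : ∀ i, rs F (inf_le_right : D.U ⊓ D.V i ≤ D.V i) (x₂ i) =
      (rr X (inf_le_right : D.U ⊓ D.V i ≤ D.V i) (D.c i)) ^ N • rs F (inf_le_left : D.U ⊓ D.V i ≤ D.U) t := by
    intro i
    have hN' : N = (N - n₁ i) + n₁ i := by
      have := hN i
      omega
    rw [hx₂def, rs_pow_smul, hx₁ i, ← mul_smul, ← pow_add, ← hN']
  -- Step 2: differences on overlaps
  obtain ⟨d, hddef⟩ : ∃ d : ∀ i j, Γ(F, D.V i ⊓ D.V j), ∀ i j, d i j =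
      rs F inf_le_left (x₂ i) - D.u i j ^ N • rs F inf_le_right (x₂ j) := ⟨_, fun _ _ => rfl⟩
  have hd : ∀ i j, rs F (inf_le_left : (D.V i ⊓ D.V j) ⊓ X.basicOpen (D.c i) ≤ D.V i ⊓ D.V j)
      (d i j) = 0 := by
    intro i j
    have hZi : (D.V i ⊓ D.V j) ⊓ X.basicOpen (D.c i) ≤ D.U ⊓ D.V i :=
      le_inf (inf_le_right.trans (hDU i)) (inf_le_left.trans inf_le_left)
    have hZj : (D.V i ⊓ D.V j) ⊓ X.basicOpen (D.c i) ≤ D.U ⊓ D.V j :=
      le_inf (inf_le_right.trans (hDU i)) (inf_le_left.trans inf_le_right)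
    have e1 : rs F (inf_le_left : (D.V i ⊓ D.V j) ⊓ X.basicOpen (D.c i) ≤ D.V i ⊓ D.V j)
        (rs F inf_le_left (x₂ i)) = rs F hZi (rs F inf_le_right (x₂ i)) := by
      rw [rs_rs, rs_rs]
    have e2 : rs F (inf_le_left : (D.V i ⊓ D.V j) ⊓ X.basicOpen (D.c i) ≤ D.V i ⊓ D.V j)
        (rs F inf_le_right (x₂ j)) = rs F hZj (rs F inf_le_right (x₂ j)) := by
      rw [rs_rs, rs_rs]
    have e3 := congrArg (rr X (inf_le_left :
      (D.V i ⊓ D.V j) ⊓ X.basicOpen (D.c i) ≤ D.V i ⊓ D.V j)) (D.hcu i j)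
    rw [map_mul, rr_rr, rr_rr] at e3
    rw [hddef, rs_sub, rs_pow_smul, e1, e2, hx₂ i, hx₂ j, rs_pow_smul, rs_pow_smul, rr_rr, rr_rr,
      rs_rs, rs_rs, ← mul_smul, ← mul_pow, ← e3, sub_self]
  have hVc : ∀ i, IsCompact ((D.V i : X.Opens) : Set X) := fun i => (D.hV i).isCompact
  have hWc : ∀ i j, IsCompact ((D.V i ⊓ D.V j : X.Opens) : Set X) := fun i j =>
    QuasiSeparatedSpace.inter_isCompact _ _ (D.V i).isOpen (hVc i) (D.V j).isOpen (hVc j)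
  have h2 : ∀ i j, ∃ m : ℕ, (rr X (inf_le_left : D.V i ⊓ D.V j ≤ D.V i) (D.c i)) ^ m • d i j = 0 :=
    fun i j => exists_pow_smul_eq_zero_of_compact F inf_le_left (hWc i j) (D.c i) (d i j) (hd i j)
  choose m hm using h2
  obtain ⟨M, hMpos, hM⟩ : ∃ M : ℕ, 0 < M ∧ ∀ i j, m i j ≤ M := by
    refine ⟨(∑ i, ∑ j, m i j) + 1, Nat.succ_pos _, fun i j => ?_⟩
    have h1 : m i j ≤ ∑ j, m i j :=
      Finset.single_le_sum (f := fun j => m i j) (fun _ _ => Nat.zero_le _) (Finset.mem_univ j)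
    have h2 : ∑ j, m i j ≤ ∑ i, ∑ j, m i j :=
      Finset.single_le_sum (f := fun i => ∑ j, m i j) (fun _ _ => Nat.zero_le _)
        (Finset.mem_univ i)
    omega
  refine ⟨M + N, by omega, fun i => D.c i ^ M • x₂ i, ?_, ?_⟩
  · intro i
    rw [rs_pow_smul, hx₂ i, ← mul_smul, ← pow_add]
  · intro i j
    have hM' : M = (M - m i j) + m i j := by
      have := hM i j
      omega
    have key : (rr X (inf_le_left : D.V i ⊓ D.V j ≤ D.V i) (D.c i)) ^ M • d i j = 0 := by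
      rw [hM', pow_add, mul_smul, hm i j, smul_zero]
    rw [rs_pow_smul, rs_pow_smul, ← sub_eq_zero]
    rw [← key, hddef, smul_sub, D.hcu i j, ← mul_smul, ← mul_smul]
    congr 2
    ring

omit [F.IsQuasicoherent] in
/-- gluing local sections of a twisted module -/
theorem Data.glue (G : X.Modules) (n : ℕ)
    (θ : ∀ (i : D.ι) (W : X.Opens), W ≤ D.V i → Γ(F, W) → Γ(G, W))
    (hnat : ∀ (i : D.ι) (W W' : X.Opens) (hW : W ≤ D.V i) (h : W' ≤ W) (x : Γ(F, W)),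
      rs G h (θ i W hW x) = θ i W' (h.trans hW) (rs F h x))
    (htrans : ∀ (i j : D.ι) (W : X.Opens) (hW : W ≤ D.V i ⊓ D.V j) (x : Γ(F, W)),
      θ j W (hW.trans inf_le_right) x =
        θ i W (hW.trans inf_le_left) ((rr X hW (D.u i j)) ^ n • x))
    (x : ∀ i, Γ(F, D.V i))
    (hx : ∀ i j, rs F (inf_le_left : D.V i ⊓ D.V j ≤ D.V i) (x i) =
      (D.u i j) ^ n • rs F (inf_le_right : D.V i ⊓ D.V j ≤ D.V j) (x j)) :
    ∃ g : Γ(G, ⊤), ∀ i, rs G (le_top : D.V i ≤ ⊤) g = θ i (D.V i) le_rfl (x i) := by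
  have hcov : (⊤ : X.Opens) ≤ iSup D.V := by
    intro y _
    obtain ⟨i, hi⟩ := D.cover y
    exact Opens.mem_iSup.mpr ⟨i, hi⟩
  obtain ⟨g, hg⟩ := glue' G.presheaf G.isSheaf D.V (fun _ => le_top) hcov
    (fun i => θ i (D.V i) le_rfl (x i)) (by
      intro i j
      change rs G _ (θ i (D.V i) le_rfl (x i)) = rs G _ (θ j (D.V j) le_rfl (x j))
      rw [hnat, hnat, hx i j, htrans i j (D.V i ⊓ D.V j) le_rfl, rr_self])
  exact ⟨g, hg⟩

/-- extension of a section over `U` to a global section of a twist -/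
theorem Data.exists_global [QuasiSeparatedSpace X] (t : Γ(F, D.U)) (G : ℕ → X.Modules)
    (θ : ∀ (n : ℕ) (i : D.ι) (W : X.Opens), W ≤ D.V i → Γ(F, W) → Γ(G n, W))
    (hnat : ∀ (n : ℕ) (i : D.ι) (W W' : X.Opens) (hW : W ≤ D.V i) (h : W' ≤ W) (x : Γ(F, W)),
      rs (G n) h (θ n i W hW x) = θ n i W' (h.trans hW) (rs F h x))
    (htrans : ∀ (n : ℕ) (i j : D.ι) (W : X.Opens) (hW : W ≤ D.V i ⊓ D.V j) (x : Γ(F, W)),
      θ n j W (hW.trans inf_le_right) x =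
        θ n i W (hW.trans inf_le_left) ((rr X hW (D.u i j)) ^ n • x)) :
    ∃ n : ℕ, 0 < n ∧ ∃ g : Γ(G n, ⊤), ∀ i, rs (G n) (le_top : D.U ⊓ D.V i ≤ ⊤) g =
      θ n i (D.U ⊓ D.V i) inf_le_right
        ((rr X (inf_le_right : D.U ⊓ D.V i ≤ D.V i) (D.c i)) ^ n •
          rs F (inf_le_left : D.U ⊓ D.V i ≤ D.U) t) := by
  obtain ⟨n, hn, x, hx1, hx2⟩ := D.exists_extension F t
  obtain ⟨g, hg⟩ := D.glue F (G n) n (θ n) (hnat n) (htrans n) x hx2
  refine ⟨n, hn, g, fun i => ?_⟩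
  rw [← hx1 i, ← hnat n i (D.V i) (D.U ⊓ D.V i) le_rfl inf_le_right, ← hg i, rs_rs]

end Groth.Agent.Lib.Helper35.Cocycle
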