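import Mathlib

/-!
Cokernel of a map of finite projective modules: projectivity vs. surjectivity of
`κ(p) ⊗ Ker d → Ker (κ(p) ⊗ d)`.
-/

namespace Groth.Agent.Lib.Helper35.CokerProj

open TensorProduct

section L1
variable {R : Type*} [CommRing R] {M N : Type*} [AddCommGroup M] [Module R M]
  [AddCommGroup N] [Module R N]
  (k : Type*) [CommRing k] [Algebra R k] (d : M →ₗ[R] N)

theorem ker_le_range_iff :
    LinearMap.ker (d.baseChange k) ≤
        LinearMap.range ((LinearMap.ker d).subtype.baseChange k) ↔
      Function.Injective ((LinearMap.range d).subtype.baseChange k) := by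
  have hex0 : Function.Exact (LinearMap.ker d).subtype d.rangeRestrict := by
    rw [LinearMap.exact_iff, LinearMap.ker_rangeRestrict, Submodule.range_subtype]
  have hs0 : Function.Surjective d.rangeRestrict := d.surjective_rangeRestrict
  have hex : Function.Exact ((LinearMap.ker d).subtype.baseChange k)
      (d.rangeRestrict.baseChange k) := by
    rw [LinearMap.baseChange_eq_ltensor, LinearMap.baseChange_eq_ltensor]
    exact lTensor_exact k hex0 hs0
  have hsurj : Function.Surjective (d.rangeRestrict.baseChange k) := by
    rw [LinearMap.baseChange_eq_ltensor]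
    exact LinearMap.lTensor_surjective k hs0
  have hd : d.baseChange k = ((LinearMap.range d).subtype.baseChange k) ∘ₗ
      (d.rangeRestrict.baseChange k) := by
    rw [← LinearMap.baseChange_comp]; rfl
  constructor
  · intro h
    rw [injective_iff_map_eq_zero]
    intro x hx
    obtain ⟨y, rfl⟩ := hsurj x
    have hy : y ∈ LinearMap.ker (d.baseChange k) := by
      rw [LinearMap.mem_ker, hd]; exact hx
    obtain ⟨z, rfl⟩ := h hy
    exact hex.apply_apply_eq_zero z
  · intro h y hy
    rw [LinearMap.mem_ker, hd] at hy
    have := h (hy.trans (map_zero _).symm)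
    exact (hex y).mp this

end L1

section L3
variable {R : Type*} [CommRing R] (A : Type*) [CommRing A] [Algebra R A]
  (k : Type*) [AddCommGroup k] [Module R k] [Module A k] [IsScalarTower R A k]
  {N Q : Type*} [AddCommGroup N] [Module R N] [AddCommGroup Q] [Module R Q] (f : N →ₗ[R] Q)

theorem injective_lTensor_iff :
    Function.Injective (f.lTensor k) ↔ Function.Injective ((f.baseChange A).lTensor k) := by
  let eN := TensorProduct.AlgebraTensorModule.cancelBaseChange R A A k N
  let eQ := TensorProduct.AlgebraTensorModule.cancelBaseChange R A A k Q
  have key : ∀ x, f.lTensor k (eN x) = eQ ((f.baseChange A).lTensor k x) := by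
    intro x
    induction x using TensorProduct.induction_on with
    | zero => simp
    | add x y hx hy => simp only [map_add, hx, hy]
    | tmul a y =>
      induction y using TensorProduct.induction_on with
      | zero => simp
      | add x y hx hy => simp only [map_add, tmul_add, hx, hy]
      | tmul b n => simp [eN, eQ]
  have key' : (f.lTensor k) ∘ eN = eQ ∘ ((f.baseChange A).lTensor k) := funext key
  constructor
  · intro h
    have h1 : Function.Injective ((f.lTensor k) ∘ eN) := h.comp eN.injective
    rw [key'] at h1
    exact Function.Injective.of_comp h1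
  · intro h
    have h1 : Function.Injective (eQ ∘ ((f.baseChange A).lTensor k)) := eQ.injective.comp h
    rw [← key'] at h1
    intro x y hxy
    obtain ⟨x', rfl⟩ := eN.surjective x
    obtain ⟨y', rfl⟩ := eN.surjective y
    exact congrArg eN (h1 hxy)

end L3

section L2
variable {R : Type*} [CommRing R] (A : Type*) [CommRing A] [Algebra R A] [Module.Flat R A]
  (k : Type*) [CommRing k] [Algebra R k] [Algebra A k] [IsScalarTower R A k]
  {N : Type*} [AddCommGroup N] [Module R N] (I : Submodule R N)

theorem exact_baseChange :
    Function.Exact (I.subtype.baseChange A) (I.mkQ.baseChange A) := by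
  rw [LinearMap.baseChange_eq_ltensor, LinearMap.baseChange_eq_ltensor]
  exact lTensor_exact A (LinearMap.exact_subtype_mkQ I) (Submodule.mkQ_surjective I)

theorem surjective_baseChange_mkQ :
    Function.Surjective (I.mkQ.baseChange A) := by
  rw [LinearMap.baseChange_eq_ltensor]
  exact LinearMap.lTensor_surjective A (Submodule.mkQ_surjective I)

theorem injective_baseChange_of_projective
    [Module.Projective A (A ⊗[R] (N ⧸ I))] :
    Function.Injective (I.subtype.baseChange k) := by
  have hinj : Function.Injective (I.subtype.baseChange A) := by
    rw [LinearMap.baseChange_eq_ltensor]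
    exact Module.Flat.lTensor_preserves_injective_linearMap _ Subtype.val_injective
  have hex := exact_baseChange A I
  have hsurj := surjective_baseChange_mkQ A I
  obtain ⟨s, hs⟩ := Module.projective_lifting_property (I.mkQ.baseChange A) LinearMap.id hsurj
  have := (Function.Exact.split_tfae' hex).out 0 1
  obtain ⟨-, l, hl⟩ := this.mp ⟨hinj, s, hs⟩
  have h2 : Function.Injective ((I.subtype.baseChange A).lTensor k) := by
    have : l.lTensor k ∘ₗ (I.subtype.baseChange A).lTensor k = LinearMap.id := by
      rw [← LinearMap.lTensor_comp, hl, LinearMap.lTensor_id]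
    exact Function.HasLeftInverse.injective ⟨_, LinearMap.congr_fun this⟩
  rw [LinearMap.baseChange_eq_ltensor]
  exact (injective_lTensor_iff A k I.subtype).mpr h2

end L2

section LA
variable {R : Type*} [CommRing R] (p : Ideal R) [p.IsPrime]
  {N : Type*} [AddCommGroup N] [Module R N] [Module.Finite R N] [Module.Projective R N]
  (I : Submodule R N)

theorem free_of_injective (hI : I.FG)
    (h : Function.Injective (I.subtype.baseChange p.ResidueField)) :
    Module.Free (Localization.AtPrime p) (Localization.AtPrime p ⊗[R] (N ⧸ I)) := by
  have : Module.Finite R I := Module.Finite.iff_fg.mpr hI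
  have : Module.Free (Localization.AtPrime p) (Localization.AtPrime p ⊗[R] N) :=
    Module.free_of_flat_of_isLocalRing
  rw [LinearMap.baseChange_eq_ltensor] at h
  have h2 := (injective_lTensor_iff (Localization.AtPrime p) p.ResidueField I.subtype).mp h
  exact Module.free_of_lTensor_residueField_injective (I.subtype.baseChange _)
    (I.mkQ.baseChange _) (surjective_baseChange_mkQ _ I) (exact_baseChange _ I) h2

end LA

end Groth.Agent.Lib.Helper35.CokerProj
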