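import Mathlib

set_option autoImplicit false
universe u
open CategoryTheory CategoryTheory.Limits AlgebraicGeometry TopologicalSpace Opposite Topology

namespace Groth.Agent.Lib.Helper35.CoprodCI

set_option backward.isDefEq.respectTransparency false in
/-- stalk maps of `coprod.desc f g` are surjective if those of `f` and `g` are -/
theorem surjectiveOnStalks_coprodDesc {X Y Z : Scheme.{u}} (f : X ⟶ Z) (g : Y ⟶ Z)
    [SurjectiveOnStalks f] [SurjectiveOnStalks g] : SurjectiveOnStalks (coprod.desc f g) := by
  constructor
  intro x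
  obtain ⟨x | y, rfl⟩ := (coprodMk X Y).surjective x
  · have h1 := Scheme.Hom.stalkMap_comp coprod.inl (coprod.desc f g) x
    rw [← IsIso.comp_inv_eq,
      Scheme.Hom.stalkMap_congr_hom _ f (coprod.inl_desc f g)] at h1
    rw [coprodMk_inl, ← h1]
    simp only [CommRingCat.hom_comp, RingHom.coe_comp]
    refine Function.Surjective.comp ?_ ?_
    · exact (ConcreteCategory.bijective_of_isIso _).2
    · refine Function.Surjective.comp ?_ ?_
      · exact f.stalkMap_surjective x
      · exact (ConcreteCategory.bijective_of_isIso _).2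
  · have h1 := Scheme.Hom.stalkMap_comp coprod.inr (coprod.desc f g) y
    rw [← IsIso.comp_inv_eq,
      Scheme.Hom.stalkMap_congr_hom _ g (coprod.inr_desc f g)] at h1
    rw [coprodMk_inr, ← h1]
    simp only [CommRingCat.hom_comp, RingHom.coe_comp]
    refine Function.Surjective.comp ?_ ?_
    · exact (ConcreteCategory.bijective_of_isIso _).2
    · refine Function.Surjective.comp ?_ ?_
      · exact g.stalkMap_surjective y
      · exact (ConcreteCategory.bijective_of_isIso _).2

theorem coprodDesc_comp_coprodMk {X Y Z : Scheme.{u}} (f : X ⟶ Z) (g : Y ⟶ Z) :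
    (coprod.desc f g : X ⨿ Y ⟶ Z) ∘ coprodMk X Y = Sum.elim f g := by
  ext (x | y)
  · simp only [Function.comp_apply, coprodMk_inl, Sum.elim_inl, ← Scheme.Hom.comp_apply,
      coprod.inl_desc]
  · simp only [Function.comp_apply, coprodMk_inr, Sum.elim_inr, ← Scheme.Hom.comp_apply,
      coprod.inr_desc]

/-- `coprod.desc` of two closed immersions with disjoint ranges is a closed immersion -/
theorem isClosedImmersion_coprodDesc {X Y Z : Scheme.{u}} (f : X ⟶ Z) (g : Y ⟶ Z)
    [IsClosedImmersion f] [IsClosedImmersion g]
    (hdisj : ∀ (x : X) (y : Y), f x ≠ g y) : IsClosedImmersion (coprod.desc f g) := by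
  haveI := surjectiveOnStalks_coprodDesc f g
  refine ⟨?_⟩
  have hinj : Function.Injective (Sum.elim (f : X → Z) (g : Y → Z)) := by
    rintro (a | a) (b | b) h
    · simp only [Sum.elim_inl] at h
      rw [f.isClosedEmbedding.injective h]
    · exact absurd h (hdisj a b)
    · exact absurd h.symm (hdisj b a)
    · simp only [Sum.elim_inr] at h
      rw [g.isClosedEmbedding.injective h]
  have hce := Topology.IsClosedEmbedding.sumElim f.isClosedEmbedding g.isClosedEmbedding hinj
  rw [← coprodDesc_comp_coprodMk] at hce
  have h2 := hce.comp (coprodMk X Y).symm.isClosedEmbedding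
  have e : ((coprod.desc f g : X ⨿ Y ⟶ Z) ∘ coprodMk X Y) ∘ (coprodMk X Y).symm =
      (coprod.desc f g : X ⨿ Y ⟶ Z) := by
    ext z
    simp
  rwa [e] at h2

end Groth.Agent.Lib.Helper35.CoprodCI
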