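import Groth.Agent.Lib.Helper2.HomGlue
import Groth.Agent.Lib.Helper74.ModSec
import Groth.Agent.Lib.Helper40.AffBC1

/-!
# Gluing isomorphisms of modules on a coproduct of schemes (helper35)

`nonempty_iso_of_restrict`: two modules on `X ⨿ X'` whose restrictions to `X` and to `X'` are
isomorphic are isomorphic.
-/

set_option autoImplicit false
universe u
open CategoryTheory CategoryTheory.Limits AlgebraicGeometry TopologicalSpace Opposite

namespace Groth.Agent.Lib.Helper35.CoprodGlue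

open Groth.Agent.Lib.Helper74.ModSec

section tu

variable {X Z : Scheme.{u}} (u : X ⟶ Z) [IsOpenImmersion u] {M N : Z.Modules}
  (α : M.restrict u ⟶ N.restrict u)

theorem image_preimage_eq {W : Z.Opens} (hW : W ≤ u.opensRange) : u ''ᵁ (u ⁻¹ᵁ W) = W := by
  rw [Scheme.Hom.image_preimage_eq_opensRange_inf]
  exact inf_eq_right.mpr hW

/-- a map of restricted modules on sections over an open inside the range -/
noncomputable def tu (W : Z.Opens) (hW : W ≤ u.opensRange) (a : Γ(M, W)) : Γ(N, W) :=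
  rs N (image_preimage_eq u hW).ge
    (show Γ(N, u ''ᵁ (u ⁻¹ᵁ W)) from (α.app (u ⁻¹ᵁ W)).hom
      (show Γ(M, u ''ᵁ (u ⁻¹ᵁ W)) from rs M (u.image_preimage_le W) a))

theorem restrict_hom_smul (V : X.Opens) (r : Γ(Z, u ''ᵁ V)) (b : Γ(M, u ''ᵁ V)) :
    (show Γ(N, u ''ᵁ V) from (α.app V).hom (show Γ(M.restrict u, V) from r • b)) =
      r • (show Γ(N, u ''ᵁ V) from (α.app V).hom (show Γ(M.restrict u, V) from b)) := by
  have h := Scheme.Modules.Hom.app_smul α ((u.appIso V).hom.hom r) (show Γ(M.restrict u, V) from b)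
  have h1 : (u.appIso V).inv.hom ((u.appIso V).hom.hom r) = r := by
    rw [← CommRingCat.comp_apply, Iso.hom_inv_id]; rfl
  have h2 : (((u.appIso V).hom.hom r) • (show Γ(M.restrict u, V) from b) : Γ(M.restrict u, V)) =
      (show Γ(M.restrict u, V) from
        ((u.appIso V).inv.hom ((u.appIso V).hom.hom r)) • (show Γ(M, u ''ᵁ V) from b)) := rfl
  rw [h2, h1] at h
  refine h.trans ?_
  change ((u.appIso V).inv.hom ((u.appIso V).hom.hom r)) •
    (show Γ(N, u ''ᵁ V) from (α.app V).hom (show Γ(M.restrict u, V) from b)) = _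
  rw [h1]

theorem tu_add (W : Z.Opens) (hW : W ≤ u.opensRange) (a b : Γ(M, W)) :
    tu u α W hW (a + b) = tu u α W hW a + tu u α W hW b := by
  unfold tu
  rw [rs_add]
  change rs N _ (show Γ(N, u ''ᵁ (u ⁻¹ᵁ W)) from (α.app (u ⁻¹ᵁ W)).hom
    ((show Γ(M.restrict u, u ⁻¹ᵁ W) from rs M (u.image_preimage_le W) a) +
      (show Γ(M.restrict u, u ⁻¹ᵁ W) from rs M (u.image_preimage_le W) b))) = _
  rw [map_add]
  exact rs_add N _ _ _

theorem tu_smul (W : Z.Opens) (hW : W ≤ u.opensRange) (r : Γ(Z, W)) (a : Γ(M, W)) :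
    tu u α W hW (r • a) = r • tu u α W hW a := by
  unfold tu
  rw [rs_smul]
  have h := restrict_hom_smul u α (u ⁻¹ᵁ W)
    (Z.presheaf.map (homOfLE (u.image_preimage_le W)).op r) (rs M (u.image_preimage_le W) a)
  refine (congrArg (rs N (image_preimage_eq u hW).ge) h).trans ?_
  rw [rs_smul]
  congr 1
  rw [← CommRingCat.comp_apply, ← Functor.map_comp]
  exact congrArg (fun t => (Z.presheaf.map t).hom r) rfl |>.trans (by
    have : (homOfLE (u.image_preimage_le W)).op ≫ (homOfLE (image_preimage_eq u hW).ge).op =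
        𝟙 (op W) := rfl
    rw [this, Z.presheaf.map_id]; rfl)

theorem tu_rs {W W' : Z.Opens} (hW : W ≤ u.opensRange) (hW' : W' ≤ u.opensRange) (h : W' ≤ W)
    (a : Γ(M, W)) : rs N h (tu u α W hW a) = tu u α W' hW' (rs M h a) := by
  unfold tu
  have hle : u ⁻¹ᵁ W' ≤ u ⁻¹ᵁ W := fun x hx => h hx
  have hnat := hom_rs α hle (show Γ(M.restrict u, u ⁻¹ᵁ W) from rs M (u.image_preimage_le W) a)
  rw [rs_rs, rs_rs]
  have h3 : (show Γ(M.restrict u, u ⁻¹ᵁ W') from rs M ((u.image_preimage_le W').trans h) a) =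
      rs (M.restrict u) hle
        (show Γ(M.restrict u, u ⁻¹ᵁ W) from rs M (u.image_preimage_le W) a) := by
    change _ = rs M (Scheme.Hom.image_mono u hle) (rs M (u.image_preimage_le W) a)
    rw [rs_rs]
  change _ = rs N _ (show Γ(N, u ''ᵁ (u ⁻¹ᵁ W')) from (α.app (u ⁻¹ᵁ W')).hom
    (show Γ(M.restrict u, u ⁻¹ᵁ W') from rs M ((u.image_preimage_le W').trans h) a))
  rw [h3, hnat]
  change _ = rs N _ (rs N (Scheme.Hom.image_mono u hle) _)
  rw [rs_rs]

theorem tu_bijective [IsIso α] (W : Z.Opens) (hW : W ≤ u.opensRange) :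
    Function.Bijective (tu u α W hW) := by
  have h1 := rs_bijective_of_eq N (image_preimage_eq u hW).symm
  have h2 : Function.Bijective (fun b : Γ(M.restrict u, u ⁻¹ᵁ W) => (α.app (u ⁻¹ᵁ W)).hom b) := by
    haveI : IsIso (α.app (u ⁻¹ᵁ W)) := inferInstance
    exact ConcreteCategory.bijective_of_isIso (α.app (u ⁻¹ᵁ W))
  have h3 := rs_bijective_of_eq M (image_preimage_eq u hW)
  exact h1.comp (h2.comp h3)

end tu

section glue

variable {X X' : Scheme.{u}} {M N : (X ⨿ X').Modules}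
  (α : M.restrict (coprod.inl : X ⟶ X ⨿ X') ⟶ N.restrict coprod.inl)
  (β : M.restrict (coprod.inr : X' ⟶ X ⨿ X') ⟶ N.restrict coprod.inr)

/-- opens contained in one of the two pieces -/
def good (W : (X ⨿ X').Opens) : Prop :=
  W ≤ (coprod.inl : X ⟶ X ⨿ X').opensRange ∨ W ≤ (coprod.inr : X' ⟶ X ⨿ X').opensRange

open Classical in
/-- the glued map on good opens -/
noncomputable def tg (W : (X ⨿ X').Opens) (hW : good W) (a : Γ(M, W)) : Γ(N, W) :=
  if h : W ≤ (coprod.inl : X ⟶ X ⨿ X').opensRange then tu coprod.inl α W h a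
  else tu coprod.inr β W (hW.resolve_left h) a

theorem good_basis (U : (X ⨿ X').Opens) (x : ↥(X ⨿ X')) (hx : x ∈ U) :
    ∃ W, good W ∧ x ∈ W ∧ W ≤ U := by
  obtain ⟨x | y, rfl⟩ := (coprodMk X X').surjective x
  · refine ⟨U ⊓ (coprod.inl : X ⟶ X ⨿ X').opensRange, Or.inl inf_le_right, ⟨hx, ?_⟩, inf_le_left⟩
    rw [coprodMk_inl]; exact ⟨x, rfl⟩
  · refine ⟨U ⊓ (coprod.inr : X' ⟶ X ⨿ X').opensRange, Or.inr inf_le_right, ⟨hx, ?_⟩, inf_le_left⟩
    rw [coprodMk_inr]; exact ⟨y, rfl⟩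

theorem eq_bot_of_le_both {W : (X ⨿ X').Opens}
    (h1 : W ≤ (coprod.inl : X ⟶ X ⨿ X').opensRange)
    (h2 : W ≤ (coprod.inr : X' ⟶ X ⨿ X').opensRange) : ∀ x, x ∉ W := by
  intro x hx
  obtain ⟨a, ha⟩ := h1 hx
  obtain ⟨b, hb⟩ := h2 hx
  exact inl_ne_inr X X' a b (ha.trans hb.symm)

theorem exists_glue : ∃ τ : M ⟶ N, ∀ (W : (X ⨿ X').Opens) (hW : good W) (a : Γ(M, W)),
    τ.app W a = tg α β W hW a := by
  classical
  refine Groth.Agent.Lib.Helper2.HomGlue.exists_hom (M := M) (N := N) (good := good)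
    (t := tg α β) good_basis ?_ ?_ ?_
  · intro W hW a b
    unfold tg
    split_ifs with h
    · exact tu_add _ α W h a b
    · exact tu_add _ β W _ a b
  · intro W hW r a
    unfold tg
    split_ifs with h
    · exact tu_smul _ α W h r a
    · exact tu_smul _ β W _ r a
  · intro W W' hW hW' h a
    unfold tg
    by_cases h1 : W ≤ (coprod.inl : X ⟶ X ⨿ X').opensRange
    · rw [dif_pos h1, dif_pos (h.trans h1)]
      exact tu_rs _ α h1 (h.trans h1) h a
    · have h2 := hW.resolve_left h1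
      rw [dif_neg h1]
      by_cases h3 : W' ≤ (coprod.inl : X ⟶ X ⨿ X').opensRange
      · apply Groth.Agent.Lib.Lead.SheafGlue.eq_of_locally_eq_pts
        intro x hx
        exact absurd hx (eq_bot_of_le_both h3 (h.trans h2) x)
      · rw [dif_neg h3]
        exact tu_rs _ β h2 (h.trans h2) h a

/-- **Gluing isomorphisms on a coproduct.** -/
theorem nonempty_iso_of_restrict
    (α : M.restrict (coprod.inl : X ⟶ X ⨿ X') ≅ N.restrict coprod.inl)
    (β : M.restrict (coprod.inr : X' ⟶ X ⨿ X') ≅ N.restrict coprod.inr) : Nonempty (M ≅ N) := by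
  classical
  obtain ⟨τ, hτ⟩ := exists_glue α.hom β.hom
  have hB : Opens.IsBasis {W : (X ⨿ X').Opens | good W} := by
    rw [Opens.isBasis_iff_nbhd]
    intro U x hx
    obtain ⟨W, hW, hxW, hWU⟩ := good_basis U x hx
    exact ⟨W, hW, hxW, hWU⟩
  haveI : IsIso τ := by
    refine Groth.Agent.Lib.Helper40.AffBC.isIso_of_app_bijective_of_basis _ hB τ ?_
    intro W hW
    have hfun : (fun a => τ.app W a) = tg α.hom β.hom W hW := funext (hτ W hW)
    change Function.Bijective (fun a => τ.app W a)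
    rw [hfun]
    unfold tg
    by_cases h : W ≤ (coprod.inl : X ⟶ X ⨿ X').opensRange
    · simp only [dif_pos h]
      exact tu_bijective _ α.hom W h
    · simp only [dif_neg h]
      exact tu_bijective _ β.hom W _
  exact ⟨asIso τ⟩

end glue

end Groth.Agent.Lib.Helper35.CoprodGlue
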