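import Mathlib.RingTheory.Kaehler.Basic
import Mathlib.RingTheory.LocalRing.ResidueField.Basic
import Mathlib.RingTheory.Ideal.Cotangent
import Mathlib.LinearAlgebra.TensorProduct.RightExactness
import Mathlib.LinearAlgebra.Dimension.Finrank
import Mathlib.LinearAlgebra.FiniteDimensional.Lemmas

set_option autoImplicit false
universe u
open IsLocalRing KaehlerDifferential TensorProduct

namespace Groth.Agent.Lib.Helper35.CotangentRank

variable (k : Type u) [Field k]
    (A B : Type u) [CommRing A] [CommRing B] [IsLocalRing A] [IsLocalRing B]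
    [Algebra k A] [Algebra k B] [Algebra A B] [IsScalarTower k A B]
    (hle : maximalIdeal A ≤ Ideal.comap (IsScalarTower.toAlgHom k A B) (maximalIdeal B))
    (hB : Function.Bijective (algebraMap k (ResidueField B)))

noncomputable def cst : B →+* B :=
  (algebraMap k B).comp
    ((RingEquiv.ofBijective (algebraMap k (ResidueField B)) hB).symm.toRingHom.comp (residue B))

lemma residue_cst (b : B) : residue B (cst k B hB b) = residue B b := by
  change residue B (algebraMap k B ((RingEquiv.ofBijective (algebraMap k (ResidueField B)) hB).symm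
    (residue B b))) = residue B b
  have : residue B (algebraMap k B ((RingEquiv.ofBijective (algebraMap k (ResidueField B)) hB).symm
      (residue B b))) = algebraMap k (ResidueField B)
      ((RingEquiv.ofBijective (algebraMap k (ResidueField B)) hB).symm (residue B b)) :=
    (IsScalarTower.algebraMap_apply k B (ResidueField B) _).symm
  rw [this]
  exact (RingEquiv.ofBijective (algebraMap k (ResidueField B)) hB).apply_symm_apply _

lemma sub_cst_mem (b : B) : b - cst k B hB b ∈ maximalIdeal B := by
  rw [← residue_eq_zero_iff, map_sub, residue_cst, sub_self]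

lemma cst_of_mem {x : B} (hx : x ∈ maximalIdeal B) : cst k B hB x = 0 := by
  change algebraMap k B ((RingEquiv.ofBijective (algebraMap k (ResidueField B)) hB).symm
    (residue B x)) = 0
  rw [(residue_eq_zero_iff x).mpr hx, map_zero, map_zero]

def I0 : Ideal B := maximalIdeal B ^ 2 ⊔ (maximalIdeal A).map (algebraMap A B)

include hle in
lemma map_le : (maximalIdeal A).map (algebraMap A B) ≤ maximalIdeal B :=
  Ideal.map_le_iff_le_comap.mpr hle

lemma algebraMap_sub_cst_mem (a : A) :
    algebraMap A B a - cst k B hB (algebraMap A B a) ∈ (maximalIdeal A).map (algebraMap A B) := by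
  set l := (RingEquiv.ofBijective (algebraMap k (ResidueField B)) hB).symm
    (residue B (algebraMap A B a)) with hl
  have h1 : cst k B hB (algebraMap A B a) = algebraMap A B (algebraMap k A l) := by
    change algebraMap k B l = _
    rw [IsScalarTower.algebraMap_apply k A B]
  rw [h1, ← map_sub]
  apply Ideal.mem_map_of_mem
  rw [mem_maximalIdeal, mem_nonunits_iff]
  intro hu
  have h2 : IsUnit (algebraMap A B (a - algebraMap k A l)) := hu.map _
  have h3 := sub_cst_mem k B hB (algebraMap A B a)
  rw [h1, ← map_sub] at h3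
  exact h3 h2

noncomputable def delta : Derivation A B (B ⧸ I0 A B) where
  toLinearMap :=
    { toFun := fun b => Ideal.Quotient.mk (I0 A B) (b - cst k B hB b)
      map_add' := fun b b' => by
        rw [← map_add]
        congr 1
        rw [map_add]
        ring
      map_smul' := fun a b => by
        rw [RingHom.id_apply, Algebra.smul_def, Algebra.smul_def, ← sub_eq_zero]
        change Ideal.Quotient.mk (I0 A B) _ -
          Ideal.Quotient.mk (I0 A B) (algebraMap A B a) * Ideal.Quotient.mk (I0 A B) _ = 0
        rw [← map_mul, ← map_sub, Ideal.Quotient.eq_zero_iff_mem, map_mul]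
        have : algebraMap A B a * b - cst k B hB (algebraMap A B a) * cst k B hB b -
            algebraMap A B a * (b - cst k B hB b) =
            (algebraMap A B a - cst k B hB (algebraMap A B a)) * cst k B hB b := by ring
        rw [this]
        exact Ideal.mem_sup_right (Ideal.mul_mem_right _ _ (algebraMap_sub_cst_mem k A B hB a)) }
  map_one_eq_zero' := by
    change Ideal.Quotient.mk (I0 A B) (1 - cst k B hB 1) = 0
    rw [map_one, sub_self, map_zero]
  leibniz' := fun b b' => by
    change Ideal.Quotient.mk (I0 A B) (b * b' - cst k B hB (b * b')) =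
      b • Ideal.Quotient.mk (I0 A B) (b' - cst k B hB b') +
      b' • Ideal.Quotient.mk (I0 A B) (b - cst k B hB b)
    rw [Algebra.smul_def, Algebra.smul_def, ← sub_eq_zero]
    change Ideal.Quotient.mk (I0 A B) _ - (Ideal.Quotient.mk (I0 A B) b * _ +
      Ideal.Quotient.mk (I0 A B) b' * _) = 0
    rw [← map_mul, ← map_mul, ← map_add, ← map_sub, Ideal.Quotient.eq_zero_iff_mem, map_mul]
    have : b * b' - cst k B hB b * cst k B hB b' -
        (b * (b' - cst k B hB b') + b' * (b - cst k B hB b)) =
        -((b - cst k B hB b) * (b' - cst k B hB b')) := by ring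
    rw [this]
    refine Ideal.mem_sup_left (neg_mem ?_)
    rw [sq]
    exact Ideal.mul_mem_mul (sub_cst_mem k B hB b) (sub_cst_mem k B hB b')

lemma delta_apply (b : B) :
    delta k A B hB b = Ideal.Quotient.mk (I0 A B) (b - cst k B hB b) := rfl

lemma lift_mem (ω : Ω[B⁄A]) : ∃ z ∈ maximalIdeal B,
    (delta k A B hB).liftKaehlerDifferential ω = Ideal.Quotient.mk (I0 A B) z := by
  have hω : ω ∈ Submodule.span B (Set.range (D A B)) := by
    rw [KaehlerDifferential.span_range_derivation]
    exact Submodule.mem_top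
  induction hω using Submodule.span_induction with
  | mem ω h =>
    obtain ⟨b, rfl⟩ := h
    refine ⟨b - cst k B hB b, sub_cst_mem k B hB b, ?_⟩
    rw [Derivation.liftKaehlerDifferential_comp_D]
    rfl
  | zero => exact ⟨0, Ideal.zero_mem _, by rw [map_zero, map_zero]⟩
  | add ω ω' _ _ h h' =>
    obtain ⟨z, hz, e⟩ := h
    obtain ⟨z', hz', e'⟩ := h'
    exact ⟨z + z', Ideal.add_mem _ hz hz', by rw [map_add, e, e', map_add]⟩
  | smul b ω _ h =>
    obtain ⟨z, hz, e⟩ := h
    refine ⟨b * z, Ideal.mul_mem_left _ _ hz, ?_⟩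
    rw [map_smul, e, Algebra.smul_def, map_mul]
    rfl

lemma lift_eq_zero (ω : Ω[B⁄A]) (hω : ω ∈ maximalIdeal B • (⊤ : Submodule B Ω[B⁄A])) :
    (delta k A B hB).liftKaehlerDifferential ω = 0 := by
  refine Submodule.smul_induction_on hω (fun r hr ω _ => ?_) (fun x y hx hy => ?_)
  · obtain ⟨z, hz, e⟩ := lift_mem k A B hB ω
    rw [map_smul, e, Algebra.smul_def]
    change Ideal.Quotient.mk (I0 A B) r * Ideal.Quotient.mk (I0 A B) z = 0
    rw [← map_mul, Ideal.Quotient.eq_zero_iff_mem]
    refine Ideal.mem_sup_left ?_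
    rw [sq]
    exact Ideal.mul_mem_mul hr hz
  · rw [map_add, hx, hy, add_zero]

include hB in
lemma mem_I0_of_tmul_eq_zero (x : B) (hx : x ∈ maximalIdeal B)
    (h : (1 : ResidueField B) ⊗ₜ[B] D A B x = 0) : x ∈ I0 A B := by
  have h1 : D A B x ∈ LinearMap.ker (TensorProduct.mk B (B ⧸ maximalIdeal B) Ω[B⁄A] 1) :=
    LinearMap.mem_ker.mpr h
  rw [LinearMap.ker_tensorProductMk] at h1
  have h2 := lift_eq_zero k A B hB _ h1
  rw [Derivation.liftKaehlerDifferential_comp_D, delta_apply, cst_of_mem k B hB hx, sub_zero,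
    Ideal.Quotient.eq_zero_iff_mem] at h2
  exact h2

lemma smul_cotangent (b : B) (t : (maximalIdeal B).Cotangent) :
    b • t = ((RingEquiv.ofBijective (algebraMap k (ResidueField B)) hB).symm (residue B b)) • t := by
  obtain ⟨⟨z, hz⟩, rfl⟩ := Ideal.toCotangent_surjective _ t
  have h0 : (b - cst k B hB b) • (maximalIdeal B).toCotangent ⟨z, hz⟩ = 0 := by
    rw [← map_smul, Ideal.toCotangent_eq_zero]
    change (b - cst k B hB b) * z ∈ _
    rw [sq]
    exact Ideal.mul_mem_mul (sub_cst_mem k B hB b) hz
  rw [sub_smul, sub_eq_zero] at h0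
  rw [h0]
  change algebraMap k B _ • _ = _
  rw [algebraMap_smul]
  rfl

include hB in
lemma toCotangent_mem_range (z : B) (hz' : z ∈ (maximalIdeal A).map (algebraMap A B))
    (hz : z ∈ maximalIdeal B) :
    (maximalIdeal B).toCotangent ⟨z, hz⟩ ∈ LinearMap.range
      (Ideal.mapCotangent (maximalIdeal A) (maximalIdeal B) (IsScalarTower.toAlgHom k A B) hle) := by
  revert hz
  refine Submodule.span_induction (p := fun z _ => ∀ hz : z ∈ maximalIdeal B,
    (maximalIdeal B).toCotangent ⟨z, hz⟩ ∈ LinearMap.range
      (Ideal.mapCotangent (maximalIdeal A) (maximalIdeal B) (IsScalarTower.toAlgHom k A B) hle))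
    ?_ ?_ ?_ ?_ hz'
  · rintro _ ⟨a, ha, rfl⟩ hz
    exact ⟨(maximalIdeal A).toCotangent ⟨a, ha⟩, rfl⟩
  · intro hz
    have : (⟨0, hz⟩ : maximalIdeal B) = 0 := rfl
    rw [this, map_zero]
    exact Submodule.zero_mem _
  · intro x y hx hy ihx ihy hz
    have hxm : x ∈ maximalIdeal B := map_le k A B hle hx
    have hym : y ∈ maximalIdeal B := map_le k A B hle hy
    have : (⟨x + y, hz⟩ : maximalIdeal B) = ⟨x, hxm⟩ + ⟨y, hym⟩ := rfl
    rw [this, map_add]
    exact Submodule.add_mem _ (ihx hxm) (ihy hym)
  · intro b x hx ihx hz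
    have hxm : x ∈ maximalIdeal B := map_le k A B hle hx
    have : (⟨b • x, hz⟩ : maximalIdeal B) = b • ⟨x, hxm⟩ := rfl
    rw [this, map_smul, smul_cotangent k B hB]
    exact Submodule.smul_mem _ _ (ihx hxm)

theorem main [IsNoetherianRing B]
    (hle : maximalIdeal A ≤ Ideal.comap (IsScalarTower.toAlgHom k A B) (maximalIdeal B))
    (hB : Function.Bijective (algebraMap k (ResidueField B))) :
    Module.finrank (ResidueField B) (TensorProduct B (ResidueField B) (Ω[B⁄A])) +
      Module.finrank k ↥(LinearMap.range (Ideal.mapCotangent (maximalIdeal A) (maximalIdeal B)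
        (IsScalarTower.toAlgHom k A B) hle)) =
      Module.finrank k (CotangentSpace B) := by
  have hker : RingHom.ker (algebraMap B (ResidueField B)) = maximalIdeal B := ker_residue (R := B)
  let ι : CotangentSpace B →ₗ[B] (RingHom.ker (algebraMap B (ResidueField B))).Cotangent :=
    Ideal.mapCotangent (maximalIdeal B) (RingHom.ker (algebraMap B (ResidueField B)))
      (AlgHom.id B B) (by rw [hker]; exact le_rfl)
  let D' : CotangentSpace B →ₗ[B] (ResidueField B) ⊗[B] Ω[B⁄A] :=
    (kerCotangentToTensor A B (ResidueField B)).comp ι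
  have hD' : ∀ (x : B) (hx : x ∈ maximalIdeal B),
      D' ((maximalIdeal B).toCotangent ⟨x, hx⟩) = (1 : ResidueField B) ⊗ₜ[B] D A B x :=
    fun x hx => rfl
  let Dk : CotangentSpace B →ₗ[k] (ResidueField B) ⊗[B] Ω[B⁄A] := D'.restrictScalars k
  have hsurjκ : Function.Surjective (algebraMap B (ResidueField B)) := Ideal.Quotient.mk_surjective
  have hAκ : Function.Surjective (algebraMap A (ResidueField B)) := by
    intro c
    obtain ⟨l, rfl⟩ := hB.2 c
    refine ⟨algebraMap k A l, ?_⟩
    rw [IsScalarTower.algebraMap_apply A B (ResidueField B), ← IsScalarTower.algebraMap_apply k A B,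
      ← IsScalarTower.algebraMap_apply k B (ResidueField B)]
  haveI : Subsingleton Ω[(ResidueField B)⁄A] :=
    KaehlerDifferential.subsingleton_of_surjective A (ResidueField B) hAκ
  have hDsurj : Function.Surjective Dk := by
    intro t
    obtain ⟨y, rfl⟩ := (KaehlerDifferential.exact_kerCotangentToTensor_mapBaseChange A B
      (ResidueField B) hsurjκ t).mp (Subsingleton.elim _ _)
    obtain ⟨⟨x, hx⟩, rfl⟩ := Ideal.toCotangent_surjective _ y
    exact ⟨(maximalIdeal B).toCotangent ⟨x, hker ▸ hx⟩, rfl⟩
  have hkerD : LinearMap.ker Dk = LinearMap.range (Ideal.mapCotangent (maximalIdeal A)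
      (maximalIdeal B) (IsScalarTower.toAlgHom k A B) hle) := by
    apply le_antisymm
    · intro y hy
      obtain ⟨⟨x, hx⟩, rfl⟩ := Ideal.toCotangent_surjective _ y
      have h0 : (1 : ResidueField B) ⊗ₜ[B] D A B x = 0 := LinearMap.mem_ker.mp hy
      have h1 := mem_I0_of_tmul_eq_zero k A B hB x hx h0
      obtain ⟨y', hy', z, hz, hxyz⟩ := Submodule.mem_sup.mp h1
      have hzm : z ∈ maximalIdeal B := map_le k A B hle hz
      have e : (maximalIdeal B).toCotangent ⟨x, hx⟩ = (maximalIdeal B).toCotangent ⟨z, hzm⟩ := by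
        rw [Ideal.toCotangent_eq]
        change x - z ∈ _
        rw [← hxyz, add_sub_cancel_right]
        exact hy'
      rw [e]
      exact toCotangent_mem_range k A B hle hB z hz hzm
    · rintro _ ⟨y, rfl⟩
      obtain ⟨⟨a, ha⟩, rfl⟩ := Ideal.toCotangent_surjective _ y
      rw [LinearMap.mem_ker]
      change (1 : ResidueField B) ⊗ₜ[B] D A B (algebraMap A B a) = 0
      rw [Derivation.map_algebraMap, TensorProduct.tmul_zero]
  haveI : IsScalarTower k (ResidueField B) (CotangentSpace B) :=
    IsScalarTower.of_algebraMap_smul fun l t => by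
      rw [IsScalarTower.algebraMap_apply k B (ResidueField B), algebraMap_smul, algebraMap_smul]
  haveI : Module.Finite k (ResidueField B) :=
    Module.Finite.of_surjective (Algebra.linearMap k (ResidueField B)) hB.2
  haveI : Module.Finite k (CotangentSpace B) := Module.Finite.trans (ResidueField B) _
  have hrn := LinearMap.finrank_range_add_finrank_ker Dk
  rw [LinearMap.range_eq_top.mpr hDsurj, finrank_top, hkerD] at hrn
  rw [← hrn]
  congr 1
  have := rank_eq_of_equiv_equiv (algebraMap k (ResidueField B))
    (AddEquiv.refl ((ResidueField B) ⊗[B] Ω[B⁄A])) hB (fun l m => by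
      rw [AddEquiv.refl_apply, AddEquiv.refl_apply, algebraMap_smul])
  exact (congrArg Cardinal.toNat this).symm

end Groth.Agent.Lib.Helper35.CotangentRank
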