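import Groth.Agent.Lib.Helper35.Gen3
import Groth.Agent.Lib.Helper60.TensorMod

/-!
# The dual `Hom(L, O_X)` of a sheaf of modules, by hand

Sections over `U` are compatible families of linear forms `L(V) → O(V)`, `V ≤ U`.
-/

universe u

open CategoryTheory AlgebraicGeometry TopologicalSpace Opposite

namespace Groth.Agent.Lib.Helper35.Dual

open Groth.Agent.Lib.Helper35.AbSheaf Groth.Agent.Lib.Helper35.Gen

variable {X : Scheme.{u}} (L : X.Modules)

/-- the ambient group of families of linear forms -/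
abbrev Amb (U : X.Opens) : Type u :=
  ∀ V : {V : X.Opens // V ≤ U}, (Γ(L, V.1) →ₗ[Γ(X, V.1)] Γ(X, V.1))

/-- sections of the dual over `U`: compatible families -/
def secs (U : X.Opens) : AddSubgroup (Amb L U) where
  carrier := {φ | ∀ (V W : X.Opens) (hV : V ≤ U) (h : W ≤ V) (a : Γ(L, V)),
      rr X h (φ ⟨V, hV⟩ a) = φ ⟨W, h.trans hV⟩ (rs L h a)}
  add_mem' := by
    intro φ ψ hφ hψ V W hV h a
    simp only [Pi.add_apply, LinearMap.add_apply, map_add, hφ V W hV h a, hψ V W hV h a]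
  zero_mem' := by
    intro V W hV h a
    simp
  neg_mem' := by
    intro φ hφ V W hV h a
    simp [hφ V W hV h a]

variable {L}

lemma secs_res {U : X.Opens} (φ : secs L U) {V W : X.Opens} (hV : V ≤ U) (h : W ≤ V)
    (a : Γ(L, V)) : rr X h (φ.1 ⟨V, hV⟩ a) = φ.1 ⟨W, h.trans hV⟩ (rs L h a) :=
  φ.2 V W hV h a

lemma secs_ext {U : X.Opens} {φ ψ : secs L U}
    (h : ∀ (V : X.Opens) (hV : V ≤ U) (a : Γ(L, V)), φ.1 ⟨V, hV⟩ a = ψ.1 ⟨V, hV⟩ a) : φ = ψ := by
  apply Subtype.ext
  funext V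
  exact LinearMap.ext fun a => h V.1 V.2 a

noncomputable instance instSMul (U : X.Opens) : SMul Γ(X, U) (secs L U) where
  smul r φ := ⟨fun V => rr X V.2 r • φ.1 V, by
    intro V W hV h a
    simp only [LinearMap.smul_apply, smul_eq_mul, map_mul, rr_rr]
    rw [secs_res φ hV h a]⟩

lemma smul_apply {U : X.Opens} (r : Γ(X, U)) (φ : secs L U) {V : X.Opens} (hV : V ≤ U)
    (a : Γ(L, V)) : (r • φ).1 ⟨V, hV⟩ a = rr X hV r * φ.1 ⟨V, hV⟩ a := rfl

lemma add_apply {U : X.Opens} (φ ψ : secs L U) {V : X.Opens} (hV : V ≤ U)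
    (a : Γ(L, V)) : (φ + ψ).1 ⟨V, hV⟩ a = φ.1 ⟨V, hV⟩ a + ψ.1 ⟨V, hV⟩ a := rfl

lemma zero_apply {U : X.Opens} {V : X.Opens} (hV : V ≤ U)
    (a : Γ(L, V)) : (0 : secs L U).1 ⟨V, hV⟩ a = 0 := rfl

noncomputable instance instModule (U : X.Opens) : Module Γ(X, U) (secs L U) where
  one_smul φ := by
    apply secs_ext; intro V hV a
    rw [smul_apply, map_one, one_mul]
  mul_smul r s φ := by
    apply secs_ext; intro V hV a
    rw [smul_apply, smul_apply, smul_apply, map_mul, mul_assoc]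
  smul_zero r := by
    apply secs_ext; intro V hV a
    rw [smul_apply, zero_apply, mul_zero]
  smul_add r φ ψ := by
    apply secs_ext; intro V hV a
    rw [smul_apply, add_apply, add_apply, smul_apply, smul_apply, mul_add]
  add_smul r s φ := by
    apply secs_ext; intro V hV a
    rw [smul_apply, add_apply, smul_apply, smul_apply, map_add, add_mul]
  zero_smul φ := by
    apply secs_ext; intro V hV a
    rw [smul_apply, zero_apply, map_zero, zero_mul]

/-- restriction of sections of the dual -/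
def resHom {U U' : X.Opens} (h : U' ≤ U) : secs L U →+ secs L U' where
  toFun φ := ⟨fun V => φ.1 ⟨V.1, V.2.trans h⟩, fun V W hV hW a => φ.2 V W (hV.trans h) hW a⟩
  map_zero' := rfl
  map_add' _ _ := rfl

lemma resHom_apply {U U' : X.Opens} (h : U' ≤ U) (φ : secs L U) {V : X.Opens} (hV : V ≤ U')
    (a : Γ(L, V)) : (resHom h φ).1 ⟨V, hV⟩ a = φ.1 ⟨V, hV.trans h⟩ a := rfl

variable (L)

/-- the underlying presheaf of abelian groups of the dual -/
noncomputable def dualAb : (Opens X)ᵒᵖ ⥤ Ab.{u} where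
  obj U := AddCommGrpCat.of (secs L U.unop)
  map f := AddCommGrpCat.ofHom (resHom f.unop.le)
  map_id U := by
    refine AddCommGrpCat.hom_ext (AddMonoidHom.ext fun φ => ?_)
    exact secs_ext fun V hV a => rfl
  map_comp f g := by
    refine AddCommGrpCat.hom_ext (AddMonoidHom.ext fun φ => ?_)
    exact secs_ext fun V hV a => rfl

noncomputable instance (U : (Opens X)ᵒᵖ) : Module (X.ringCatSheaf.obj.obj U) ((dualAb L).obj U) :=
  inferInstanceAs (Module Γ(X, U.unop) (secs L U.unop))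

/-- the dual as a presheaf of modules -/
noncomputable def dualPre : PresheafOfModules X.ringCatSheaf.obj :=
  PresheafOfModules.ofPresheaf (dualAb L) (by
    intro U U' f r φ
    exact secs_ext fun V hV a => by
      change rr X (hV.trans f.unop.le) r * _ = rr X hV (rr X f.unop.le r) * _
      rw [rr_rr]
      rfl)

/-! ### gluing functions -/

lemma glueO {ι : Type u} (V : ι → X.Opens) {W : X.Opens} (hV : ∀ i, V i ≤ W) (hW : W ≤ iSup V)
    (g : ∀ i, Γ(X, V i))
    (compat : ∀ i j, rr X (inf_le_left : V i ⊓ V j ≤ V i) (g i) =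
      rr X (inf_le_right : V i ⊓ V j ≤ V j) (g j)) :
    ∃! s : Γ(X, W), ∀ i, rr X (hV i) s = g i :=
  TopCat.Sheaf.existsUnique_gluing' X.sheaf V W (fun i => homOfLE (hV i)) hW g compat

lemma extO {ι : Type u} (V : ι → X.Opens) {W : X.Opens} (hV : ∀ i, V i ≤ W) (hW : W ≤ iSup V)
    (s t : Γ(X, W)) (h : ∀ i, rr X (hV i) s = rr X (hV i) t) : s = t :=
  TopCat.Sheaf.eq_of_locally_eq' X.sheaf V W (fun i => homOfLE (hV i)) hW s t h

variable {L}

lemma cover_inf {ι : Type u} (U : ι → X.Opens) {V : X.Opens} (hV : V ≤ iSup U) :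
    V ≤ ⨆ i, V ⊓ U i := by
  intro x hx
  obtain ⟨i, hi⟩ := Opens.mem_iSup.mp (hV hx)
  exact Opens.mem_iSup.mpr ⟨i, hx, hi⟩

/-- gluing sections of the dual -/
theorem exists_glue {ι : Type u} (U : ι → X.Opens) (sf : ∀ i, secs L (U i))
    (hc : ∀ (i j : ι) (V : X.Opens) (h1 : V ≤ U i) (h2 : V ≤ U j) (a : Γ(L, V)),
      (sf i).1 ⟨V, h1⟩ a = (sf j).1 ⟨V, h2⟩ a) :
    ∃ s : secs L (iSup U), ∀ i, resHom (le_iSup U i) s = sf i := by
  have key : ∀ (V : X.Opens) (hV : V ≤ iSup U) (a : Γ(L, V)), ∃! t : Γ(X, V),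
      ∀ i, rr X (inf_le_left : V ⊓ U i ≤ V) t =
        (sf i).1 ⟨V ⊓ U i, inf_le_right⟩ (rs L inf_le_left a) := by
    intro V hV a
    refine glueO (fun i => V ⊓ U i) (fun i => inf_le_left) (cover_inf U hV) _ ?_
    intro i j
    rw [secs_res (sf i), secs_res (sf j), rs_rs, rs_rs]
    exact hc i j _ _ _ _
  choose t ht hu using key
  have hu' : ∀ (V : X.Opens) (hV : V ≤ iSup U) (a : Γ(L, V)) (y : Γ(X, V)),
      (∀ i, rr X (inf_le_left : V ⊓ U i ≤ V) y =
        (sf i).1 ⟨V ⊓ U i, inf_le_right⟩ (rs L inf_le_left a)) → t V hV a = y :=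
    fun V hV a y hy => (hu V hV a y hy).symm
  let f : Amb L (iSup U) := fun V =>
    { toFun := fun a => t V.1 V.2 a
      map_add' := by
        intro a b
        apply hu'
        intro i
        rw [map_add, ht, ht, map_add, map_add]
      map_smul' := by
        intro r a
        apply hu'
        intro i
        rw [RingHom.id_apply, smul_eq_mul, map_mul, ht, rs_smul, map_smul, smul_eq_mul] }
  have hf : f ∈ secs L (iSup U) := by
    intro V W hV h a
    change rr X h (t V hV a) = t W (h.trans hV) (rs L h a)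
    symm
    apply hu'
    intro i
    have h1 : rr X (inf_le_left : W ⊓ U i ≤ W) (rr X h (t V hV a)) =
        rr X (inf_le_inf_right (U i) h) (rr X (inf_le_left : V ⊓ U i ≤ V) (t V hV a)) := by
      rw [rr_rr, rr_rr]
    rw [h1, ht, secs_res (sf i), rs_rs, rs_rs]
  refine ⟨⟨f, hf⟩, fun i => ?_⟩
  apply secs_ext
  intro V hV a
  change t V (hV.trans (le_iSup U i)) a = _
  apply hu'
  intro j
  rw [secs_res (sf i)]
  exact hc i j _ _ _ _

theorem glue_unique {ι : Type u} (U : ι → X.Opens) (s s' : secs L (iSup U))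
    (h : ∀ i, resHom (le_iSup U i) s = resHom (le_iSup U i) s') : s = s' := by
  apply secs_ext
  intro V hV a
  refine extO (fun i => V ⊓ U i) (fun i => inf_le_left) (cover_inf U hV) _ _ (fun i => ?_)
  rw [secs_res s, secs_res s']
  have := congrArg (fun φ : secs L (U i) =>
    φ.1 ⟨V ⊓ U i, inf_le_right⟩ (rs L inf_le_left a)) (h i)
  exact this

variable (L)

theorem isSheaf_dualAb : TopCat.Presheaf.IsSheaf (dualAb L) := by
  rw [TopCat.Presheaf.isSheaf_iff_isSheafUniqueGluing]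
  intro ι U sf hsf
  have hc : ∀ (i j : ι) (V : X.Opens) (h1 : V ≤ U i) (h2 : V ≤ U j) (a : Γ(L, V)),
      (sf i).1 ⟨V, h1⟩ a = (sf j).1 ⟨V, h2⟩ a := by
    intro i j V h1 h2 a
    have h := hsf i j
    have := congrArg (fun φ : secs L (U i ⊓ U j) => φ.1 ⟨V, le_inf h1 h2⟩ a) h
    exact this
  obtain ⟨s, hs⟩ := exists_glue U sf hc
  refine ⟨s, fun i => hs i, ?_⟩
  intro s' hs'
  exact glue_unique U s' s (fun i => (hs' i).trans (hs i).symm)

/-- **the dual** `Hom(L, O_X)` as a sheaf of modules -/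
noncomputable def dual : X.Modules where
  val := dualPre L
  isSheaf := isSheaf_dualAb L

end Groth.Agent.Lib.Helper35.Dual
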