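import Groth.Agent.Lib.Helper35.Dual

/-!
# The dual of an invertible module: evaluation, dual generators, invertibility, inverse
-/

universe u

open CategoryTheory AlgebraicGeometry TopologicalSpace Opposite

namespace Groth.Agent.Lib.Helper35.Dual

open Groth.Agent.Lib.Helper35.AbSheaf Groth.Agent.Lib.Helper35.Gen

variable {X : Scheme.{u}} {L : X.Modules}

/-- sections of the dual as compatible families -/
noncomputable def toSec {U : X.Opens} (φ : Γ(dual L, U)) : secs L U := φ

/-- compatible families as sections of the dual -/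
noncomputable def ofSec {U : X.Opens} (φ : secs L U) : Γ(dual L, U) := φ

lemma toSec_ofSec {U : X.Opens} (φ : secs L U) : toSec (ofSec φ) = φ := rfl

lemma toSec_injective {U : X.Opens} : Function.Injective (toSec : Γ(dual L, U) → secs L U) :=
  fun _ _ h => h

lemma toSec_rs {U V : X.Opens} (h : V ≤ U) (φ : Γ(dual L, U)) :
    toSec (rs (dual L) h φ) = resHom h (toSec φ) := rfl

lemma toSec_smul {U : X.Opens} (r : Γ(X, U)) (φ : Γ(dual L, U)) :
    toSec (r • φ) = r • toSec φ := rfl

lemma toSec_add {U : X.Opens} (φ ψ : Γ(dual L, U)) :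
    toSec (φ + ψ) = toSec φ + toSec ψ := rfl

/-- evaluation of a section of the dual -/
noncomputable def ev {U : X.Opens} (φ : Γ(dual L, U)) (a : Γ(L, U)) : Γ(X, U) := (toSec φ).1 ⟨U, le_rfl⟩ a

lemma ev_add_right {U : X.Opens} (φ : Γ(dual L, U)) (a b : Γ(L, U)) :
    ev φ (a + b) = ev φ a + ev φ b := map_add _ _ _

lemma ev_smul_right {U : X.Opens} (φ : Γ(dual L, U)) (r : Γ(X, U)) (a : Γ(L, U)) :
    ev φ (r • a) = r * ev φ a := by
  unfold ev
  rw [map_smul, smul_eq_mul]

lemma ev_add_left {U : X.Opens} (φ ψ : Γ(dual L, U)) (a : Γ(L, U)) :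
    ev (φ + ψ) a = ev φ a + ev ψ a := rfl

lemma ev_smul_left {U : X.Opens} (r : Γ(X, U)) (φ : Γ(dual L, U)) (a : Γ(L, U)) :
    ev (r • φ) a = r * ev φ a := by
  unfold ev
  rw [toSec_smul, smul_apply, rr_self]

lemma rr_ev {U V : X.Opens} (h : V ≤ U) (φ : Γ(dual L, U)) (a : Γ(L, U)) :
    rr X h (ev φ a) = ev (rs (dual L) h φ) (rs L h a) := by
  unfold ev
  rw [secs_res (toSec φ) le_rfl h a]
  rfl

lemma toSec_apply {U V : X.Opens} (h : V ≤ U) (φ : Γ(dual L, U)) (a : Γ(L, V)) :
    (toSec φ).1 ⟨V, h⟩ a = ev (rs (dual L) h φ) a := rfl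

lemma ext_ev {U : X.Opens} {φ ψ : Γ(dual L, U)}
    (h : ∀ (V : X.Opens) (hV : V ≤ U) (a : Γ(L, V)),
      ev (rs (dual L) hV φ) a = ev (rs (dual L) hV ψ) a) : φ = ψ :=
  toSec_injective (secs_ext fun V hV a => h V hV a)

/-! ### the dual generator -/

section gen

variable {U : X.Opens} {e : Γ(L, U)}

/-- the coefficient of a section with respect to a generator -/
noncomputable def coeff (he : IsGen L U e) {V : X.Opens} (hV : V ≤ U) (a : Γ(L, V)) : Γ(X, V) :=
  ((he V hV).2 a).choose

lemma coeff_spec (he : IsGen L U e) {V : X.Opens} (hV : V ≤ U) (a : Γ(L, V)) :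
    coeff he hV a • rs L hV e = a := ((he V hV).2 a).choose_spec

lemma coeff_unique (he : IsGen L U e) {V : X.Opens} (hV : V ≤ U) (a : Γ(L, V)) (r : Γ(X, V))
    (hr : r • rs L hV e = a) : coeff he hV a = r :=
  (he V hV).1 ((coeff_spec he hV a).trans hr.symm)

lemma coeff_add (he : IsGen L U e) {V : X.Opens} (hV : V ≤ U) (a b : Γ(L, V)) :
    coeff he hV (a + b) = coeff he hV a + coeff he hV b := by
  apply coeff_unique
  rw [add_smul, coeff_spec, coeff_spec]

lemma coeff_smul (he : IsGen L U e) {V : X.Opens} (hV : V ≤ U) (r : Γ(X, V)) (a : Γ(L, V)) :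
    coeff he hV (r • a) = r * coeff he hV a := by
  apply coeff_unique
  rw [mul_smul, coeff_spec]

lemma coeff_res (he : IsGen L U e) {V W : X.Opens} (hV : V ≤ U) (h : W ≤ V) (a : Γ(L, V)) :
    rr X h (coeff he hV a) = coeff he (h.trans hV) (rs L h a) := by
  symm
  apply coeff_unique
  rw [← rs_rs L hV h e, ← rs_smul, coeff_spec]

lemma coeff_self (he : IsGen L U e) {V : X.Opens} (hV : V ≤ U) :
    coeff he hV (rs L hV e) = 1 := by
  apply coeff_unique
  rw [one_smul]

/-- the dual generator `e^∨` -/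
noncomputable def dualGen (he : IsGen L U e) : Γ(dual L, U) :=
  ofSec ⟨fun V =>
    { toFun := fun a => coeff he V.2 a
      map_add' := fun a b => coeff_add he V.2 a b
      map_smul' := fun r a => coeff_smul he V.2 r a },
    fun _ _ hV h a => coeff_res he hV h a⟩

lemma ev_rs_dualGen (he : IsGen L U e) {V : X.Opens} (hV : V ≤ U) (a : Γ(L, V)) :
    ev (rs (dual L) hV (dualGen he)) a = coeff he hV a := rfl

theorem isGen_dualGen (he : IsGen L U e) : IsGen (dual L) U (dualGen he) := by
  intro W hW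
  constructor
  · intro r r' h
    have h1 := congrArg (fun φ : Γ(dual L, W) => ev φ (rs L hW e)) h
    simp only [ev_smul_left, ev_rs_dualGen, coeff_self, mul_one] at h1
    exact h1
  · intro φ
    refine ⟨ev φ (rs L hW e), ?_⟩
    apply ext_ev
    intro V hV a
    rw [rs_smul, ev_smul_left, rs_rs, ev_rs_dualGen, rr_ev, rs_rs]
    conv_rhs => rw [← coeff_spec he (hV.trans hW) a, ev_smul_right]
    rw [mul_comm]

end gen

theorem isInvertible_dual (hL : PicF.IsInvertible L) : PicF.IsInvertible (dual L) := by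
  apply isInvertible_of_isGen
  intro x
  obtain ⟨U, hxU, e, he⟩ := exists_isGen_of_isInvertible hL x
  exact ⟨U, hxU, dualGen he, isGen_dualGen he⟩

end Groth.Agent.Lib.Helper35.Dual
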