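import Groth.Agent.Lib.Helper35.Dual3
import Groth.Agent.Lib.Helper35.AmpleFamily
import Groth.Agent.Lib.Helper22.IdealModAff
import Groth.Agent.Lib.Helper35.AffDiag

/-!
# Ample families from effective Cartier divisors with ample complements
-/

set_option autoImplicit false
universe u

open AlgebraicGeometry CategoryTheory Opposite TopologicalSpace Limits

namespace Groth.Agent.Lib.Helper35.EffCartierFam

open Groth.Agent.Lib.Helper35.GlobGen Groth.Agent.Lib.Helper35.Gen
open Groth.Agent.Lib.Helper35.AbSheaf Groth.Agent.Lib.Helper35.Dual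
open Groth.Agent.Lib.Helper22.IdealModAff

variable {X : Scheme.{u}}

/-- the canonical section `1` of `O(D) = I_D^∨` generates exactly off the support of `D` -/
theorem genLocus_dualSec_idealModι (D : X.IdealSheafData)
    (hInv : PicF.IsInvertible (ClSub.idealMod D)) :
    CohB1.genLocus (dual (ClSub.idealMod D)) (dualSec (ClSub.idealModι D)) = D.support.compl := by
  ext x
  obtain ⟨U₀, hxU₀, e, he⟩ := exists_isGen_of_isInvertible hInv x
  obtain ⟨V, hV, hxV, hVU₀⟩ := exists_isAffineOpen_mem_and_subset (x := x) (U := U₀) hxU₀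
  have hVU₀' : V ≤ U₀ := hVU₀
  have he' := he.mono hVU₀'
  obtain ⟨e', he'def⟩ : ∃ e', e' = rs (ClSub.idealMod D) hVU₀' e := ⟨_, rfl⟩
  rw [← he'def] at he'
  obtain ⟨f, hf⟩ : ∃ f : Γ(X, V), f = incl D V e' := ⟨_, rfl⟩
  have h1 : CohB1.genLocus (dual (ClSub.idealMod D)) (dualSec (ClSub.idealModι D)) ⊓ V =
      X.basicOpen f := by
    rw [hf]
    exact genLocus_dualSec_inf (ClSub.idealModι D) he'
  have hI : D.ideal ⟨V, hV⟩ = Ideal.span {f} := by
    ext a
    rw [mem_ideal_iff, Ideal.mem_span_singleton']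
    constructor
    · rintro ⟨t, rfl⟩
      obtain ⟨r, rfl⟩ := he'.bij.2 t
      exact ⟨r, by rw [hf]; exact ((incl D V).map_smul r e').symm⟩
    · rintro ⟨r, rfl⟩
      exact ⟨r • e', by rw [hf]; exact (incl D V).map_smul r e'⟩
  have h2 : x ∈ D.support ↔ x ∉ X.basicOpen f := by
    rw [Scheme.IdealSheafData.mem_support_iff_of_mem (U := ⟨V, hV⟩) hxV, hI, Scheme.zeroLocus_span,
      Scheme.zeroLocus_singleton]
    rfl
  constructor
  · intro hx hs
    have h3 : x ∈ CohB1.genLocus (dual (ClSub.idealMod D)) (dualSec (ClSub.idealModι D)) ⊓ V :=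
      ⟨hx, hxV⟩
    rw [h1] at h3
    exact (h2.mp hs) h3
  · intro hx
    have h3 : x ∈ X.basicOpen f := by
      by_contra h
      exact hx (h2.mpr h)
    rw [← h1] at h3
    exact h3.1

open Groth.Agent.Lib.Helper35.AmpleFamily in
/-- `S1500` -/
theorem hasAmpleFamily_of_effCartier {m : ℕ} (D : Fin m → X.IdealSheafData)
    (hD : ∀ i, BlowUp.IsEffCartierIdeal (D i)) (hcap : ⋂ i, ((D i).support : Set ↑X) = ∅)
    (L : Fin m → X.Modules) (hL : ∀ i, PicF.IsInvertible (L i))
    (hamp : ∀ i, CohB1.IsAmple ((L i).restrict (Scheme.Opens.ι (D i).support.compl))) :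
    MoreMor.HasAmpleFamily X := by
  have hI : ∀ i, PicF.IsInvertible (ClSub.idealMod (D i)) :=
    fun i => isInvertible_of_isEffCartierIdeal (D i) (hD i)
  have hB : ∀ i, PicF.IsInvertible (dual (ClSub.idealMod (D i))) :=
    fun i => isInvertible_dual (hI i)
  have ht : ∀ i, CohB1.genLocus _ (dualSec (ClSub.idealModι (D i))) = (D i).support.compl :=
    fun i => genLocus_dualSec_idealModι (D i) (hI i)
  have hcov : ∀ x : X, ∃ i, x ∈ (D i).support.compl := by
    intro x
    by_contra h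
    push_neg at h
    have h1 : x ∈ ⋂ i, ((D i).support : Set X) := Set.mem_iInter.mpr (fun i => by
      by_contra h2
      exact h i h2)
    rw [hcap] at h1
    exact h1
  haveI : CompactSpace X := by
    rw [← isCompact_univ_iff]
    have h1 : (Set.univ : Set X) = ⋃ i, (((D i).support.compl : X.Opens) : Set X) := by
      ext x
      simp only [Set.mem_univ, Set.mem_iUnion, true_iff]
      exact hcov x
    rw [h1]
    exact isCompact_iUnion (fun i => isCompact_iff_compactSpace.mpr (hamp i).2.1)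
  haveI hUι : ∀ i, IsAffineHom (Scheme.Opens.ι (D i).support.compl) := by
    intro i
    rw [← ht i]
    exact Groth.Agent.Lib.Helper35.GenLocus.isAffineHom_genLocus_ι _ (hB i) _
  haveI : QuasiSeparatedSpace X := by
    apply Groth.Agent.Lib.Helper35.AffDiag.quasiSeparatedSpace_of_cover
    intro x
    obtain ⟨i, hxi⟩ := hcov x
    obtain ⟨a, s₁, hx₁, haff₁⟩ := (hamp i).2.2 ⟨x, hxi⟩
    refine ⟨(Scheme.Opens.ι (D i).support.compl) ''ᵁ CohB1.genLocus _ s₁, ⟨⟨x, hxi⟩, hx₁, rfl⟩,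
      haff₁.image_of_isOpenImmersion _, ?_⟩
    haveI : IsAffineHom (CohB1.genLocus _ s₁).ι :=
      Groth.Agent.Lib.Helper35.GenLocus.isAffineHom_genLocus_ι _
        (Gen.isInvertible_tensorPow (hamp i).1 (a + 1)) s₁
    rw [← Scheme.Hom.isoImage_inv_ι]
    infer_instance
  refine ⟨inferInstance, fun x => ?_⟩
  obtain ⟨i, hxi⟩ := hcov x
  obtain ⟨a, s₁, hx₁, haff₁⟩ := (hamp i).2.2 ⟨x, hxi⟩
  obtain ⟨s₂, hs₂⟩ := Groth.Agent.Lib.Lead.Inv.exists_section_of_iso
    ⟨(Groth.Agent.Lib.Helper60.TensorRestrict.restrictTensorPowIso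
      (Scheme.Opens.ι (D i).support.compl) (L i) (a + 1)).symm⟩ s₁
  have hM := Gen.isInvertible_tensorPow (hL i) (a + 1)
  obtain ⟨n₀, h⟩ := Groth.Agent.Lib.Helper35.TwistExt.exists_twist_section hM (hB i)
    (dualSec (ClSub.idealModι (D i))) (D i).support.compl (ht i).symm s₂
  obtain ⟨τ, hτ⟩ := h n₀ le_rfl
  have hL' := Gen.isInvertible_tensorMod hM (Gen.isInvertible_tensorPow (hB i) n₀)
  obtain ⟨τ', hτ'⟩ := Groth.Agent.Lib.Lead.Inv.exists_section_of_iso (nonempty_tensorPow_one _) τ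
  refine ⟨_, 1, τ', hL', le_rfl, ?_, ?_⟩
  · rw [hτ', hτ, hs₂]
    exact ⟨⟨x, hxi⟩, hx₁, rfl⟩
  · rw [hτ', hτ, hs₂]
    exact haff₁.image_of_isOpenImmersion _

end Groth.Agent.Lib.Helper35.EffCartierFam
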