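import Groth.Agent.Lib.Helper35.Ample3
import Groth.Agent.Lib.Helper35.PbAmple
import Groth.Agent.Lib.Helper35.PbGen
import Groth.Agent.Lib.Helper20.PerfAff2
import Groth.Agent.Lib.Helper63.PerfFlatSch
import Groth.Agent.Lib.Helper63.PerfIntegral

/-!
# Ampleness and perfections

For a perfection `π : X' ⟶ X` of a quasi-compact quasi-separated scheme of characteristic `p`, an
invertible module `L` on `X` is ample iff `π^* L` is ample.
-/

universe u

open CategoryTheory AlgebraicGeometry TopologicalSpace Opposite FrobSch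

namespace Groth.Agent.Lib.Helper35.PerfAmple

open Groth.Agent.Lib.Helper35.AbSheaf Groth.Agent.Lib.Helper35.QcohSec
open Groth.Agent.Lib.Helper35.Cocycle Groth.Agent.Lib.Helper35.Gen
open Groth.Agent.Lib.Helper35.GlobGen Groth.Agent.Lib.Helper35.PbInv
open Groth.Agent.Lib.Helper35.Ample

variable {X' X : Scheme.{u}} (π : X' ⟶ X)

/-- pullback of functions -/
noncomputable def papp (V : X.Opens) : Γ(X, V) →+* Γ(X', π ⁻¹ᵁ V) := (π.app V).hom

theorem papp_rr {U V : X.Opens} (h : V ≤ U) (a : Γ(X, U)) :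
    papp π V (rr X h a) = rr X' (π.preimage_mono h) (papp π U a) :=
  Groth.Agent.Lib.Helper20.Descend.map_app_eq π h a

/-- the pulled back cover with generators -/
noncomputable def pbCover [IsAffineHom π] {L : X.Modules} (C : GenCover L) :
    GenCover ((Scheme.Modules.pullback π).obj L) where
  ι := C.ι
  fin := C.fin
  V := fun i => π ⁻¹ᵁ C.V i
  hV := fun i => (C.hV i).preimage π
  cover := fun x => C.cover (π x)
  e := fun i => pbSec π L (C.V i) (C.e i)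
  he := fun i => isGen_pbSec π L (C.V i) (C.e i) (C.he i)
  u := fun i j => papp π (C.V i ⊓ C.V j) (C.u i j)
  hu := fun i j => by
    have h1 := pbSec_rs π L (inf_le_right : C.V i ⊓ C.V j ≤ C.V j) (C.e j)
    have h2 := pbSec_rs π L (inf_le_left : C.V i ⊓ C.V j ≤ C.V i) (C.e i)
    have h3 := pbSec_smul π L (C.V i ⊓ C.V j) (C.u i j) (rs L inf_le_left (C.e i))
    rw [← C.hu i j] at h3
    exact h1.trans (h3.trans (congrArg _ h2.symm))

section Perf

variable (p : ℕ) [Fact p.Prime] [IsCharP X' p] [IsCharP X p] (hπ : IsPerfection π p)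
include hπ

theorem exists_section [CompactSpace X] [QuasiSeparatedSpace X] {L : X.Modules}
    (hL : PicF.IsInvertible L) (N : ℕ)
    (s' : Coh.structureModule X' ⟶ CohB1.tensorPow ((Scheme.Modules.pullback π).obj L) N) :
    ∃ (k : ℕ) (s : Coh.structureModule X ⟶ CohB1.tensorPow L (N * p ^ k)),
      π ⁻¹ᵁ CohB1.genLocus _ s = CohB1.genLocus _ s' := by
  haveI : IsIntegralHom π := Groth.Agent.Lib.Helper63.Perf.isIntegralHom_of_isPerfection p π hπ
  haveI : Surjective π := Groth.Agent.Lib.Helper63.Perf.surjective_of_isPerfection p π hπ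
  have hp : 0 < p := (Fact.out : p.Prime).pos
  obtain ⟨C⟩ := exists_genCover hL
  haveI := C.fin
  haveI := Fintype.ofFinite C.ι
  obtain ⟨c', hcu', hU'⟩ : ∃ c' : ∀ i : C.ι, Γ(X', π ⁻¹ᵁ C.V i),
      (∀ i j, rr X' (π.preimage_mono (inf_le_left : C.V i ⊓ C.V j ≤ C.V i)) (c' i) =
        (papp π (C.V i ⊓ C.V j) (C.u i j)) ^ N *
          rr X' (π.preimage_mono (inf_le_right : C.V i ⊓ C.V j ≤ C.V j)) (c' j)) ∧
      (∀ i, X'.basicOpen (c' i) = CohB1.genLocus _ s' ⊓ π ⁻¹ᵁ C.V i) :=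
    ⟨((pbCover π C).pow N).c s', (((pbCover π C).pow N).data s').hcu,
      (((pbCover π C).pow N).data s').hU⟩
  -- Step 1: local lifts of `p`-power powers
  have h1 : ∀ i, ∃ (n : ℕ) (a : Γ(X, C.V i)), papp π (C.V i) a = c' i ^ p ^ n := fun i =>
    Groth.Agent.Lib.Helper20.PerfAff.powLifts_affine p π hπ ⟨C.V i, C.hV i⟩ (c' i)
  choose n₁ a₁ ha₁ using h1
  obtain ⟨N₁, hN₁⟩ : ∃ N₁ : ℕ, ∀ i, n₁ i ≤ N₁ :=
    ⟨∑ i, n₁ i, fun i => Finset.single_le_sum (fun _ _ => Nat.zero_le _) (Finset.mem_univ i)⟩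
  obtain ⟨a₂, ha₂def⟩ : ∃ a₂ : ∀ i, Γ(X, C.V i), ∀ i, a₂ i = a₁ i ^ p ^ (N₁ - n₁ i) :=
    ⟨_, fun _ => rfl⟩
  have ha₂ : ∀ i, papp π (C.V i) (a₂ i) = c' i ^ p ^ N₁ := by
    intro i
    rw [ha₂def, map_pow, ha₁ i, ← pow_mul, ← pow_add]
    congr 2
    have := hN₁ i
    omega
  -- Step 2: differences on overlaps are nilpotent
  obtain ⟨d, hddef⟩ : ∃ d : ∀ i j, Γ(X, C.V i ⊓ C.V j), ∀ i j, d i j =
      rr X inf_le_left (a₂ i) - C.u i j ^ (N * p ^ N₁) * rr X inf_le_right (a₂ j) :=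
    ⟨_, fun _ _ => rfl⟩
  have hd : ∀ i j, papp π (C.V i ⊓ C.V j) (d i j) = 0 := by
    intro i j
    rw [hddef, map_sub, map_mul, map_pow, papp_rr, papp_rr, ha₂ i, ha₂ j, rr_pow, rr_pow,
      hcu' i j, mul_pow, ← pow_mul, sub_self]
  have hWc : ∀ i j, IsCompact ((C.V i ⊓ C.V j : X.Opens) : Set X) := fun i j =>
    QuasiSeparatedSpace.inter_isCompact _ _ (C.V i).isOpen (C.hV i).isCompact (C.V j).isOpen
      (C.hV j).isCompact
  have h2 : ∀ i j, ∃ m : ℕ, d i j ^ p ^ m = 0 := fun i j =>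
    Groth.Agent.Lib.Helper20.PerfAff.exists_pow_prime_pow_eq_zero p (d i j)
      (Groth.Agent.Lib.Helper20.PerfAff.isNilpotent_of_app_eq_zero π (C.V i ⊓ C.V j) (hWc i j)
        (d i j) (hd i j))
  choose m hm using h2
  obtain ⟨M, hM⟩ : ∃ M : ℕ, ∀ i j, m i j ≤ M := by
    refine ⟨∑ i, ∑ j, m i j, fun i j => ?_⟩
    have h1 : m i j ≤ ∑ j, m i j :=
      Finset.single_le_sum (f := fun j => m i j) (fun _ _ => Nat.zero_le _) (Finset.mem_univ j)
    have h2 : ∑ j, m i j ≤ ∑ i, ∑ j, m i j :=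
      Finset.single_le_sum (f := fun i => ∑ j, m i j) (fun _ _ => Nat.zero_le _)
        (Finset.mem_univ i)
    omega
  have hdM : ∀ i j, d i j ^ p ^ M = 0 := fun i j =>
    pow_eq_zero_of_le (Nat.pow_le_pow_right hp (hM i j)) (hm i j)
  obtain ⟨b, hbdef⟩ : ∃ b : ∀ i, Γ(X, C.V i), ∀ i, b i = a₂ i ^ p ^ M := ⟨_, fun _ => rfl⟩
  have hb : ∀ i j, rr X (inf_le_left : C.V i ⊓ C.V j ≤ C.V i) (b i) =
      C.u i j ^ (N * p ^ (N₁ + M)) * rr X (inf_le_right : C.V i ⊓ C.V j ≤ C.V j) (b j) := by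
    intro i j
    have h0 : (p : Γ(X, C.V i ⊓ C.V j)) = 0 := natCast_eq_zero_app X p _
    have h3 : d i j ^ p ^ M = rr X inf_le_left (a₂ i) ^ p ^ M -
        (C.u i j ^ (N * p ^ N₁) * rr X inf_le_right (a₂ j)) ^ p ^ M := by
      rw [hddef]
      exact Groth.Agent.Lib.Helper20.PerfAff.sub_pow_prime_pow p h0 _ _ M
    have e1 : C.u i j ^ (N * p ^ (N₁ + M)) * rr X inf_le_right (a₂ j) ^ p ^ M =
        (C.u i j ^ (N * p ^ N₁) * rr X inf_le_right (a₂ j)) ^ p ^ M := by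
      rw [mul_pow, ← pow_mul, pow_add, ← mul_assoc]
    rw [hdM i j] at h3
    rw [hbdef i, hbdef j, rr_pow, rr_pow, e1, ← sub_eq_zero]
    exact h3.symm
  -- Step 3: glue
  have hglue : ∃ g : Γ(CohB1.tensorPow L (N * p ^ (N₁ + M)), ⊤), ∀ i : C.ι,
      rs (CohB1.tensorPow L (N * p ^ (N₁ + M))) (le_top : C.V i ≤ ⊤) g =
        b i • gpow (C.e i) (N * p ^ (N₁ + M)) := by
    have hcov : (⊤ : X.Opens) ≤ iSup C.V := by
      intro y _
      obtain ⟨i, hi⟩ := C.cover y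
      exact Opens.mem_iSup.mpr ⟨i, hi⟩
    refine glue' (CohB1.tensorPow L (N * p ^ (N₁ + M))).presheaf
      (CohB1.tensorPow L (N * p ^ (N₁ + M))).isSheaf C.V (fun _ => le_top) hcov
      (fun i => b i • gpow (C.e i) (N * p ^ (N₁ + M))) ?_
    intro i j
    change rs (CohB1.tensorPow L (N * p ^ (N₁ + M))) inf_le_left
        (b i • gpow (C.e i) (N * p ^ (N₁ + M))) =
      rs (CohB1.tensorPow L (N * p ^ (N₁ + M))) inf_le_right
        (b j • gpow (C.e j) (N * p ^ (N₁ + M)))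
    rw [rs_smul, rs_smul, C.gpow_trans (N * p ^ (N₁ + M)) i j (C.V i ⊓ C.V j) le_rfl, rr_self,
      ← mul_smul, hb i j]
    congr 1
    ring
  obtain ⟨g, hg⟩ := hglue
  refine ⟨N₁ + M, secHom _ g, ?_⟩
  apply opens_eq_of_inf_eq
  intro y
  obtain ⟨i, hyi⟩ := C.cover (π y)
  refine ⟨π ⁻¹ᵁ C.V i, hyi, ?_⟩
  have h4 := genLocus_inf_eq_basicOpen (secHom _ g) ((C.he i).gpow (N * p ^ (N₁ + M)))
    (b i) (by rw [val_secHom, hg i])
  have h5 : π ⁻¹ᵁ (X.basicOpen (b i)) = X'.basicOpen (c' i) := by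
    rw [Scheme.preimage_basicOpen]
    change X'.basicOpen (papp π (C.V i) (b i)) = _
    rw [hbdef i, map_pow, ha₂ i, ← pow_mul]
    exact Scheme.basicOpen_pow X' _ (Nat.mul_pos (Nat.pow_pos hp) (Nat.pow_pos hp))
  calc π ⁻¹ᵁ CohB1.genLocus _ (secHom _ g) ⊓ π ⁻¹ᵁ C.V i
      = π ⁻¹ᵁ (CohB1.genLocus _ (secHom _ g) ⊓ C.V i) := rfl
    _ = π ⁻¹ᵁ (X.basicOpen (b i)) := by rw [h4]
    _ = X'.basicOpen (c' i) := h5
    _ = CohB1.genLocus _ s' ⊓ π ⁻¹ᵁ C.V i := hU' i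

/-- ampleness descends along a perfection -/
theorem isAmple_of_isAmple_pullback [CompactSpace X] [QuasiSeparatedSpace X] {L : X.Modules}
    (hL : PicF.IsInvertible L) (h : CohB1.IsAmple ((Scheme.Modules.pullback π).obj L)) :
    CohB1.IsAmple L := by
  haveI : Surjective π := Groth.Agent.Lib.Helper63.Perf.surjective_of_isPerfection p π hπ
  refine ⟨hL, inferInstance, fun x => ?_⟩
  obtain ⟨x', rfl⟩ := π.surjective x
  obtain ⟨n, s', hx', haff'⟩ := h.2.2 x'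
  obtain ⟨K, hK, s, hs⟩ : ∃ (K : ℕ) (_ : K ≠ 0)
      (s : Coh.structureModule X ⟶ CohB1.tensorPow L K),
      π ⁻¹ᵁ CohB1.genLocus _ s = CohB1.genLocus _ s' := by
    obtain ⟨k, s, hs⟩ := exists_section π p hπ hL (n + 1) s'
    exact ⟨_, Nat.mul_ne_zero (Nat.succ_ne_zero n)
      (pow_ne_zero k (Fact.out : p.Prime).ne_zero), s, hs⟩
  obtain ⟨m, rfl⟩ := Nat.exists_eq_succ_of_ne_zero hK
  refine ⟨m, s, ?_, ?_⟩
  · have : x' ∈ π ⁻¹ᵁ CohB1.genLocus _ s := by rw [hs]; exact hx'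
    exact this
  · haveI hc : IsCharP ((π ⁻¹ᵁ CohB1.genLocus _ s : X'.Opens) : Scheme.{u}) p :=
      IsCharP.of_hom (Scheme.Opens.ι _) p
    haveI hc' : IsCharP ((CohB1.genLocus _ s : X.Opens) : Scheme.{u}) p :=
      IsCharP.of_hom (Scheme.Opens.ι _) p
    have hperf : IsPerfection (π ∣_ CohB1.genLocus _ s) p :=
      Groth.Agent.Lib.Helper63.Perf.isPerfection_morphismRestrict p π hπ _
    haveI : IsAffine ((π ⁻¹ᵁ CohB1.genLocus _ s : X'.Opens) : Scheme.{u}) := by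
      have : IsAffineOpen (π ⁻¹ᵁ CohB1.genLocus _ s) := by rw [hs]; exact haff'
      exact this
    exact Groth.Agent.Lib.Helper20.PerfAff.isAffine_of_isAffine_perfection p
      (π ∣_ CohB1.genLocus _ s) hperf

/-- ampleness ascends along a perfection -/
theorem isAmple_pullback {L : X.Modules} (h : CohB1.IsAmple L) :
    CohB1.IsAmple ((Scheme.Modules.pullback π).obj L) := by
  haveI : IsIntegralHom π := Groth.Agent.Lib.Helper63.Perf.isIntegralHom_of_isPerfection p π hπ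
  exact isAmple_pullback_of_isAffineHom π h

end Perf

end Groth.Agent.Lib.Helper35.PerfAmple
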