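import Groth.Agent.Lib.Lead.Avoid1
import Groth.Agent.Lib.Lead.Ample2
import Groth.Agent.Lib.Helper35.PbBase
import Groth.Agent.Lib.Helper60.TensorRestrict

/-!
# External tensor products of ample modules
-/

set_option autoImplicit false
universe u

open CategoryTheory CategoryTheory.Limits AlgebraicGeometry TopologicalSpace Opposite

namespace Groth.Agent.Lib.Helper35.PbInv

open Groth.Agent.Lib.Helper35.Gen Groth.Agent.Lib.Helper35.Ample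
open Groth.Agent.Lib.Helper60.TensorLib

/-- external tensor product of ample modules is ample, as soon as "products" of small affine opens
are affine -/
theorem isAmple_externalTensor {Z U₁ U₂ : Scheme.{u}} (r₁ : Z ⟶ U₁) (r₂ : Z ⟶ U₂) [CompactSpace Z]
    {N₁ : U₁.Modules} {N₂ : U₂.Modules} (h₁ : CohB1.IsAmple N₁) (h₂ : CohB1.IsAmple N₂)
    (H : ∀ z : Z, ∃ (B₁ : U₁.Opens) (B₂ : U₂.Opens), r₁ z ∈ B₁ ∧ r₂ z ∈ B₂ ∧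
      ∀ (A₁ : U₁.Opens) (A₂ : U₂.Opens), IsAffineOpen A₁ → IsAffineOpen A₂ → A₁ ≤ B₁ → A₂ ≤ B₂ →
        IsAffineOpen (r₁ ⁻¹ᵁ A₁ ⊓ r₂ ⁻¹ᵁ A₂)) :
    CohB1.IsAmple (CohB1.tensorMod ((Scheme.Modules.pullback r₁).obj N₁)
      ((Scheme.Modules.pullback r₂).obj N₂)) := by
  have hA := isInvertible_pullback (u := r₁) h₁.1
  have hB := isInvertible_pullback (u := r₂) h₂.1
  refine ⟨isInvertible_tensorMod hA hB, inferInstance, fun z => ?_⟩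
  obtain ⟨B₁, B₂, hz₁, hz₂, hBB⟩ := H z
  obtain ⟨a, s, hxs, hsS, hsaff⟩ := Groth.Agent.Lib.Lead.Inv.exists_affine_section_le h₁
    B₁ (r₁ z) hz₁
  obtain ⟨b, t, hyt, htS, htaff⟩ := Groth.Agent.Lib.Lead.Inv.exists_affine_section_le h₂
    B₂ (r₂ z) hz₂
  obtain ⟨s', hs'⟩ := exists_pullback_section (u := r₁) h₁.1 (a + 1) s
  obtain ⟨t', ht'⟩ := exists_pullback_section (u := r₂) h₂.1 (b + 1) t
  obtain ⟨k, w, hw⟩ := Groth.Agent.Lib.Lead.Inv.exists_section_tensor hA hB s' t'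
  refine ⟨k, w, ?_, ?_⟩
  · rw [hw, hs', ht']
    exact ⟨hxs, hyt⟩
  · rw [hw, hs', ht']
    exact hBB _ _ hsaff htaff hsS htS

/-- `S4428`: the external tensor product of relatively ample modules is relatively ample for the
product morphism. -/
theorem isRelAmple_externalTensor {X₁ X₂ Y₁ Y₂ S : Scheme.{u}} (a₁ : Y₁ ⟶ S) (a₂ : Y₂ ⟶ S)
    (f₁ : X₁ ⟶ Y₁) (f₂ : X₂ ⟶ Y₂) [QuasiCompact f₁] [QuasiCompact f₂] (L₁ : X₁.Modules)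
    (L₂ : X₂.Modules) (hL₁ : RelAmple.IsRelAmple f₁ L₁) (hL₂ : RelAmple.IsRelAmple f₂ L₂) :
    RelAmple.IsRelAmple
      (pullback.map (f₁ ≫ a₁) (f₂ ≫ a₂) a₁ a₂ f₁ f₂ (𝟙 S) (Category.comp_id (f₁ ≫ a₁))
        (Category.comp_id (f₂ ≫ a₂)))
      (CohB1.tensorMod ((Scheme.Modules.pullback (pullback.fst (f₁ ≫ a₁) (f₂ ≫ a₂))).obj L₁)
        ((Scheme.Modules.pullback (pullback.snd (f₁ ≫ a₁) (f₂ ≫ a₂))).obj L₂)) := by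
  obtain ⟨F, hF⟩ : ∃ F, F = pullback.map (f₁ ≫ a₁) (f₂ ≫ a₂) a₁ a₂ f₁ f₂ (𝟙 S)
    (Category.comp_id (f₁ ≫ a₁)) (Category.comp_id (f₂ ≫ a₂)) := ⟨_, rfl⟩
  rw [← hF]
  have hF₁ : F ≫ pullback.fst a₁ a₂ = pullback.fst (f₁ ≫ a₁) (f₂ ≫ a₂) ≫ f₁ := by
    rw [hF]; exact pullback.lift_fst _ _ _
  have hF₂ : F ≫ pullback.snd a₁ a₂ = pullback.snd (f₁ ≫ a₁) (f₂ ≫ a₂) ≫ f₂ := by
    rw [hF]; exact pullback.lift_snd _ _ _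
  haveI : QuasiCompact F := by
    rw [hF]
    exact MorphismProperty.pullbackMap (P := @QuasiCompact) inferInstance inferInstance rfl rfl
  have hF₁' : ∀ z, pullback.fst a₁ a₂ (F z) = f₁ (pullback.fst (f₁ ≫ a₁) (f₂ ≫ a₂) z) := by
    intro z
    have := congrArg (fun φ : pullback (f₁ ≫ a₁) (f₂ ≫ a₂) ⟶ Y₁ => φ z) hF₁
    exact this
  have hF₂' : ∀ z, pullback.snd a₁ a₂ (F z) = f₂ (pullback.snd (f₁ ≫ a₁) (f₂ ≫ a₂) z) := by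
    intro z
    have := congrArg (fun φ : pullback (f₁ ≫ a₁) (f₂ ≫ a₂) ⟶ Y₂ => φ z) hF₂
    exact this
  -- the cover of the base
  have hcov : ∀ w : ↥(pullback a₁ a₂), ∃ (S₀ : S.Opens) (V₁ : Y₁.Opens) (V₂ : Y₂.Opens),
      IsAffineOpen S₀ ∧ IsAffineOpen V₁ ∧ IsAffineOpen V₂ ∧ V₁ ≤ a₁ ⁻¹ᵁ S₀ ∧ V₂ ≤ a₂ ⁻¹ᵁ S₀ ∧
        pullback.fst a₁ a₂ w ∈ V₁ ∧ pullback.snd a₁ a₂ w ∈ V₂ := by
    intro w
    obtain ⟨S₀, hS₀, hwS₀, -⟩ := exists_isAffineOpen_mem_and_subset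
      (x := a₁ (pullback.fst a₁ a₂ w)) (U := ⊤) trivial
    have hwS₀' : a₂ (pullback.snd a₁ a₂ w) ∈ S₀ := by
      have h1 : a₂ (pullback.snd a₁ a₂ w) = a₁ (pullback.fst a₁ a₂ w) := by
        have := congrArg (fun φ : pullback a₁ a₂ ⟶ S => φ w) (pullback.condition (f := a₁) (g := a₂))
        exact this.symm
      rw [h1]
      exact hwS₀
    obtain ⟨V₁, hV₁, hw₁, hVS₁⟩ := exists_isAffineOpen_mem_and_subset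
      (x := pullback.fst a₁ a₂ w) (U := a₁ ⁻¹ᵁ S₀) hwS₀
    obtain ⟨V₂, hV₂, hw₂, hVS₂⟩ := exists_isAffineOpen_mem_and_subset
      (x := pullback.snd a₁ a₂ w) (U := a₂ ⁻¹ᵁ S₀) hwS₀'
    exact ⟨S₀, V₁, V₂, hS₀, hV₁, hV₂, hVS₁, hVS₂, hw₁, hw₂⟩
  choose S₀ V₁ V₂ hS₀ hV₁ hV₂ hVS₁ hVS₂ hw₁ hw₂ using hcov
  obtain ⟨W, hW⟩ : ∃ W : ↥(pullback a₁ a₂) → (pullback a₁ a₂).Opens, ∀ w, W w =
      pullback.fst a₁ a₂ ⁻¹ᵁ V₁ w ⊓ pullback.snd a₁ a₂ ⁻¹ᵁ V₂ w := ⟨_, fun _ => rfl⟩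
  have hWaff : ∀ w, IsAffineOpen (W w) := fun w => by
    rw [hW]
    exact isAffineOpen_inf_preimage_of_pullback a₁ a₂ _ (S₀ w) _ (hV₁ w) (hS₀ w) (hV₂ w)
      (hVS₁ w) (hVS₂ w)
  have hsup : ⨆ w, W w = ⊤ := by
    rw [eq_top_iff]
    intro w _
    refine Opens.mem_iSup.mpr ⟨w, ?_⟩
    rw [hW]
    exact ⟨hw₁ w, hw₂ w⟩
  refine (Groth.Agent.S4380.result F _ W hsup).mpr (fun w => ?_)
  haveI : IsAffine (W w : Scheme.{u}) := hWaff w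
  rw [Groth.Agent.S4381.result]
  -- the local problem
  have e₁ : F ⁻¹ᵁ W w ≤ pullback.fst (f₁ ≫ a₁) (f₂ ≫ a₂) ⁻¹ᵁ (f₁ ⁻¹ᵁ V₁ w) := by
    intro z hz
    have hz' : F z ∈ W w := hz
    rw [hW] at hz'
    show f₁ (pullback.fst (f₁ ≫ a₁) (f₂ ≫ a₂) z) ∈ V₁ w
    rw [← hF₁']
    exact hz'.1
  have e₂ : F ⁻¹ᵁ W w ≤ pullback.snd (f₁ ≫ a₁) (f₂ ≫ a₂) ⁻¹ᵁ (f₂ ⁻¹ᵁ V₂ w) := by
    intro z hz
    have hz' : F z ∈ W w := hz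
    rw [hW] at hz'
    show f₂ (pullback.snd (f₁ ≫ a₁) (f₂ ≫ a₂) z) ∈ V₂ w
    rw [← hF₂']
    exact hz'.2
  haveI : CompactSpace ((F ⁻¹ᵁ W w : (pullback (f₁ ≫ a₁) (f₂ ≫ a₂)).Opens) : Scheme.{u}) :=
    isCompact_iff_compactSpace.mp (F.isCompact_preimage (hWaff w).isCompact)
  have h3 := isAmple_externalTensor
    ((pullback.fst (f₁ ≫ a₁) (f₂ ≫ a₂)).resLE (f₁ ⁻¹ᵁ V₁ w) (F ⁻¹ᵁ W w) e₁)
    ((pullback.snd (f₁ ≫ a₁) (f₂ ≫ a₂)).resLE (f₂ ⁻¹ᵁ V₂ w) (F ⁻¹ᵁ W w) e₂)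
    (hL₁.2 ⟨V₁ w, hV₁ w⟩) (hL₂.2 ⟨V₂ w, hV₂ w⟩) (fun z => by
      refine ⟨⊤, ⊤, trivial, trivial, fun A₁ A₂ hA₁ hA₂ _ _ => ?_⟩
      rw [Scheme.Hom.resLE_preimage, Scheme.Hom.resLE_preimage]
      show IsAffineOpen ((F ⁻¹ᵁ W w).ι ⁻¹ᵁ
        (pullback.fst (f₁ ≫ a₁) (f₂ ≫ a₂) ⁻¹ᵁ ((f₁ ⁻¹ᵁ V₁ w).ι ''ᵁ A₁) ⊓
          pullback.snd (f₁ ≫ a₁) (f₂ ≫ a₂) ⁻¹ᵁ ((f₂ ⁻¹ᵁ V₂ w).ι ''ᵁ A₂)))
      have hle₁ : (f₁ ⁻¹ᵁ V₁ w).ι ''ᵁ A₁ ≤ f₁ ⁻¹ᵁ V₁ w := Scheme.Opens.ι_image_le _ A₁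
      have hle₂ : (f₂ ⁻¹ᵁ V₂ w).ι ''ᵁ A₂ ≤ f₂ ⁻¹ᵁ V₂ w := Scheme.Opens.ι_image_le _ A₂
      have hT := isAffineOpen_inf_preimage_of_pullback (f₁ ≫ a₁) (f₂ ≫ a₂)
        ((f₁ ⁻¹ᵁ V₁ w).ι ''ᵁ A₁) (S₀ w) ((f₂ ⁻¹ᵁ V₂ w).ι ''ᵁ A₂)
        (hA₁.image_of_isOpenImmersion _) (hS₀ w) (hA₂.image_of_isOpenImmersion _)
        (hle₁.trans (fun x hx => hVS₁ w hx)) (hle₂.trans (fun x hx => hVS₂ w hx))
      refine hT.preimage_of_isOpenImmersion _ ?_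
      rw [Scheme.Opens.opensRange_ι]
      intro z hz
      show F z ∈ W w
      rw [hW]
      refine ⟨?_, ?_⟩
      · show pullback.fst a₁ a₂ (F z) ∈ V₁ w
        rw [hF₁']
        exact hle₁ hz.1
      · show pullback.snd a₁ a₂ (F z) ∈ V₂ w
        rw [hF₂']
        exact hle₂ hz.2)
  refine isAmple_of_iso ?_ h3
  exact (Groth.Agent.Lib.Helper60.TensorRestrict.restrictTensorIso (F ⁻¹ᵁ W w).ι _ _ ≪≫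
    tensorModCongrLeft (restrictPullbackIsoLE (pullback.fst (f₁ ≫ a₁) (f₂ ≫ a₂)) L₁ _ _ e₁) _ ≪≫
    tensorModCongrRight _ (restrictPullbackIsoLE (pullback.snd (f₁ ≫ a₁) (f₂ ≫ a₂)) L₂ _ _ e₂)).symm

end Groth.Agent.Lib.Helper35.PbInv
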