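import Mathlib
import Groth.Agent.Lib.Lead.Inv3
import Groth.Agent.Lib.Helper35.QAffSec

/-!
# A module with a tensor inverse is invertible
-/

universe u

open CategoryTheory AlgebraicGeometry TopologicalSpace Opposite TensorProduct

namespace Groth.Agent.Lib.Helper35.TensorInv

open Groth.Agent.Lib.Lead.Inv Groth.Agent.Lib.Lead.QCohAff

lemma eq_zero_of_tmul_eq_zero {R A B : Type*} [CommRing R] [AddCommGroup A] [Module R A]
    [AddCommGroup B] [Module R B] (π : B →ₗ[R] R) (a : A) (b : B) (hπ : IsUnit (π b))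
    (h : a ⊗ₜ[R] b = 0) : a = 0 := by
  have h1 : (TensorProduct.rid R A) ((LinearMap.lTensor A π) (a ⊗ₜ[R] b)) = π b • a := by
    rw [LinearMap.lTensor_tmul, TensorProduct.rid_tmul]
  rw [h, map_zero, map_zero] at h1
  obtain ⟨v, hv⟩ := hπ
  have h2 : (↑v⁻¹ : R) • (π b • a) = a := by
    rw [smul_smul, ← hv, Units.inv_mul, one_smul]
  rw [← h2, ← h1, smul_zero]

variable {X : Scheme.{u}}

/-- the function `e(l ⊗ n)` -/
noncomputable def pair {L N : X.Modules} (e : CohB1.tensorMod L N ⟶ Coh.structureModule X)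
    {W : X.Opens} (a : Γ(L, W)) (b : Γ(N, W)) : Γ(X, W) :=
  (e.app W).hom (tmul L N a b)

section

variable {L N : X.Modules} (e : CohB1.tensorMod L N ⟶ Coh.structureModule X)

lemma pair_res {U V : X.Opens} (h : V ≤ U) (a : Γ(L, U)) (b : Γ(N, U)) :
    X.presheaf.map (homOfLE h).op (pair e a b) =
      pair e (L.presheaf.map (homOfLE h).op a) (N.presheaf.map (homOfLE h).op b) := by
  have h1 := Groth.Agent.Lib.Helper35.AbSheaf.nat_res e.mapPresheaf h (tmul L N a b)
  have h2 := tmul_res L N h a b
  unfold pair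
  rw [← h2]
  exact h1.symm

lemma pair_smul_left {W : X.Opens} (r : Γ(X, W)) (a : Γ(L, W)) (b : Γ(N, W)) :
    pair e (r • a) b = r * pair e a b := by
  unfold pair
  rw [tmul_smul_left, Scheme.Modules.Hom.app_smul]
  rfl

lemma pair_smul_right {W : X.Opens} (r : Γ(X, W)) (a : Γ(L, W)) (b : Γ(N, W)) :
    pair e a (r • b) = r * pair e a b := by
  unfold pair
  rw [tmul_smul_right, Scheme.Modules.Hom.app_smul]
  rfl

lemma pair_add_left {W : X.Opens} (a a' : Γ(L, W)) (b : Γ(N, W)) :
    pair e (a + a') b = pair e a b + pair e a' b := by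
  unfold pair
  rw [tmul_add_left, map_add]
  rfl

lemma pair_add_right {W : X.Opens} (a : Γ(L, W)) (b b' : Γ(N, W)) :
    pair e a (b + b') = pair e a b + pair e a b' := by
  unfold pair
  rw [tmul_add_right, map_add]
  rfl

/-- `b ↦ e(a ⊗ b)` as a linear form -/
noncomputable def pairRight {W : X.Opens} (a : Γ(L, W)) : Γ(N, W) →ₗ[Γ(X, W)] Γ(X, W) where
  toFun b := pair e a b
  map_add' b b' := pair_add_right e a b b'
  map_smul' r b := pair_smul_right e r a b

end

/-- **A module with a tensor inverse is invertible.** -/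
theorem isInvertible_of_tensor_iso (L N : X.Modules)
    (e : CohB1.tensorMod L N ≅ Coh.structureModule X) : PicF.IsInvertible L := by
  rw [isInvertible_iff_exists_isGen]
  intro x
  -- Step 1: write `e⁻¹(1)` locally as a sum of pure tensors
  let t : Γ(CohB1.tensorMod L N, ⊤) :=
    (e.inv.app ⊤).hom (show Γ(Coh.structureModule X, ⊤) from (1 : Γ(X, ⊤)))
  obtain ⟨V, hV, hxV, z, hz⟩ := η_surj_local (CohB1.tensorPre L N) t x trivial
  have h1 : (e.hom.app V).hom (ηlin L N V z) =
      (show Γ(Coh.structureModule X, V) from (1 : Γ(X, V))) := by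
    have h2 : ηlin L N V z = (CohB1.tensorMod L N).presheaf.map (homOfLE hV).op t := hz
    rw [h2]
    have h3 := Groth.Agent.Lib.Helper35.AbSheaf.nat_res e.hom.mapPresheaf hV t
    refine h3.trans ?_
    have h4 : (e.hom.app ⊤).hom t =
        (show Γ(Coh.structureModule X, ⊤) from (1 : Γ(X, ⊤))) := by
      have := congrArg (fun ψ : Coh.structureModule X ⟶ Coh.structureModule X =>
        (Scheme.Modules.Hom.app ψ ⊤).hom (show Γ(Coh.structureModule X, ⊤) from (1 : Γ(X, ⊤))))
        e.inv_hom_id
      exact this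
    change Groth.Agent.Lib.Helper35.AbSheaf.res _ hV ((e.hom.app ⊤).hom t) = _
    rw [h4]
    exact PresheafOfModules.unit_map_one _ _
  have hex : ∃ (l : Γ(L, V)) (n : Γ(N, V)), x ∈ X.basicOpen (pair e.hom l n) := by
    by_contra hcon
    push_neg at hcon
    have key : ∀ z : Γ(L, V) ⊗[Γ(X, V)] Γ(N, V),
        x ∉ X.basicOpen (show Γ(X, V) from (e.hom.app V).hom (ηlin L N V z)) := by
      intro z
      induction z using TensorProduct.induction_on with
      | zero =>
        rw [map_zero, map_zero]
        change x ∉ X.basicOpen (0 : Γ(X, V))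
        rw [Scheme.basicOpen_zero]
        exact fun h => h
      | tmul a b => exact hcon a b
      | add z z' hz hz' =>
        rw [map_add, map_add]
        intro h
        rcases X.basicOpen_add_le _ _ h with h | h
        · exact hz h
        · exact hz' h
    have h5 := key z
    rw [h1] at h5
    change x ∉ X.basicOpen (1 : Γ(X, V)) at h5
    rw [Scheme.basicOpen_one] at h5
    exact h5 hxV
  obtain ⟨l, n, hxu⟩ := hex
  -- Step 2: shrink to where `u = e(l ⊗ n)` is invertible
  set u : Γ(X, V) := pair e.hom l n with hu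
  have hUV : X.basicOpen u ≤ V := X.basicOpen_le u
  refine ⟨X.basicOpen u, hxu, L.presheaf.map (homOfLE hUV).op l, ?_⟩
  have hunit : ∀ (W : X.Opens) (hW : W ≤ X.basicOpen u),
      IsUnit (pair e.hom (L.presheaf.map (homOfLE (hW.trans hUV)).op l)
        (N.presheaf.map (homOfLE (hW.trans hUV)).op n)) := by
    intro W hW
    rw [← pair_res e.hom (hW.trans hUV) l n]
    have h2 : IsUnit (X.presheaf.map (homOfLE hUV).op u) :=
      RingedSpace.isUnit_res_basicOpen X.toRingedSpace u
    have h3 := h2.map (X.presheaf.map (homOfLE hW).op).hom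
    have h4 : (X.presheaf.map (homOfLE hW).op).hom (X.presheaf.map (homOfLE hUV).op u) =
        X.presheaf.map (homOfLE (hW.trans hUV)).op u := res_resX hUV hW u
    rw [h4] at h3
    exact h3
  apply isGen_of_local
  · intro W hW r hr
    rw [res_res] at hr
    have h2 := congrArg (fun a => pair e.hom a (N.presheaf.map (homOfLE (hW.trans hUV)).op n)) hr
    simp only at h2
    rw [pair_smul_left] at h2
    have h3 : pair e.hom (0 : Γ(L, W)) (N.presheaf.map (homOfLE (hW.trans hUV)).op n) = 0 := by
      have := pair_smul_left e.hom (0 : Γ(X, W)) (0 : Γ(L, W))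
        (N.presheaf.map (homOfLE (hW.trans hUV)).op n)
      rw [zero_smul, zero_mul] at this
      exact this
    rw [h3] at h2
    exact (hunit W hW).mul_left_eq_zero.mp h2
  · intro W hW σ x' hx'
    set lW := L.presheaf.map (homOfLE (hW.trans hUV)).op l with hlW
    set nW := N.presheaf.map (homOfLE (hW.trans hUV)).op n with hnW
    obtain ⟨v, hv⟩ := hunit W hW
    let c : Γ(X, W) := pair e.hom σ nW * ↑v⁻¹
    let k : Γ(L, W) := σ - c • lW
    have hk : pair e.hom k nW = 0 := by
      have h2 : σ = k + c • lW := by simp [k]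
      have h3 := pair_add_left e.hom k (c • lW) nW
      rw [← h2, pair_smul_left] at h3
      have h4 : c * pair e.hom lW nW = pair e.hom σ nW := by
        change pair e.hom σ nW * ↑v⁻¹ * pair e.hom lW nW = _
        rw [← hv, mul_assoc, Units.inv_mul, mul_one]
      rw [h4] at h3
      exact (add_eq_right.mp h3.symm)
    -- so `k ⊗ n = 0` in the tensor product sheaf
    have hk2 : tmul L N k nW = 0 := by
      have hinj : Function.Injective (e.hom.app W).hom :=
        ((ConcreteCategory.isIso_iff_bijective (e.hom.app W)).mp inferInstance).1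
      apply hinj
      rw [map_zero]
      exact hk
    obtain ⟨V', hV', hxV', hz'⟩ := η_inj_local (CohB1.tensorPre L N)
      (show (CohB1.tensorPre L N).presheaf.obj (op W) from
        (show Γ(L, W) ⊗[Γ(X, W)] Γ(N, W) from k ⊗ₜ[Γ(X, W)] nW)) 0
      (by rw [map_zero]; exact hk2) x' hx'
    refine ⟨V', hV', hxV', X.presheaf.map (homOfLE hV').op c, ?_⟩
    have h5 : L.presheaf.map (homOfLE hV').op k ⊗ₜ[Γ(X, V')] N.presheaf.map (homOfLE hV').op nW =
        (0 : Γ(L, V') ⊗[Γ(X, V')] Γ(N, V')) := by
      rw [map_zero] at hz'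
      exact hz'
    have hπ : IsUnit (pairRight e.hom (L.presheaf.map (homOfLE hV').op lW)
        (N.presheaf.map (homOfLE hV').op nW)) := by
      have := hunit V' (hV'.trans hW)
      rw [hlW, hnW, res_res, res_res]
      exact this
    have h6 := eq_zero_of_tmul_eq_zero _ _ _ hπ h5
    have h7 : L.presheaf.map (homOfLE hV').op σ =
        L.presheaf.map (homOfLE hV').op k + L.presheaf.map (homOfLE hV').op (c • lW) := by
      rw [← map_add]
      congr 1
      simp [k]
    rw [h6, zero_add, res_smul] at h7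
    rw [h7, hlW, res_res, res_res]

end Groth.Agent.Lib.Helper35.TensorInv
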