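import Groth.Agent.Lib.Helper35.ResFam
import Groth.Agent.Lib.Helper35.TensorInv
import Groth.Agent.Lib.Helper7.FinLocFree
import Groth.Prelude.Def_KSix

/-!
# Finite sums of finite locally free modules
-/

set_option autoImplicit false
universe u

open AlgebraicGeometry CategoryTheory Opposite TopologicalSpace Limits

namespace Groth.Agent.Lib.Helper35.FinLocFreeSum

variable {X : Scheme.{u}}

/-- `O ≅ freeMod 1` -/
noncomputable def unitIsoFreeOne (X : Scheme.{u}) : Coh.structureModule X ≅ FlatMod.freeMod X 1 where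
  hom := Sigma.ι (fun _ : Fin 1 => Coh.structureModule X) 0
  inv := Sigma.desc (fun _ => 𝟙 _)
  hom_inv_id := by simp
  inv_hom_id := by
    apply Sigma.hom_ext
    intro j
    have : j = 0 := Subsingleton.elim _ _
    subst this
    simp

theorem isFinLocFree_of_isInvertible {N : X.Modules} (hN : PicF.IsInvertible N) :
    FlatMod.IsFinLocFree N := by
  intro x
  obtain ⟨U, hxU, ⟨e⟩⟩ := hN x
  exact ⟨U, 1, hxU, ⟨e ≪≫ unitIsoFreeOne _⟩⟩

/-- a finite coproduct of free modules is free -/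
noncomputable def sigmaFreeIso (X : Scheme.{u}) {k : ℕ} (n : Fin k → ℕ) :
    (∐ fun j : Fin k => FlatMod.freeMod X (n j)) ≅ FlatMod.freeMod X (∑ j, n j) :=
  sigmaSigmaIso (fun j : Fin k => Fin (n j)) (fun _ _ => Coh.structureModule X) ≪≫
    (Sigma.reindex (finSigmaFinEquiv (n := n)).symm
      (fun _ : (Σ j : Fin k, Fin (n j)) => Coh.structureModule X)).symm

theorem isFinLocFree_sigma {k : ℕ} (N : Fin k → X.Modules)
    (h : ∀ j, FlatMod.IsFinLocFree (N j)) : FlatMod.IsFinLocFree (∐ N) := by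
  intro x
  choose U n hxU hU using fun j => h j x
  let V : X.Opens := ⨅ j, U j
  have hV : ∀ j, V ≤ U j := fun j => iInf_le U j
  have hxV : x ∈ V := by
    change x ∈ ((⨅ j, U j : X.Opens) : Set X)
    rw [Opens.coe_iInf]
    exact Set.mem_iInter.mpr hxU
  have h2 : ∀ j, Nonempty ((N j).restrict V.ι ≅ FlatMod.freeMod (↑V) (n j)) := fun j =>
    Groth.Agent.Lib.Helper2.FreeModAff.nonempty_iso_freeMod_of_le (N j) (hV j) (n j) (hU j)
  let e := fun j => (h2 j).some
  refine ⟨V, ∑ j, n j, hxV, ⟨?_⟩⟩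
  exact PreservesCoproduct.iso (Scheme.Modules.restrictFunctor V.ι) N ≪≫
    Sigma.mapIso (fun j => e j) ≪≫ sigmaFreeIso _ n

theorem isFinLocFree_biproduct {k : ℕ} (N : Fin k → X.Modules)
    (h : ∀ j, FlatMod.IsFinLocFree (N j)) : FlatMod.IsFinLocFree (⨁ N) :=
  Groth.Agent.Lib.Helper7.FinLocFree.isFinLocFree_of_iso (biproduct.isoCoproduct N).symm
    (isFinLocFree_sigma N h)

end Groth.Agent.Lib.Helper35.FinLocFreeSum
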