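import Groth.Agent.Lib.Helper35.PerfAmple
import Groth.Agent.Lib.Helper35.CocIso
import Groth.Agent.Lib.Helper35.Triv
import Groth.Agent.Lib.Lead.CocycleMod

/-!
# Invertible modules descend along a finite morphism which is an isomorphism off a discrete set
-/

universe u

open CategoryTheory AlgebraicGeometry TopologicalSpace Opposite

namespace Groth.Agent.Lib.Helper35.FinPic

open Groth.Agent.Lib.Helper35.AbSheaf Groth.Agent.Lib.Helper35.Gen
open Groth.Agent.Lib.Helper35.PbInv Groth.Agent.Lib.Helper35.PerfAmple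
open Groth.Agent.Lib.Lead.CocycleMod

variable {X Y : Scheme.{u}} (f : X ⟶ Y)

theorem app_bijective_of_le (V : Y.Opens) [IsIso (f ∣_ V)] (S : Y.Opens) (hS : S ≤ V) :
    Function.Bijective (f.app S).hom := by
  have h1 : IsIso ((f ∣_ V).app (V.ι ⁻¹ᵁ S)) := inferInstance
  rw [morphismRestrict_app] at h1
  have h2 : IsIso (f.app (V.ι ''ᵁ (V.ι ⁻¹ᵁ S))) := by
    have h3 : IsIso (X.presheaf.map
        (eqToHom (image_morphismRestrict_preimage f V (V.ι ⁻¹ᵁ S))).op) := inferInstance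
    exact @IsIso.of_isIso_comp_right _ _ _ _ _ _ _ h3 h1
  have key : ∀ U' : Y.Opens, U' = S → IsIso (f.app U') → Function.Bijective (f.app S).hom := by
    rintro _ rfl h
    exact ConcreteCategory.bijective_of_isIso _
  refine key _ ?_ h2
  rw [Scheme.Hom.image_preimage_eq_opensRange_inf, Scheme.Opens.opensRange_ι]
  exact inf_eq_right.mpr hS

variable [IsFinite f] (V : Y.Opens) (hdisc : DiscreteTopology ((V : Set Y)ᶜ : Set Y))
  {L : X.Modules} (hL : PicF.IsInvertible L)

include hdisc hL in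
theorem exists_nhd (y : Y) :
    ∃ W : Y.Opens, y ∈ W ∧ (∀ z ∈ W, z ∉ V → z = y) ∧
      ∃ e : Γ(L, f ⁻¹ᵁ W), IsGen L (f ⁻¹ᵁ W) e := by
  classical
  -- Step 1
  obtain ⟨O₁, hyO, hO⟩ : ∃ O₁ : Y.Opens, y ∈ O₁ ∧ ∀ z ∈ O₁, z ∉ V → z = y := by
    by_cases hy : y ∈ V
    · exact ⟨V, hy, fun z hz hz' => absurd hz hz'⟩
    · have hopen : IsOpen ({⟨y, hy⟩} : Set ((V : Set Y)ᶜ : Set Y)) := isOpen_discrete _
      obtain ⟨t, ht, hte⟩ := isOpen_induced_iff.mp hopen
      refine ⟨⟨t, ht⟩, ?_, ?_⟩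
      · have : (⟨y, hy⟩ : ((V : Set Y)ᶜ : Set Y)) ∈ Subtype.val ⁻¹' t := by
          rw [hte]; rfl
        exact this
      · intro z hz hzV
        have : (⟨z, hzV⟩ : ((V : Set Y)ᶜ : Set Y)) ∈ Subtype.val ⁻¹' t := hz
        rw [hte] at this
        exact congrArg Subtype.val (Set.mem_singleton_iff.mp this)
  -- Step 2
  obtain ⟨W₀, hW₀, hyW₀, hW₀O⟩ := exists_isAffineOpen_mem_and_subset (x := y) (U := O₁) hyO
  -- Step 3
  have hfin : (f ⁻¹' {y}).Finite := f.finite_preimage_singleton y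
  obtain ⟨G, -, hTG, ⟨φ⟩⟩ := Groth.Agent.Lib.Helper35.Triv.exists_affine_trivial L hL hfin.toFinset
    ⟨f ⁻¹ᵁ W₀, hW₀.preimage f, fun x hx => by
      have hx' : f x = y := by
        have := (Set.Finite.mem_toFinset hfin).mp hx
        exact this
      change f x ∈ W₀
      rw [hx']
      exact hyW₀⟩
  obtain ⟨eG, heG⟩ := exists_isGen_of_iso G φ
  -- Step 4
  have hclosed : IsClosed (f '' ((G : Set X)ᶜ)) := f.isClosedMap _ G.isOpen.isClosed_compl
  have hyC : y ∉ f '' ((G : Set X)ᶜ) := by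
    rintro ⟨x, hx, hxy⟩
    apply hx
    apply hTG x
    exact (Set.Finite.mem_toFinset hfin).mpr hxy
  let W : Y.Opens := W₀ ⊓ ⟨(f '' ((G : Set X)ᶜ))ᶜ, hclosed.isOpen_compl⟩
  have hle : f ⁻¹ᵁ W ≤ G := by
    intro x hx
    by_contra hxG
    exact hx.2 ⟨x, hxG, rfl⟩
  refine ⟨W, ⟨hyW₀, hyC⟩, ?_, rs L hle eG, heG.mono hle⟩
  intro z hz hzV
  exact hO z (hW₀O hz.1) hzV

include hdisc hL in
theorem exists_descent [IsIso (f ∣_ V)] :
    ∃ N : Y.Modules, PicF.IsInvertible N ∧
      Nonempty ((Scheme.Modules.pullback f).obj N ≅ L) := by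
  classical
  choose W hyW hWV e he using exists_nhd f V hdisc hL
  have hWV' : ∀ i j, i ≠ j → W i ⊓ W j ≤ V := by
    intro i j hij z hz
    by_contra hzV
    exact hij ((hWV i z hz.1 hzV).symm.trans (hWV j z hz.2 hzV))
  -- transition functions of `L`
  have hu0 : ∀ i j, ∃ a : Γ(X, f ⁻¹ᵁ (W i ⊓ W j)),
      rs L (f.preimage_mono (inf_le_left : W i ⊓ W j ≤ W i)) (e i) =
        a • rs L (f.preimage_mono (inf_le_right : W i ⊓ W j ≤ W j)) (e j) := fun i j =>
    ((he j).mono (f.preimage_mono (inf_le_right : W i ⊓ W j ≤ W j))).exists_eq_smul _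
  choose u hu using hu0
  have huself : ∀ i, u i i = 1 := by
    intro i
    have h1 := hu i i
    have h2 : (1 : Γ(X, f ⁻¹ᵁ (W i ⊓ W i))) •
        rs L (f.preimage_mono (inf_le_right : W i ⊓ W i ≤ W i)) (e i) =
        u i i • rs L (f.preimage_mono (inf_le_right : W i ⊓ W i ≤ W i)) (e i) := by
      rw [one_smul]
      exact h1
    exact (((he i).mono (f.preimage_mono (inf_le_right : W i ⊓ W i ≤ W i))).smul_injective
      h2).symm
  have hcoc : ∀ (i j k : Y) (T : Y.Opens) (h1 : T ≤ W i ⊓ W j) (h2 : T ≤ W j ⊓ W k)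
      (h3 : T ≤ W i ⊓ W k), rr X (f.preimage_mono h3) (u i k) =
      rr X (f.preimage_mono h1) (u i j) * rr X (f.preimage_mono h2) (u j k) := by
    intro i j k T h1 h2 h3
    have hYi : f ⁻¹ᵁ T ≤ f ⁻¹ᵁ W i := f.preimage_mono (h1.trans inf_le_left)
    have hYj : f ⁻¹ᵁ T ≤ f ⁻¹ᵁ W j := f.preimage_mono (h1.trans inf_le_right)
    have hYk : f ⁻¹ᵁ T ≤ f ⁻¹ᵁ W k := f.preimage_mono (h2.trans inf_le_right)
    have A : rs L hYi (e i) = rr X (f.preimage_mono h1) (u i j) • rs L hYj (e j) := by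
      have := congrArg (rs L (f.preimage_mono h1)) (hu i j)
      rw [rs_rs, rs_smul, rs_rs] at this
      exact this
    have B : rs L hYj (e j) = rr X (f.preimage_mono h2) (u j k) • rs L hYk (e k) := by
      have := congrArg (rs L (f.preimage_mono h2)) (hu j k)
      rw [rs_rs, rs_smul, rs_rs] at this
      exact this
    have C : rs L hYi (e i) = rr X (f.preimage_mono h3) (u i k) • rs L hYk (e k) := by
      have := congrArg (rs L (f.preimage_mono h3)) (hu i k)
      rw [rs_rs, rs_smul, rs_rs] at this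
      exact this
    rw [B, ← mul_smul] at A
    rw [A] at C
    exact (((he k).mono hYk).smul_injective C).symm
  -- descend the transition functions
  have hη0 : ∀ i j, ∃ a : Γ(Y, W i ⊓ W j), papp f (W i ⊓ W j) a = u i j ∧ (i = j → a = 1) := by
    intro i j
    by_cases hij : i = j
    · subst hij
      exact ⟨1, by rw [map_one, huself], fun _ => rfl⟩
    · obtain ⟨a, ha⟩ := (app_bijective_of_le f V _ (hWV' i j hij)).2 (u i j)
      exact ⟨a, ha, fun h => absurd h hij⟩
  choose η hηu hηself using hη0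
  have hη : ∀ (i j k : Y) (T : Y.Opens) (h1 : T ≤ W i ⊓ W j) (h2 : T ≤ W j ⊓ W k)
      (h3 : T ≤ W i ⊓ W k), rr Y h3 (η i k) = rr Y h1 (η i j) * rr Y h2 (η j k) := by
    intro i j k T h1 h2 h3
    by_cases hijk : i = j ∧ j = k
    · obtain ⟨rfl, rfl⟩ := hijk
      rw [hηself i i rfl, map_one, mul_one]
    · have hTV : T ≤ V := by
        by_cases hij : i = j
        · have hjk : j ≠ k := fun h => hijk ⟨hij, h⟩
          exact h2.trans (hWV' j k hjk)
        · exact h1.trans (hWV' i j hij)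
      apply (app_bijective_of_le f V T hTV).1
      change papp f T _ = papp f T _
      rw [map_mul, papp_rr, papp_rr, papp_rr, hηu, hηu, hηu]
      exact hcoc i j k T h1 h2 h3
  have hηunit : ∀ i, IsUnit (η i i) := by
    intro i
    rw [hηself i i rfl]
    exact isUnit_one
  have hgenN : ∀ i, IsGen (cocMod W η) (W i) (gen hη i) := fun i S h =>
    gen_bijective hη hηunit i S h
  have hNinv : PicF.IsInvertible (cocMod W η) := by
    apply isInvertible_of_isGen
    intro x
    exact ⟨W x, hyW x, gen hη x, hgenN x⟩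
  refine ⟨cocMod W η, hNinv, ?_⟩
  refine Groth.Agent.Lib.Helper35.CocIso.nonempty_iso (fun i => f ⁻¹ᵁ W i)
    (fun i => pbSec f (cocMod W η) (W i) (gen hη i))
    (fun i => isGen_pbSec f (cocMod W η) (W i) (gen hη i) (hgenN i))
    e ?_ he (fun x => ⟨f x, hyW (f x)⟩)
  intro i j
  have e2 : rs ((Scheme.Modules.pullback f).obj (cocMod W η))
      (f.preimage_mono (inf_le_left : W i ⊓ W j ≤ W i))
        (pbSec f (cocMod W η) (W i) (gen hη i)) =
      u i j • rs ((Scheme.Modules.pullback f).obj (cocMod W η))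
        (f.preimage_mono (inf_le_right : W i ⊓ W j ≤ W j))
          (pbSec f (cocMod W η) (W j) (gen hη j)) := by
    rw [pbSec_rs f _ (inf_le_left : W i ⊓ W j ≤ W i),
      pbSec_rs f _ (inf_le_right : W i ⊓ W j ≤ W j), gen_rel hη i j, pbSec_smul, ← hηu i j]
    rfl
  exact ⟨u i j, e2, hu i j⟩

end Groth.Agent.Lib.Helper35.FinPic
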