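import Mathlib
import Groth.Prelude.Def_Red2
import Groth.Prelude.Def_Pi1
import Groth.Agent.Lib.Lead.GaTorsor
import Groth.Agent.Lib.Helper50.CurveReg

set_option autoImplicit false
universe u
open CategoryTheory CategoryTheory.Limits MonoidalCategory CartesianMonoidalCategory MonObj AlgebraicGeometry Polynomial
open Groth.Agent.Lib.Lead.GaTorsor (ov ovMap smul)

namespace Groth.Agent.Lib.Helper35.FixPtT4

/-- two morphisms out of `T` over `Spec k` agree when they agree on every affine open of `T`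
(in the `ov` form of `Lead.GaTorsor`). -/
theorem hom_ext_of_affine (k : Type u) [CommRing k] {T Z : Over (Spec (CommRingCat.of k))}
    (g₁ g₂ : T ⟶ Z)
    (H : ∀ (D : Type u) [CommRing D] [Algebra k D]
      (j : ov (CommRingCat.of k) (𝟙 _) D ⟶ T), j ≫ g₁ = j ≫ g₂) : g₁ = g₂ := by
  apply Over.OverMorphism.ext
  refine T.left.affineOpenCover.openCover.hom_ext _ _ (fun i => ?_)
  let 𝒰 := T.left.affineOpenCover
  let ψ : CommRingCat.of k ⟶ 𝒰.X i := Spec.preimage (𝒰.f i ≫ T.hom)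
  have hψ : Spec.map ψ = 𝒰.f i ≫ T.hom := Spec.map_preimage _
  letI : Algebra k (𝒰.X i) := ψ.hom.toAlgebra
  let j : ov (CommRingCat.of k) (𝟙 _) (𝒰.X i) ⟶ T := Over.homMk (𝒰.f i) (by
    change 𝒰.f i ≫ T.hom = Spec.map (CommRingCat.ofHom (algebraMap k (𝒰.X i))) ≫ 𝟙 _
    rw [Category.comp_id, ← hψ]
    rfl)
  have hj := H (𝒰.X i) j
  exact congrArg CommaMorphism.left hj

theorem isFixedPt_of_affine (k : Type u) [Field k] {G X : Over (Spec (CommRingCat.of k))}
    [GrpObj G] (a : AlgGrp.Action G X) (x : 𝟙_ (Over (Spec (CommRingCat.of k))) ⟶ X)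
    (H : ∀ (B : Type u) [CommRing B] [Algebra k B]
      (g : ov (CommRingCat.of k) (𝟙 _) B ⟶ G), smul a g (toUnit _ ≫ x) = toUnit _ ≫ x) :
    a.IsFixedPt x := by
  intro T g
  change smul a g (toUnit T ≫ x) = toUnit T ≫ x
  apply hom_ext_of_affine k
  intro D _ _ j
  rw [Groth.Agent.Lib.Lead.GaTorsor.comp_smul]
  have e : j ≫ toUnit T ≫ x = toUnit _ ≫ x := by
    rw [← Category.assoc]
    congr 1
    exact toUnit_unique _ _
  rw [e]
  exact H D (j ≫ g)

end Groth.Agent.Lib.Helper35.FixPtT4
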