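import Mathlib.RingTheory.Flat.Stability
import Mathlib.RingTheory.Flat.FaithfullyFlat.Basic
import Mathlib.RingTheory.Flat.FaithfullyFlat.Algebra
import Mathlib.RingTheory.RingHom.Flat
import Mathlib.RingTheory.RingHom.FaithfullyFlat
import Mathlib.RingTheory.IsTensorProduct
import Mathlib.RingTheory.Finiteness.Descent
import Mathlib.RingTheory.Spectrum.Prime.Topology

set_option autoImplicit false
universe u

namespace Groth.Agent.Lib.Helper35

open TensorProduct

section Descent

variable {R B C : Type u} [CommRing R] [CommRing B] [Algebra R B] [AddCommGroup C]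
  [Module R C] [Module B C] [IsScalarTower R B C]

open TensorProduct.AlgebraTensorModule LinearMap in
theorem flat_of_faithfullyFlat_of_flat [Module.FaithfullyFlat B C] [Module.Flat R C] :
    Module.Flat R B := by
  rw [Module.Flat.iff_lTensor_injectiveₛ]
  intro P _ _ N
  rw [← coe_lTensor (A := B),
    ← Module.FaithfullyFlat.lTensor_injective_iff_injective B C]
  have key := lTensor_comp_cancelBaseChange (R := R) (A := B) (B := B) (M := C) N.subtype
  have h1 : Function.Injective
      (⇑(cancelBaseChange R B B C P) ∘ ⇑(LinearMap.lTensor C (lTensor B B N.subtype))) := by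
    have h2 : (⇑(cancelBaseChange R B B C P) ∘ ⇑(LinearMap.lTensor C (lTensor B B N.subtype))) =
        ⇑(lTensor B C N.subtype) ∘ ⇑(cancelBaseChange R B B C N) := by
      funext t
      exact (LinearMap.congr_fun key t).symm
    rw [h2]
    refine Function.Injective.comp ?_ (cancelBaseChange R B B C N).injective
    rw [coe_lTensor]
    apply Module.Flat.lTensor_preserves_injective_linearMap
    exact Subtype.val_injective
  exact Function.Injective.of_comp h1

end Descent

section Transport

variable {R R' S M M' N : Type u} [CommRing R] [CommRing R'] [CommRing S]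
  [AddCommGroup M] [AddCommGroup M'] [AddCommGroup N]
  [Algebra R S] [Algebra R' S] [Module R M] [Module R' M'] [Module R N] [Module R' N] [Module S N]
  [IsScalarTower R S N] [IsScalarTower R' S N]

theorem isBaseChange_transport (ρ : R →+* R') (hρ : Function.Surjective ρ)
    (hρS : ∀ r, algebraMap R' S (ρ r) = algebraMap R S r)
    (β : M ≃+ M') (hβ : ∀ (r : R) (m : M), β (r • m) = ρ r • β m)
    (f : M →ₗ[R] N) (f' : M' →ₗ[R'] N) (hff' : ∀ m, f' (β m) = f m)
    (h : IsBaseChange S f') : IsBaseChange S f := by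
  apply IsBaseChange.of_lift_unique
  intro Q _ _ _ _ g
  letI : Module R' Q := Module.compHom Q (algebraMap R' S)
  haveI : IsScalarTower R' S Q := IsScalarTower.of_algebraMap_smul fun _ _ => rfl
  have hsymm : ∀ (r : R) (m' : M'), β.symm (ρ r • m') = r • β.symm m' := by
    intro r m'
    apply β.injective
    rw [hβ, AddEquiv.apply_symm_apply, AddEquiv.apply_symm_apply]
  let g' : M' →ₗ[R'] Q :=
    { toFun := fun m' => g (β.symm m')
      map_add' := fun a b => by rw [map_add, map_add]
      map_smul' := fun r' m' => by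
        obtain ⟨r, rfl⟩ := hρ r'
        rw [hsymm, map_smul, RingHom.id_apply]
        change r • g (β.symm m') = algebraMap R' S (ρ r) • g (β.symm m')
        rw [hρS, algebraMap_smul] }
  refine ⟨h.lift g', ?_, ?_⟩
  · ext m
    change h.lift g' (f m) = g m
    rw [← hff', h.lift_eq]
    change g (β.symm (β m)) = g m
    rw [AddEquiv.symm_apply_apply]
  · intro G hG
    apply h.algHom_ext
    intro m'
    rw [h.lift_eq]
    change G (f' m') = g (β.symm m')
    rw [← hG]
    change G (f' m') = G (f (β.symm m'))
    rw [← hff', AddEquiv.apply_symm_apply]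

end Transport

section Pi

variable {ι : Type u} [Finite ι] {R B : Type u} [CommRing R] [CommRing B]
  {O A : ι → Type u} [∀ i, CommRing (O i)] [∀ i, CommRing (A i)]
  (s : R →+* B) (ev : ∀ i, R →+* O i) (a : ∀ i, O i →+* A i) (evB : ∀ i, B →+* A i)

theorem flat_factor {_ : Module R (∀ i, O i)}
    (hP : ∀ (r : R) (f : ∀ i, O i) i, (r • f) i = ev i r * f i)
    (hφ : Module.Flat R (∀ i, O i)) (i : ι) : (ev i).Flat := by
  classical
  letI : Algebra R (O i) := (ev i).toAlgebra
  change Module.Flat R (O i)
  let incl : O i →ₗ[R] (∀ j, O j) :=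
    { toFun := fun c => Pi.single i c
      map_add' := fun c d => Pi.single_add i c d
      map_smul' := fun r c => by
        funext j
        rw [RingHom.id_apply, hP]
        by_cases hj : j = i
        · subst hj
          rw [Pi.single_eq_same, Pi.single_eq_same]
          rfl
        · rw [Pi.single_eq_of_ne hj, Pi.single_eq_of_ne hj, mul_zero] }
  let proj : (∀ j, O j) →ₗ[R] O i :=
    { toFun := fun f => f i
      map_add' := fun _ _ => rfl
      map_smul' := fun r f => hP r f i }
  refine Module.Flat.of_retract incl proj ?_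
  ext c
  change Pi.single i c i = c
  rw [Pi.single_eq_same]

theorem flat_of_pi (hcomm : ∀ i r, evB i (s r) = a i (ev i r))
    {_ : Module R (∀ i, O i)}
    (hP : ∀ (r : R) (f : ∀ i, O i) i, (r • f) i = ev i r * f i)
    (hφ : Module.Flat R (∀ i, O i))
    {_ : Module B (∀ i, A i)}
    (hQ : ∀ (b : B) (f : ∀ i, A i) i, (b • f) i = evB i b * f i)
    (hψ : Module.FaithfullyFlat B (∀ i, A i))
    (ha : ∀ i, (a i).Flat) : s.Flat := by
  classical
  haveI : Fintype ι := Fintype.ofFinite ι
  letI : Algebra R B := s.toAlgebra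
  letI iRO : ∀ i, Algebra R (O i) := fun i => (ev i).toAlgebra
  letI iOA : ∀ i, Algebra (O i) (A i) := fun i => (a i).toAlgebra
  letI iRA : ∀ i, Algebra R (A i) := fun i => ((evB i).comp s).toAlgebra
  haveI : ∀ i, IsScalarTower R (O i) (A i) := fun i =>
    IsScalarTower.of_algebraMap_eq fun r => hcomm i r
  haveI : ∀ i, Module.Flat R (O i) := fun i => flat_factor ev hP hφ i
  haveI : ∀ i, Module.Flat (O i) (A i) := fun i => ha i
  haveI : ∀ i, Module.Flat R (A i) := fun i => Module.Flat.trans R (O i) (A i)
  haveI : Module.Flat R (∀ i, A i) :=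
    Module.Flat.of_linearEquiv (DirectSum.linearEquivFunOnFintype R ι A).symm
  haveI : IsScalarTower R B (∀ i, A i) := by
    constructor
    intro r b f
    funext i
    rw [hQ]
    change evB i (s r * b) * f i = (evB i (s r)) * (b • f) i
    rw [hQ, map_mul, mul_assoc]
  haveI := hψ
  exact flat_of_faithfullyFlat_of_flat (R := R) (B := B) (C := ∀ i, A i)

theorem comap_surjective_of_pi (hcomm : ∀ i r, evB i (s r) = a i (ev i r))
    {mP : Module R (∀ i, O i)}
    (hP : ∀ (r : R) (f : ∀ i, O i) i, (r • f) i = ev i r * f i)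
    (hφ : Module.FaithfullyFlat R (∀ i, O i))
    (ha : ∀ i, (a i).FaithfullyFlat) : Function.Surjective (PrimeSpectrum.comap s) := by
  intro p
  letI iAlg : Algebra R (∀ i, O i) := (Pi.ringHom ev).toAlgebra
  have e : mP = iAlg.toModule := Module.ext' _ _ (fun r f => by
    funext i
    exact hP r f i)
  subst e
  obtain ⟨P, hPp⟩ := PrimeSpectrum.comap_surjective_of_faithfullyFlat (A := R) (B := ∀ i, O i) p
  obtain ⟨⟨i, Pi'⟩, hi⟩ := (PrimeSpectrum.sigmaToPi_bijective O).2 P
  letI : Algebra (O i) (A i) := (a i).toAlgebra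
  haveI : Module.FaithfullyFlat (O i) (A i) := ha i
  obtain ⟨Q, hQ⟩ := PrimeSpectrum.comap_surjective_of_faithfullyFlat (A := O i) (B := A i) Pi'
  refine ⟨PrimeSpectrum.comap (evB i) Q, ?_⟩
  rw [← hPp, ← hi, ← hQ]
  apply PrimeSpectrum.ext
  apply Ideal.ext
  intro r
  change evB i (s r) ∈ Q.asIdeal ↔ a i (ev i r) ∈ Q.asIdeal
  rw [hcomm]

theorem faithfullyFlat_of_pi (hcomm : ∀ i r, evB i (s r) = a i (ev i r))
    {_ : Module R (∀ i, O i)}
    (hP : ∀ (r : R) (f : ∀ i, O i) i, (r • f) i = ev i r * f i)
    (hφ : Module.FaithfullyFlat R (∀ i, O i))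
    {_ : Module B (∀ i, A i)}
    (hQ : ∀ (b : B) (f : ∀ i, A i) i, (b • f) i = evB i b * f i)
    (hψ : Module.FaithfullyFlat B (∀ i, A i))
    (ha : ∀ i, (a i).FaithfullyFlat) : s.FaithfullyFlat := by
  rw [RingHom.FaithfullyFlat.iff_flat_and_comap_surjective]
  exact ⟨flat_of_pi s ev a evB hcomm hP hφ.toFlat hQ hψ (fun i => (ha i).flat),
    comap_surjective_of_pi s ev a evB hcomm hP hφ ha⟩

end Pi

section PiFinite

variable {ι : Type u} [Finite ι] {R B : Type u} [CommRing R] [CommRing B] [Algebra R B]
  {O A : ι → Type u} [∀ i, CommRing (O i)] [∀ i, AddCommGroup (A i)]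
  [∀ i, Algebra R (O i)] [∀ i, Module (O i) (A i)] [∀ i, Module R (A i)]
  [∀ i, IsScalarTower R (O i) (A i)]

theorem finite_of_pi (f : ∀ i, B →ₗ[R] A i) (hf : ∀ i, IsBaseChange (O i) (f i))
    {mP : Module R (∀ i, O i)}
    (hP : ∀ (r : R) (g : ∀ i, O i) i,
      (@HSMul.hSMul R (∀ i, O i) (∀ i, O i) (@instHSMul R (∀ i, O i) mP.toSMul) r g) i =
        algebraMap R (O i) r * g i)
    (hφ : @Module.FaithfullyFlat R (∀ i, O i) _ _ mP)
    (hfin : ∀ i, Module.Finite (O i) (A i)) : Module.Finite R B := by
  classical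
  haveI : Fintype ι := Fintype.ofFinite ι
  have e : mP = (Pi.algebra ι O).toModule := by
    refine Module.ext' _ _ (fun r g => ?_)
    funext i
    have h1 := hP r g i
    have h2 : r • g i = algebraMap R (O i) r * g i := Algebra.smul_def r (g i)
    exact h1.trans h2.symm
  subst e
  have hF : ∀ i, ∃ F : Finset B, Submodule.span (O i) ((f i) '' (F : Set B)) = ⊤ := by
    intro i
    have htop : Submodule.span (O i) (Set.range (f i)) = ⊤ := by
      refine eq_top_iff.mpr fun y _ => ?_
      refine (hf i).inductionOn y _ (Submodule.zero_mem _)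
        (fun m => Submodule.subset_span ⟨m, rfl⟩)
        (fun d n hn => Submodule.smul_mem _ d hn) (fun n₁ n₂ h₁ h₂ => Submodule.add_mem _ h₁ h₂)
    have hfg : (Submodule.span (O i) (Set.range (f i))).FG := by
      rw [htop]
      exact (hfin i).fg_top
    obtain ⟨s', hs', hspan⟩ := (Submodule.fg_span_iff_fg_span_finset_subset _).mp hfg
    rw [← Set.image_univ] at hs'
    obtain ⟨F, -, hFs⟩ := Finset.subset_set_image_iff.mp hs'
    refine ⟨F, ?_⟩
    rw [← Finset.coe_image, hFs, ← hspan, htop]
  choose F hFspan using hF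
  let Ftot : Finset B := Finset.univ.biUnion F
  let T := ∀ i, O i
  let W : Submodule T (T ⊗[R] B) :=
    Submodule.span T ((fun b => (1 : T) ⊗ₜ[R] b) '' (Ftot : Set B))
  have hW : ∀ t : T ⊗[R] B, t ∈ W := by
    intro t
    induction t using TensorProduct.induction_on with
    | zero => exact W.zero_mem
    | add x y hx hy => exact W.add_mem hx hy
    | tmul c b =>
      have hc : c = ∑ i, Pi.single i (c i) := (Finset.univ_sum_single c).symm
      rw [hc, TensorProduct.sum_tmul]
      refine W.sum_mem fun i _ => ?_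
      let lam : O i ⊗[R] B →ₗ[R] T ⊗[R] B := LinearMap.rTensor B (LinearMap.single R O i)
      have hlam : ∀ (d : O i) (z : O i ⊗[R] B), lam (d • z) = (Pi.single i d : T) • lam z := by
        intro d z
        induction z using TensorProduct.induction_on with
        | zero => rw [smul_zero, map_zero, smul_zero]
        | add x y hx hy => rw [smul_add, map_add, map_add, hx, hy, smul_add]
        | tmul d' b' =>
          rw [TensorProduct.smul_tmul']
          change (Pi.single i (d • d') : T) ⊗ₜ[R] b' = (Pi.single i d : T) • ((Pi.single i d' : T) ⊗ₜ[R] b')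
          rw [TensorProduct.smul_tmul', smul_eq_mul, smul_eq_mul, ← Pi.single_mul]
      let eq := (hf i).equiv
      have hspan : ∀ y ∈ Submodule.span (O i) ((f i) '' (F i : Set B)), lam (eq.symm y) ∈ W := by
        intro y hy
        induction hy using Submodule.span_induction with
        | mem y hy =>
          obtain ⟨b', hb', rfl⟩ := hy
          rw [(hf i).equiv_symm_apply]
          change (Pi.single i (1 : O i) : T) ⊗ₜ[R] b' ∈ W
          have : (Pi.single i (1 : O i) : T) ⊗ₜ[R] b' =
              (Pi.single i (1 : O i) : T) • ((1 : T) ⊗ₜ[R] b') := by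
            rw [TensorProduct.smul_tmul', smul_eq_mul, mul_one]
          rw [this]
          refine W.smul_mem _ (Submodule.subset_span ⟨b', ?_, rfl⟩)
          exact Finset.mem_biUnion.mpr ⟨i, Finset.mem_univ i, hb'⟩
        | zero => rw [map_zero, map_zero]; exact W.zero_mem
        | add x y _ _ hx hy => rw [map_add, map_add]; exact W.add_mem hx hy
        | smul d y _ hy =>
          rw [map_smul, hlam]
          exact W.smul_mem _ hy
      have h1 := hspan (c i • f i b) (by rw [hFspan i]; exact Submodule.mem_top)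
      have h2 : eq.symm (c i • f i b) = (c i) ⊗ₜ[R] b := by
        rw [LinearEquiv.symm_apply_eq, (hf i).equiv_tmul]
      rw [h2] at h1
      exact h1
  haveI : Module.Finite T (T ⊗[R] B) :=
    ⟨⟨Ftot.image (fun b => (1 : T) ⊗ₜ[R] b), by
      rw [Finset.coe_image]
      exact eq_top_iff.mpr fun t _ => hW t⟩⟩
  haveI := hφ
  exact Module.Finite.of_finite_tensorProduct_of_faithfullyFlat T

end PiFinite

end Groth.Agent.Lib.Helper35
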