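import Mathlib.Algebra.Algebra.Epi
import Mathlib.RingTheory.RingHom.Flat
import Mathlib.RingTheory.Flat.FaithfullyFlat.Algebra
import Mathlib.RingTheory.Localization.AtPrime.Basic

set_option autoImplicit false
universe u

namespace Groth.Agent.Lib.Helper35

open TensorProduct

theorem bijective_algebraMap_of_faithfullyFlat_of_isEpi (R S : Type u) [CommRing R] [CommRing S]
    [Algebra R S] [Module.FaithfullyFlat R S] [Algebra.IsEpi R S] :
    Function.Bijective (algebraMap R S) := by
  let f : R →ₗ[R] S := Algebra.linearMap R S
  let μ : S ⊗[R] S →ₗ[R] S := TensorProduct.lift (LinearMap.mul R S)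
  have hμ : Function.Injective μ := Algebra.IsEpi.injective_lift_mul
  have hcomp : μ ∘ₗ (f.lTensor S) = (TensorProduct.rid R S).toLinearMap := by
    apply TensorProduct.ext'
    intro s r
    simp [μ, f, Algebra.smul_def, mul_comm]
  have hbij : Function.Bijective (μ ∘ₗ (f.lTensor S)) := by
    rw [hcomp]
    exact (TensorProduct.rid R S).bijective
  have hg : Function.Bijective (f.lTensor S) := by
    constructor
    · intro x y hxy
      apply hbij.1
      simp only [LinearMap.coe_comp, Function.comp_apply, hxy]
    · intro y
      obtain ⟨x, hx⟩ := hbij.2 (μ y)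
      exact ⟨x, hμ hx⟩
  exact (Module.FaithfullyFlat.lTensor_bijective_iff_bijective R S f).mp hg

theorem bijective_localRingHom_of_flat_of_epi {A B : Type u} [CommRing A] [CommRing B]
    (f : A →+* B) (hf : f.Flat)
    (hepi : ∀ (T : Type u) [CommRing T] (g₁ g₂ : B →+* T), g₁.comp f = g₂.comp f → g₁ = g₂)
    (P : Ideal B) [P.IsPrime] :
    Function.Bijective (Localization.localRingHom (P.comap f) P f rfl) := by
  set g := Localization.localRingHom (P.comap f) P f rfl with hg
  have hgflat : g.Flat := RingHom.Flat.localRingHom hf P (P.comap f) rfl
  letI : Algebra (Localization.AtPrime (P.comap f)) (Localization.AtPrime P) := g.toAlgebra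
  haveI : Module.Flat (Localization.AtPrime (P.comap f)) (Localization.AtPrime P) := hgflat
  haveI : IsLocalHom (algebraMap (Localization.AtPrime (P.comap f)) (Localization.AtPrime P)) :=
    Localization.isLocalHom_localRingHom (P.comap f) P f rfl
  haveI : Module.FaithfullyFlat (Localization.AtPrime (P.comap f)) (Localization.AtPrime P) :=
    Module.FaithfullyFlat.of_flat_of_isLocalHom
  haveI : Algebra.IsEpi (Localization.AtPrime (P.comap f)) (Localization.AtPrime P) := by
    rw [Algebra.isEpi_iff_forall_one_tmul_eq]
    let i₁ : Localization.AtPrime P →+*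
        Localization.AtPrime P ⊗[Localization.AtPrime (P.comap f)] Localization.AtPrime P :=
      (Algebra.TensorProduct.includeLeft (R := Localization.AtPrime (P.comap f))
        (S := Localization.AtPrime (P.comap f)) (A := Localization.AtPrime P)
        (B := Localization.AtPrime P)).toRingHom
    let i₂ : Localization.AtPrime P →+*
        Localization.AtPrime P ⊗[Localization.AtPrime (P.comap f)] Localization.AtPrime P :=
      (Algebra.TensorProduct.includeRight (R := Localization.AtPrime (P.comap f))
        (A := Localization.AtPrime P) (B := Localization.AtPrime P)).toRingHom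
    have h12 : i₁ = i₂ := by
      apply IsLocalization.ringHom_ext P.primeCompl
      apply hepi
      have h3 : i₁.comp g = i₂.comp g := by
        ext a
        change (algebraMap (Localization.AtPrime (P.comap f)) (Localization.AtPrime P) a) ⊗ₜ 1 =
          1 ⊗ₜ (algebraMap (Localization.AtPrime (P.comap f)) (Localization.AtPrime P) a)
        rw [Algebra.algebraMap_eq_smul_one, TensorProduct.smul_tmul]
      have h4 : (algebraMap B (Localization.AtPrime P)).comp f =
          g.comp (algebraMap A (Localization.AtPrime (P.comap f))) := by
        ext a
        exact (Localization.localRingHom_to_map _ _ _ rfl a).symm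
      rw [RingHom.comp_assoc, RingHom.comp_assoc, h4, ← RingHom.comp_assoc, ← RingHom.comp_assoc,
        h3]
    intro b
    exact (RingHom.congr_fun h12 b).symm
  exact bijective_algebraMap_of_faithfullyFlat_of_isEpi _ _

end Groth.Agent.Lib.Helper35
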