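import Mathlib
import Groth.Agent.Lib.Helper74.RelProjLib

set_option autoImplicit false
universe u v
open CategoryTheory CategoryTheory.Limits AlgebraicGeometry TopologicalSpace Opposite
open scoped HomogeneousIdeal
open HomogeneousLocalization

namespace Groth.Agent.Lib.Helper35.FlatProj

/-- A module exhausted by (images of) flat modules, with kernels killed further along, is flat. -/
theorem flat_of_exhaustion {R : Type*} {M : Type*} [CommRing R] [AddCommGroup M] [Module R M]
    (N : ℕ → Type v) [∀ k, AddCommGroup (N k)] [∀ k, Module R (N k)] [∀ k, Module.Flat R (N k)]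
    (ι : ∀ k, N k →ₗ[R] M)
    (hcov : ∀ (l : ℕ) (x : Fin l → M), ∃ (k : ℕ) (x' : Fin l → N k), ∀ i, ι k (x' i) = x i)
    (hker : ∀ (k : ℕ) (z : N k), ι k z = 0 →
      ∃ (k' : ℕ) (τ : N k →ₗ[R] N k'), (∀ a, ι k' (τ a) = ι k a) ∧ τ z = 0) :
    Module.Flat R M := by
  refine Module.Flat.of_forall_isTrivialRelation ?_
  intro l f x hfx
  obtain ⟨k, x', hx'⟩ := hcov l x
  have hz : ι k (∑ i, f i • x' i) = 0 := by
    rw [map_sum]
    simp only [map_smul, hx']
    exact hfx
  obtain ⟨k', τ, hτ, hτz⟩ := hker k _ hz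
  have hrel : ∑ i, f i • τ (x' i) = 0 := by
    rw [← hτz, map_sum]
    simp only [map_smul]
  obtain ⟨κ, a, y, hxy, hfa⟩ := Module.Flat.isTrivialRelation_of_sum_smul_eq_zero hrel
  refine ⟨κ, a, fun j => ι k' (y j), fun i => ?_, hfa⟩
  rw [← hx' i, ← hτ (x' i), show τ (x' i) = ∑ j, a i j • y j from hxy i, map_sum]
  simp only [map_smul]

section ring

variable {R A σ : Type u} [CommRing R] [CommRing A] [Algebra R A] [SetLike σ A]
  [AddSubgroupClass σ A] (𝒜 : ℕ → σ) [GradedRing 𝒜] (hφ : ∀ r : R, algebraMap R A r ∈ 𝒜 0)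

include hφ in
theorem mem_span_iff (e : ℕ) (x : A) : x ∈ Submodule.span R (𝒜 e : Set A) ↔ x ∈ 𝒜 e := by
  constructor
  · intro hx
    induction hx using Submodule.span_induction with
    | mem x hx => exact hx
    | zero => exact zero_mem _
    | add x y _ _ hx hy => exact add_mem hx hy
    | smul r x _ hx =>
      rw [Algebra.smul_def]
      have := SetLike.mul_mem_graded (hφ r) hx
      rwa [zero_add] at this
  · exact fun hx => Submodule.subset_span hx

variable {𝒜}

theorem away_mk_eq {d : ℕ} {f : A} (hf : f ∈ 𝒜 d) (n j m : ℕ) (hm : m = n + j) (a : A)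
    (ha : a ∈ 𝒜 (n • d)) (hb : f ^ j * a ∈ 𝒜 (m • d)) :
    Away.mk 𝒜 hf n a ha = Away.mk 𝒜 hf m (f ^ j * a) hb := by
  subst hm
  apply HomogeneousLocalization.val_injective
  rw [Away.val_mk, Away.val_mk, Localization.mk_eq_mk_iff, Localization.r_iff_exists]
  refine ⟨1, ?_⟩
  simp only [OneMemClass.coe_one, one_mul]
  rw [pow_add]
  ring

theorem pow_mul_mem {d : ℕ} {f : A} (hf : f ∈ 𝒜 d) (n j m : ℕ) (hm : m = n + j) (a : A)
    (ha : a ∈ 𝒜 (n • d)) : f ^ j * a ∈ 𝒜 (m • d) := by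
  subst hm
  have h := SetLike.mul_mem_graded (SetLike.pow_mem_graded j hf) ha
  have e : j • d + n • d = (n + j) • d := by
    simp only [smul_eq_mul]
    ring
  exact e ▸ h

include hφ in
/-- the degree-zero localization `A_(f)` is flat over `R` when the `𝒜 e` are flat for large `e` -/
theorem flat_away {d : ℕ} (hd : 0 < d) {f : A} (hf : f ∈ 𝒜 d) (d₀ : ℕ)
    (hflat : ∀ e, d₀ ≤ e → Module.Flat R ↥(Submodule.span R (𝒜 e : Set A)))
    (g : R →+* Away 𝒜 f)
    (hg : ∀ r, (g r).val = Localization.mk (algebraMap R A r) 1) : g.Flat := by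
  letI : Algebra R (Away 𝒜 f) := g.toAlgebra
  change Module.Flat R (Away 𝒜 f)
  have hsmul : ∀ (r : R) (x : Away 𝒜 f), r • x = g r * x := fun r x => rfl
  let N : ℕ → Type u := fun k => ↥(Submodule.span R (𝒜 ((d₀ + k) • d) : Set A))
  haveI : ∀ k, Module.Flat R (N k) := fun k => hflat _ (by
    calc d₀ ≤ d₀ + k := Nat.le_add_right _ _
      _ ≤ (d₀ + k) * d := Nat.le_mul_of_pos_right _ hd)
  have hmemN : ∀ k (a : N k), (a : A) ∈ 𝒜 ((d₀ + k) • d) := fun k a =>
    (mem_span_iff 𝒜 hφ _ _).1 a.2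
  let ι : ∀ k, N k →ₗ[R] Away 𝒜 f := fun k =>
    { toFun := fun a => Away.mk 𝒜 hf (d₀ + k) a.1 (hmemN k a)
      map_add' := fun a b => by
        apply HomogeneousLocalization.val_injective
        rw [HomogeneousLocalization.val_add, Away.val_mk, Away.val_mk, Away.val_mk,
          Localization.add_mk_self]
        rfl
      map_smul' := fun r a => by
        apply HomogeneousLocalization.val_injective
        rw [RingHom.id_apply, hsmul, HomogeneousLocalization.val_mul, hg, Away.val_mk,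
          Away.val_mk, Localization.mk_mul, one_mul]
        congr 1
        exact Algebra.smul_def r (a : A) }
  have hι : ∀ k (a : N k), ι k a = Away.mk 𝒜 hf (d₀ + k) a.1 (hmemN k a) := fun k a => rfl
  refine flat_of_exhaustion N ι ?_ ?_
  · intro l x
    choose n a ha hx using fun i => Away.mk_surjective 𝒜 hf (x i)
    let k := Finset.univ.sup n
    have hnk : ∀ i, n i ≤ d₀ + k := fun i =>
      (Finset.le_sup (f := n) (Finset.mem_univ i)).trans (Nat.le_add_left _ _)
    have hm : ∀ i, d₀ + k = n i + (d₀ + k - n i) := fun i => by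
      have := hnk i
      omega
    have hmem : ∀ i, f ^ (d₀ + k - n i) * a i ∈ 𝒜 ((d₀ + k) • d) := fun i =>
      pow_mul_mem hf (n i) _ _ (hm i) (a i) (ha i)
    refine ⟨k, fun i => ⟨f ^ (d₀ + k - n i) * a i, Submodule.subset_span (hmem i)⟩, fun i => ?_⟩
    rw [hι, ← hx i]
    exact (away_mk_eq hf (n i) _ _ (hm i) (a i) (ha i) (hmem i)).symm
  · intro k z hz
    rw [hι] at hz
    have hz' := congrArg HomogeneousLocalization.val hz
    rw [Away.val_mk, HomogeneousLocalization.val_zero, Localization.mk_eq_mk',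
      IsLocalization.mk'_eq_zero_iff] at hz'
    obtain ⟨⟨_, j, rfl⟩, hj⟩ := hz'
    have hj' : f ^ j * (z : A) = 0 := hj
    have hmem : ∀ a : N k, f ^ j * (a : A) ∈ 𝒜 ((d₀ + (k + j)) • d) := fun a =>
      pow_mul_mem hf (d₀ + k) j _ (by ring) a.1 (hmemN k a)
    let τ : N k →ₗ[R] N (k + j) :=
      { toFun := fun a => ⟨f ^ j * (a : A), Submodule.subset_span (hmem a)⟩
        map_add' := fun a b => by
          apply Subtype.ext
          change f ^ j * ((a : A) + (b : A)) = f ^ j * (a : A) + f ^ j * (b : A)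
          ring
        map_smul' := fun r a => by
          apply Subtype.ext
          change f ^ j * (r • (a : A)) = r • (f ^ j * (a : A))
          rw [mul_smul_comm] }
    refine ⟨k + j, τ, fun a => ?_, ?_⟩
    · rw [hι, hι]
      exact (away_mk_eq hf (d₀ + k) j _ (by ring) a.1 (hmemN k a) (hmem a)).symm
    · apply Subtype.ext
      exact hj'

end ring

section rel

variable {S P : Scheme.{u}} (𝒜 : RelProj.QCGrAlg S)
    {p : P ⟶ S} {chart : ∀ (U : S.Opens) (hU : IsAffineOpen U),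
      (((p ⁻¹ᵁ U : P.Opens) : Scheme.{u}) ≅ Proj (𝒜.deg U hU))}

theorem flat_relProj
    (hflat : ∃ d₀ : ℕ, ∀ d : ℕ, d₀ ≤ d → ∀ (U : S.Opens) (hU : IsAffineOpen U),
      letI := (𝒜.str.app (op U)).hom.toAlgebra
      Module.Flat Γ(S, U) ↥(Submodule.span Γ(S, U) (𝒜.deg U hU d : Set (𝒜.presheaf.obj (op U)))))
    (hP : RelProj.IsRelProj 𝒜 p chart) : Flat p := by
  obtain ⟨d₀, hd₀⟩ := hflat
  refine Groth.Agent.Lib.Helper74.RelProjLib.of_forall_chart @Flat hP fun U hU => ?_
  refine IsZariskiLocalAtSource.of_openCover (P := @Flat)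
    (Proj.affineOpenCover (𝒜.deg U hU)).openCover ?_
  intro (i : Σ i : PNat, 𝒜.deg U hU i)
  change Flat (Proj.awayι (𝒜.deg U hU) (i.2 : 𝒜.presheaf.obj (op U)) i.2.2 i.1.2 ≫
    Proj.toSpecZero _ ≫ Spec.map (𝒜.strZero U hU))
  rw [← Category.assoc, Proj.awayι_toSpecZero, ← Spec.map_comp, Flat.SpecMap_iff]
  letI : Algebra Γ(S, U) (𝒜.presheaf.obj (op U)) := (𝒜.str.app (op U)).hom.toAlgebra
  exact flat_away (𝒜 := 𝒜.deg U hU) (𝒜.str_mem U hU) i.1.2 i.2.2 d₀
    (fun e he => hd₀ e he U hU) _ (fun r => rfl)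

end rel

end Groth.Agent.Lib.Helper35.FlatProj
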