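import Mathlib
import Groth.Agent.Lib.Helper74.TwistNat

set_option autoImplicit false
universe u
open CategoryTheory CategoryTheory.Limits AlgebraicGeometry TopologicalSpace Opposite
open scoped HomogeneousIdeal
open HomogeneousLocalization

namespace Groth.Agent.Lib.Helper35.FlatProj

open Groth.Agent.Lib.Helper60.TildeSec

theorem appLE_congr_hom' {X Y : Scheme.{u}} {f₁ f₂ : X ⟶ Y} (h : f₁ = f₂) (U : Y.Opens)
    (V : X.Opens) (e₁ : V ≤ f₁ ⁻¹ᵁ U) (e₂ : V ≤ f₂ ⁻¹ᵁ U) :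
    f₁.appLE U V e₁ = f₂.appLE U V e₂ := by
  subst h; rfl

section

variable {A σ : Type u} [CommRing A] [SetLike σ A] [AddSubgroupClass σ A] (𝒜 : ℕ → σ)
  [GradedRing 𝒜]
variable {f : A} {d : ℕ} (hf : f ∈ 𝒜 d) (hd : 0 < d)

theorem awayι_preimage_self : Proj.awayι 𝒜 f hf hd ⁻¹ᵁ Proj.basicOpen 𝒜 f = ⊤ := by
  rw [← Proj.opensRange_awayι 𝒜 f hf hd]
  exact Scheme.Hom.preimage_opensRange _

theorem awayToSection_awayι_appLE :
    Proj.awayToSection 𝒜 f ≫ (Proj.awayι 𝒜 f hf hd).appLE (Proj.basicOpen 𝒜 f) ⊤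
      (awayι_preimage_self 𝒜 hf hd).ge = (Scheme.ΓSpecIso _).inv := by
  have h1 := Proj.basicOpenToSpec_app_top 𝒜 f
  rw [← Proj.basicOpenIsoSpec_hom 𝒜 f hf hd] at h1
  have h2 : (Proj.awayι 𝒜 f hf hd).appLE (Proj.basicOpen 𝒜 f) ⊤ (awayι_preimage_self 𝒜 hf hd).ge =
      (Proj.basicOpen 𝒜 f).ι.appLE (Proj.basicOpen 𝒜 f) ⊤ (by simp) ≫
        (Proj.basicOpenIsoSpec 𝒜 f hf hd).inv.appLE ⊤ ⊤ (by simp) :=
    (Scheme.Hom.appLE_comp_appLE _ _ _ _ _ _ _).symm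
  rw [h2]
  have h3 : (Proj.basicOpenIsoSpec 𝒜 f hf hd).inv.appLE ⊤ ⊤ (by simp) =
      (Proj.basicOpenIsoSpec 𝒜 f hf hd).inv.appTop := by
    simp [Scheme.Hom.appLE]
  rw [h3]
  have h4 : (Proj.basicOpen 𝒜 f).ι.appLE (Proj.basicOpen 𝒜 f) ⊤ (by simp) =
      (Proj.basicOpen 𝒜 f).topIso.inv := by
    rw [Scheme.Opens.ι_appLE]
    rfl
  rw [h4]
  have h5 : (Proj.basicOpenIsoSpec 𝒜 f hf hd).hom.appTop ≫
      (Proj.basicOpenIsoSpec 𝒜 f hf hd).inv.appTop = 𝟙 _ := by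
    rw [← Scheme.Hom.comp_appTop, Iso.inv_hom_id]
    rfl
  have h6 : Proj.awayToSection 𝒜 f ≫ (Proj.basicOpen 𝒜 f).topIso.inv =
      (Scheme.ΓSpecIso _).inv ≫ (Proj.basicOpenIsoSpec 𝒜 f hf hd).hom.appTop := by
    rw [Iso.eq_inv_comp]
    exact h1.symm
  rw [← Category.assoc, h6, Category.assoc, h5, Category.comp_id]

theorem isIso_awayι_appLE : IsIso ((Proj.awayι 𝒜 f hf hd).appLE (Proj.basicOpen 𝒜 f) ⊤
      (awayι_preimage_self 𝒜 hf hd).ge) := by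
  have h1 : IsIso (Proj.awayToSection 𝒜 f) :=
    (Proj.basicOpenIsoAway 𝒜 f hf hd).isIso_hom
  have h2 : IsIso (Proj.awayToSection 𝒜 f ≫ (Proj.awayι 𝒜 f hf hd).appLE (Proj.basicOpen 𝒜 f) ⊤
      (awayι_preimage_self 𝒜 hf hd).ge) := by
    rw [awayToSection_awayι_appLE]; infer_instance
  exact IsIso.of_isIso_comp_left (Proj.awayToSection 𝒜 f) _

theorem awayι_appLE_injective :
    Function.Injective ((Proj.awayι 𝒜 f hf hd).appLE (Proj.basicOpen 𝒜 f) ⊤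
      (awayι_preimage_self 𝒜 hf hd).ge).hom := by
  haveI := isIso_awayι_appLE 𝒜 hf hd
  exact (ConcreteCategory.bijective_of_isIso _).1

theorem awayToSection_fromZero_val (x : 𝒜 0) (y : Proj.basicOpen 𝒜 f) :
    ((show OSec 𝒜 (Proj.basicOpen 𝒜 f) from
      (Proj.awayToSection 𝒜 f).hom (fromZeroRingHom 𝒜 _ x)).1 y).val =
      Localization.mk (x : A) 1 := rfl

theorem specMap_fromSpec_appLE {S : Scheme.{u}} {U : S.Opens} (hU : IsAffineOpen U)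
    {B : CommRingCat.{u}} (ψ : Γ(S, U) ⟶ B)
    (h : ⊤ ≤ (Spec.map ψ ≫ hU.fromSpec) ⁻¹ᵁ U) :
    (Spec.map ψ ≫ hU.fromSpec).appLE U ⊤ h = ψ ≫ (Scheme.ΓSpecIso B).inv := by
  have e₁ : (⊤ : (Spec Γ(S, U)).Opens) ≤ hU.fromSpec ⁻¹ᵁ U := by
    rw [hU.fromSpec_preimage_self]
  have h1 := Scheme.Hom.appLE_comp_appLE (Spec.map ψ) hU.fromSpec U ⊤ ⊤ e₁ le_top
  refine (appLE_congr_hom' rfl U ⊤ h _).trans (h1.symm.trans ?_)
  have h2 : hU.fromSpec.appLE U ⊤ e₁ = (Scheme.ΓSpecIso Γ(S, U)).inv := by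
    rw [Scheme.Hom.appLE, hU.fromSpec_app_self, Category.assoc, ← Functor.map_comp]
    have : (eqToHom hU.fromSpec_preimage_self).op ≫ (homOfLE e₁).op = 𝟙 _ :=
      Subsingleton.elim _ _
    rw [this, CategoryTheory.Functor.map_id, Category.comp_id]
  have h3 : (Spec.map ψ).appLE ⊤ ⊤ le_top = (Spec.map ψ).appTop := by
    simp [Scheme.Hom.appLE]
  rw [h2, h3, Scheme.ΓSpecIso_inv_naturality]

include hf hd in
/-- the structure morphism of `Proj` on sections over `D₊(f)`: a function `r` on the base goes to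
the constant fraction `r / 1` -/
theorem appLE_eq_awayToSection {S : Scheme.{u}} (Θ : Proj 𝒜 ⟶ S) (U : S.Opens)
    (hU : IsAffineOpen U) (φ₀ : Γ(S, U) ⟶ CommRingCat.of (𝒜 0))
    (hΘ : Θ = Proj.toSpecZero 𝒜 ≫ Spec.map φ₀ ≫ hU.fromSpec)
    (hle : Proj.basicOpen 𝒜 f ≤ Θ ⁻¹ᵁ U) (r : Γ(S, U)) :
    (Θ.appLE U (Proj.basicOpen 𝒜 f) hle).hom r =
      (Proj.awayToSection 𝒜 f).hom (fromZeroRingHom 𝒜 _ (φ₀.hom r)) := by
  apply awayι_appLE_injective 𝒜 hf hd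
  have h1 := Scheme.Hom.appLE_comp_appLE (Proj.awayι 𝒜 f hf hd) Θ U (Proj.basicOpen 𝒜 f) ⊤ hle
    (awayι_preimage_self 𝒜 hf hd).ge
  have h2 : Proj.awayι 𝒜 f hf hd ≫ Θ =
      Spec.map (φ₀ ≫ CommRingCat.ofHom (fromZeroRingHom 𝒜 _)) ≫ hU.fromSpec := by
    rw [hΘ, Proj.awayι_toSpecZero_assoc, Spec.map_comp, Category.assoc]
  have h3 := congrArg (fun φ => φ.hom r) h1
  refine h3.trans ?_
  have h4 : (Proj.awayι 𝒜 f hf hd ≫ Θ).appLE U ⊤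
      ((awayι_preimage_self 𝒜 hf hd).ge.trans
        ((Opens.map (Proj.awayι 𝒜 f hf hd).base).map (homOfLE hle)).le) =
      (φ₀ ≫ CommRingCat.ofHom (fromZeroRingHom 𝒜 _)) ≫ (Scheme.ΓSpecIso _).inv := by
    rw [appLE_congr_hom' h2 U ⊤ _ (by
      rw [← h2]
      exact (awayι_preimage_self 𝒜 hf hd).ge.trans
        ((Opens.map (Proj.awayι 𝒜 f hf hd).base).map (homOfLE hle)).le)]
    exact specMap_fromSpec_appLE hU _ _
  have h5 := congrArg (fun φ => φ.hom r) h4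
  refine h5.trans ?_
  have h6 := congrArg (fun φ => φ.hom (fromZeroRingHom 𝒜 _ (φ₀.hom r)))
    (awayToSection_awayι_appLE 𝒜 hf hd)
  exact h6.symm

end

end Groth.Agent.Lib.Helper35.FlatProj
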