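import Groth.Agent.Lib.Helper35.FlatProj1
import Groth.Agent.Lib.Helper35.FlatProj2

set_option autoImplicit false
universe u
open CategoryTheory CategoryTheory.Limits AlgebraicGeometry TopologicalSpace Opposite
open scoped HomogeneousIdeal
open HomogeneousLocalization

namespace Groth.Agent.Lib.Helper35.FlatProj

open Groth.Agent.Lib.Helper74.TwistNat

section ring

variable {R A σ : Type u} [CommRing R] [CommRing A] [Algebra R A] [SetLike σ A]
  [AddSubgroupClass σ A] (𝒜 : ℕ → σ) [GradedRing 𝒜]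

/-- sections of `O(n)` over `D₊(f)` are global fractions -/
theorem exists_eq_frac_twist {n : ℤ} {d : ℕ} (hd : 0 < d) {f : A} (hf : f ∈ 𝒜 d)
    (D : (Proj 𝒜).Opens) (hD : ∀ y, y ∈ D ↔ f ∉ y.asHomogeneousIdeal)
    (t : Γ(GrTwist.twist 𝒜 n, D)) :
    ∃ (K e : ℕ) (m : A) (_ : m ∈ 𝒜 e) (_ : (e : ℤ) = K * d + n),
      ∀ y : D, GrTwist.val t y = Localization.mk m
        (⟨f ^ K, fun h => (hD y.1).1 y.2 (y.1.isPrime.mem_of_pow_mem K h)⟩ :
          y.1.asHomogeneousIdeal.toIdeal.primeCompl) := by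
  obtain ⟨K, e, m, hm, he, hval⟩ := Groth.Agent.Lib.Helper60.TildeSec.exists_eq_frac 𝒜 𝒜 hd hf D hD
    (show GrMod.sect 𝒜 𝒜 n (op D) from (twistIso 𝒜 n).hom.app D t)
  exact ⟨K, e, m, hm, he, fun y => hval y⟩

theorem add_val (n : ℤ) (W : (Proj 𝒜).Opens) (s t : Γ(GrTwist.twist 𝒜 n, W)) (y : W) :
    GrTwist.val (s + t) y = GrTwist.val s y + GrTwist.val t y := rfl

theorem zero_val' (n : ℤ) (W : (Proj 𝒜).Opens) (y : W) :
    GrTwist.val (0 : Γ(GrTwist.twist 𝒜 n, W)) y = 0 := rfl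

/-- sections of `O(n)` over `D₊(f)` form a flat module over `R` when the `𝒜 e` are flat over `R`
for large `e`. -/
theorem flat_twist_sections (hφ : ∀ r : R, algebraMap R A r ∈ 𝒜 0) {d : ℕ} (hd : 0 < d) {f : A} (hf : f ∈ 𝒜 d) (n : ℤ) (d₀ : ℕ)
    (hflat : ∀ e, d₀ ≤ e → Module.Flat R ↥(Submodule.span R (𝒜 e : Set A)))
    (D : (Proj 𝒜).Opens) (hD : ∀ y, y ∈ D ↔ f ∉ y.asHomogeneousIdeal)
    (ρ : R →+* Γ(Proj 𝒜, D))
    (hρ : ∀ (r : R) (y : D),
      ((show Groth.Agent.Lib.Helper60.TildeSec.OSec 𝒜 D from ρ r).1 y).val = Localization.mk (algebraMap R A r) 1) :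
    @Module.Flat R Γ(GrTwist.twist 𝒜 n, D) _ _ (Module.compHom _ ρ) := by
  letI : Module R Γ(GrTwist.twist 𝒜 n, D) := Module.compHom _ ρ
  have hsmul : ∀ (r : R) (t : Γ(GrTwist.twist 𝒜 n, D)), r • t = ρ r • t := fun _ _ => rfl
  have hd1 : 1 ≤ d := hd
  obtain ⟨a₀, ha₀⟩ : ∃ a₀ : ℕ, -(a₀ : ℤ) ≤ n := ⟨n.natAbs, by omega⟩
  have hc₀nn : (0 : ℤ) ≤ (a₀ : ℤ) * d + n := by
    have h1 : (a₀ : ℤ) * 1 ≤ (a₀ : ℤ) * d := by
      apply mul_le_mul_of_nonneg_left _ (Int.natCast_nonneg _)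
      exact_mod_cast hd1
    linarith
  obtain ⟨c₀, hc₀⟩ : ∃ c₀ : ℕ, (c₀ : ℤ) = (a₀ : ℤ) * d + n :=
    ⟨_, Int.toNat_of_nonneg hc₀nn⟩
  let K : ℕ → ℕ := fun k => d₀ + a₀ + k
  let e : ℕ → ℕ := fun k => (d₀ + k) * d + c₀
  have he : ∀ k, (e k : ℤ) = ((K k • d : ℕ) : ℤ) + n := by
    intro k
    simp only [e, K, smul_eq_mul]
    push_cast
    rw [hc₀]
    ring
  have hde : ∀ k, d₀ ≤ e k := by
    intro k
    calc d₀ ≤ d₀ + k := Nat.le_add_right _ _
      _ ≤ (d₀ + k) * d := Nat.le_mul_of_pos_right _ hd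
      _ ≤ e k := Nat.le_add_right _ _
  have hpow : ∀ k, ∀ y ∈ D, f ^ K k ∉ y.asHomogeneousIdeal := fun k y hy h =>
    (hD y).1 hy (y.isPrime.mem_of_pow_mem _ h)
  let N : ℕ → Type u := fun k => ↥(Submodule.span R (𝒜 (e k) : Set A))
  haveI : ∀ k, Module.Flat R (N k) := fun k => hflat _ (hde k)
  have hmemN : ∀ k (a : N k), (a : A) ∈ 𝒜 (e k) := fun k a => (mem_span_iff 𝒜 hφ _ _).1 a.2
  let ι : ∀ k, N k →ₗ[R] Γ(GrTwist.twist 𝒜 n, D) := fun k =>
    { toFun := fun a => fracSec 𝒜 a.1 (hmemN k a) (f ^ K k) (SetLike.pow_mem_graded _ hf) (he k) D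
        (hpow k)
      map_add' := fun a b => by
        apply Groth.Agent.Lib.Helper74.TwistNat.sec_ext
        intro y
        rw [add_val, fracSec_val, fracSec_val, fracSec_val, Localization.add_mk_self]
        rfl
      map_smul' := fun r a => by
        apply Groth.Agent.Lib.Helper74.TwistNat.sec_ext
        intro y
        rw [RingHom.id_apply, hsmul, smul_val, hρ, fracSec_val, fracSec_val, Localization.mk_mul,
          one_mul]
        congr 1
        exact Algebra.smul_def r (a : A) }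
  have hι : ∀ k (a : N k) (y : D), GrTwist.val (ι k a) y =
      Localization.mk (a : A) ⟨f ^ K k, hpow k y.1 y.2⟩ := fun k a y => rfl
  refine flat_of_exhaustion N ι ?_ ?_
  · intro l x
    choose Kx ex m hm hex hval using fun i => exists_eq_frac_twist 𝒜 hd hf D hD (x i)
    let k := Finset.univ.sup Kx
    have hKk : ∀ i, Kx i ≤ K k := fun i =>
      (Finset.le_sup (f := Kx) (Finset.mem_univ i)).trans (Nat.le_add_left _ _)
    have hj : ∀ i, K k = Kx i + (K k - Kx i) := fun i => by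
      have := hKk i
      omega
    have hdeg : ∀ i, (K k - Kx i) • d + ex i = e k := by
      intro i
      have h1 := hex i
      have h2 := he k
      have h3 : ((K k : ℕ) : ℤ) = (Kx i : ℤ) + ((K k - Kx i : ℕ) : ℤ) := by
        exact_mod_cast hj i
      zify
      rw [h1, h2]
      simp only [smul_eq_mul]
      push_cast
      rw [h3]
      ring
    have hmem : ∀ i, f ^ (K k - Kx i) * m i ∈ 𝒜 (e k) := fun i =>
      hdeg i ▸ SetLike.mul_mem_graded (SetLike.pow_mem_graded _ hf) (hm i)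
    refine ⟨k, fun i => ⟨f ^ (K k - Kx i) * m i, Submodule.subset_span (hmem i)⟩, fun i => ?_⟩
    apply Groth.Agent.Lib.Helper74.TwistNat.sec_ext
    intro y
    rw [hι, hval i y, Localization.mk_eq_mk_iff, Localization.r_iff_exists]
    refine ⟨1, ?_⟩
    simp only [OneMemClass.coe_one, one_mul]
    change f ^ Kx i * (f ^ (K k - Kx i) * m i) = f ^ K k * m i
    rw [← mul_assoc, ← pow_add, ← hj i]
  · intro k z hz
    have hz0 : ∀ y : D, Localization.mk (z : A)
        (⟨f ^ K k, hpow k y.1 y.2⟩ : y.1.asHomogeneousIdeal.toIdeal.primeCompl) = 0 := by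
      intro y
      rw [← hι k z y, hz]
      rfl
    obtain ⟨j, hj⟩ := Groth.Agent.Lib.Helper60.TildeSec.exists_pow_smul_eq_zero 𝒜 𝒜 (hmemN k z) hd hf (fun y hy => by
      have h := hz0 ⟨y, (hD y).2 hy⟩
      rw [Localization.mk_eq_mk', IsLocalization.mk'_eq_zero_iff] at h
      obtain ⟨c, hc⟩ := h
      exact ⟨c.1, c.2, hc⟩)
    have hj' : f ^ j * (z : A) = 0 := hj
    have hek : e (k + j) = j • d + e k := by
      simp only [e, smul_eq_mul]
      ring
    have hKk : K (k + j) = K k + j := by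
      simp only [K]
      ring
    have hmem : ∀ a : N k, f ^ j * (a : A) ∈ 𝒜 (e (k + j)) := fun a =>
      hek ▸ SetLike.mul_mem_graded (SetLike.pow_mem_graded _ hf) (hmemN k a)
    let τ : N k →ₗ[R] N (k + j) :=
      { toFun := fun a => ⟨f ^ j * (a : A), Submodule.subset_span (hmem a)⟩
        map_add' := fun a b => by
          apply Subtype.ext
          change f ^ j * ((a : A) + (b : A)) = f ^ j * (a : A) + f ^ j * (b : A)
          ring
        map_smul' := fun r a => by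
          apply Subtype.ext
          change f ^ j * (r • (a : A)) = r • (f ^ j * (a : A))
          rw [mul_smul_comm] }
    refine ⟨k + j, τ, fun a => ?_, ?_⟩
    · apply Groth.Agent.Lib.Helper74.TwistNat.sec_ext
      intro y
      rw [hι, hι, Localization.mk_eq_mk_iff, Localization.r_iff_exists]
      refine ⟨1, ?_⟩
      simp only [OneMemClass.coe_one, one_mul]
      change f ^ K k * (f ^ j * (a : A)) = f ^ K (k + j) * (a : A)
      rw [hKk, pow_add]
      ring
    · apply Subtype.ext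
      exact hj'

end ring

end Groth.Agent.Lib.Helper35.FlatProj
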