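import Groth.Agent.Lib.Helper35.FlatProj3
import Groth.Agent.Lib.Helper74.RelTildeQC
import Groth.Agent.Lib.Helper33.GrModLib
import Groth.Agent.Lib.Lead.QCohAff5
import Groth.Agent.S8285

set_option autoImplicit false
universe u
open CategoryTheory CategoryTheory.Limits AlgebraicGeometry TopologicalSpace Opposite
open scoped HomogeneousIdeal
open HomogeneousLocalization

namespace Groth.Agent.Lib.Helper35.FlatProj

open Groth.Agent.Lib.Helper60.TildeSec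

section ring

variable {A σ : Type u} [CommRing A] [SetLike σ A] [AddSubgroupClass σ A] (𝒜 : ℕ → σ)
  [GradedRing 𝒜]
variable {f : A} {d : ℕ} (hf : f ∈ 𝒜 d) (hd : 0 < d)

include hf hd in
/-- values of the structure morphism on an open equal to `D₊(f)` -/
theorem appLE_val {S : Scheme.{u}} (Θ : Proj 𝒜 ⟶ S) (U : S.Opens)
    (hU : IsAffineOpen U) (φ₀ : Γ(S, U) ⟶ CommRingCat.of (𝒜 0))
    (hΘ : Θ = Proj.toSpecZero 𝒜 ≫ Spec.map φ₀ ≫ hU.fromSpec)
    (D : (Proj 𝒜).Opens) (hD : D = Proj.basicOpen 𝒜 f)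
    (hle : D ≤ Θ ⁻¹ᵁ U) (r : Γ(S, U)) (y : D) :
    ((show OSec 𝒜 D from (Θ.appLE U D hle).hom r).1 y).val =
      Localization.mk ((φ₀.hom r : 𝒜 0) : A) 1 := by
  subst hD
  have h := appLE_eq_awayToSection 𝒜 hf hd Θ U hU φ₀ hΘ hle r
  have h2 := congrArg (fun s : Γ(Proj 𝒜, Proj.basicOpen 𝒜 f) =>
    ((show OSec 𝒜 (Proj.basicOpen 𝒜 f) from s).1 y).val) h
  exact h2.trans (awayToSection_fromZero_val 𝒜 (φ₀.hom r) y)

end ring

section rel

variable {S P : Scheme.{u}} (𝒜 : RelProj.QCGrAlg S)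
    {p : P ⟶ S} {chart : ∀ (U : S.Opens) (hU : IsAffineOpen U),
      (((p ⁻¹ᵁ U : P.Opens) : Scheme.{u}) ≅ Proj (𝒜.deg U hU))}

theorem isFlatOver_relTwist
    (hflat : ∃ d₀ : ℕ, ∀ d : ℕ, d₀ ≤ d → ∀ (U : S.Opens) (hU : IsAffineOpen U),
      letI := (𝒜.str.app (op U)).hom.toAlgebra
      Module.Flat Γ(S, U) ↥(Submodule.span Γ(S, U) (𝒜.deg U hU d : Set (𝒜.presheaf.obj (op U)))))
    (hP : RelProj.IsRelProj 𝒜 p chart) (n : ℤ) (L : P.Modules)
    (lam : ∀ (U : S.Opens) (hU : IsAffineOpen U),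
      L ⟶ (Scheme.Modules.pushforward (RelProj.emb p chart U hU)).obj
        (GrTwist.twist (𝒜.deg U hU) n))
    (hL : RelProj.IsRelTwist 𝒜 p chart n L lam) : FlatMod.IsFlatOver p L := by
  obtain ⟨d₀, hd₀⟩ := hflat
  haveI : L.IsQuasicoherent := Groth.Agent.S8285.result 𝒜 p chart hP n L lam hL
  intro x
  obtain ⟨U, hU, hxU⟩ := Groth.Agent.Lib.Helper74.RelTilde.exists_affine_mem p x
  obtain ⟨y, rfl⟩ := Groth.Agent.Lib.Helper74.RelTilde.exists_emb_eq (chart := chart) U hU x hxU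
  obtain ⟨d, hd, f, hf, hfy⟩ :=
    Groth.Agent.Lib.Helper33.GrModLib.exists_pos_not_mem (𝒜.deg U hU) y
  have hembdef : RelProj.emb p chart U hU = (chart U hU).inv ≫ (p ⁻¹ᵁ U).ι := rfl
  haveI : IsOpenImmersion (RelProj.emb p chart U hU) := by
    rw [hembdef]; infer_instance
  generalize hemb : RelProj.emb p chart U hU = emb at *
  let D : (Proj (𝒜.deg U hU)).Opens := Proj.basicOpen _ f
  let W : P.Opens := emb ''ᵁ D
  have hWaff : IsAffineOpen W :=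
    (Proj.isAffineOpen_basicOpen _ f hf hd).image_of_isOpenImmersion emb
  have hWU : W ≤ p ⁻¹ᵁ U := by
    rintro _ ⟨z, -, rfl⟩
    rw [← hemb]
    exact Groth.Agent.Lib.Helper74.RelTilde.emb_mem (chart := chart) U hU z
  have hpre : emb ⁻¹ᵁ W = D := emb.preimage_image_eq D
  have hyW : emb y ∈ W := ⟨y, (Proj.mem_basicOpen _ _ _).2 hfy, rfl⟩
  refine (Groth.Agent.Lib.Lead.QCohAff.flat_sections_iff p L hWaff hU hWU).1 ?_ _ hyW
  letI : Algebra Γ(S, U) (𝒜.presheaf.obj (op U)) := (𝒜.str.app (op U)).hom.toAlgebra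
  let ρ : Γ(S, U) →+* Γ(Proj (𝒜.deg U hU), emb ⁻¹ᵁ W) :=
    (emb.app W).hom.comp (p.appLE U W hWU).hom
  have hΘ : emb ≫ p = Proj.toSpecZero _ ≫ Spec.map (𝒜.strZero U hU) ≫ hU.fromSpec := by
    rw [hembdef, Category.assoc, ← hP.chart_over U hU, Iso.inv_hom_id_assoc]
  have hle : emb ⁻¹ᵁ W ≤ (emb ≫ p) ⁻¹ᵁ U := fun z hz => hWU hz
  have hρeq : ∀ r, ρ r = ((emb ≫ p).appLE U (emb ⁻¹ᵁ W) hle).hom r := by
    intro r
    have h1 := Scheme.Hom.appLE_comp_appLE emb p U W (emb ⁻¹ᵁ W) hWU le_rfl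
    rw [Scheme.Hom.appLE_eq_app] at h1
    exact congrArg (fun φ => φ.hom r) h1
  have hρ : ∀ (r : Γ(S, U)) (z : (emb ⁻¹ᵁ W : (Proj (𝒜.deg U hU)).Opens)),
      ((show OSec (𝒜.deg U hU) (emb ⁻¹ᵁ W) from ρ r).1 z).val =
        Localization.mk (algebraMap Γ(S, U) (𝒜.presheaf.obj (op U)) r) 1 := by
    intro r z
    have h2 := congrArg (fun s : Γ(Proj (𝒜.deg U hU), emb ⁻¹ᵁ W) =>
      ((show OSec (𝒜.deg U hU) (emb ⁻¹ᵁ W) from s).1 z).val) (hρeq r)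
    exact h2.trans
      (appLE_val (𝒜.deg U hU) hf hd (emb ≫ p) U hU (𝒜.strZero U hU) hΘ _ hpre hle r z)
  have hD' : ∀ z, z ∈ emb ⁻¹ᵁ W ↔ f ∉ z.asHomogeneousIdeal := by
    intro z
    rw [hpre]
    exact Proj.mem_basicOpen _ _ _
  have key := flat_twist_sections (𝒜.deg U hU) (𝒜.str_mem U hU) hd hf n d₀
    (fun e he => hd₀ e he U hU) (emb ⁻¹ᵁ W) hD' ρ hρ
  letI m1 : Module Γ(S, U) Γ(L, W) := Module.compHom Γ(L, W) (p.appLE U W hWU).hom
  letI m2 : Module Γ(S, U) Γ(GrTwist.twist (𝒜.deg U hU) n, emb ⁻¹ᵁ W) := Module.compHom _ ρ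
  subst hemb
  let e : Γ(L, W) ≃ₗ[Γ(S, U)] Γ(GrTwist.twist (𝒜.deg U hU) n, RelProj.emb p chart U hU ⁻¹ᵁ W) :=
    LinearEquiv.ofBijective
      { toFun := fun m => (show Γ(GrTwist.twist (𝒜.deg U hU) n, RelProj.emb p chart U hU ⁻¹ᵁ W) from
          (lam U hU).app W m)
        map_add' := fun a b => map_add _ a b
        map_smul' := fun r m => by
          change (lam U hU).app W ((p.appLE U W hWU).hom r • m) = _
          rw [Scheme.Modules.Hom.app_smul]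
          rfl }
      (hL.bijective U hU W hWU)
  exact Module.Flat.of_linearEquiv e

end rel

end Groth.Agent.Lib.Helper35.FlatProj
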