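import Groth.Prelude.Def_CohCx
import Groth.Agent.Lib.Helper35.BaerFamily

/-!
Free abelian sheaves `Z_X^#` on a small site: maps out of them are sections, and they form a
detecting family. (Site version of `Groth.Agent.Lib.Helper53.Flasque.freeSheafHomEquiv`.)
-/

universe u

namespace Groth.Agent.Lib.Helper35.FreeSheafSite

open CategoryTheory Opposite

variable {C : Type u} [SmallCategory C] (J : GrothendieckTopology C)

/-- maps out of the free sheaf on `U` are sections over `U` -/
noncomputable def homEquiv (U : C) (F : Sheaf J AddCommGrpCat.{u}) :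
    (CohCx.freeSheaf J U ⟶ F) ≃ F.obj.obj (op U) :=
  ((sheafificationAdjunction J AddCommGrpCat.{u}).homEquiv
      (yoneda.obj U ⋙ AddCommGrpCat.free) F).trans <|
    ((AddCommGrpCat.adj.whiskerRight Cᵒᵖ).homEquiv (yoneda.obj U) F.obj).trans
      yonedaEquiv

lemma homEquiv_naturality_right (U : C) {F G : Sheaf J AddCommGrpCat.{u}} (φ : F ⟶ G)
    (f : CohCx.freeSheaf J U ⟶ F) :
    homEquiv J U G (f ≫ φ) = φ.hom.app (op U) (homEquiv J U F f) := by
  simp only [homEquiv, Equiv.trans_apply]
  rw [Adjunction.homEquiv_naturality_right, Adjunction.homEquiv_naturality_right]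
  simp
  rfl

theorem isDetecting : ObjectProperty.IsDetecting
    (fun G : Sheaf J AddCommGrpCat.{u} => ∃ X : C, G = CohCx.freeSheaf J X) := by
  intro F G f hf
  have hbij : ∀ X : C, Function.Bijective (f.hom.app (op X)) := by
    intro X
    constructor
    · intro a b hab
      obtain ⟨h', -, huniq⟩ := hf _ ⟨X, rfl⟩ ((homEquiv J X G).symm (f.hom.app (op X) a))
      have h1 : (homEquiv J X F).symm a = h' := huniq _ (by
        apply (homEquiv J X G).injective
        rw [homEquiv_naturality_right]
        simp)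
      have h2 : (homEquiv J X F).symm b = h' := huniq _ (by
        apply (homEquiv J X G).injective
        rw [homEquiv_naturality_right]
        simp [hab])
      exact (homEquiv J X F).symm.injective (h1.trans h2.symm)
    · intro y
      obtain ⟨h', hh', -⟩ := hf _ ⟨X, rfl⟩ ((homEquiv J X G).symm y)
      refine ⟨homEquiv J X F h', ?_⟩
      rw [← homEquiv_naturality_right, hh', Equiv.apply_symm_apply]
  have h1 : ∀ X : Cᵒᵖ, IsIso (f.hom.app X) := fun X => by
    rw [ConcreteCategory.isIso_iff_bijective]
    exact hbij X.unop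
  have h2 : IsIso f.hom := NatIso.isIso_of_isIso_app _
  have h3 : IsIso ((sheafToPresheaf J AddCommGrpCat.{u}).map f) := h2
  exact isIso_of_reflects_iso f (sheafToPresheaf J AddCommGrpCat.{u})

/-- Baer-type criterion on a small site. -/
theorem injective_of_extends (I : Sheaf J AddCommGrpCat.{u})
    (h : ∀ (X : C) (S : Sheaf J AddCommGrpCat.{u}) (i : S ⟶ CohCx.freeSheaf J X) [Mono i]
      (φ : S ⟶ I), ∃ ψ : CohCx.freeSheaf J X ⟶ I, i ≫ ψ = φ) :
    Injective I := by
  by_cases hne : Nonempty C
  · obtain ⟨X0⟩ := hne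
    apply Groth.Agent.Lib.Helper35.BaerFamily.injective_of_extends.{u} (isDetecting J)
      ⟨_, X0, rfl⟩ I
    rintro G ⟨X, rfl⟩ A φ
    exact h X _ A.arrow φ
  · constructor
    intro X Y g f _
    refine ⟨0, ?_⟩
    apply Sheaf.hom_ext
    ext X
    exact (hne ⟨X.unop⟩).elim

end Groth.Agent.Lib.Helper35.FreeSheafSite
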