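import Mathlib

/-!
Fixed points of a Frobenius-semilinear map under base change of algebraically closed fields.
Key algebra lemma: a solution `x : ι → k'` of the system `x i = ∑ j, (x j)^p * a i j` with
`a i j ∈ k` algebraically closed has all its coordinates in `k` (the algebra `k[x]` is unramified).
-/

namespace Groth.Agent.Lib.Helper35.FrobFixedBC

open TensorProduct

theorem mem_range_of_system {k k' : Type*} [Field k] [IsAlgClosed k] [Field k'] [Algebra k k']
    (p : ℕ) [Fact p.Prime] [CharP k p] {ι : Type*} [Fintype ι] (a : ι → ι → k) (x : ι → k')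
    (hx : ∀ i, x i = ∑ j, (x j) ^ p * algebraMap k k' (a i j)) :
    ∀ i, x i ∈ Set.range (algebraMap k k') := by
  classical
  let B : Subalgebra k k' := Algebra.adjoin k (Set.range x)
  have hxB : ∀ i, x i ∈ B := fun i => Algebra.subset_adjoin ⟨i, rfl⟩
  let y : ι → B := fun i => ⟨x i, hxB i⟩
  have hy : ∀ i, y i = ∑ j, (y j) ^ p * algebraMap k B (a i j) := by
    intro i
    apply Subtype.ext
    simp only [y]
    rw [hx i]
    simp
  haveI : CharP B p := charP_of_injective_algebraMap (algebraMap k B).injective p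
  have hpz : ∀ z : Ω[B⁄k], p • z = 0 := fun z => by
    rw [← Nat.cast_smul_eq_nsmul B, CharP.cast_eq_zero, zero_smul]
  have hDy : ∀ i, KaehlerDifferential.D k B (y i) = 0 := by
    intro i
    rw [hy i, map_sum]
    refine Finset.sum_eq_zero (fun j _ => ?_)
    rw [Derivation.leibniz, Derivation.map_algebraMap, smul_zero, zero_add,
      Derivation.leibniz_pow, hpz, smul_zero]
  have hD : ∀ (z : k') (hz : z ∈ B), KaehlerDifferential.D k B ⟨z, hz⟩ = 0 := by
    intro z hz
    induction hz using Algebra.adjoin_induction with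
    | mem z hz =>
      obtain ⟨i, rfl⟩ := hz
      exact hDy i
    | algebraMap r => exact Derivation.map_algebraMap _ r
    | add z w hz hw ihz ihw =>
      have : (⟨z + w, Subalgebra.add_mem _ hz hw⟩ : B) = ⟨z, hz⟩ + ⟨w, hw⟩ := rfl
      rw [this, map_add, ihz, ihw, add_zero]
    | mul z w hz hw ihz ihw =>
      have : (⟨z * w, Subalgebra.mul_mem _ hz hw⟩ : B) = ⟨z, hz⟩ * ⟨w, hw⟩ := rfl
      rw [this, Derivation.leibniz, ihz, ihw, smul_zero, smul_zero, add_zero]
  haveI : Subsingleton Ω[B⁄k] := by
    have h1 := KaehlerDifferential.span_range_derivation k B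
    have h3 : (⊤ : Submodule B Ω[B⁄k]) = ⊥ := by
      rw [← h1, Submodule.span_eq_bot]
      rintro _ ⟨⟨z, hz⟩, rfl⟩
      exact hD z hz
    exact (Submodule.subsingleton_iff B).mp (subsingleton_of_bot_eq_top h3.symm)
  haveI : Algebra.FormallyUnramified k B := ⟨inferInstance⟩
  haveI : Algebra.FiniteType k B := by
    have hB : B = Algebra.adjoin k ((Finset.univ.image x : Finset k') : Set k') := by
      simp [B]
    rw [hB]
    exact (Subalgebra.fg_iff_finiteType _).mp (Subalgebra.fg_adjoin_finset _)
  haveI : Module.Finite k B := Algebra.FormallyUnramified.finite_of_free k B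
  have hsurj : Function.Surjective (algebraMap k B) :=
    IsAlgClosed.algebraMap_bijective_of_isIntegral.2
  intro i
  obtain ⟨c, hc⟩ := hsurj (y i)
  exact ⟨c, congrArg Subtype.val hc⟩

end Groth.Agent.Lib.Helper35.FrobFixedBC
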