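import Mathlib

/-!
# Graded structure on a symmetric algebra

For `f : M →ₗ[R] A` with `IsSymmetricAlgebra f`, the powers of `LinearMap.range f` form a grading
of `A`.  Also: passing from a `Submodule`-valued grading to the `AddSubgroup`-valued one, and
functoriality of the powers of the range along semilinear ring maps.
-/

set_option autoImplicit false
universe u

namespace Groth.Agent.Lib.Helper35.GS

open scoped DirectSum

section alg

variable {R M A : Type*} [CommRing R] [AddCommGroup M] [Module R M] [CommRing A] [Algebra R A]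

/-- the candidate grading: powers of the range -/
abbrev powGr (f : M →ₗ[R] A) : ℕ → Submodule R A := fun i => LinearMap.range f ^ i

theorem mem_powGr_one (f : M →ₗ[R] A) (m : M) : f m ∈ powGr f 1 := by
  simpa only [powGr, pow_one] using LinearMap.mem_range_self f m

theorem algebraMap_mem_powGr_zero (f : M →ₗ[R] A) (r : R) : algebraMap R A r ∈ powGr f 0 := by
  simp only [powGr, pow_zero]
  exact Submodule.algebraMap_mem r

/-- `f`, mapping into the degree one part of the direct sum -/
noncomputable def grι (f : M →ₗ[R] A) : M →ₗ[R] ⨁ i : ℕ, ↥(powGr f i) :=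
  DirectSum.lof R ℕ (fun i => ↥(powGr f i)) 1 ∘ₗ
    f.codRestrict _ fun m => mem_powGr_one f m

theorem grι_apply (f : M →ₗ[R] A) (m : M) :
    grι f m = DirectSum.of (fun i : ℕ => ↥(powGr f i)) 1 ⟨f m, mem_powGr_one f m⟩ := rfl

/-- The symmetric algebra is graded by the powers of the range of the generators. -/
noncomputable def gradedAlgebra {f : M →ₗ[R] A} (h : IsSymmetricAlgebra f) :
    GradedAlgebra (powGr f) :=
  GradedAlgebra.ofAlgHom _ (h.lift (grι f))
    (by
      apply h.algHom_ext
      ext m
      change DirectSum.coeAlgHom (powGr f) (h.lift (grι f) (f m)) = f m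
      rw [h.lift_eq, grι_apply, DirectSum.coeAlgHom_of])
    fun i x => by
    obtain ⟨x, hx⟩ := x
    dsimp only [Subtype.coe_mk]
    induction hx using Submodule.pow_induction_on_left' with
    | algebraMap r =>
      rw [AlgHom.commutes, DirectSum.algebraMap_apply]; rfl
    | add x y i hx hy ihx ihy =>
      rw [map_add, ihx, ihy, ← map_add]
      rfl
    | mem_mul m hm i x hx ih =>
      obtain ⟨m, rfl⟩ := hm
      rw [map_mul, ih, h.lift_eq, grι_apply, DirectSum.of_mul_of]
      exact DirectSum.of_eq_of_gradedMonoid_eq (Sigma.subtype_ext (add_comm _ _) rfl)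

end alg

section bridge

variable {R A : Type*} [CommRing R] [CommRing A] [Algebra R A] (𝒜 : ℕ → Submodule R A)

/-- the identity `𝒜 i → (𝒜 i).toAddSubgroup` -/
def toSub (i : ℕ) : ↥(𝒜 i) →+ ↥((𝒜 i).toAddSubgroup) where
  toFun x := ⟨x.1, x.2⟩
  map_zero' := rfl
  map_add' _ _ := rfl

variable [GradedAlgebra 𝒜]

theorem gradedMonoid_toAddSubgroup : SetLike.GradedMonoid (fun i => (𝒜 i).toAddSubgroup) where
  one_mem := SetLike.GradedOne.one_mem (A := 𝒜)
  mul_mem := fun _ _ _ _ ha hb => SetLike.GradedMul.mul_mem (A := 𝒜) ha hb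

theorem coe_map_toSub (x : ⨁ i, ↥(𝒜 i)) :
    DirectSum.coeAddMonoidHom (fun i => (𝒜 i).toAddSubgroup) (DirectSum.map (toSub 𝒜) x) =
      DirectSum.coeAddMonoidHom 𝒜 x := by
  classical
  induction x using DirectSum.induction_on with
  | zero => simp
  | of i y =>
    rw [DirectSum.map_of, DirectSum.coeAddMonoidHom_of, DirectSum.coeAddMonoidHom_of]
    rfl
  | add x y hx hy => rw [map_add, map_add, map_add, hx, hy]

/-- A `Submodule`-valued grading of a ring gives an `AddSubgroup`-valued one. -/
noncomputable def gradedRingAddSubgroup : GradedRing (fun i => (𝒜 i).toAddSubgroup) := by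
  classical
  exact
  { gradedMonoid_toAddSubgroup 𝒜 with
    toDecomposition := DirectSum.Decomposition.ofAddHom _
      ((DirectSum.map (toSub 𝒜)).comp (DirectSum.decomposeAddEquiv 𝒜).toAddMonoidHom)
      (by
        ext a
        change DirectSum.coeAddMonoidHom (fun i => (𝒜 i).toAddSubgroup)
          (DirectSum.map (toSub 𝒜) (DirectSum.decompose 𝒜 a)) = a
        rw [coe_map_toSub]
        exact DirectSum.Decomposition.left_inv a)
      (by
        apply DirectSum.addHom_ext
        intro i y
        change DirectSum.map (toSub 𝒜) (DirectSum.decompose 𝒜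
          (DirectSum.coeAddMonoidHom (fun i => (𝒜 i).toAddSubgroup)
            (DirectSum.of (fun i => ↥((𝒜 i).toAddSubgroup)) i y))) = _
        rw [DirectSum.coeAddMonoidHom_of, DirectSum.decompose_of_mem 𝒜 (show (y : A) ∈ 𝒜 i from y.2),
          DirectSum.map_of]
        rfl) }

end bridge

section functorial

variable {R R' M M' A A' : Type*} [CommRing R] [CommRing R'] [AddCommGroup M] [AddCommGroup M']
  [Module R M] [Module R' M'] [CommRing A] [CommRing A'] [Algebra R A] [Algebra R' A']

/-- semilinear ring maps compatible with the generators preserve the powers of the range -/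
theorem map_mem_pow (f : M →ₗ[R] A) (f' : M' →ₗ[R'] A') (σ : R → R') (ρ : A →+* A') (g : M → M')
    (hρa : ∀ r, ρ (algebraMap R A r) = algebraMap R' A' (σ r)) (hρf : ∀ m, ρ (f m) = f' (g m))
    {d : ℕ} {x : A} (hx : x ∈ LinearMap.range f ^ d) : ρ x ∈ LinearMap.range f' ^ d := by
  induction hx using Submodule.pow_induction_on_left' with
  | algebraMap r =>
    rw [hρa, pow_zero]
    exact Submodule.algebraMap_mem _
  | add x y i hx hy ihx ihy => rw [map_add]; exact add_mem ihx ihy
  | mem_mul m hm i x hx ih =>
    obtain ⟨m, rfl⟩ := hm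
    rw [map_mul, hρf, pow_succ']
    exact Submodule.mul_mem_mul ⟨_, rfl⟩ ih

end functorial

end Groth.Agent.Lib.Helper35.GS
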