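import Groth.Agent.Lib.Helper35.GS1
import Groth.Agent.Lib.Helper74.SymQCAlg
import Groth.Prelude.Def_RelProj2

/-!
# The graded symmetric algebra of a quasi-coherent module, as a `RelProj.QCGrAlg`

Any symmetric algebra `(A, j)` of a quasi-coherent module `E` (in the sense of `RelSpec.IsSymAlg`)
carries a canonical structure of quasi-coherent graded algebra for which `j` lands in degree one.
-/

set_option autoImplicit false
universe u
open CategoryTheory CategoryTheory.Limits AlgebraicGeometry TopologicalSpace Opposite

namespace Groth.Agent.Lib.Helper35.GS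

open RelSpec Groth.Agent.Lib.Helper74.SymQ

variable {S : Scheme.{u}} {E : S.Modules} [E.IsQuasicoherent]

/-- The graded symmetric algebra: a symmetric algebra with its grading by the powers of the generators. -/
noncomputable def grSym (A : QCAlg S) (j : E ⟶ A.toModule) (h : IsSymAlg E A j) :
    RelProj.QCGrAlg S where
  toQCAlg := A
  deg U _ d := (LinearMap.range (jLin j U) ^ d).toAddSubgroup
  graded U hU :=
    letI := gradedAlgebra (isSymmetricAlgebra_of_isSymAlg h U hU)
    gradedRingAddSubgroup (powGr (jLin j U))
  map_mem := by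
    intro U V hU hV i d x hx
    exact map_mem_pow (jLin j U) (jLin j V) (fun r => resR i r)
      (A.presheaf.map (homOfLE i).op).hom (fun m => resM E i m)
      (fun r => str_res A i r) (fun m => (jLin_res j i m).symm) hx
  str_mem U hU r := algebraMap_mem_powGr_zero (jLin j U) r

theorem grSym_toQCAlg (A : QCAlg S) (j : E ⟶ A.toModule) (h : IsSymAlg E A j) :
    (grSym A j h).toQCAlg = A := rfl

theorem isGrSymAlg_grSym (A : QCAlg S) (j : E ⟶ A.toModule) (h : IsSymAlg E A j) :
    RelProj.IsGrSymAlg E (grSym A j h) j :=
  ⟨h, fun U _ x => mem_powGr_one (jLin j U) x⟩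

/-- **Existence of the graded symmetric algebra** of a quasi-coherent module. -/
theorem exists_isGrSymAlg (E : S.Modules) [E.IsQuasicoherent] :
    ∃ (𝒮 : RelProj.QCGrAlg S) (j : E ⟶ 𝒮.toModule), RelProj.IsGrSymAlg E 𝒮 j :=
  ⟨grSym (symAlg E) (symJ E) (isSymAlg_symAlg E), symJ E,
    isGrSymAlg_grSym (symAlg E) (symJ E) (isSymAlg_symAlg E)⟩

end Groth.Agent.Lib.Helper35.GS
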