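import Groth.Agent.Lib.Helper60.Twist
import Groth.Agent.Lib.Helper60.TensorRestrictPow
import Groth.Agent.Lib.Helper35.AmpleFamily

/-!
# Ampleness of `O(d)` on quasi-compact opens of `Proj`
-/

set_option autoImplicit false
universe u

open AlgebraicGeometry CategoryTheory Opposite TopologicalSpace Limits

namespace Groth.Agent.Lib.Helper35.ProjAmple

open Groth.Agent.Lib.Helper60.TwistLib Groth.Agent.Lib.Helper60.TensorRestrict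
open Groth.Agent.Lib.Helper35.GenLocus

variable {R A : Type u} [CommRing R] [CommRing A] [Algebra R A] (𝒜 : ℕ → Submodule R A)
  [GradedAlgebra 𝒜]

/-- basic opens of homogeneous elements of positive degree form a basis of `Proj` -/
theorem exists_pos_basicOpen (W : (Proj 𝒜).Opens) (y : Proj 𝒜) (hy : y ∈ W) :
    ∃ (e : ℕ) (_ : 0 < e) (f : 𝒜 e), y ∈ Proj.basicOpen 𝒜 f.1 ∧ Proj.basicOpen 𝒜 f.1 ≤ W := by
  classical
  obtain ⟨_, ⟨_, ⟨f₀, rfl⟩, rfl⟩, hyf₀, hf₀W⟩ :=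
    (Proj.isBasis_basicOpen 𝒜).exists_subset_of_mem_open hy W.2
  have hyf₀' : y ∈ Proj.basicOpen 𝒜 f₀ := hyf₀
  rw [Proj.basicOpen_eq_iSup_proj] at hyf₀'
  obtain ⟨i, hi⟩ := Opens.mem_iSup.mp hyf₀'
  obtain ⟨a, k, a_deg, hk, ha⟩ : ∃ (a : A) (k : ℕ) (_ : a ∈ 𝒜 k) (_ : 0 < k),
      a ∉ y.asHomogeneousIdeal := by
    by_contra! H
    refine y.not_irrelevant_le fun z hz ↦ ?_
    rw [← DirectSum.sum_support_decompose 𝒜 z]
    exact y.asHomogeneousIdeal.toIdeal.sum_mem fun k hk ↦ H _ k (SetLike.coe_mem _) <|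
      by_contra <| by aesop
  have hi' : GradedRing.proj 𝒜 i f₀ ∉ y.asHomogeneousIdeal := (Proj.mem_basicOpen 𝒜 _ y).mp hi
  have hdeg : GradedRing.proj 𝒜 i f₀ * a ∈ 𝒜 (i + k) :=
    SetLike.mul_mem_graded (by rw [GradedRing.proj_apply]; exact SetLike.coe_mem _) a_deg
  refine ⟨i + k, by omega, ⟨GradedRing.proj 𝒜 i f₀ * a, hdeg⟩, ?_, ?_⟩
  · rw [Proj.mem_basicOpen]
    intro hmem
    rcases y.isPrime.mem_or_mem hmem with h | h
    · exact hi' h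
    · exact ha h
  · refine le_trans ?_ hf₀W
    change Proj.basicOpen 𝒜 (GradedRing.proj 𝒜 i f₀ * a) ≤ Proj.basicOpen 𝒜 f₀
    rw [Proj.basicOpen_mul]
    refine inf_le_left.trans ?_
    rw [Proj.basicOpen_eq_iSup_proj 𝒜 f₀]
    exact le_iSup (fun i => Proj.basicOpen 𝒜 (GradedRing.proj 𝒜 i f₀)) i

/-- the generating locus of `g/1 ∈ Γ(O(d))` is `D₊(g)`, seen inside an open where `O(d)` is
locally generated -/
theorem preimage_genLocus_numHom {X : Scheme.{u}} (j : X ⟶ Proj 𝒜) [IsOpenImmersion j]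
    (d : ℕ) (g : 𝒜 d) (hle : Proj.basicOpen 𝒜 g.1 ≤ j.opensRange)
    (hloc : ∀ y ∈ j.opensRange, ∃ (a b : ℕ) (g' : 𝒜 a) (h' : 𝒜 b), (a : ℤ) = b + d ∧
      g'.1 ∉ y.asHomogeneousIdeal ∧ h'.1 ∉ y.asHomogeneousIdeal) :
    j ⁻¹ᵁ CohB1.genLocus (Twist.twist 𝒜 (d : ℤ)) (numHom 𝒜 g) = j ⁻¹ᵁ Proj.basicOpen 𝒜 g.1 := by
  have h1 : Proj.basicOpen 𝒜 g.1 ≤ CohB1.genLocus (Twist.twist 𝒜 (d : ℤ)) (numHom 𝒜 g) := by
    apply le_sSup
    exact (isIso_restrict_numHom_iff 𝒜 g _ (fun y hy => hloc y (hle hy))).mpr le_rfl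
  have h2 : CohB1.genLocus (Twist.twist 𝒜 (d : ℤ)) (numHom 𝒜 g) ⊓ j.opensRange ≤
      Proj.basicOpen 𝒜 g.1 := by
    refine (isIso_restrict_numHom_iff 𝒜 g
      (CohB1.genLocus (Twist.twist 𝒜 (d : ℤ)) (numHom 𝒜 g) ⊓ j.opensRange)
      (fun y hy => hloc y hy.2)).mp ?_
    rw [isIso_restrict_iff]
    exact (le_genLocus_iff _ _ _).mp inf_le_left
  apply le_antisymm
  · intro x hx
    exact h2 ⟨hx, ⟨x, rfl⟩⟩
  · intro x hx
    exact h1 hx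

/-- `O(d)` restricted to a quasi-compact open of `Proj` covered by `D₊(g)`, `deg g = d > 0`, is
ample. -/
theorem isAmple_restrict_twist {X : Scheme.{u}} [CompactSpace X] (j : X ⟶ Proj 𝒜)
    [IsOpenImmersion j] (d : ℕ) (hd : 0 < d) {ι : Type*} (g : ι → 𝒜 d)
    (hle : ∀ i, Proj.basicOpen 𝒜 (g i).1 ≤ j.opensRange)
    (hcov : ∀ x : X, ∃ i, j x ∈ Proj.basicOpen 𝒜 (g i).1) :
    CohB1.IsAmple ((Twist.twist 𝒜 (d : ℤ)).restrict j) := by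
  have hloc : ∀ y ∈ j.opensRange, ∃ (a b : ℕ) (g' : 𝒜 a) (h' : 𝒜 b), (a : ℤ) = b + d ∧
      g'.1 ∉ y.asHomogeneousIdeal ∧ h'.1 ∉ y.asHomogeneousIdeal := by
    rintro y ⟨x, rfl⟩
    obtain ⟨i, hi⟩ := hcov x
    exact ⟨d, 0, g i, ⟨1, SetLike.GradedOne.one_mem⟩, by simp,
      (Proj.mem_basicOpen 𝒜 _ _).mp hi, one_notMem 𝒜 _⟩
  have hInv : PicF.IsInvertible ((Twist.twist 𝒜 (d : ℤ)).restrict j) := by
    intro x
    obtain ⟨i, hi⟩ := hcov x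
    refine ⟨j ⁻¹ᵁ Proj.basicOpen 𝒜 (g i).1, hi, ?_⟩
    obtain ⟨e⟩ := twist_restrict_iso 𝒜 ((j ⁻¹ᵁ Proj.basicOpen 𝒜 (g i).1).ι ≫ j) (d : ℤ) (g i)
      (⟨1, SetLike.GradedOne.one_mem⟩ : 𝒜 0) (by simp)
      (fun y => (Proj.mem_basicOpen 𝒜 _ _).mp y.2) (fun y => one_notMem 𝒜 _)
    exact ⟨((Scheme.Modules.restrictFunctorComp _ j).app (Twist.twist 𝒜 (d : ℤ))).symm ≪≫ e⟩
  refine ⟨hInv, inferInstance, fun x => ?_⟩
  obtain ⟨i, hi⟩ := hcov x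
  obtain ⟨s', hs'⟩ := Groth.Agent.Lib.Lead.Inv.exists_section_of_iso
    (Groth.Agent.Lib.Helper35.AmpleFamily.nonempty_tensorPow_one _)
    (restrictSec j _ (numHom 𝒜 (g i)))
  have hgl : CohB1.genLocus _ s' = j ⁻¹ᵁ Proj.basicOpen 𝒜 (g i).1 := by
    rw [hs', genLocus_restrictSec]
    exact preimage_genLocus_numHom 𝒜 j d (g i) (hle i) hloc
  refine ⟨0, s', ?_, ?_⟩
  · rw [hgl]
    exact hi
  · rw [hgl]
    exact (Proj.isAffineOpen_basicOpen 𝒜 (g i).1 (g i).2 hd).preimage_of_isOpenImmersion j (hle i)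

/-- `S9817` -/
theorem exists_isAmple_pullback_twist (X : Scheme.{u}) [CompactSpace X] (j : X ⟶ Proj 𝒜)
    [IsOpenImmersion j] :
    ∃ d : ℕ, 0 < d ∧
      CohB1.IsAmple ((Scheme.Modules.pullback j).obj (Twist.twist 𝒜 (d : ℤ))) := by
  classical
  have key : ∀ x : X, ∃ (e : ℕ) (_ : 0 < e) (f : 𝒜 e), j x ∈ Proj.basicOpen 𝒜 f.1 ∧
      Proj.basicOpen 𝒜 f.1 ≤ j.opensRange :=
    fun x => exists_pos_basicOpen 𝒜 j.opensRange (j x) ⟨x, rfl⟩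
  choose e he f hxf hfle using key
  obtain ⟨t, ht⟩ := isCompact_univ.elim_finite_subcover
    (fun x : X => ((j ⁻¹ᵁ Proj.basicOpen 𝒜 (f x).1 : X.Opens) : Set X))
    (fun x => (j ⁻¹ᵁ Proj.basicOpen 𝒜 (f x).1).2) (fun x _ => Set.mem_iUnion.mpr ⟨x, hxf x⟩)
  let d : ℕ := ∏ x ∈ t, e x
  have hd : 0 < d := Finset.prod_pos (fun x _ => he x)
  have key2 : ∀ x ∈ t, ∃ g : 𝒜 d, Proj.basicOpen 𝒜 g.1 = Proj.basicOpen 𝒜 (f x).1 := by
    intro x hxt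
    obtain ⟨q, hq⟩ : e x ∣ d := Finset.dvd_prod_of_mem e hxt
    have hq0 : 0 < q := Nat.pos_of_ne_zero (fun h => by rw [h, Nat.mul_zero] at hq; omega)
    have hmem : (f x).1 ^ q ∈ 𝒜 d := by
      have h1 := SetLike.pow_mem_graded q (f x).2
      rw [smul_eq_mul, Nat.mul_comm, ← hq] at h1
      exact h1
    exact ⟨⟨(f x).1 ^ q, hmem⟩, Proj.basicOpen_pow 𝒜 _ q hq0⟩
  choose g hg using key2
  refine ⟨d, hd, ?_⟩
  have hA := isAmple_restrict_twist 𝒜 j d hd (fun i : {x // x ∈ t} => g i.1 i.2)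
    (fun i => by rw [hg]; exact hfle i.1) (fun x => by
      have h1 := ht (Set.mem_univ x)
      obtain ⟨y, hy⟩ := Set.mem_iUnion.mp h1
      obtain ⟨hyt, hxy⟩ := Set.mem_iUnion.mp hy
      exact ⟨⟨y, hyt⟩, by rw [hg]; exact hxy⟩)
  exact Groth.Agent.Lib.Helper35.Ample.isAmple_of_iso
    ((Scheme.Modules.restrictFunctorIsoPullback j).app _) hA

end Groth.Agent.Lib.Helper35.ProjAmple
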