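import Groth.Agent.Lib.Helper35.FlatProj4
import Groth.Agent.Lib.Helper35.ProjAmple
import Groth.Agent.Lib.Helper74.RelTwistNat
import Groth.Agent.Lib.Helper74.InvSymDom
import Groth.Agent.Lib.Helper74.InvSym
import Groth.Agent.Lib.Helper2.HomGlue
import Groth.Agent.Lib.Helper48.PrZero
import Groth.Agent.Lib.Helper40.AffBC1

/-!
# The canonical map `L ⟶ p_* O_P(1)` for `P = Proj(Sym L)`, and its bijectivity for invertible `L`
-/

set_option autoImplicit false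
universe u
open CategoryTheory CategoryTheory.Limits AlgebraicGeometry TopologicalSpace Opposite
open scoped HomogeneousIdeal
open HomogeneousLocalization

namespace Groth.Agent.Lib.Helper35.GS

open Groth.Agent.Lib.Helper60.TildeSec Groth.Agent.Lib.Helper35.FlatProj

section ring

variable {A σ : Type u} [CommRing A] [SetLike σ A] [AddSubgroupClass σ A] (𝒜 : ℕ → σ)
  [GradedRing 𝒜]

/-- basic opens of homogeneous elements of positive degree form a basis of `Proj` -/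
theorem exists_pos_basicOpen (W : (Proj 𝒜).Opens) (y : Proj 𝒜) (hy : y ∈ W) :
    ∃ (e : ℕ) (_ : 0 < e) (f : A) (_ : f ∈ 𝒜 e), y ∈ Proj.basicOpen 𝒜 f ∧ Proj.basicOpen 𝒜 f ≤ W := by
  classical
  obtain ⟨_, ⟨_, ⟨f₀, rfl⟩, rfl⟩, hyf₀, hf₀W⟩ :=
    (Proj.isBasis_basicOpen 𝒜).exists_subset_of_mem_open hy W.2
  have hyf₀' : y ∈ Proj.basicOpen 𝒜 f₀ := hyf₀
  rw [Proj.basicOpen_eq_iSup_proj] at hyf₀'
  obtain ⟨i, hi⟩ := Opens.mem_iSup.mp hyf₀'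
  obtain ⟨k, hk, a, a_deg, ha⟩ := Groth.Agent.Lib.Helper33.GrModLib.exists_pos_not_mem 𝒜 y
  have hi' : GradedRing.proj 𝒜 i f₀ ∉ y.asHomogeneousIdeal := (Proj.mem_basicOpen 𝒜 _ y).mp hi
  have hdeg : GradedRing.proj 𝒜 i f₀ * a ∈ 𝒜 (i + k) :=
    SetLike.mul_mem_graded (by rw [GradedRing.proj_apply]; exact SetLike.coe_mem _) a_deg
  refine ⟨i + k, by omega, GradedRing.proj 𝒜 i f₀ * a, hdeg, ?_, ?_⟩
  · rw [Proj.mem_basicOpen]
    intro hmem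
    rcases y.isPrime.mem_or_mem hmem with h | h
    · exact hi' h
    · exact ha h
  · refine le_trans ?_ hf₀W
    change Proj.basicOpen 𝒜 (GradedRing.proj 𝒜 i f₀ * a) ≤ Proj.basicOpen 𝒜 f₀
    rw [Proj.basicOpen_mul]
    refine inf_le_left.trans ?_
    rw [Proj.basicOpen_eq_iSup_proj 𝒜 f₀]
    exact le_iSup (fun i => Proj.basicOpen 𝒜 (GradedRing.proj 𝒜 i f₀)) i

/-- values of the structure morphism of `Proj` on sections over any open: `r ↦ r / 1` -/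
theorem appLE_val' {S : Scheme.{u}} (Θ : Proj 𝒜 ⟶ S) (U : S.Opens)
    (hU : IsAffineOpen U) (φ₀ : Γ(S, U) ⟶ CommRingCat.of (𝒜 0))
    (hΘ : Θ = Proj.toSpecZero 𝒜 ≫ Spec.map φ₀ ≫ hU.fromSpec)
    (D : (Proj 𝒜).Opens) (hle : D ≤ Θ ⁻¹ᵁ U) (r : Γ(S, U)) (y : D) :
    ((show OSec 𝒜 D from (Θ.appLE U D hle).hom r).1 y).val =
      Localization.mk ((φ₀.hom r : 𝒜 0) : A) 1 := by
  obtain ⟨d, hd, f, hf, hyf, hfD⟩ := exists_pos_basicOpen 𝒜 D y.1 y.2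
  have h1 := Scheme.Hom.appLE_map Θ hle (homOfLE hfD).op
  have h2 := congrArg (fun φ => φ.hom r) h1
  have h3 := appLE_val 𝒜 hf hd Θ U hU φ₀ hΘ (Proj.basicOpen 𝒜 f) rfl
    ((homOfLE hfD).op.unop.le.trans hle) r ⟨y.1, hyf⟩
  rw [← h3]
  have h4 := congrArg (fun s : Γ(Proj 𝒜, Proj.basicOpen 𝒜 f) =>
    ((show OSec 𝒜 (Proj.basicOpen 𝒜 f) from s).1 ⟨y.1, hyf⟩).val) h2
  exact h4

theorem one_not_mem (y : ProjectiveSpectrum 𝒜) : (1 : A) ∉ y.asHomogeneousIdeal := fun h =>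
  y.isPrime.ne_top ((Ideal.eq_top_iff_one _).2 h)

end ring

section rel

open Groth.Agent.Lib.Helper74.ModSec Groth.Agent.Lib.Helper74.TwistNat
  Groth.Agent.Lib.Helper74.RelGlue Groth.Agent.Lib.Helper74.SymQ RelSpec
  Groth.Agent.Lib.Helper74.RelTilde Groth.Agent.Lib.Helper74.QMap

variable {Y P : Scheme.{u}} {L : Y.Modules} (𝒮 : RelProj.QCGrAlg Y) (j : L ⟶ 𝒮.toModule)
  (hj1 : ∀ (U : Y.Opens) (hU : IsAffineOpen U) (x : Γ(L, U)),
    jLin (A := 𝒮.toQCAlg) j U x ∈ 𝒮.deg U hU 1)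
  {p : P ⟶ Y} {chart : ∀ (U : Y.Opens) (hU : IsAffineOpen U),
    (((p ⁻¹ᵁ U : P.Opens) : Scheme.{u}) ≅ Proj (𝒮.deg U hU))}

/-- the section `j(a) / 1` of `O(1)` on a chart -/
noncomputable def jsec (U : Y.Opens) (hU : IsAffineOpen U) (a : Γ(L, U)) (W' : P.Opens) :
    Γ(GrTwist.twist (𝒮.deg U hU) 1, RelProj.emb p chart U hU ⁻¹ᵁ W') :=
  fracSec (𝒮.deg U hU) (jLin (A := 𝒮.toQCAlg) j U a) (hj1 U hU a) 1 SetLike.GradedOne.one_mem
    (by norm_num) _ (fun y _ => one_not_mem _ y)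

theorem jsec_val (U : Y.Opens) (hU : IsAffineOpen U) (a : Γ(L, U)) (W' : P.Opens)
    (y : (RelProj.emb p chart U hU ⁻¹ᵁ W' : (Proj (𝒮.deg U hU)).Opens)) :
    GrTwist.val (jsec 𝒮 j hj1 (p := p) (chart := chart) U hU a W') y =
      Localization.mk (jLin (A := 𝒮.toQCAlg) j U a)
        (⟨1, one_not_mem _ y.1⟩ : y.1.asHomogeneousIdeal.toIdeal.primeCompl) := rfl

theorem jsec_add (U : Y.Opens) (hU : IsAffineOpen U) (a b : Γ(L, U)) (W' : P.Opens) :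
    jsec 𝒮 j hj1 (p := p) (chart := chart) U hU (a + b) W' =
      jsec 𝒮 j hj1 U hU a W' + jsec 𝒮 j hj1 U hU b W' := by
  refine Groth.Agent.Lib.Helper74.TwistNat.sec_ext _ 1 _ _ fun y => ?_
  rw [add_val, jsec_val, jsec_val, jsec_val, map_add, Localization.add_mk_self]

theorem jsec_rs (U : Y.Opens) (hU : IsAffineOpen U) (a : Γ(L, U)) {W' W'' : P.Opens}
    (h : W'' ≤ W') :
    (GrTwist.twist (𝒮.deg U hU) 1).presheaf.map
      (homOfLE ((Opens.map (RelProj.emb p chart U hU).base).map (homOfLE h)).le).op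
      (jsec 𝒮 j hj1 (p := p) (chart := chart) U hU a W') = jsec 𝒮 j hj1 U hU a W'' := rfl

variable (hP : RelProj.IsRelProj 𝒮 p chart)

include hP in
theorem rho_val (U : Y.Opens) (hU : IsAffineOpen U) (W' : P.Opens) (hW' : W' ≤ p ⁻¹ᵁ U)
    (r : Γ(Y, U)) (y : (RelProj.emb p chart U hU ⁻¹ᵁ W' : (Proj (𝒮.deg U hU)).Opens)) :
    ((show OSec (𝒮.deg U hU) (RelProj.emb p chart U hU ⁻¹ᵁ W') from
      ((RelProj.emb p chart U hU).app W').hom ((p.appLE U W' hW').hom r)).1 y).val =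
      Localization.mk ((𝒮.str.app (op U)).hom r) 1 := by
  have hembdef : RelProj.emb p chart U hU = (chart U hU).inv ≫ (p ⁻¹ᵁ U).ι := rfl
  generalize hemb : RelProj.emb p chart U hU = emb at *
  have hΘ : emb ≫ p = Proj.toSpecZero _ ≫ Spec.map (𝒮.strZero U hU) ≫ hU.fromSpec := by
    rw [hembdef, Category.assoc, ← hP.chart_over U hU, Iso.inv_hom_id_assoc]
  have hle : emb ⁻¹ᵁ W' ≤ (emb ≫ p) ⁻¹ᵁ U := fun z hz => hW' hz
  have h1 := Scheme.Hom.appLE_comp_appLE emb p U W' (emb ⁻¹ᵁ W') hW' le_rfl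
  rw [Scheme.Hom.appLE_eq_app] at h1
  have h2 := congrArg (fun φ => φ.hom r) h1
  have h3 := congrArg (fun s : Γ(Proj (𝒮.deg U hU), emb ⁻¹ᵁ W') =>
      ((show OSec (𝒮.deg U hU) (emb ⁻¹ᵁ W') from s).1 y).val) h2
  exact h3.trans
    (appLE_val' (𝒮.deg U hU) (emb ≫ p) U hU (𝒮.strZero U hU) hΘ _ hle r y)

include hP in
theorem jsec_smul (U : Y.Opens) (hU : IsAffineOpen U) (W' : P.Opens) (hW' : W' ≤ p ⁻¹ᵁ U)
    (r : Γ(Y, U)) (a : Γ(L, U)) :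
    jsec 𝒮 j hj1 (p := p) (chart := chart) U hU (r • a) W' =
      ((RelProj.emb p chart U hU).app W').hom ((p.appLE U W' hW').hom r) •
        jsec 𝒮 j hj1 U hU a W' := by
  refine Groth.Agent.Lib.Helper74.TwistNat.sec_ext _ 1 _ _ fun y => ?_
  rw [Groth.Agent.Lib.Helper74.TwistNat.smul_val, rho_val 𝒮 hP U hU W' hW' r y, jsec_val, jsec_val, Localization.mk_mul, one_mul,
    map_smul, Algebra.smul_def, algebraMap_algSect]

variable {O1 : P.Modules} {lam : ∀ (U : Y.Opens) (hU : IsAffineOpen U), O1 ⟶ GTw p chart 1 U hU}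

/-- `lam` on sections, with values in the native sections of the twisting sheaf -/
noncomputable def lamSec (lam : ∀ (U : Y.Opens) (hU : IsAffineOpen U), O1 ⟶ GTw p chart 1 U hU)
    (U : Y.Opens) (hU : IsAffineOpen U) (W' : P.Opens) (s : Γ(O1, W')) :
    Γ(GrTwist.twist (𝒮.deg U hU) 1, RelProj.emb p chart U hU ⁻¹ᵁ W') := (lam U hU).app W' s

variable (hO : RelProj.IsRelTwist 𝒮 p chart 1 O1 lam)

include hO in
theorem exists_tt (W : Y.Opens) (hW : IsAffineOpen W) (a : Γ(L, W)) :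
    ∃ s : Γ(O1, p ⁻¹ᵁ W), lamSec 𝒮 lam W hW (p ⁻¹ᵁ W) s = jsec 𝒮 j hj1 W hW a (p ⁻¹ᵁ W) :=
  (hO.bijective W hW (p ⁻¹ᵁ W) le_rfl).2 _

/-- the section of `O_P(1)` over `p⁻¹ W` attached to a section of `L` over `W` -/
noncomputable def tt (W : Y.Opens) (hW : IsAffineOpen W) (a : Γ(L, W)) : Γ(O1, p ⁻¹ᵁ W) :=
  (exists_tt 𝒮 j hj1 hO W hW a).choose

theorem tt_spec (W : Y.Opens) (hW : IsAffineOpen W) (a : Γ(L, W)) :
    lamSec 𝒮 lam W hW (p ⁻¹ᵁ W) (tt 𝒮 j hj1 hO W hW a) = jsec 𝒮 j hj1 W hW a (p ⁻¹ᵁ W) :=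
  (exists_tt 𝒮 j hj1 hO W hW a).choose_spec

theorem tt_unique (W : Y.Opens) (hW : IsAffineOpen W) (a : Γ(L, W)) (s : Γ(O1, p ⁻¹ᵁ W))
    (hs : lamSec 𝒮 lam W hW (p ⁻¹ᵁ W) s = jsec 𝒮 j hj1 W hW a (p ⁻¹ᵁ W)) :
    s = tt 𝒮 j hj1 hO W hW a :=
  (hO.bijective W hW (p ⁻¹ᵁ W) le_rfl).1 (hs.trans (tt_spec 𝒮 j hj1 hO W hW a).symm)

/-- `jsec` as a section of the pushed-forward twisting sheaf -/
noncomputable def jsecG (U : Y.Opens) (hU : IsAffineOpen U) (a : Γ(L, U)) (W' : P.Opens) :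
    Γ(GTw p chart 1 U hU, W') := jsec 𝒮 j hj1 U hU a W'

include hP hO in
theorem lamSec_compat {W W' : Y.Opens} (hW : IsAffineOpen W) (hW' : IsAffineOpen W') (i : W' ≤ W)
    (a : Γ(L, W)) (s : Γ(O1, p ⁻¹ᵁ W))
    (hs : lamSec 𝒮 lam W hW (p ⁻¹ᵁ W) s = jsec 𝒮 j hj1 W hW a (p ⁻¹ᵁ W)) :
    lamSec 𝒮 lam W' hW' (p ⁻¹ᵁ W')
        (rs O1 ((Opens.map p.base).map (homOfLE i)).le s) =
      jsec 𝒮 j hj1 W' hW' (rs L i a) (p ⁻¹ᵁ W') := by
  have hG : IsGlued (twistSys hP 1) O1 lam := (isGluedTw_iff hP 1 O1 lam).mpr hO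
  have hle : p ⁻¹ᵁ W' ≤ p ⁻¹ᵁ W := ((Opens.map p.base).map (homOfLE i)).le
  have h1 := hG.compat_le_app hW hW' i (p ⁻¹ᵁ W') (rs O1 hle s)
  have hs' : (lam W hW).app (p ⁻¹ᵁ W) s = jsecG 𝒮 j hj1 W hW a (p ⁻¹ᵁ W) := hs
  have h5 : (lam W hW).app (p ⁻¹ᵁ W') (rs O1 hle s) =
      rs (GTw p chart 1 W hW) hle (jsecG 𝒮 j hj1 W hW a (p ⁻¹ᵁ W)) :=
    (hom_rs (lam W hW) hle s).trans (congrArg (rs (GTw p chart 1 W hW) hle) hs')
  have h6 : ((twistSys hP 1).c hW hW' i).app (p ⁻¹ᵁ W')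
      (rs (GTw p chart 1 W hW) hle (jsecG 𝒮 j hj1 W hW a (p ⁻¹ᵁ W))) =
      jsecG 𝒮 j hj1 W' hW' (rs L i a) (p ⁻¹ᵁ W') := by
    refine Groth.Agent.Lib.Helper74.TwistNat.sec_ext (𝒮.deg W' hW') 1 _ _ fun y => ?_
    refine (cTw_app_val hP 1 hW hW' i (p ⁻¹ᵁ W') _ y).trans ?_
    refine Eq.trans ?_ (jsec_val 𝒮 j hj1 W' hW' (rs L i a) (p ⁻¹ᵁ W') y).symm
    have h3 : GrTwist.val (V := RelProj.emb p chart W hW ⁻¹ᵁ (p ⁻¹ᵁ W'))
        (rs (GTw p chart 1 W hW) hle (jsecG 𝒮 j hj1 W hW a (p ⁻¹ᵁ W)))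
        ⟨ProjectiveSpectrum.comap (𝒮.res hW hW' i) (irrelevant_le_map_res 𝒮 hW hW' i) y.1,
          show _ ∈ p ⁻¹ᵁ W' from (emb_comap hP hW hW' i y.1).symm ▸ y.2⟩ =
        Localization.mk (jLin (A := 𝒮.toQCAlg) j W a) ⟨1, one_not_mem _ _⟩ := rfl
    rw [h3, GrTwist.locMap_mk]
    congr 1
    · exact (jLin_res (A := 𝒮.toQCAlg) j i a).symm
    · exact Subtype.ext (map_one _)
  exact h1.symm.trans ((congrArg (fun σ => ((twistSys hP 1).c hW hW' i).app (p ⁻¹ᵁ W') σ) h5).trans h6)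

include hO in
theorem tt_add (W : Y.Opens) (hW : IsAffineOpen W) (a b : Γ(L, W)) :
    tt 𝒮 j hj1 hO W hW (a + b) = tt 𝒮 j hj1 hO W hW a + tt 𝒮 j hj1 hO W hW b := by
  refine (tt_unique 𝒮 j hj1 hO W hW (a + b) _ ?_).symm
  have h1 : lamSec 𝒮 lam W hW (p ⁻¹ᵁ W) (tt 𝒮 j hj1 hO W hW a + tt 𝒮 j hj1 hO W hW b) =
      lamSec 𝒮 lam W hW (p ⁻¹ᵁ W) (tt 𝒮 j hj1 hO W hW a) +
        lamSec 𝒮 lam W hW (p ⁻¹ᵁ W) (tt 𝒮 j hj1 hO W hW b) :=
    map_add ((lam W hW).app (p ⁻¹ᵁ W)).hom _ _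
  rw [h1, tt_spec, tt_spec, jsec_add]

include hP hO in
theorem tt_smul (W : Y.Opens) (hW : IsAffineOpen W) (r : Γ(Y, W)) (a : Γ(L, W)) :
    tt 𝒮 j hj1 hO W hW (r • a) = (p.app W).hom r • tt 𝒮 j hj1 hO W hW a := by
  refine (tt_unique 𝒮 j hj1 hO W hW (r • a) _ ?_).symm
  have h1 : lamSec 𝒮 lam W hW (p ⁻¹ᵁ W) ((p.app W).hom r • tt 𝒮 j hj1 hO W hW a) =
      ((RelProj.emb p chart W hW).app (p ⁻¹ᵁ W)).hom ((p.app W).hom r) •
        lamSec 𝒮 lam W hW (p ⁻¹ᵁ W) (tt 𝒮 j hj1 hO W hW a) :=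
    Scheme.Modules.Hom.app_smul (lam W hW) ((p.app W).hom r) (tt 𝒮 j hj1 hO W hW a)
  rw [h1, tt_spec, jsec_smul 𝒮 j hj1 hP W hW (p ⁻¹ᵁ W) le_rfl r a, Scheme.Hom.appLE_eq_app]

include hP hO in
/-- **The canonical map** `L ⟶ p_* O_P(1)`. -/
theorem exists_phi :
    ∃ φ : L ⟶ (Scheme.Modules.pushforward p).obj O1,
      ∀ (W : Y.Opens) (hW : IsAffineOpen W) (a : Γ(L, W)),
        φ.app W a = tt 𝒮 j hj1 hO W hW a := by
  refine Groth.Agent.Lib.Helper2.HomGlue.exists_hom (M := L)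
    (N := (Scheme.Modules.pushforward p).obj O1) (good := fun W => IsAffineOpen W)
    (t := fun W hW a => tt 𝒮 j hj1 hO W hW a) ?_ ?_ ?_ ?_
  · intro U x hx
    obtain ⟨_, ⟨W, hW, rfl⟩, hxW, hWU⟩ :=
      (Y.isBasis_affineOpens).exists_subset_of_mem_open hx U.2
    exact ⟨W, hW, hxW, hWU⟩
  · intro W hW a b
    exact tt_add 𝒮 j hj1 hO W hW a b
  · intro W hW r a
    exact tt_smul 𝒮 j hj1 hP hO W hW r a
  · intro W W' hW hW' h a
    exact tt_unique 𝒮 j hj1 hO W' hW' _ _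
      (lamSec_compat 𝒮 j hj1 hP hO hW hW' h a _ (tt_spec 𝒮 j hj1 hO W hW a))

include hP hO in
/-- for `L` free on `e` over the affine open `W` and `p` an isomorphism, `L(W) → O_P(1)(p⁻¹ W)` is bijective -/
theorem tt_bijective [IsIso p]
    (hsym : ∀ (U : Y.Opens) (_ : IsAffineOpen U), IsSymmetricAlgebra (jLin (A := 𝒮.toQCAlg) j U))
    (W : Y.Opens) (hW : IsAffineOpen W) (e : Γ(L, W))
    (he : Function.Bijective (fun r : Γ(Y, W) => r • e)) :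
    Function.Bijective (fun a => tt 𝒮 j hj1 hO W hW a) := by
  have hlam := hO.bijective W hW (p ⁻¹ᵁ W) le_rfl
  have h1 : (fun s => lamSec 𝒮 lam W hW (p ⁻¹ᵁ W) s) ∘ (fun a => tt 𝒮 j hj1 hO W hW a) =
      fun a => jsec 𝒮 j hj1 W hW a (p ⁻¹ᵁ W) := funext (tt_spec 𝒮 j hj1 hO W hW)
  suffices hsuff : Function.Bijective (fun a => jsec 𝒮 j hj1 (p := p) (chart := chart) W hW a (p ⁻¹ᵁ W)) by
    rw [← h1] at hsuff
    exact (Function.Bijective.of_comp_iff' hlam _).mp hsuff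
  have hT1 : jLin (A := 𝒮.toQCAlg) j W e ∈ 𝒮.deg W hW 1 := hj1 W hW e
  have hTy : ∀ y : ProjectiveSpectrum (𝒮.deg W hW),
      jLin (A := 𝒮.toQCAlg) j W e ∉ y.asHomogeneousIdeal := by
    intro y hTy
    apply y.not_irrelevant_le
    have h0 := Groth.Agent.Lib.Helper74.InvSym.irrelevant_le_span_range (𝒮.deg W hW) (hsym W hW)
      (𝒮.str_mem W hW) (hj1 W hW)
    intro z hz
    refine (Ideal.span_le.2 ?_) (h0 hz)
    rintro _ ⟨m, rfl⟩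
    obtain ⟨r, rfl⟩ := he.2 m
    change jLin (A := 𝒮.toQCAlg) j W (r • e) ∈ y.asHomogeneousIdeal.toIdeal
    rw [map_smul, Algebra.smul_def]
    exact Ideal.mul_mem_left _ _ hTy
  have hgen := isGen_fracSec (n := 1) (i := 1) (j := 0) (𝒮.deg W hW)
    (jLin (A := 𝒮.toQCAlg) j W e) hT1 1 SetLike.GradedOne.one_mem (by norm_num)
    (RelProj.emb p chart W hW ⁻¹ᵁ (p ⁻¹ᵁ W)) (fun y _ => one_not_mem _ y) (fun y _ => hTy y)
  have hgen'' : Function.Bijective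
      (fun r' : Γ(Proj (𝒮.deg W hW), RelProj.emb p chart W hW ⁻¹ᵁ (p ⁻¹ᵁ W)) =>
        r' • jsec 𝒮 j hj1 (p := p) (chart := chart) W hW e (p ⁻¹ᵁ W)) := by
    have := hgen _ le_rfl
    rw [Groth.Agent.Lib.Lead.QCohAff.res_self] at this
    exact this
  have hembdef : RelProj.emb p chart W hW = (chart W hW).inv ≫ (p ⁻¹ᵁ W).ι := rfl
  haveI : IsOpenImmersion (RelProj.emb p chart W hW) := by
    rw [hembdef]; infer_instance
  haveI : IsIso ((RelProj.emb p chart W hW).app (p ⁻¹ᵁ W)) :=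
    Scheme.Hom.isIso_app _ _ (opensRange_emb (chart := chart) W hW).ge
  have hρ : Function.Bijective
      (fun r : Γ(Y, W) => ((RelProj.emb p chart W hW).app (p ⁻¹ᵁ W)).hom ((p.app W).hom r)) :=
    (ConcreteCategory.bijective_of_isIso ((RelProj.emb p chart W hW).app (p ⁻¹ᵁ W))).comp
      (ConcreteCategory.bijective_of_isIso (p.app W))
  have h2 : (fun a => jsec 𝒮 j hj1 (p := p) (chart := chart) W hW a (p ⁻¹ᵁ W)) ∘
      (fun r : Γ(Y, W) => r • e) =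
      (fun r' : Γ(Proj (𝒮.deg W hW), RelProj.emb p chart W hW ⁻¹ᵁ (p ⁻¹ᵁ W)) =>
        r' • jsec 𝒮 j hj1 (p := p) (chart := chart) W hW e (p ⁻¹ᵁ W)) ∘
      (fun r : Γ(Y, W) => ((RelProj.emb p chart W hW).app (p ⁻¹ᵁ W)).hom ((p.app W).hom r)) := by
    funext r
    change jsec 𝒮 j hj1 W hW (r • e) (p ⁻¹ᵁ W) = _
    rw [jsec_smul 𝒮 j hj1 hP W hW (p ⁻¹ᵁ W) le_rfl r e, Scheme.Hom.appLE_eq_app]
    rfl
  have h3 := hgen''.comp hρ
  rw [← h2] at h3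
  exact (Function.Bijective.of_comp_iff _ he).mp h3

include hP hO in
/-- For `L` invertible and `P = Proj(Sym L)`: `p : P ⟶ Y` is an isomorphism and `L` is the
inverse image of `O_P(1)` along the inverse of `p`. -/
theorem nonempty_iso_pullback_inv (hL : PicF.IsInvertible L) [L.IsQuasicoherent]
    (hj : RelProj.IsGrSymAlg L 𝒮 j) :
    ∃ (_ : IsIso p), Nonempty (L ≅ (Scheme.Modules.pullback (inv p)).obj O1) := by
  haveI hiso : IsIso p := Groth.Agent.Lib.Helper74.InvSym.isIso_pL hj hL hP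
  refine ⟨hiso, ?_⟩
  have hsym : ∀ (U : Y.Opens) (_ : IsAffineOpen U),
      IsSymmetricAlgebra (jLin (A := 𝒮.toQCAlg) j U) :=
    fun U hU => isSymmetricAlgebra_of_isSymAlg hj.1 U hU
  have hj1 : ∀ (U : Y.Opens) (hU : IsAffineOpen U) (x : Γ(L, U)),
      jLin (A := 𝒮.toQCAlg) j U x ∈ 𝒮.deg U hU 1 := fun U hU x => hj.2 U hU x
  obtain ⟨φ, hφ⟩ := exists_phi 𝒮 j hj1 hP hO
  let B : Set Y.Opens := {W | IsAffineOpen W ∧
    ∃ e : Γ(L, W), Function.Bijective (fun r : Γ(Y, W) => r • e)}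
  have hB : Opens.IsBasis B := by
    rw [Opens.isBasis_iff_nbhd]
    intro U x hx
    obtain ⟨V, hxV, e, he⟩ := Groth.Agent.Lib.Helper35.Gen.exists_isGen_of_isInvertible hL x
    obtain ⟨W, hW, hxW, hWle⟩ :=
      exists_isAffineOpen_mem_and_subset (x := x) (U := U ⊓ V) ⟨hx, hxV⟩
    exact ⟨W, ⟨hW, _, (he.mono (hWle.trans inf_le_right)).bij⟩, hxW, hWle.trans inf_le_left⟩
  haveI : IsIso φ := by
    refine Groth.Agent.Lib.Helper40.AffBC.isIso_of_app_bijective_of_basis B hB φ ?_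
    rintro W ⟨hW, e, he⟩
    have hb := tt_bijective 𝒮 j hj1 hP hO hsym W hW e he
    have hfun : (fun a => φ.app W a) = fun a => tt 𝒮 j hj1 hO W hW a := funext (hφ W hW)
    rw [← hfun] at hb
    exact hb
  let N := (Scheme.Modules.pullback (inv p)).obj O1
  haveI : IsIso ((Scheme.Modules.pullbackPushforwardAdjunction (inv p)).unit.app O1) :=
    Groth.Agent.Lib.Helper48.PrZero.isIso_unit_app (inv p) O1
  exact ⟨asIso φ ≪≫
    (Scheme.Modules.pushforward p).mapIso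
      (asIso ((Scheme.Modules.pullbackPushforwardAdjunction (inv p)).unit.app O1)) ≪≫
    (Scheme.Modules.pushforwardComp (inv p) p).app N ≪≫
    (Scheme.Modules.pushforwardCongr (IsIso.inv_hom_id p)).app N ≪≫
    (Scheme.Modules.pushforwardId Y).app N⟩

end rel

end Groth.Agent.Lib.Helper35.GS
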