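import Groth.Agent.Lib.Helper35.GenLocus
import Groth.Agent.Lib.Helper60.TensorMod
import Groth.Prelude.Def_SecTwist

/-!
# Local generators of modules and sections of tensor products
-/

universe u

open CategoryTheory AlgebraicGeometry TopologicalSpace Opposite TensorProduct

namespace Groth.Agent.Lib.Helper35.Gen

open Groth.Agent.Lib.Helper35.AbSheaf

section top
variable {T : TopCat.{u}}

theorem locInj_of_isLocallyInjective {P Q : TopCat.Presheaf AddCommGrpCat.{u} T} (φ : P ⟶ Q)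
    [Presheaf.IsLocallyInjective (Opens.grothendieckTopology T) φ] (U : Opens T)
    (p q : P.obj (op U)) (h : (φ.app (op U)).hom p = (φ.app (op U)).hom q) (z : T) (hz : z ∈ U) :
    ∃ (W : Opens T) (hW : W ≤ U), z ∈ W ∧ res P hW p = res P hW q := by
  have h1 := Presheaf.equalizerSieve_mem (Opens.grothendieckTopology T) φ p q h
  obtain ⟨W, f, hf, hzW⟩ := h1 z hz
  refine ⟨W, f.le, hzW, ?_⟩
  rw [Presheaf.equalizerSieve_apply] at hf
  rw [← map_eq_res P f, ← map_eq_res P f]
  exact hf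

theorem locSurj_of_isLocallySurjective {P Q : TopCat.Presheaf AddCommGrpCat.{u} T} (φ : P ⟶ Q)
    [Presheaf.IsLocallySurjective (Opens.grothendieckTopology T) φ] (U : Opens T)
    (t : Q.obj (op U)) (z : T) (hz : z ∈ U) :
    ∃ (W : Opens T) (hW : W ≤ U), z ∈ W ∧ ∃ p : P.obj (op W), (φ.app (op W)).hom p = res Q hW t := by
  have h1 := (TopCat.Presheaf.isLocallySurjective_iff φ).mp ‹_› U t z hz
  obtain ⟨W, hW, ⟨p, hp⟩, hzW⟩ := h1
  exact ⟨W, hW, hzW, p, hp⟩

theorem bijective_comp_of_local {A P Q : TopCat.Presheaf AddCommGrpCat.{u} T} (hA : A.IsSheaf)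
    (hQ : Q.IsSheaf) (η : P ⟶ Q)
    [Presheaf.IsLocallyInjective (Opens.grothendieckTopology T) η]
    [Presheaf.IsLocallySurjective (Opens.grothendieckTopology T) η] (U : Opens T)
    (ψ : ∀ W : Opens T, W ≤ U → A.obj (op W) → P.obj (op W))
    (hψ : ∀ W hW, Function.Bijective (ψ W hW))
    (hψres : ∀ (W W' : Opens T) (hW : W ≤ U) (h : W' ≤ W) (a : A.obj (op W)),
      res P h (ψ W hW a) = ψ W' (h.trans hW) (res A h a))
    (W : Opens T) (hW : W ≤ U) :
    Function.Bijective (fun a : A.obj (op W) => (η.app (op W)).hom (ψ W hW a)) := by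
  have hres : ∀ (W W' : Opens T) (hW : W ≤ U) (h : W' ≤ W) (a : A.obj (op W)),
      res Q h ((η.app (op W)).hom (ψ W hW a)) =
        (η.app (op W')).hom (ψ W' (h.trans hW) (res A h a)) := by
    intro W W' hW h a
    rw [← nat_res, hψres]
  have hinj : ∀ (W : Opens T) (hW : W ≤ U),
      Function.Injective (fun a : A.obj (op W) => (η.app (op W)).hom (ψ W hW a)) := by
    intro W hW a b hab
    have hloc : ∀ z : W, ∃ (W' : Opens T) (h : W' ≤ W), z.1 ∈ W' ∧ res A h a = res A h b := by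
      intro z
      obtain ⟨W', h, hz, heq⟩ := locInj_of_isLocallyInjective η W _ _ hab z.1 z.2
      refine ⟨W', h, hz, ?_⟩
      rw [hψres, hψres] at heq
      exact (hψ W' (h.trans hW)).1 heq
    choose W' h hz heq using hloc
    refine ext_cover A hA W' h ?_ a b heq
    intro z hzW
    exact Opens.mem_iSup.mpr ⟨⟨z, hzW⟩, hz ⟨z, hzW⟩⟩
  refine ⟨hinj W hW, ?_⟩
  intro t
  have hloc : ∀ z : W, ∃ (W' : Opens T) (h : W' ≤ W), z.1 ∈ W' ∧
      ∃ a : A.obj (op W'), (η.app (op W')).hom (ψ W' (h.trans hW) a) = res Q h t := by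
    intro z
    obtain ⟨W', h, hz, p, hp⟩ := locSurj_of_isLocallySurjective η W t z.1 z.2
    obtain ⟨a, ha⟩ := (hψ W' (h.trans hW)).2 p
    exact ⟨W', h, hz, a, by rw [ha]; exact hp⟩
  choose W' h hz a ha using hloc
  have hcov : W ≤ iSup W' := by
    intro z hzW
    exact Opens.mem_iSup.mpr ⟨⟨z, hzW⟩, hz ⟨z, hzW⟩⟩
  obtain ⟨g, hg⟩ := glue' A hA W' h hcov a (by
    intro i j
    apply hinj (W' i ⊓ W' j) (inf_le_left.trans ((h i).trans hW))
    change (η.app _).hom (ψ _ _ (res A _ (a i))) = (η.app _).hom (ψ _ _ (res A _ (a j)))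
    rw [← hres _ _ ((h i).trans hW), ← hres _ _ ((h j).trans hW), ha, ha, res_res, res_res])
  refine ⟨g, ?_⟩
  refine ext_cover Q hQ W' h hcov _ _ (fun i => ?_)
  change res Q (h i) ((η.app (op W)).hom (ψ W hW g)) = _
  rw [hres, hg, ha]

end top

variable {X : Scheme.{u}}

/-- restriction of functions -/
noncomputable def rr (X : Scheme.{u}) {U V : X.Opens} (h : V ≤ U) : Γ(X, U) →+* Γ(X, V) :=
  (X.presheaf.map (homOfLE h).op).hom

/-- restriction of sections of a module -/
noncomputable def rs (M : X.Modules) {U V : X.Opens} (h : V ≤ U) : Γ(M, U) →+ Γ(M, V) :=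
  res M.presheaf h

lemma rs_rs (M : X.Modules) {U V W : X.Opens} (h₁ : V ≤ U) (h₂ : W ≤ V) (m : Γ(M, U)) :
    rs M h₂ (rs M h₁ m) = rs M (h₂.trans h₁) m := res_res _ _ _ _

lemma rs_self (M : X.Modules) {U : X.Opens} (m : Γ(M, U)) : rs M le_rfl m = m := res_self _ _

lemma rr_rr {U V W : X.Opens} (h₁ : V ≤ U) (h₂ : W ≤ V) (r : Γ(X, U)) :
    rr X h₂ (rr X h₁ r) = rr X (h₂.trans h₁) r := by
  change (X.presheaf.map (homOfLE h₁).op ≫ X.presheaf.map (homOfLE h₂).op).hom r = _
  rw [← X.presheaf.map_comp]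
  rfl

lemma rr_self {U : X.Opens} (r : Γ(X, U)) : rr X le_rfl r = r := by
  change (X.presheaf.map (𝟙 _)).hom r = r
  rw [X.presheaf.map_id]
  rfl

lemma rs_smul (M : X.Modules) {U V : X.Opens} (h : V ≤ U) (r : Γ(X, U)) (m : Γ(M, U)) :
    rs M h (r • m) = rr X h r • rs M h m :=
  Scheme.Modules.map_smul M (homOfLE h) r m

/-- the section `m ⊗ n` -/
noncomputable def tm (M N : X.Modules) {U : X.Opens} (m : Γ(M, U)) (n : Γ(N, U)) :
    Γ(CohB1.tensorMod M N, U) :=
  SecTwist.tmul M N U m n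

lemma rs_tm (M N : X.Modules) {U V : X.Opens} (h : V ≤ U) (m : Γ(M, U)) (n : Γ(N, U)) :
    rs _ h (tm M N m n) = tm M N (rs M h m) (rs N h n) :=
  SecTwist.map_tmul M N (homOfLE h) m n

lemma tm_smul_left (M N : X.Modules) {U : X.Opens} (r : Γ(X, U)) (m : Γ(M, U)) (n : Γ(N, U)) :
    tm M N (r • m) n = r • tm M N m n :=
  ((SecTwist.toTensor M N).app (op U)).hom.map_smul r (m ⊗ₜ n)

lemma tm_smul_right (M N : X.Modules) {U : X.Opens} (r : Γ(X, U)) (m : Γ(M, U)) (n : Γ(N, U)) :
    tm M N m (r • n) = r • tm M N m n := by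
  have h := ((SecTwist.toTensor M N).app (op U)).hom.map_smul r (m ⊗ₜ n)
  have h2 := TensorProduct.tmul_smul (R := ↑((X.sheaf.obj ⋙ forget₂ CommRingCat RingCat).obj (op U)))
    (M := ↑((CohB1.toPMod M).obj (op U))) (N := ↑((CohB1.toPMod N).obj (op U)))
    (show ↑((X.sheaf.obj ⋙ forget₂ CommRingCat RingCat).obj (op U)) from r) m n
  unfold tm SecTwist.tmul
  refine Eq.trans ?_ h
  exact congrArg _ h2

lemma tm_add_left (M N : X.Modules) {U : X.Opens} (m m' : Γ(M, U)) (n : Γ(N, U)) :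
    tm M N (m + m') n = tm M N m n + tm M N m' n := by
  have h2 := TensorProduct.add_tmul (R := ↑((X.sheaf.obj ⋙ forget₂ CommRingCat RingCat).obj (op U)))
    (M := ↑((CohB1.toPMod M).obj (op U))) (N := ↑((CohB1.toPMod N).obj (op U))) m m' n
  unfold tm SecTwist.tmul
  refine Eq.trans (congrArg _ h2) ?_
  exact ((SecTwist.toTensor M N).app (op U)).hom.map_add _ _

lemma tm_add_right (M N : X.Modules) {U : X.Opens} (m : Γ(M, U)) (n n' : Γ(N, U)) :
    tm M N m (n + n') = tm M N m n + tm M N m n' := by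
  have h2 := TensorProduct.tmul_add (R := ↑((X.sheaf.obj ⋙ forget₂ CommRingCat RingCat).obj (op U)))
    (M := ↑((CohB1.toPMod M).obj (op U))) (N := ↑((CohB1.toPMod N).obj (op U))) m n n'
  unfold tm SecTwist.tmul
  refine Eq.trans (congrArg _ h2) ?_
  exact ((SecTwist.toTensor M N).app (op U)).hom.map_add _ _


theorem tmul_right_bijective_alg {R A B : Type*} [CommRing R] [AddCommGroup A] [Module R A]
    [AddCommGroup B] [Module R B] (e : B) (he : Function.Bijective (fun r : R => r • e)) :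
    Function.Bijective (fun a : A => a ⊗ₜ[R] e) := by
  let φ : R ≃ₗ[R] B := LinearEquiv.ofBijective (LinearMap.toSpanSingleton R B e) he
  let Ψ : A ≃ₗ[R] A ⊗[R] B :=
    (TensorProduct.rid R A).symm ≪≫ₗ TensorProduct.congr (LinearEquiv.refl R A) φ
  have : (fun a : A => a ⊗ₜ[R] e) = Ψ := by
    funext a
    have h1 : φ 1 = e := by
      change (1 : R) • e = e
      exact one_smul _ _
    change a ⊗ₜ[R] e = a ⊗ₜ[R] (φ 1)
    rw [h1]
  rw [this]
  exact Ψ.bijective

/-- `e` generates `L` over `U` -/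
def IsGen (L : X.Modules) (U : X.Opens) (e : Γ(L, U)) : Prop :=
  ∀ (W : X.Opens) (hW : W ≤ U), Function.Bijective (fun r : Γ(X, W) => r • rs L hW e)

theorem tm_right_bijective (M N : X.Modules) {U : X.Opens} (e : Γ(N, U)) (he : IsGen N U e)
    (W : X.Opens) (hW : W ≤ U) :
    Function.Bijective (fun m : Γ(M, W) => tm M N m (rs N hW e)) := by
  let P : X.PresheafOfModules := CohB1.tensorPre M N
  let η : P.presheaf ⟶ (CohB1.tensorMod M N).presheaf :=
    (PresheafOfModules.toPresheaf _).map (SecTwist.toTensor M N)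
  haveI : Presheaf.IsLocallyInjective (Opens.grothendieckTopology X) η := by
    change Presheaf.IsLocallyInjective (Opens.grothendieckTopology X)
      (CategoryTheory.toSheafify (Opens.grothendieckTopology X) P.presheaf)
    infer_instance
  haveI : Presheaf.IsLocallySurjective (Opens.grothendieckTopology X) η := by
    change Presheaf.IsLocallySurjective (Opens.grothendieckTopology X)
      (CategoryTheory.toSheafify (Opens.grothendieckTopology X) P.presheaf)
    infer_instance
  refine bijective_comp_of_local (A := M.presheaf) M.isSheaf (CohB1.tensorMod M N).isSheaf η U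
    (fun W hW m => (TensorProduct.tmul ↑((X.sheaf.obj ⋙ forget₂ CommRingCat RingCat).obj (op W))
      (show ↑((CohB1.toPMod M).obj (op W)) from m) (show ↑((CohB1.toPMod N).obj (op W)) from rs N hW e))) ?_ ?_ W hW
  · intro W hW
    exact tmul_right_bijective_alg (R := ↑((X.sheaf.obj ⋙ forget₂ CommRingCat RingCat).obj (op W)))
      (A := ↑((CohB1.toPMod M).obj (op W))) (B := ↑((CohB1.toPMod N).obj (op W))) _ (he W hW)
  · intro W W' hW h a
    have h1 : rs N (h.trans hW) e = rs N h (rs N hW e) := (rs_rs N hW h e).symm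
    rw [h1]
    rfl


end Groth.Agent.Lib.Helper35.Gen
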