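import Groth.Agent.Lib.Helper35.Gen3
import Groth.Agent.Lib.Helper35.Cocycle

/-!
# Finite affine covers with generators of an invertible module, and the associated cocycle data
-/

universe u

open CategoryTheory AlgebraicGeometry TopologicalSpace Opposite

namespace Groth.Agent.Lib.Helper35.Gen

open Groth.Agent.Lib.Helper35.AbSheaf Groth.Agent.Lib.Helper35.QcohSec
open Groth.Agent.Lib.Helper35.Cocycle

variable {X : Scheme.{u}}

/-- a finite affine cover with generators of `L` and the transition functions -/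
structure GenCover (L : X.Modules) where
  ι : Type u
  fin : Finite ι
  V : ι → X.Opens
  hV : ∀ i, IsAffineOpen (V i)
  cover : ∀ x : X, ∃ i, x ∈ V i
  e : ∀ i, Γ(L, V i)
  he : ∀ i, IsGen L (V i) (e i)
  u : ∀ i j, Γ(X, V i ⊓ V j)
  hu : ∀ i j, rs L (inf_le_right : V i ⊓ V j ≤ V j) (e j) =
    u i j • rs L (inf_le_left : V i ⊓ V j ≤ V i) (e i)

theorem exists_genCover [CompactSpace X] {L : X.Modules} (hL : PicF.IsInvertible L) :
    Nonempty (GenCover L) := by
  have h1 : ∀ x : X, ∃ V : X.Opens, IsAffineOpen V ∧ x ∈ V ∧ ∃ e : Γ(L, V), IsGen L V e := by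
    intro x
    obtain ⟨U, hxU, e, he⟩ := exists_isGen_of_isInvertible hL x
    obtain ⟨V, hV, hxV, hVU⟩ := exists_isAffineOpen_mem_and_subset (x := x) (U := U) hxU
    exact ⟨V, hV, hxV, rs L hVU e, he.mono hVU⟩
  choose V hV hxV e he using h1
  obtain ⟨t, ht⟩ := CompactSpace.elim_nhds_subcover (fun x => (V x : Set X))
    (fun x => (V x).isOpen.mem_nhds (hxV x))
  have hu : ∀ i j : t, ∃ u : Γ(X, V i.1 ⊓ V j.1),
      rs L (inf_le_right : V i.1 ⊓ V j.1 ≤ V j.1) (e j.1) =
        u • rs L (inf_le_left : V i.1 ⊓ V j.1 ≤ V i.1) (e i.1) :=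
    fun i j => ((he i.1).mono inf_le_left).exists_eq_smul _
  choose u hu using hu
  refine ⟨⟨t, inferInstance, fun i => V i.1, fun i => hV i.1, ?_, fun i => e i.1,
    fun i => he i.1, u, hu⟩⟩
  intro x
  have hx : x ∈ ⋃ y ∈ t, (V y : Set X) := by
    rw [ht]
    trivial
  simp only [Set.mem_iUnion] at hx
  obtain ⟨y, hy, hxy⟩ := hx
  exact ⟨⟨y, hy⟩, hxy⟩

variable {L : X.Modules}

theorem gpow_smul' {U : X.Opens} (a : Γ(X, U)) (e : Γ(L, U)) (n : ℕ) :
    gpow (a • e) n = a ^ n • gpow e n := gpow_smul a e n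

/-- the induced cover for a tensor power -/
noncomputable def GenCover.pow (C : GenCover L) (p : ℕ) : GenCover (CohB1.tensorPow L p) where
  ι := C.ι
  fin := C.fin
  V := C.V
  hV := C.hV
  cover := C.cover
  e := fun i => gpow (C.e i) p
  he := fun i => (C.he i).gpow p
  u := fun i j => C.u i j ^ p
  hu := fun i j => by
    rw [rs_gpow, rs_gpow, C.hu i j, gpow_smul]

theorem GenCover.exists_c (C : GenCover L) (s : Coh.structureModule X ⟶ L) (i : C.ι) :
    ∃ c : Γ(X, C.V i), SecTwist.val s (C.V i) = c • C.e i :=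
  (C.he i).exists_eq_smul _

/-- the local equations of a section -/
noncomputable def GenCover.c (C : GenCover L) (s : Coh.structureModule X ⟶ L) (i : C.ι) :
    Γ(X, C.V i) := (C.exists_c s i).choose

theorem GenCover.c_spec (C : GenCover L) (s : Coh.structureModule X ⟶ L) (i : C.ι) :
    SecTwist.val s (C.V i) = C.c s i • C.e i := (C.exists_c s i).choose_spec

theorem GenCover.val_eq (C : GenCover L) (s : Coh.structureModule X ⟶ L) (i : C.ι)
    (W : X.Opens) (hW : W ≤ C.V i) :
    SecTwist.val s W = rr X hW (C.c s i) • rs L hW (C.e i) := by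
  rw [← rs_val s hW, C.c_spec s i, rs_smul]

/-- the cocycle data attached to a section -/
noncomputable def GenCover.data (C : GenCover L) (s : Coh.structureModule X ⟶ L) : Data X where
  ι := C.ι
  fin := C.fin
  V := C.V
  hV := C.hV
  cover := C.cover
  c := C.c s
  u := C.u
  hcu := fun i j => by
    have h1 := C.val_eq s i (C.V i ⊓ C.V j) inf_le_left
    have h2 := C.val_eq s j (C.V i ⊓ C.V j) inf_le_right
    rw [h1, C.hu i j, ← mul_smul] at h2
    have h3 := ((C.he i).mono (inf_le_left : C.V i ⊓ C.V j ≤ C.V i)).smul_injective h2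
    rw [h3, mul_comm]
  U := CohB1.genLocus L s
  hU := fun i => by
    rw [← genLocus_inf_eq_basicOpen s (C.he i) (C.c s i) (C.c_spec s i)]

end Groth.Agent.Lib.Helper35.Gen
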