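import Mathlib.Topology.Sheaves.Sheaf
import Mathlib.Topology.Sheaves.SheafCondition.UniqueGluing
import Mathlib.Algebra.Category.Grp.Basic
import Mathlib.Algebra.Category.Grp.Limits
import Mathlib.Order.Zorn

set_option autoImplicit false
universe u

namespace Groth.Agent.Lib.Helper35.GrpSheaf

open CategoryTheory TopologicalSpace Opposite

variable {X : TopCat.{u}}

def res (P : TopCat.Presheaf GrpCat.{u} X) {U V : Opens X} (h : V ≤ U) :
    P.obj (op U) →* P.obj (op V) := (P.map (homOfLE h).op).hom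

lemma res_res (P : TopCat.Presheaf GrpCat.{u} X) {U V W : Opens X} (h₁ : V ≤ U) (h₂ : W ≤ V)
    (s : P.obj (op U)) : res P h₂ (res P h₁ s) = res P (h₂.trans h₁) s := by
  change (P.map (homOfLE h₁).op ≫ P.map (homOfLE h₂).op).hom s = _
  rw [← P.map_comp, ← op_comp, homOfLE_comp]
  rfl

lemma res_self (P : TopCat.Presheaf GrpCat.{u} X) {U : Opens X} (s : P.obj (op U)) :
    res P (le_refl U) s = s := by
  change (P.map (homOfLE (le_refl U)).op).hom s = s
  have : (homOfLE (le_refl U)).op = 𝟙 (op U) := rfl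
  rw [this, P.map_id]
  rfl

lemma map_eq_res (P : TopCat.Presheaf GrpCat.{u} X) {U V : Opens X} (i : V ⟶ U)
    (s : P.obj (op U)) : (P.map i.op).hom s = res P i.le s := by
  have : i = homOfLE i.le := Subsingleton.elim _ _
  rw [this]
  rfl

lemma nat_res {P Q : TopCat.Presheaf GrpCat.{u} X} (β : P ⟶ Q) {U V : Opens X} (h : V ≤ U)
    (s : P.obj (op U)) : (β.app (op V)).hom (res P h s) = res Q h ((β.app (op U)).hom s) := by
  have := congrArg (fun φ => φ.hom s) (β.naturality (homOfLE h).op)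
  exact this

lemma glue (P : TopCat.Presheaf GrpCat.{u} X) (hP : P.IsSheaf) {ι : Type u} (V : ι → Opens X)
    (g : ∀ i, P.obj (op (V i)))
    (compat : ∀ i j, res P (inf_le_left : V i ⊓ V j ≤ V i) (g i) =
      res P (inf_le_right : V i ⊓ V j ≤ V j) (g j)) :
    ∃ s : P.obj (op (iSup V)), ∀ i, res P (le_iSup V i) s = g i := by
  obtain ⟨s, hs, -⟩ := TopCat.Sheaf.existsUnique_gluing (⟨P, hP⟩ : TopCat.Sheaf GrpCat.{u} X) V g
    (by
      intro i j
      change (P.map _).hom (g i) = (P.map _).hom (g j)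
      rw [map_eq_res, map_eq_res]
      exact compat i j)
  refine ⟨s, fun i => ?_⟩
  have := hs i
  change (P.map _).hom s = g i at this
  rw [map_eq_res] at this
  exact this

lemma ext_cover (P : TopCat.Presheaf GrpCat.{u} X) (hP : P.IsSheaf) {ι : Type u} (V : ι → Opens X)
    {W : Opens X} (hV : ∀ i, V i ≤ W) (hW : W ≤ iSup V) (s t : P.obj (op W))
    (h : ∀ i, res P (hV i) s = res P (hV i) t) : s = t := by
  refine TopCat.Sheaf.eq_of_locally_eq' (⟨P, hP⟩ : TopCat.Sheaf GrpCat.{u} X) V W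
    (fun i => homOfLE (hV i)) hW s t (fun i => ?_)
  exact h i

lemma glue' (P : TopCat.Presheaf GrpCat.{u} X) (hP : P.IsSheaf) {ι : Type u} (V : ι → Opens X)
    {W : Opens X} (hV : ∀ i, V i ≤ W) (hW : W ≤ iSup V)
    (g : ∀ i, P.obj (op (V i)))
    (compat : ∀ i j, res P (inf_le_left : V i ⊓ V j ≤ V i) (g i) =
      res P (inf_le_right : V i ⊓ V j ≤ V j) (g j)) :
    ∃ s : P.obj (op W), ∀ i, res P (hV i) s = g i := by
  obtain ⟨s, hs⟩ := glue P hP V g compat
  refine ⟨res P hW s, fun i => ?_⟩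
  rw [res_res]
  exact hs i

def pairV (V W : Opens X) : ULift.{u} Bool → Opens X
  | ⟨true⟩ => V
  | ⟨false⟩ => W

def pairG (P : TopCat.Presheaf GrpCat.{u} X) {V W : Opens X} (g : P.obj (op V))
    (g' : P.obj (op W)) : ∀ b : ULift.{u} Bool, P.obj (op (pairV V W b))
  | ⟨true⟩ => g
  | ⟨false⟩ => g'

lemma pairV_le (V W : Opens X) : ∀ b, pairV V W b ≤ V ⊔ W
  | ⟨true⟩ => le_sup_left
  | ⟨false⟩ => le_sup_right

lemma le_iSup_pairV (V W : Opens X) : V ⊔ W ≤ iSup (pairV V W) :=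
  sup_le (le_iSup (pairV V W) ⟨true⟩) (le_iSup (pairV V W) ⟨false⟩)

lemma glue₂ (P : TopCat.Presheaf GrpCat.{u} X) (hP : P.IsSheaf) {V W : Opens X}
    (g : P.obj (op V)) (g' : P.obj (op W))
    (h : res P (inf_le_left : V ⊓ W ≤ V) g = res P (inf_le_right : V ⊓ W ≤ W) g') :
    ∃ s : P.obj (op (V ⊔ W)), res P le_sup_left s = g ∧ res P le_sup_right s = g' := by
  obtain ⟨s, hs⟩ := glue' P hP (pairV V W) (pairV_le V W) (le_iSup_pairV V W) (pairG P g g') (by
    rintro ⟨_ | _⟩ ⟨_ | _⟩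
    · rfl
    · change res P (inf_le_left : W ⊓ V ≤ W) g' = res P (inf_le_right : W ⊓ V ≤ V) g
      have e1 : res P (inf_le_left : W ⊓ V ≤ W) g' =
          res P (le_of_eq (inf_comm W V) : W ⊓ V ≤ V ⊓ W) (res P (inf_le_right : V ⊓ W ≤ W) g') := by
        rw [res_res]
      have e2 : res P (inf_le_right : W ⊓ V ≤ V) g =
          res P (le_of_eq (inf_comm W V) : W ⊓ V ≤ V ⊓ W) (res P (inf_le_left : V ⊓ W ≤ V) g) := by
        rw [res_res]
      rw [e1, e2, h]
    · exact h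
    · rfl)
  exact ⟨s, hs ⟨true⟩, hs ⟨false⟩⟩

lemma ext₂ (P : TopCat.Presheaf GrpCat.{u} X) (hP : P.IsSheaf) {V W : Opens X}
    (s t : P.obj (op (V ⊔ W))) (h₁ : res P le_sup_left s = res P le_sup_left t)
    (h₂ : res P le_sup_right s = res P le_sup_right t) : s = t := by
  refine ext_cover P hP (pairV V W) (pairV_le V W) (le_iSup_pairV V W) s t ?_
  rintro ⟨_ | _⟩
  · exact h₂
  · exact h₁

section Flasque

variable (F G H : TopCat.Presheaf GrpCat.{u} X) (α : F ⟶ G) (β : G ⟶ H)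

structure Pt {U : Opens X} (s : H.obj (op U)) where
  V : Opens X
  le : V ≤ U
  g : G.obj (op V)
  hg : (β.app (op V)).hom g = res H le s

variable {G H β}

def Pt.r {U : Opens X} {s : H.obj (op U)} (p q : Pt G H β s) : Prop :=
  ∃ h : p.V ≤ q.V, res G h q.g = p.g

lemma Pt.r_trans {U : Opens X} {s : H.obj (op U)} {p q t : Pt G H β s}
    (h₁ : p.r q) (h₂ : q.r t) : p.r t := by
  obtain ⟨h1, e1⟩ := h₁
  obtain ⟨h2, e2⟩ := h₂
  exact ⟨h1.trans h2, by rw [← res_res G h2 h1, e2, e1]⟩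

lemma Pt.chain_bdd (hG : G.IsSheaf) (hH : H.IsSheaf) {U : Opens X} {s : H.obj (op U)}
    (c : Set (Pt G H β s)) (hc : IsChain Pt.r c) : ∃ ub, ∀ a ∈ c, Pt.r a ub := by
  let V : ↥c → Opens X := fun i => i.1.V
  let g : ∀ i : ↥c, G.obj (op (V i)) := fun i => i.1.g
  have key : ∀ (p q : Pt G H β s), p.r q →
      res G (inf_le_left : p.V ⊓ q.V ≤ p.V) p.g = res G (inf_le_right : p.V ⊓ q.V ≤ q.V) q.g := by
    rintro p q ⟨h, e⟩
    rw [← e, res_res]
  have compat : ∀ i j, res G (inf_le_left : V i ⊓ V j ≤ V i) (g i) =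
      res G (inf_le_right : V i ⊓ V j ≤ V j) (g j) := by
    intro i j
    by_cases hij : i.1 = j.1
    · have : i = j := Subtype.ext hij
      subst this
      rfl
    · rcases hc i.2 j.2 hij with h | h
      · exact key _ _ h
      · have := key _ _ h
        have e1 : res G (inf_le_left : V i ⊓ V j ≤ V i) (g i) =
            res G (le_of_eq (inf_comm (V i) (V j)) : V i ⊓ V j ≤ V j ⊓ V i)
              (res G (inf_le_right : V j ⊓ V i ≤ V i) (g i)) := by
          rw [res_res]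
        have e2 : res G (inf_le_right : V i ⊓ V j ≤ V j) (g j) =
            res G (le_of_eq (inf_comm (V i) (V j)) : V i ⊓ V j ≤ V j ⊓ V i)
              (res G (inf_le_left : V j ⊓ V i ≤ V j) (g j)) := by
          rw [res_res]
        rw [e1, e2]
        exact congrArg _ this.symm
  obtain ⟨t, ht⟩ := glue G hG V g compat
  have hle : iSup V ≤ U := iSup_le fun i => i.1.le
  refine ⟨⟨iSup V, hle, t, ?_⟩, fun a ha => ⟨le_iSup V ⟨a, ha⟩, ht ⟨a, ha⟩⟩⟩
  refine ext_cover H hH V (le_iSup V) le_rfl _ _ fun i => ?_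
  rw [← nat_res, ht, res_res]
  exact i.1.hg

variable {F} {α}

lemma surj_of_flasque (hG : G.IsSheaf) (hH : H.IsSheaf)
    (hex : ∀ (U : Opens X) (g : G.obj (op U)),
      (β.app (op U)).hom g = 1 ↔ g ∈ Set.range (α.app (op U)).hom)
    (hβ : ∀ (U : Opens X) (s : H.obj (op U)) (x : X), x ∈ U →
      ∃ (V : Opens X) (hV : V ≤ U), x ∈ V ∧ ∃ g : G.obj (op V),
        (β.app (op V)).hom g = res H hV s)
    (hfl : ∀ (U V : Opens X) (hUV : V ≤ U), Function.Surjective (res F hUV))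
    (U : Opens X) : Function.Surjective (β.app (op U)).hom := by
  intro s
  obtain ⟨m, hm⟩ := exists_maximal_of_chains_bounded (Pt.chain_bdd (β := β) (s := s) hG hH)
    (fun h₁ h₂ => Pt.r_trans h₁ h₂)
  have hmU : m.V = U := by
    by_contra hne
    have hnle : ¬ U ≤ m.V := fun h => hne (le_antisymm m.le h)
    obtain ⟨x, hxU, hxV⟩ := SetLike.not_le_iff_exists.mp hnle
    obtain ⟨W, hW, hxW, g', hg'⟩ := hβ U s x hxU
    let g₁ := res G (inf_le_left : m.V ⊓ W ≤ m.V) m.g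
    let g₂ := res G (inf_le_right : m.V ⊓ W ≤ W) g'
    have h1 : (β.app (op (m.V ⊓ W))).hom (g₂⁻¹ * g₁) = 1 := by
      rw [map_mul, map_inv, nat_res, nat_res, hg', m.hg, res_res, res_res, inv_mul_cancel]
    obtain ⟨a, ha⟩ := (hex _ _).mp h1
    obtain ⟨a', ha'⟩ := hfl W (m.V ⊓ W) inf_le_right a
    let g'' := g' * (α.app (op W)).hom a'
    have hβα : (β.app (op W)).hom ((α.app (op W)).hom a') = 1 := (hex _ _).mpr ⟨a', rfl⟩
    have hg'' : (β.app (op W)).hom g'' = res H hW s := by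
      rw [map_mul, hg', hβα, mul_one]
    have hres : res G (inf_le_left : m.V ⊓ W ≤ m.V) m.g =
        res G (inf_le_right : m.V ⊓ W ≤ W) g'' := by
      rw [map_mul, ← nat_res, ha', ha]
      change g₁ = g₂ * (g₂⁻¹ * g₁)
      rw [mul_inv_cancel_left]
    obtain ⟨t, ht1, ht2⟩ := glue₂ G hG m.g g'' hres
    have htH : (β.app (op (m.V ⊔ W))).hom t = res H (sup_le m.le hW) s := by
      refine ext₂ H hH _ _ ?_ ?_
      · rw [← nat_res, ht1, res_res]
        exact m.hg
      · rw [← nat_res, ht2, res_res]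
        exact hg''
    let m' : Pt G H β s := ⟨m.V ⊔ W, sup_le m.le hW, t, htH⟩
    have hmm' : m.r m' := ⟨le_sup_left, ht1⟩
    obtain ⟨hle, -⟩ := hm m' hmm'
    exact hxV ((le_sup_right.trans hle) hxW)
  obtain ⟨V, le, g, hg⟩ := m
  change V = U at hmU
  subst hmU
  exact ⟨g, by rw [hg, res_self]⟩

end Flasque

end Groth.Agent.Lib.Helper35.GrpSheaf
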