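import Groth.Agent.Lib.Lead.RelAmp2
import Groth.Agent.Lib.Lead.Ample1
import Groth.Agent.Lib.Helper35.Gen3

/-!
# Sections of invertible modules on integral schemes whose global functions form a field
-/

set_option autoImplicit false
universe u

open CategoryTheory AlgebraicGeometry TopologicalSpace Opposite

namespace Groth.Agent.Lib.Helper35.IntegralSec

open Groth.Agent.Lib.Helper35.AbSheaf Groth.Agent.Lib.Helper35.Gen
open Groth.Agent.Lib.Helper60.TensorLib

variable {X : Scheme.{u}}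

theorem val_zero (L : X.Modules) (U : X.Opens) :
    SecTwist.val (0 : Coh.structureModule X ⟶ L) U = 0 := rfl

/-- on an integral scheme, a nonzero section of an invertible module is nonzero on every nonempty
open -/
theorem val_ne_zero [IsIntegral X] {L : X.Modules} (hL : PicF.IsInvertible L)
    (s : Coh.structureModule X ⟶ L) (hs : s ≠ 0) (U : X.Opens) (hU : (U : Set X).Nonempty) :
    SecTwist.val s U ≠ 0 := by
  intro h0
  apply hs
  apply Groth.Agent.Lib.Lead.Inv.hom_ext_val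
  choose V hxV e he using fun x => exists_isGen_of_isInvertible hL x
  have hcov : (⊤ : X.Opens) ≤ iSup V := fun y _ => Opens.mem_iSup.mpr ⟨y, hxV y⟩
  refine ext_cover L.presheaf L.isSheaf V (fun _ => le_top) hcov _ _ (fun x => ?_)
  change rs L (le_top : V x ≤ ⊤) (SecTwist.val s ⊤) =
    rs L (le_top : V x ≤ ⊤) (SecTwist.val (0 : Coh.structureModule X ⟶ L) ⊤)
  rw [rs_val, rs_val, val_zero]
  obtain ⟨a, ha⟩ := (he x).exists_eq_smul (SecTwist.val s (V x))
  have hne : ((V x : Set X) ∩ (U : Set X)).Nonempty :=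
    nonempty_preirreducible_inter (V x).isOpen U.isOpen ⟨x, hxV x⟩ hU
  obtain ⟨y, hy⟩ := hne
  haveI : Nonempty ((V x ⊓ U : X.Opens) : Scheme.{u}) := ⟨⟨y, hy⟩⟩
  have h1 : rs L (inf_le_left : V x ⊓ U ≤ V x) (SecTwist.val s (V x)) = 0 := by
    rw [rs_val, ← rs_val s (inf_le_right : V x ⊓ U ≤ U), h0]
    exact map_zero _
  rw [ha, rs_smul] at h1
  have h2 : rr X (inf_le_left : V x ⊓ U ≤ V x) a = 0 :=
    ((he x).mono inf_le_left).smul_injective (h1.trans (zero_smul _ _).symm)
  have h3 : a = 0 :=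
    map_injective_of_isIntegral X (homOfLE (inf_le_left : V x ⊓ U ≤ V x))
      (h2.trans (map_zero _).symm)
  rw [ha, h3]
  exact zero_smul _ _

/-- products of nonzero sections are nonzero -/
theorem secMul_ne_zero [IsIntegral X] {L M : X.Modules} (hL : PicF.IsInvertible L)
    (hM : PicF.IsInvertible M) (s : Coh.structureModule X ⟶ L) (t : Coh.structureModule X ⟶ M)
    (hs : s ≠ 0) (ht : t ≠ 0) : Groth.Agent.Lib.Lead.Inv.secMul s t ≠ 0 := by
  intro h0
  obtain ⟨x⟩ : Nonempty X := inferInstance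
  obtain ⟨U₁, hx₁, e₁, he₁⟩ := exists_isGen_of_isInvertible hL x
  obtain ⟨U₂, hx₂, e₂, he₂⟩ := exists_isGen_of_isInvertible hM x
  haveI : Nonempty ((U₁ ⊓ U₂ : X.Opens) : Scheme.{u}) := ⟨⟨x, hx₁, hx₂⟩⟩
  have hne : ((U₁ ⊓ U₂ : X.Opens) : Set X).Nonempty := ⟨x, hx₁, hx₂⟩
  obtain ⟨a, ha⟩ := (he₁.mono inf_le_left).exists_eq_smul (SecTwist.val s (U₁ ⊓ U₂))
  obtain ⟨b, hb⟩ := (he₂.mono inf_le_right).exists_eq_smul (SecTwist.val t (U₁ ⊓ U₂))
  have ha0 : a ≠ 0 := fun h => val_ne_zero hL s hs _ hne (by rw [ha, h]; exact zero_smul _ _)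
  have hb0 : b ≠ 0 := fun h => val_ne_zero hM t ht _ hne (by rw [hb, h]; exact zero_smul _ _)
  have h1 : SecTwist.val (Groth.Agent.Lib.Lead.Inv.secMul s t) (U₁ ⊓ U₂) =
      (a * b) • tm L M (rs L inf_le_left e₁) (rs M inf_le_right e₂) := by
    have : SecTwist.val (Groth.Agent.Lib.Lead.Inv.secMul s t) (U₁ ⊓ U₂) =
        tm L M (SecTwist.val s (U₁ ⊓ U₂)) (SecTwist.val t (U₁ ⊓ U₂)) :=
      Groth.Agent.Lib.Lead.Inv.val_secMul s t (U₁ ⊓ U₂)
    rw [this, ha, hb, tm_smul_left, tm_smul_right, mul_smul]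
  have h2 : SecTwist.val (Groth.Agent.Lib.Lead.Inv.secMul s t) (U₁ ⊓ U₂) = 0 := by
    rw [h0]; rfl
  have h3 : a * b = 0 :=
    (IsGen.tm (he₁.mono inf_le_left) (he₂.mono inf_le_right)).smul_injective
      ((h1.symm.trans h2).trans (zero_smul _ _).symm)
  haveI : IsDomain Γ(X, U₁ ⊓ U₂) := IsIntegral.component_integral (U₁ ⊓ U₂)
  exact mul_ne_zero ha0 hb0 h3

theorem id_ne_zero [IsIntegral X] : (𝟙 (Coh.structureModule X)) ≠ 0 := by
  intro h0
  have h1 : SecTwist.val (𝟙 (Coh.structureModule X)) ⊤ = 0 := by rw [h0]; rfl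
  have h2 : (1 : Γ(X, ⊤)) = 0 := h1
  exact one_ne_zero h2

theorem secPow_ne_zero [IsIntegral X] {L : X.Modules} (hL : PicF.IsInvertible L)
    (s : Coh.structureModule X ⟶ L) (hs : s ≠ 0) (d : ℕ) :
    Groth.Agent.Lib.Lead.Inv.secPow s d ≠ 0 := by
  induction d with
  | zero => exact id_ne_zero
  | succ d ih => exact secMul_ne_zero (isInvertible_tensorPow hL d) hL _ s ih hs

/-- a nonzero endomorphism of `O_X` is an isomorphism when `Γ(X, O_X)` is a field -/
theorem genLocus_eq_top_of_ne_zero (hfield : IsField (Γ(X, ⊤) : Type u))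
    (w : Coh.structureModule X ⟶ Coh.structureModule X) (hw : w ≠ 0) :
    CohB1.genLocus _ w = ⊤ := by
  rw [Groth.Agent.Lib.Lead.Inv.genLocus_end]
  have hc : (show Γ(X, ⊤) from Groth.Agent.Lib.Lead.Inv.val w ⊤) ≠ 0 := by
    intro h
    apply hw
    apply Groth.Agent.Lib.Lead.Inv.hom_ext_val
    exact h
  obtain ⟨b, hb⟩ := hfield.mul_inv_cancel hc
  exact Scheme.basicOpen_of_isUnit _ (IsUnit.of_mul_eq_one _ hb)

theorem nonempty_iso_of_genLocus_eq_top {L : X.Modules} (s : Coh.structureModule X ⟶ L)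
    (h : CohB1.genLocus L s = ⊤) : Nonempty (L ≅ Coh.structureModule X) := by
  have h1 := (Groth.Agent.Lib.Helper35.GenLocus.le_genLocus_iff L s ⊤).mp h.ge
  haveI : IsIso s := isIso_of_app_bijective s (fun U => h1 U le_top)
  exact ⟨(asIso s).symm⟩

/-- a cosection vanishing on one local generator vanishes -/
theorem cosection_eq_zero [IsIntegral X] {L : X.Modules} (t : L ⟶ Coh.structureModule X)
    {U : X.Opens} (hU : (U : Set X).Nonempty) {e : Γ(L, U)} (he : IsGen L U e)
    (h : (t.app U).hom e = 0) : t = 0 := by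
  apply Scheme.Modules.hom_ext
  intro V
  ext m
  change (t.app V).hom m = 0
  rcases (V : Set X).eq_empty_or_nonempty with hV | hV
  · have hV' : V = ⊥ := Opens.ext hV
    subst hV'
    exact Subsingleton.elim (α := Γ(X, ⊥)) _ _
  · obtain ⟨y, hy⟩ := nonempty_preirreducible_inter V.isOpen U.isOpen hV hU
    haveI : Nonempty ((V ⊓ U : X.Opens) : Scheme.{u}) := ⟨⟨y, hy⟩⟩
    have hinj := map_injective_of_isIntegral X (homOfLE (inf_le_left : V ⊓ U ≤ V))
    have h1 : rs (Coh.structureModule X) (inf_le_left : V ⊓ U ≤ V) ((t.app V).hom m) =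
        (t.app (V ⊓ U)).hom (rs L inf_le_left m) := (nat_res t.mapPresheaf inf_le_left m).symm
    have h2 : rs (Coh.structureModule X) (inf_le_right : V ⊓ U ≤ U) ((t.app U).hom e) =
        (t.app (V ⊓ U)).hom (rs L inf_le_right e) := (nat_res t.mapPresheaf inf_le_right e).symm
    obtain ⟨r, hr⟩ := (he.mono (inf_le_right : V ⊓ U ≤ U)).exists_eq_smul (rs L inf_le_left m)
    have h0 : rs (Coh.structureModule X) (inf_le_left : V ⊓ U ≤ V) ((t.app V).hom m) = 0 := by
      rw [h1, hr, Scheme.Modules.Hom.app_smul, ← h2, h]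
      exact (congrArg (fun z => r • z) (map_zero _)).trans (smul_zero r)
    have h0' : rr X (inf_le_left : V ⊓ U ≤ V) (show Γ(X, V) from (t.app V).hom m) = 0 := h0
    exact hinj (h0'.trans (map_zero (rr X (inf_le_left : V ⊓ U ≤ V))).symm)

/-- `S14808` core: a nonzero section with a nonzero cosection generates everywhere -/
theorem genLocus_eq_top_of_cosection [IsIntegral X] (hfield : IsField (Γ(X, ⊤) : Type u))
    {L : X.Modules} (hL : PicF.IsInvertible L) (s : Coh.structureModule X ⟶ L) (hs : s ≠ 0)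
    (t : L ⟶ Coh.structureModule X) (ht : t ≠ 0) : CohB1.genLocus L s = ⊤ := by
  -- local description of `s ≫ t`
  have key : ∀ (U : X.Opens) (e : Γ(L, U)) (a : Γ(X, U)), SecTwist.val s U = a • e →
      SecTwist.val (s ≫ t) U = (a * (show Γ(X, U) from (t.app U).hom e)) •
        ((1 : Γ(X, U)) : Γ(Coh.structureModule X, U)) := by
    intro U e a ha
    have h1 : SecTwist.val (s ≫ t) U = (t.app U).hom (SecTwist.val s U) := rfl
    rw [h1, ha, Scheme.Modules.Hom.app_smul]
    change a * (show Γ(X, U) from (t.app U).hom e) = (a * (show Γ(X, U) from (t.app U).hom e)) * 1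
    rw [mul_one]
  have hw : s ≫ t ≠ 0 := by
    intro h0
    obtain ⟨x⟩ : Nonempty X := inferInstance
    obtain ⟨U, hxU, e, he⟩ := exists_isGen_of_isInvertible hL x
    haveI : Nonempty ((U : X.Opens) : Scheme.{u}) := ⟨⟨x, hxU⟩⟩
    haveI : IsDomain Γ(X, U) := IsIntegral.component_integral U
    obtain ⟨a, ha⟩ := he.exists_eq_smul (SecTwist.val s U)
    have ha0 : a ≠ 0 := fun h => val_ne_zero hL s hs U ⟨x, hxU⟩ (by rw [ha, h]; exact zero_smul _ _)
    have h1 := key U e a ha
    rw [h0] at h1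
    have h2 : a * (show Γ(X, U) from (t.app U).hom e) = 0 :=
      ((isGen_one U).smul_injective ((zero_smul _ _).trans h1)).symm
    rcases mul_eq_zero.mp h2 with h3 | h3
    · exact ha0 h3
    · exact ht (cosection_eq_zero t ⟨x, hxU⟩ he h3)
  have htop := genLocus_eq_top_of_ne_zero hfield (s ≫ t) hw
  rw [eq_top_iff]
  intro x _
  obtain ⟨U, hxU, e, he⟩ := exists_isGen_of_isInvertible hL x
  obtain ⟨a, ha⟩ := he.exists_eq_smul (SecTwist.val s U)
  have h1 := genLocus_inf_eq_basicOpen (s ≫ t) (isGen_one U) _ (key U e a ha)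
  have h2 := genLocus_inf_eq_basicOpen s he a ha
  rw [htop, top_inf_eq, X.basicOpen_mul] at h1
  have hx : x ∈ X.basicOpen a := by
    have : x ∈ X.basicOpen a ⊓ X.basicOpen (show Γ(X, U) from (t.app U).hom e) := h1 ▸ hxU
    exact this.1
  rw [← h2] at hx
  exact hx.1

end Groth.Agent.Lib.Helper35.IntegralSec
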