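import Groth.Agent.Lib.Helper35.ModRestrict
import Groth.Agent.Lib.Helper35.AbSheaf

/-!
# Morphisms of invertible modules and restriction to an open with `O(V) ≃ O(V ∩ U)`
-/

universe u

open CategoryTheory AlgebraicGeometry TopologicalSpace Opposite

namespace Groth.Agent.Lib.Helper35.InvHom

open Groth.Agent.Lib.Helper35.AbSheaf Scheme.Modules

section abstract

variable {C D : Type*} [Category C] [Category D]

theorem bijective_map_of_isIso_unit {F : C ⥤ D} {G : D ⥤ C} (adj : F ⊣ G) (L L' : C)
    [IsIso (adj.unit.app L')] : Function.Bijective (fun φ : L ⟶ L' => F.map φ) := by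
  have h1 : (fun φ : L ⟶ L' => F.map φ) =
      (adj.homEquiv L (F.obj L')).symm ∘ (fun φ : L ⟶ L' => φ ≫ adj.unit.app L') := by
    funext φ
    simp [Adjunction.homEquiv_symm_apply]
  rw [h1]
  refine Function.Bijective.comp (Equiv.bijective _) ?_
  refine Function.bijective_iff_has_inverse.mpr
    ⟨fun ψ => ψ ≫ inv (adj.unit.app L'), fun ψ => by simp, fun ψ => by simp⟩

end abstract

variable {X : Scheme.{u}}

lemma res_bijective_congr (P : TopCat.Presheaf AddCommGrpCat.{u} X) {A A' B B' : X.Opens}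
    (hA : A = A') (hB : B = B') (h : B ≤ A) (h' : B' ≤ A') :
    Function.Bijective (res P h) ↔ Function.Bijective (res P h') := by
  subst hA hB
  rfl

lemma presheaf_bijective_congr {A A' B B' : X.Opens}
    (hA : A = A') (hB : B = B') (h : B ≤ A) (h' : B' ≤ A') :
    Function.Bijective (X.presheaf.map (homOfLE h).op) ↔
      Function.Bijective (X.presheaf.map (homOfLE h').op) := by
  subst hA hB
  rfl

/-- On a trivializing open, restriction maps of the module are bijective iff those of `O_X`. -/
theorem bijective_res_of_trivial (M : X.Modules) (W : X.Opens)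
    (e : M.restrict W.ι ≅ Coh.structureModule (W : Scheme.{u})) (V₁ V₂ : X.Opens) (h12 : V₂ ≤ V₁)
    (h1 : V₁ ≤ W) (hO : Function.Bijective (X.presheaf.map (homOfLE h12).op)) :
    Function.Bijective (res M.presheaf h12) := by
  have E1 : W.ι ''ᵁ (W.ι ⁻¹ᵁ V₁) = V₁ := by
    rw [Scheme.Hom.image_preimage_eq_opensRange_inf, Scheme.Opens.opensRange_ι]
    exact inf_eq_right.mpr h1
  have E2 : W.ι ''ᵁ (W.ι ⁻¹ᵁ V₂) = V₂ := by
    rw [Scheme.Hom.image_preimage_eq_opensRange_inf, Scheme.Opens.opensRange_ι]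
    exact inf_eq_right.mpr (h12.trans h1)
  have hle : W.ι ⁻¹ᵁ V₂ ≤ W.ι ⁻¹ᵁ V₁ := fun x hx => h12 hx
  have hle' : W.ι ''ᵁ (W.ι ⁻¹ᵁ V₂) ≤ W.ι ''ᵁ (W.ι ⁻¹ᵁ V₁) := W.ι.image_mono hle
  rw [← res_bijective_congr M.presheaf E1 E2 hle' h12]
  rw [← presheaf_bijective_congr E1 E2 hle' h12] at hO
  -- naturality of `e`
  have nat := e.hom.mapPresheaf.naturality (homOfLE hle).op
  have hb1 : Function.Bijective (e.hom.app (W.ι ⁻¹ᵁ V₁)) :=
    (ConcreteCategory.isIso_iff_bijective _).mp inferInstance
  have hb2 : Function.Bijective (e.hom.app (W.ι ⁻¹ᵁ V₂)) :=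
    (ConcreteCategory.isIso_iff_bijective _).mp inferInstance
  have key : (e.hom.app (W.ι ⁻¹ᵁ V₂)).hom ∘ (res M.presheaf hle') =
      ((Coh.structureModule (W : Scheme.{u})).presheaf.map (homOfLE hle).op).hom ∘
        (e.hom.app (W.ι ⁻¹ᵁ V₁)).hom := by
    funext s
    exact congrArg (fun φ => φ.hom s) nat
  have hO' : Function.Bijective
      ((Coh.structureModule (W : Scheme.{u})).presheaf.map (homOfLE hle).op).hom := hO
  have h3 : Function.Bijective ((e.hom.app (W.ι ⁻¹ᵁ V₂)).hom ∘ (res M.presheaf hle')) := by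
    rw [key]
    exact hO'.comp hb1
  exact (Function.Bijective.of_comp_iff' hb2 _).mp h3

/-- For an invertible module, `M(V) → M(V ∩ U)` is bijective as soon as this holds for `O_X`. -/
theorem bijective_res_of_isInvertible (U : X.Opens)
    (h : ∀ V : X.Opens, Function.Bijective (X.presheaf.map (homOfLE (inf_le_left : V ⊓ U ≤ V)).op))
    (M : X.Modules) (hM : PicF.IsInvertible M) (V : X.Opens) :
    Function.Bijective (res M.presheaf (inf_le_left : V ⊓ U ≤ V)) := by
  choose W hW using hM
  refine bijective_res_inf_of_local M.presheaf M.isSheaf U W (fun x => ⟨x, (hW x).1⟩) ?_ V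
  intro V' x hV'
  obtain ⟨e⟩ := (hW x).2
  exact bijective_res_of_trivial M (W x) e V' (V' ⊓ U) inf_le_left hV' (h V')

/-- general open immersion version: the unit `M → f_* f^* M` is an isomorphism for invertible `M`. -/
theorem isIso_unit_of_isInvertible' {Z : Scheme.{u}} (f : Z ⟶ X) [IsOpenImmersion f]
    (h : ∀ V : X.Opens,
      Function.Bijective (X.presheaf.map (homOfLE (inf_le_left : V ⊓ f.opensRange ≤ V)).op))
    (M : X.Modules) (hM : PicF.IsInvertible M) :
    IsIso ((restrictAdjunction f).unit.app M) := by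
  rw [Hom.isIso_iff_isIso_app]
  intro V
  rw [restrictAdjunction_unit_app_app, ConcreteCategory.isIso_iff_bijective]
  have E : f ''ᵁ (f ⁻¹ᵁ V) = V ⊓ f.opensRange := by
    rw [Scheme.Hom.image_preimage_eq_opensRange_inf, inf_comm]
  exact (res_bijective_congr M.presheaf rfl E (f.image_preimage_le V) inf_le_left).mpr
    (bijective_res_of_isInvertible f.opensRange h M hM V)

theorem isIso_unit_of_isInvertible (U : X.Opens)
    (h : ∀ V : X.Opens, Function.Bijective (X.presheaf.map (homOfLE (inf_le_left : V ⊓ U ≤ V)).op))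
    (M : X.Modules) (hM : PicF.IsInvertible M) :
    IsIso ((restrictAdjunction U.ι).unit.app M) := by
  refine isIso_unit_of_isInvertible' U.ι (fun V => ?_) M hM
  exact (presheaf_bijective_congr rfl (by rw [Scheme.Opens.opensRange_ι]) _ _).mp (h V)

theorem restrict_hom_bijective' {Z : Scheme.{u}} (f : Z ⟶ X) [IsOpenImmersion f]
    (h : ∀ V : X.Opens,
      Function.Bijective (X.presheaf.map (homOfLE (inf_le_left : V ⊓ f.opensRange ≤ V)).op))
    (L L' : X.Modules) (hL' : PicF.IsInvertible L') :
    Function.Bijective (fun φ : L ⟶ L' => (restrictFunctor f).map φ) := by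
  haveI := isIso_unit_of_isInvertible' f h L' hL'
  exact bijective_map_of_isIso_unit (restrictAdjunction f) L L'

theorem restrict_hom_bijective (U : X.Opens)
    (h : ∀ V : X.Opens, Function.Bijective (X.presheaf.map (homOfLE (inf_le_left : V ⊓ U ≤ V)).op))
    (L L' : X.Modules) (hL' : PicF.IsInvertible L') :
    Function.Bijective (fun φ : L ⟶ L' => (restrictFunctor U.ι).map φ) := by
  haveI := isIso_unit_of_isInvertible U h L' hL'
  exact bijective_map_of_isIso_unit (restrictAdjunction U.ι) L L'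

end Groth.Agent.Lib.Helper35.InvHom
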