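import Mathlib
import Groth.Agent.S8880

/-!
# Norms of functions for finite morphisms: basic-open properties over arbitrary opens
-/

set_option autoImplicit false
universe u

open CategoryTheory CategoryTheory.Limits AlgebraicGeometry TopologicalSpace Opposite

namespace Groth.Agent.Lib.Helper35.NS

variable {X Y : Scheme.{u}} (π : X ⟶ Y) [IsFinite π] {d : ℕ} (N : Nrm.NormOfDegree π d)

include N in
/-- if `t` is invertible at all points above `y ∈ U`, its norm is invertible at `y` -/
theorem mem_basicOpen_norm (U : Y.Opens) (t : Γ(X, π ⁻¹ᵁ U)) (y : Y) (hy : y ∈ U)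
    (h : π.base ⁻¹' {y} ⊆ X.basicOpen t) : y ∈ Y.basicOpen (N.norm U t) := by
  have hcl : IsClosed (π.base '' ((X.basicOpen t : Set X)ᶜ)) :=
    π.isClosedMap _ (X.basicOpen t).2.isClosed_compl
  let V' : Y.Opens := U ⊓ ⟨(π.base '' ((X.basicOpen t : Set X)ᶜ))ᶜ, hcl.isOpen_compl⟩
  have hV'U : V' ≤ U := inf_le_left
  have hyV : y ∈ V' := by
    refine ⟨hy, ?_⟩
    rintro ⟨x, hx, hxy⟩
    exact hx (h hxy)
  have hpre : π ⁻¹ᵁ V' ≤ X.basicOpen t := by
    intro x hx
    by_contra hxt
    exact hx.2 ⟨x, hxt, rfl⟩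
  have hunit : IsUnit (X.presheaf.map ((Opens.map π.base).map (homOfLE hV'U)).op t) := by
    have h1 : IsUnit ((X.presheaf.map (homOfLE (X.basicOpen_le t)).op).hom t) :=
      X.toRingedSpace.isUnit_res_basicOpen t
    have h2 := h1.map (X.presheaf.map (homOfLE hpre).op).hom
    rw [← CommRingCat.comp_apply, ← Functor.map_comp] at h2
    exact h2
  have h3 := N.norm_res (homOfLE hV'U) t
  have h4 : IsUnit (Y.presheaf.map (homOfLE hV'U).op (N.norm U t)) := by
    rw [h3]
    exact hunit.map (N.norm V')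
  have h5 := Y.basicOpen_res (N.norm U t) (homOfLE hV'U).op
  rw [Scheme.basicOpen_of_isUnit _ h4] at h5
  have : V' ≤ Y.basicOpen (N.norm U t) := by
    rw [h5]
    exact inf_le_right
  exact this hyV

include N in
/-- the norm of `t` is invertible only at images of points where `t` is invertible -/
theorem preimage_basicOpen_norm_le (U : Y.Opens) (t : Γ(X, π ⁻¹ᵁ U)) :
    π ⁻¹ᵁ Y.basicOpen (N.norm U t) ≤ X.basicOpen t := by
  intro x hx
  have hxU : π.base x ∈ U := Y.basicOpen_le _ hx
  by_contra hxt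
  have h1 : X.presheaf.germ (π ⁻¹ᵁ U) x hxU t ∈
      IsLocalRing.maximalIdeal (X.presheaf.stalk x) := by
    rw [IsLocalRing.mem_maximalIdeal, mem_nonunits_iff]
    intro hu
    exact hxt ((X.mem_basicOpen t x hxU).2 hu)
  have h2 := N.norm_mem U t x hxU h1
  rw [IsLocalRing.mem_maximalIdeal, mem_nonunits_iff] at h2
  exact h2 ((Y.mem_basicOpen (N.norm U t) (π.base x) hxU).1 hx)

include N in
theorem norm_surjective : Function.Surjective π.base :=
  Groth.Agent.S8880.surjective_of_norm π N

end Groth.Agent.Lib.Helper35.NS
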