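import Mathlib
import Groth.Agent.Lib.Helper35.Gen3
import Groth.Agent.Lib.Lead.SheafGlue

/-!
# Global sections of `L^k` from local coefficient data
-/

set_option autoImplicit false
universe u

open CategoryTheory CategoryTheory.Limits AlgebraicGeometry TopologicalSpace Opposite

namespace Groth.Agent.Lib.Helper35.NS

open Groth.Agent.Lib.Helper35.Gen Groth.Agent.Lib.Helper35.AbSheaf
open Groth.Agent.Lib.Lead.SheafGlue

variable {X : Scheme.{u}}

/-- two generators over the same open differ by a unit -/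
theorem exists_unit_smul {L : X.Modules} {V : X.Opens} {ε ε' : Γ(L, V)} (hε : IsGen L V ε)
    (hε' : IsGen L V ε') : ∃ w : Γ(X, V), IsUnit w ∧ ε' = w • ε := by
  obtain ⟨w, hw⟩ := hε.exists_eq_smul ε'
  obtain ⟨w', hw'⟩ := hε'.exists_eq_smul ε
  refine ⟨w, ?_, hw⟩
  have h1 : (w' * w) • ε = (1 : Γ(X, V)) • ε := by
    rw [mul_smul, ← hw, ← hw', one_smul]
  have h2 : w' * w = 1 := hε.smul_injective h1
  exact IsUnit.of_mul_eq_one _ (by rw [mul_comm]; exact h2)

/-- **Gluing a global section of `L^k` from local coefficients.** -/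
theorem exists_section_of_coeff (L : X.Modules) (hL : PicF.IsInvertible L) (k : ℕ)
    (a : ∀ (V : X.Opens) (ε : Γ(L, V)), IsGen L V ε → Γ(X, V))
    (hres : ∀ {V V' : X.Opens} (h : V' ≤ V) (ε : Γ(L, V)) (hε : IsGen L V ε),
      a V' (rs L h ε) (hε.mono h) = rr X h (a V ε hε))
    (hunit : ∀ (V : X.Opens) (ε : Γ(L, V)) (hε : IsGen L V ε) (w : Γ(X, V))
      (hε' : IsGen L V (w • ε)), w ^ k * a V (w • ε) hε' = a V ε hε) :
    ∃ t : Γ(CohB1.tensorPow L k, ⊤), ∀ (V : X.Opens) (ε : Γ(L, V)) (hε : IsGen L V ε),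
      rs (CohB1.tensorPow L k) (le_top : V ≤ ⊤) t = a V ε hε • gpow ε k := by
  let ι : Type u := Σ V : X.Opens, {ε : Γ(L, V) // IsGen L V ε}
  let U : ι → X.Opens := fun i => i.1
  let sf : ∀ i : ι, Γ(CohB1.tensorPow L k, U i) := fun i => a i.1 i.2.1 i.2.2 • gpow i.2.1 k
  have hcover : (⊤ : X.Opens) ≤ iSup U := by
    intro x _
    obtain ⟨V, hxV, ε, hε⟩ := exists_isGen_of_isInvertible hL x
    exact Opens.mem_iSup.mpr ⟨⟨V, ε, hε⟩, hxV⟩
  -- restriction formula
  have hrs : ∀ (i : ι) (W : X.Opens) (hW : W ≤ U i),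
      rs (CohB1.tensorPow L k) hW (sf i) =
        a W (rs L hW i.2.1) (i.2.2.mono hW) • gpow (rs L hW i.2.1) k := by
    intro i W hW
    change rs (CohB1.tensorPow L k) hW (a i.1 i.2.1 i.2.2 • gpow i.2.1 k) = _
    rw [rs_smul, rs_gpow, hres hW]
  have hcomp : TopCat.Presheaf.IsCompatible (shf (CohB1.tensorPow L k)).1 U sf := by
    intro i j
    change rs (CohB1.tensorPow L k) (inf_le_left : U i ⊓ U j ≤ U i) (sf i) =
      rs (CohB1.tensorPow L k) (inf_le_right : U i ⊓ U j ≤ U j) (sf j)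
    rw [hrs i _ inf_le_left, hrs j _ inf_le_right]
    have hεi := i.2.2.mono (inf_le_left : U i ⊓ U j ≤ U i)
    have hεj := j.2.2.mono (inf_le_right : U i ⊓ U j ≤ U j)
    obtain ⟨w, -, hw⟩ := exists_unit_smul hεi hεj
    have hεj' : IsGen L (U i ⊓ U j) (w • rs L inf_le_left i.2.1) := hw ▸ hεj
    have h1 := hunit _ _ hεi w hεj'
    have h2 : a (U i ⊓ U j) (rs L inf_le_right j.2.1) hεj =
        a (U i ⊓ U j) (w • rs L inf_le_left i.2.1) hεj' := by
      congr 1
    rw [h2, hw, gpow_smul, ← mul_smul, mul_comm, h1]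
  obtain ⟨t, ht, -⟩ := (shf (CohB1.tensorPow L k)).existsUnique_gluing' U ⊤
    (fun i => homOfLE le_top) hcover sf hcomp
  refine ⟨t, fun V ε hε => ?_⟩
  exact ht ⟨V, ε, hε⟩

end Groth.Agent.Lib.Helper35.NS
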