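import Mathlib
import Groth.Agent.Lib.Helper35.NS1
import Groth.Agent.Lib.Helper35.NS2
import Groth.Agent.Lib.Helper35.PbGen
import Groth.Agent.Lib.Helper35.GlobGen
import Groth.Agent.Lib.Lead.Avoid1

/-!
# Descent of ampleness along a finite morphism carrying a norm
-/

set_option autoImplicit false
universe u

open CategoryTheory CategoryTheory.Limits AlgebraicGeometry TopologicalSpace Opposite

namespace Groth.Agent.Lib.Helper35.NS

open Groth.Agent.Lib.Helper35.Gen Groth.Agent.Lib.Helper35.AbSheaf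
open Groth.Agent.Lib.Helper35.PbInv Groth.Agent.Lib.Helper35.GlobGen

variable {X' X : Scheme.{u}}

/-- **Descent of ampleness along a finite morphism with a norm**: if `g^* L` is ample, so is `L`. -/
theorem isAmple_of_isAmple_pullback_of_norm (g : X' ⟶ X) [IsFinite g] {d : ℕ}
    (N : Nrm.NormOfDegree g d) (L : X.Modules) (hL : PicF.IsInvertible L)
    (hM : CohB1.IsAmple ((Scheme.Modules.pullback g).obj L)) : CohB1.IsAmple L := by
  have hsurj : Function.Surjective g.base := norm_surjective g N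
  haveI : CompactSpace X' := hM.2.1
  haveI : CompactSpace X := hsurj.compactSpace g.continuous
  refine ⟨hL, inferInstance, fun x => ?_⟩
  obtain ⟨U₀, hxU₀, e₀, he₀⟩ := exists_isGen_of_isInvertible hL x
  obtain ⟨_, ⟨U, hU : IsAffineOpen U, rfl⟩, hxU, hUU₀⟩ :=
    X.isBasis_affineOpens.exists_subset_of_mem_open hxU₀ U₀.2
  have hUU₀' : U ≤ U₀ := hUU₀
  have he : IsGen L U (rs L hUU₀' e₀) := he₀.mono hUU₀'
  have hfin : (g.base ⁻¹' {x}).Finite := IsFinite.finite_preimage_singleton g x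
  obtain ⟨m, hm, s', hZ, hle, -⟩ := Groth.Agent.Lib.Lead.Inv.exists_section_avoid hM (g ⁻¹ᵁ U) hfin.toFinset (by
    intro z hz
    rw [Set.Finite.mem_toFinset] at hz
    have hz' : g.base z = x := hz
    change g.base z ∈ U
    rw [hz']
    exact hxU)
  -- generators of `M^m` over preimages and the coefficients of `s'`
  have hE : ∀ (V : X.Opens) (ε : Γ(L, V)) (hε : IsGen L V ε),
      IsGen (CohB1.tensorPow ((Scheme.Modules.pullback g).obj L) m) (g ⁻¹ᵁ V)
        (gpow (pbSec g L V ε) m) :=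
    fun V ε hε => (isGen_pbSec g L V ε hε).gpow m
  have hc : ∀ (V : X.Opens) (ε : Γ(L, V)) (hε : IsGen L V ε), ∃ c : Γ(X', g ⁻¹ᵁ V),
      SecTwist.val s' (g ⁻¹ᵁ V) = c • gpow (pbSec g L V ε) m :=
    fun V ε hε => (hE V ε hε).exists_eq_smul _
  choose c hcs using hc
  let a : ∀ (V : X.Opens) (ε : Γ(L, V)), IsGen L V ε → Γ(X, V) :=
    fun V ε hε => N.norm V (c V ε hε)
  have hcres : ∀ {V V' : X.Opens} (h : V' ≤ V) (ε : Γ(L, V)) (hε : IsGen L V ε),
      c V' (rs L h ε) (hε.mono h) = rr X' (g.preimage_mono h) (c V ε hε) := by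
    intro V V' h ε hε
    apply (hE V' (rs L h ε) (hε.mono h)).smul_injective
    rw [← hcs V' (rs L h ε) (hε.mono h), ← rs_val s' (g.preimage_mono h), hcs V ε hε, rs_smul,
      rs_gpow, pbSec_rs]
  have hres : ∀ {V V' : X.Opens} (h : V' ≤ V) (ε : Γ(L, V)) (hε : IsGen L V ε),
      a V' (rs L h ε) (hε.mono h) = rr X h (a V ε hε) := by
    intro V V' h ε hε
    change N.norm V' (c V' (rs L h ε) (hε.mono h)) = rr X h (N.norm V (c V ε hε))
    rw [hcres h ε hε]
    exact (N.norm_res (homOfLE h) (c V ε hε)).symm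
  have hunit : ∀ (V : X.Opens) (ε : Γ(L, V)) (hε : IsGen L V ε) (w : Γ(X, V))
      (hε' : IsGen L V (w • ε)), w ^ (d * m) * a V (w • ε) hε' = a V ε hε := by
    intro V ε hε w hε'
    have h1 : c V ε hε = c V (w • ε) hε' * ((g.app V).hom w) ^ m := by
      apply (hE V ε hε).smul_injective
      rw [← hcs V ε hε, hcs V (w • ε) hε', pbSec_smul, gpow_smul, ← mul_smul]
    change w ^ (d * m) * N.norm V (c V (w • ε) hε') = N.norm V (c V ε hε)
    rw [h1, map_mul, map_pow, N.norm_app, pow_mul, mul_comm]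
  obtain ⟨t, ht⟩ := exists_section_of_coeff L hL (d * m) a hres hunit
  have hkpos : 0 < d * m := Nat.mul_pos N.one_le hm
  generalize hk : d * m = k at t ht hkpos
  obtain ⟨k', rfl⟩ : ∃ k', k = k' + 1 := ⟨k - 1, by omega⟩
  -- the section
  let s : Coh.structureModule X ⟶ CohB1.tensorPow L (k' + 1) := secHom _ t
  have hG : ∀ (V : X.Opens) (ε : Γ(L, V)) (hε : IsGen L V ε),
      CohB1.genLocus _ s ⊓ V = X.basicOpen (a V ε hε) := by
    intro V ε hε
    refine genLocus_inf_eq_basicOpen s (hε.gpow (k' + 1)) (a V ε hε) ?_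
    have h1 : SecTwist.val s V = rs _ le_top t := secHom_app_one _ t V
    rw [h1]
    exact ht V ε hε
  have hG' : ∀ (V : X.Opens) (ε : Γ(L, V)) (hε : IsGen L V ε),
      CohB1.genLocus _ s' ⊓ g ⁻¹ᵁ V = X'.basicOpen (c V ε hε) :=
    fun V ε hε => genLocus_inf_eq_basicOpen s' (hE V ε hε) (c V ε hε) (hcs V ε hε)
  have hxG : x ∈ CohB1.genLocus _ s := by
    have h1 : x ∈ X.basicOpen (a U _ he) := by
      refine mem_basicOpen_norm g N U (c U _ he) x hxU ?_
      intro z hz
      have hz' : z ∈ CohB1.genLocus _ s' ⊓ g ⁻¹ᵁ U := by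
        refine ⟨hZ z ?_, ?_⟩
        · rw [Set.Finite.mem_toFinset]
          exact hz
        · have hz'' : g.base z = x := hz
          change g.base z ∈ U
          rw [hz'']
          exact hxU
      rw [hG' U _ he] at hz'
      exact hz'
    rw [← hG U _ he] at h1
    exact h1.1
  have hGU : CohB1.genLocus _ s ≤ U := by
    intro y hy
    obtain ⟨V, hyV, ε, hε⟩ := exists_isGen_of_isInvertible hL y
    have h1 : y ∈ CohB1.genLocus _ s ⊓ V := ⟨hy, hyV⟩
    rw [hG V ε hε] at h1
    obtain ⟨z, rfl⟩ := hsurj y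
    have h2 : z ∈ X'.basicOpen (c V ε hε) := preimage_basicOpen_norm_le g N V (c V ε hε) h1
    rw [← hG' V ε hε] at h2
    exact hle h2.1
  refine ⟨k', s, hxG, ?_⟩
  have h3 : CohB1.genLocus _ s = X.basicOpen (a U _ he) := by
    rw [← hG U _ he]
    exact (inf_eq_left.mpr hGU).symm
  rw [h3]
  exact hU.basicOpen _

end Groth.Agent.Lib.Helper35.NS
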