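import Mathlib
import Groth.Agent.Lib.Helper35.NS3
import Groth.Agent.Lib.Helper35.PbRel
import Groth.Agent.Lib.Lead.CoprodAmple
import Groth.Agent.S8878
import Groth.Agent.S19692

/-!
# Descent of ampleness along finite locally free surjective morphisms
-/

set_option autoImplicit false
universe u

open CategoryTheory CategoryTheory.Limits AlgebraicGeometry TopologicalSpace Opposite

namespace Groth.Agent.Lib.Helper35.NS

open Groth.Agent.Lib.Helper35.Gen Groth.Agent.Lib.Helper35.AbSheaf
open Groth.Agent.Lib.Helper35.Ample

variable {X' X : Scheme.{u}}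

theorem isAmple_of_isEmpty [IsEmpty X] (L : X.Modules) : CohB1.IsAmple L :=
  ⟨fun x => isEmptyElim x, inferInstance, fun x => isEmptyElim x⟩

theorem isAmple_of_isAmple_restrict_top (L : X.Modules)
    (h : CohB1.IsAmple (L.restrict (⊤ : X.Opens).ι)) : CohB1.IsAmple L := by
  have h1 : CohB1.IsAmple (L.restrict (𝟙 X)) :=
    (Groth.Agent.Lib.Helper60.TensorRestrict.isAmple_restrict_iff_of_opensRange_eq
      (⊤ : X.Opens).ι (𝟙 X) (by
        rw [Scheme.Opens.opensRange_ι]
        ext y
        simp) L).mp h
  exact isAmple_of_iso (Scheme.Modules.restrictFunctorId.app L) h1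

/-- **Descent of ampleness along a finite locally free surjective morphism.** -/
theorem isAmple_of_isAmple_pullback (g : X' ⟶ X) [IsFinite g] [Flat g]
    [LocallyOfFinitePresentation g] [Surjective g] (L : X.Modules) (hL : PicF.IsInvertible L)
    (hM : CohB1.IsAmple ((Scheme.Modules.pullback g).obj L)) : CohB1.IsAmple L := by
  haveI : CompactSpace X' := hM.2.1
  haveI : CompactSpace X := (g.surjective).compactSpace g.continuous
  have hr : IsLocallyConstant (Scheme.Hom.finrank g) := Scheme.Hom.isLocallyConstant_finrank g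
  have hr1 : ∀ y : X, 1 ≤ Scheme.Hom.finrank g y :=
    (Scheme.Hom.one_le_finrank_iff_surjective g).mpr inferInstance
  let W : ℕ → X.Opens := fun d => ⟨Scheme.Hom.finrank g ⁻¹' {d}, hr.isOpen_fiber d⟩
  -- ampleness on the pieces of constant rank
  have hWd : ∀ d, CohB1.IsAmple (L.restrict (W d).ι) := by
    intro d
    by_cases hd : d = 0
    · haveI : IsEmpty ↥(W d : Scheme.{u}) := by
        constructor
        rintro ⟨y, hy⟩
        have hy' : Scheme.Hom.finrank g y = d := hy
        have := hr1 y
        omega
      exact isAmple_of_isEmpty _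
    · have hd1 : 1 ≤ d := Nat.one_le_iff_ne_zero.mpr hd
      have hdeg : Mor2.IsFinLocFreeOfDeg d (g ∣_ W d) := by
        refine ⟨⟨inferInstance, inferInstance, inferInstance⟩, fun y => ?_⟩
        rw [Scheme.Hom.finrank_of_isPullback (g ⁻¹ᵁ W d).ι (g ∣_ W d) g (W d).ι
          (isPullback_morphismRestrict g (W d)).flip y]
        exact y.2
      obtain ⟨N⟩ := Groth.Agent.S8878.result (g ∣_ W d) d hd1 hdeg
      haveI : CompactSpace ↥(g ⁻¹ᵁ W d : Scheme.{u}) := by
        refine isCompact_iff_compactSpace.mp ?_
        have hcl : IsClosed ((W d : Set X)) := hr.isClosed_fiber d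
        exact (hcl.preimage g.continuous).isCompact
      have h1 : CohB1.IsAmple (((Scheme.Modules.pullback g).obj L).restrict (g ⁻¹ᵁ W d).ι) :=
        Groth.Agent.Lib.Lead.Inv.isAmple_restrict_of_compactSpace (g ⁻¹ᵁ W d).ι hM
      have h2 := isAmple_of_iso
        (Groth.Agent.Lib.Helper7.FinLocFree.restrictPullbackIso g L (W d)) h1
      exact isAmple_of_isAmple_pullback_of_norm (g ∣_ W d) N (L.restrict (W d).ι)
        (Groth.Agent.Lib.Helper35.ModRestrict.isInvertible_restrict (W d).ι L hL) h2
  -- finite unions of pieces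
  let WT : Finset ℕ → X.Opens := fun T => ⟨Scheme.Hom.finrank g ⁻¹' (T : Set ℕ), hr _⟩
  have hWT : ∀ T : Finset ℕ, CohB1.IsAmple (L.restrict (WT T).ι) := by
    intro T
    induction T using Finset.induction_on with
    | empty =>
      haveI : IsEmpty ↥(WT ∅ : Scheme.{u}) := by
        constructor
        rintro ⟨y, hy⟩
        have hy' : Scheme.Hom.finrank g y ∈ ((∅ : Finset ℕ) : Set ℕ) := hy
        simp at hy'
      exact isAmple_of_isEmpty _
    | insert d T hdT ih =>
      refine Groth.Agent.Lib.Lead.Inv.isAmple_restrict_of_disjoint_cover L (WT (insert d T))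
        (W d) (WT T) ?_ ?_ ?_ ?_
      · rw [eq_bot_iff]
        rintro y ⟨hy1, hy2⟩
        have h1 : Scheme.Hom.finrank g y = d := hy1
        have h2 : Scheme.Hom.finrank g y ∈ (T : Set ℕ) := hy2
        rw [h1] at h2
        exact hdT h2
      · intro y hy
        have h1 : Scheme.Hom.finrank g y ∈ ((insert d T : Finset ℕ) : Set ℕ) := hy
        rw [Finset.coe_insert, Set.mem_insert_iff] at h1
        rcases h1 with h1 | h1
        · exact Or.inl h1
        · exact Or.inr h1
      · have e : W d ⊓ WT (insert d T) = W d := by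
          rw [inf_eq_left]
          intro y hy
          have h1 : Scheme.Hom.finrank g y = d := hy
          change Scheme.Hom.finrank g y ∈ ((insert d T : Finset ℕ) : Set ℕ)
          rw [h1]
          simp
        rw [e]
        exact hWd d
      · have e : WT T ⊓ WT (insert d T) = WT T := by
          rw [inf_eq_left]
          intro y hy
          have h1 : Scheme.Hom.finrank g y ∈ (T : Set ℕ) := hy
          change Scheme.Hom.finrank g y ∈ ((insert d T : Finset ℕ) : Set ℕ)
          rw [Finset.coe_insert]
          exact Set.mem_insert_of_mem _ h1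
        rw [e]
        exact ih
  have hfin : (Set.range (Scheme.Hom.finrank g)).Finite := hr.range_finite
  have htop : WT hfin.toFinset = ⊤ := by
    rw [eq_top_iff]
    intro y _
    change Scheme.Hom.finrank g y ∈ ((hfin.toFinset : Finset ℕ) : Set ℕ)
    rw [Set.Finite.coe_toFinset]
    exact ⟨y, rfl⟩
  have h3 := hWT hfin.toFinset
  rw [htop] at h3
  exact isAmple_of_isAmple_restrict_top L h3

end Groth.Agent.Lib.Helper35.NS
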