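import Mathlib
import Groth.Agent.Lib.Helper35.NS4

/-!
# Relative ampleness and finite locally free surjective covers
-/

set_option autoImplicit false
universe u

open CategoryTheory CategoryTheory.Limits AlgebraicGeometry TopologicalSpace Opposite

namespace Groth.Agent.Lib.Helper35.NS

open Groth.Agent.Lib.Helper35.Gen Groth.Agent.Lib.Helper35.AbSheaf
open Groth.Agent.Lib.Helper35.Ample Groth.Agent.Lib.Helper35.PbInv
open Groth.Agent.Lib.Helper2.QCAlgMod Groth.Agent.Lib.Helper2.FinrankAff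
  Groth.Agent.Lib.Helper2.KerSec Groth.Agent.Lib.Helper2.LocFreeAff

variable {X' X Y : Scheme.{u}}

/-- an affine morphism with finite locally free direct image of the structure sheaf is flat and
locally of finite presentation -/
theorem flat_and_lfp_of_isFinLocFree_push (g : X' ⟶ X) [IsAffineHom g]
    (hfree : FlatMod.IsFinLocFree
      ((Scheme.Modules.pushforward g).obj (Coh.structureModule X'))) :
    Flat g ∧ LocallyOfFinitePresentation g := by
  haveI := Groth.Agent.S19696.structureModule_isQuasicoherent X'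
  haveI := isQuasicoherent_pushforward_of_qcqs g (Coh.structureModule X')
  have key : ∀ y : X, ∃ (U : X.Opens) (hU : IsAffineOpen U) (_ : y ∈ U) (n : ℕ),
      letI : Algebra Γ(X, U) Γ(X', g ⁻¹ᵁ U) := (g.app U).hom.toAlgebra
      Nonempty (Γ(X', g ⁻¹ᵁ U) ≃ₗ[Γ(X, U)] (Fin n → Γ(X, U))) := by
    intro y
    obtain ⟨V, n, hyV, hV⟩ := exists_equiv_of_isFinLocFree _ hfree y
    obtain ⟨_, ⟨U, hU : IsAffineOpen U, rfl⟩, hyU, hUV⟩ :=
      (X.isBasis_affineOpens).exists_subset_of_mem_open hyV V.2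
    obtain ⟨e⟩ := hV U hUV hU
    exact ⟨U, hU, hyU, n, ⟨(Groth.Agent.S19692.pushEquiv g U).symm.trans e⟩⟩
  constructor
  · refine of_forall_isPullback_fromSpec @Flat g fun x => ?_
    obtain ⟨U, hU, hxU, n, ⟨e⟩⟩ := key x
    refine ⟨U, hU, hxU, _, g.app U, _, isPullback_fromSpec_of_isAffineHom g hU, ?_⟩
    rw [Flat.SpecMap_iff]
    letI : Algebra Γ(X, U) Γ(X', g ⁻¹ᵁ U) := (g.app U).hom.toAlgebra
    exact Module.Flat.of_linearEquiv e
  · refine of_forall_isPullback_fromSpec @LocallyOfFinitePresentation g fun x => ?_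
    obtain ⟨U, hU, hxU, n, ⟨e⟩⟩ := key x
    refine ⟨U, hU, hxU, _, g.app U, _, isPullback_fromSpec_of_isAffineHom g hU, ?_⟩
    rw [LocallyOfFinitePresentation.SpecMap_iff]
    letI : Algebra Γ(X, U) Γ(X', g ⁻¹ᵁ U) := (g.app U).hom.toAlgebra
    haveI : Module.FinitePresentation Γ(X, U) Γ(X', g ⁻¹ᵁ U) :=
      Module.FinitePresentation.of_equiv e.symm
    exact (inferInstance : Algebra.FinitePresentation Γ(X, U) Γ(X', g ⁻¹ᵁ U))

/-- **EGA II 6.6.2-type statement**: for `g` finite locally free and surjective, `L` is `f`-ample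
iff `g^* L` is `(g ≫ f)`-ample. -/
theorem isRelAmple_iff_pullback (f : X ⟶ Y) [QuasiCompact f] (g : X' ⟶ X) [IsFinite g]
    [Flat g] [LocallyOfFinitePresentation g] [Surjective g] (L : X.Modules)
    (hL : PicF.IsInvertible L) :
    RelAmple.IsRelAmple f L ↔
      RelAmple.IsRelAmple (g ≫ f) ((Scheme.Modules.pullback g).obj L) := by
  constructor
  · intro h
    exact isRelAmple_pullback_of_forall f g L h
      (fun V hV => isAmple_pullback_of_isAffineHom (g ∣_ (f ⁻¹ᵁ V.1)) hV)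
  · intro h
    refine ⟨inferInstance, fun V => ?_⟩
    have h1 : CohB1.IsAmple (((Scheme.Modules.pullback g).obj L).restrict
        (g ⁻¹ᵁ (f ⁻¹ᵁ V.1)).ι) := h.2 V
    have h2 := isAmple_of_iso
      (Groth.Agent.Lib.Helper7.FinLocFree.restrictPullbackIso g L (f ⁻¹ᵁ V.1)) h1
    haveI : Surjective (g ∣_ (f ⁻¹ᵁ V.1)) :=
      IsZariskiLocalAtTarget.restrict (P := @Surjective) ‹Surjective g› _
    exact isAmple_of_isAmple_pullback (g ∣_ (f ⁻¹ᵁ V.1)) (L.restrict (f ⁻¹ᵁ V.1).ι)
      (Groth.Agent.Lib.Helper35.ModRestrict.isInvertible_restrict (f ⁻¹ᵁ V.1).ι L hL) h2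

end Groth.Agent.Lib.Helper35.NS
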