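import Groth.Agent.Lib.Helper35.GS3

/-!
# The projective bundle of a module which is invertible over an open (helper35)

For `(𝒮, j)` the graded symmetric algebra of a quasi-coherent module `E` on `Y` and
`p : P = Proj 𝒮 → Y`:

* `tt_bijective'`: over an affine open `W` on which `E` is free on one generator and over which
  `p` induces a bijection on functions, `E(W) → O_P(1)(p⁻¹ W)` is bijective (version of
  `GS.tt_bijective` with a local hypothesis);
* `isIso_restrict_of_gen`: `p ∣_ W` is an isomorphism for such `W`;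
* `app_bijective_of_isIso_restrict`;
* `isIso_restrict_of_cover`: `p ∣_ U` is an isomorphism for an open `U` covered by such `W`.
-/

set_option autoImplicit false
universe u
open CategoryTheory CategoryTheory.Limits AlgebraicGeometry TopologicalSpace Opposite
open scoped HomogeneousIdeal
open HomogeneousLocalization

namespace Groth.Agent.Lib.Helper35.OpenSec

open Groth.Agent.Lib.Helper60.TildeSec Groth.Agent.Lib.Helper35.FlatProj
open Groth.Agent.Lib.Helper35.GS
open Groth.Agent.Lib.Helper74.ModSec Groth.Agent.Lib.Helper74.TwistNat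
  Groth.Agent.Lib.Helper74.RelGlue Groth.Agent.Lib.Helper74.SymQ RelSpec
  Groth.Agent.Lib.Helper74.RelTilde Groth.Agent.Lib.Helper74.QMap

section general

theorem app_bijective_of_isIso_restrict {X Y : Scheme.{u}} (f : X ⟶ Y) (U : Y.Opens)
    [IsIso (f ∣_ U)] : Function.Bijective (f.app U).hom := by
  have h1 : IsIso ((f ∣_ U).app ⊤) := inferInstance
  rw [morphismRestrict_app] at h1
  have h2 : IsIso (f.app (U.ι ''ᵁ ⊤)) := by
    have h3 : IsIso (X.presheaf.map
        (eqToHom (image_morphismRestrict_preimage f U ⊤)).op) := inferInstance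
    exact @IsIso.of_isIso_comp_right _ _ _ _ _ _ _ h3 h1
  have key : ∀ U' : Y.Opens, U' = U → IsIso (f.app U') → Function.Bijective (f.app U).hom := by
    rintro _ rfl h
    exact ConcreteCategory.bijective_of_isIso _
  exact key _ (by simp) h2

end general

section rel

variable {Y P : Scheme.{u}} {L : Y.Modules} (𝒮 : RelProj.QCGrAlg Y) (j : L ⟶ 𝒮.toModule)
  (hj1 : ∀ (U : Y.Opens) (hU : IsAffineOpen U) (x : Γ(L, U)),
    jLin (A := 𝒮.toQCAlg) j U x ∈ 𝒮.deg U hU 1)
  {p : P ⟶ Y} {chart : ∀ (U : Y.Opens) (hU : IsAffineOpen U),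
    (((p ⁻¹ᵁ U : P.Opens) : Scheme.{u}) ≅ Proj (𝒮.deg U hU))}
  (hP : RelProj.IsRelProj 𝒮 p chart)
  {O1 : P.Modules} {lam : ∀ (U : Y.Opens) (hU : IsAffineOpen U), O1 ⟶ GTw p chart 1 U hU}
  (hO : RelProj.IsRelTwist 𝒮 p chart 1 O1 lam)

include hP hO in
/-- for `L` free on `e` over the affine open `W` and `p` inducing a bijection on functions over
`W`, `L(W) → O_P(1)(p⁻¹ W)` is bijective -/
theorem tt_bijective' 
    (hsym : ∀ (U : Y.Opens) (_ : IsAffineOpen U), IsSymmetricAlgebra (jLin (A := 𝒮.toQCAlg) j U))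
    (W : Y.Opens) (hW : IsAffineOpen W) (hpW : Function.Bijective (p.app W).hom) (e : Γ(L, W))
    (he : Function.Bijective (fun r : Γ(Y, W) => r • e)) :
    Function.Bijective (fun a => tt 𝒮 j hj1 hO W hW a) := by
  have hlam := hO.bijective W hW (p ⁻¹ᵁ W) le_rfl
  have h1 : (fun s => lamSec 𝒮 lam W hW (p ⁻¹ᵁ W) s) ∘ (fun a => tt 𝒮 j hj1 hO W hW a) =
      fun a => jsec 𝒮 j hj1 W hW a (p ⁻¹ᵁ W) := funext (tt_spec 𝒮 j hj1 hO W hW)
  suffices hsuff : Function.Bijective (fun a => jsec 𝒮 j hj1 (p := p) (chart := chart) W hW a (p ⁻¹ᵁ W)) by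
    rw [← h1] at hsuff
    exact (Function.Bijective.of_comp_iff' hlam _).mp hsuff
  have hT1 : jLin (A := 𝒮.toQCAlg) j W e ∈ 𝒮.deg W hW 1 := hj1 W hW e
  have hTy : ∀ y : ProjectiveSpectrum (𝒮.deg W hW),
      jLin (A := 𝒮.toQCAlg) j W e ∉ y.asHomogeneousIdeal := by
    intro y hTy
    apply y.not_irrelevant_le
    have h0 := Groth.Agent.Lib.Helper74.InvSym.irrelevant_le_span_range (𝒮.deg W hW) (hsym W hW)
      (𝒮.str_mem W hW) (hj1 W hW)
    intro z hz
    refine (Ideal.span_le.2 ?_) (h0 hz)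
    rintro _ ⟨m, rfl⟩
    obtain ⟨r, rfl⟩ := he.2 m
    change jLin (A := 𝒮.toQCAlg) j W (r • e) ∈ y.asHomogeneousIdeal.toIdeal
    rw [map_smul, Algebra.smul_def]
    exact Ideal.mul_mem_left _ _ hTy
  have hgen := isGen_fracSec (n := 1) (i := 1) (j := 0) (𝒮.deg W hW)
    (jLin (A := 𝒮.toQCAlg) j W e) hT1 1 SetLike.GradedOne.one_mem (by norm_num)
    (RelProj.emb p chart W hW ⁻¹ᵁ (p ⁻¹ᵁ W)) (fun y _ => one_not_mem _ y) (fun y _ => hTy y)
  have hgen'' : Function.Bijective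
      (fun r' : Γ(Proj (𝒮.deg W hW), RelProj.emb p chart W hW ⁻¹ᵁ (p ⁻¹ᵁ W)) =>
        r' • jsec 𝒮 j hj1 (p := p) (chart := chart) W hW e (p ⁻¹ᵁ W)) := by
    have := hgen _ le_rfl
    rw [Groth.Agent.Lib.Lead.QCohAff.res_self] at this
    exact this
  have hembdef : RelProj.emb p chart W hW = (chart W hW).inv ≫ (p ⁻¹ᵁ W).ι := rfl
  haveI : IsOpenImmersion (RelProj.emb p chart W hW) := by
    rw [hembdef]; infer_instance
  haveI : IsIso ((RelProj.emb p chart W hW).app (p ⁻¹ᵁ W)) :=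
    Scheme.Hom.isIso_app _ _ (opensRange_emb (chart := chart) W hW).ge
  have hρ : Function.Bijective
      (fun r : Γ(Y, W) => ((RelProj.emb p chart W hW).app (p ⁻¹ᵁ W)).hom ((p.app W).hom r)) :=
    (ConcreteCategory.bijective_of_isIso ((RelProj.emb p chart W hW).app (p ⁻¹ᵁ W))).comp hpW
  have h2 : (fun a => jsec 𝒮 j hj1 (p := p) (chart := chart) W hW a (p ⁻¹ᵁ W)) ∘
      (fun r : Γ(Y, W) => r • e) =
      (fun r' : Γ(Proj (𝒮.deg W hW), RelProj.emb p chart W hW ⁻¹ᵁ (p ⁻¹ᵁ W)) =>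
        r' • jsec 𝒮 j hj1 (p := p) (chart := chart) W hW e (p ⁻¹ᵁ W)) ∘
      (fun r : Γ(Y, W) => ((RelProj.emb p chart W hW).app (p ⁻¹ᵁ W)).hom ((p.app W).hom r)) := by
    funext r
    change jsec 𝒮 j hj1 W hW (r • e) (p ⁻¹ᵁ W) = _
    rw [jsec_smul 𝒮 j hj1 hP W hW (p ⁻¹ᵁ W) le_rfl r e, Scheme.Hom.appLE_eq_app]
    rfl
  have h3 := hgen''.comp hρ
  rw [← h2] at h3
  exact (Function.Bijective.of_comp_iff _ he).mp h3

variable [L.IsQuasicoherent] (hj : RelProj.IsGrSymAlg L 𝒮 j)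

include hP hj in
theorem isIso_restrict_of_gen (W : Y.Opens) (hW : IsAffineOpen W) (e : Γ(L, W))
    (he : Function.Bijective (fun r : Γ(Y, W) => r • e)) : IsIso (p ∣_ W) := by
  rw [Groth.Agent.Lib.Helper74.RelProjLib.restrict_eq hP W hW]
  have hbij := Groth.Agent.Lib.Helper74.InvSym.bijective_eval₂ hj W hW e he
  haveI : IsIso (Proj.toSpecZero (𝒮.deg W hW) ≫ Spec.map (𝒮.strZero W hW)) :=
    Groth.Agent.Lib.Helper74.GrPolyOne.isIso_toSpecZero_comp (𝒮.deg W hW)
      (𝒮.str.app (op W)).hom (𝒮.str_mem W hW) (hj.2 W hW e) hbij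
  rw [← Category.assoc (Proj.toSpecZero _)]
  infer_instance

include hP hj in
theorem isIso_restrict_of_cover (U : Y.Opens)
    (hcov : ∀ y ∈ U, ∃ (W : Y.Opens) (_ : IsAffineOpen W) (e : Γ(L, W)), y ∈ W ∧ W ≤ U ∧
      Function.Bijective (fun r : Γ(Y, W) => r • e)) : IsIso (p ∣_ U) := by
  choose W hW e hyW hWU he using fun y : U => hcov y.1 y.2
  have key : (MorphismProperty.isomorphisms Scheme.{u}) (p ∣_ U) := by
    refine IsZariskiLocalAtTarget.of_iSup_eq_top (P := MorphismProperty.isomorphisms Scheme.{u})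
      (fun y : U => U.ι ⁻¹ᵁ W y) ?_ ?_
    · exact eq_top_iff.mpr fun y _ => Opens.mem_iSup.mpr ⟨y, hyW y⟩
    · intro y
      have e1 : U.ι ''ᵁ (U.ι ⁻¹ᵁ W y) = W y := by
        simpa [Scheme.Hom.image_preimage_eq_opensRange_inf] using hWU y
      have key2 : ∀ U' : Y.Opens, U' = W y →
          (MorphismProperty.isomorphisms Scheme.{u}) (p ∣_ U') := by
        rintro _ rfl
        exact isIso_restrict_of_gen 𝒮 j hP hj (W y) (hW y) (e y) (he y)
      exact (MorphismProperty.arrow_mk_iso_iff (MorphismProperty.isomorphisms Scheme.{u})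
        (morphismRestrictRestrict p U (U.ι ⁻¹ᵁ W y))).mpr (key2 _ e1)
  exact key

end rel

end Groth.Agent.Lib.Helper35.OpenSec
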