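import Groth.Agent.Lib.Helper35.OpenSec1

/-!
# The section of `p` over an open where it is an isomorphism, and restriction of module maps

For `p : P ⟶ Y`, an open immersion `g : X ⟶ Y` with `p ∣_ g.opensRange` an isomorphism:
`sec p g : X ⟶ P` is the open immersion with `sec p g ≫ p = g`, and a module map
`φ : E ⟶ p_* O1` induces `ψ : E.restrict g ⟶ O1.restrict (sec p g)` (`exists_psi`).
-/

set_option autoImplicit false
universe u
open CategoryTheory CategoryTheory.Limits AlgebraicGeometry TopologicalSpace Opposite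

namespace Groth.Agent.Lib.Helper35.OpenSec

open Groth.Agent.Lib.Helper74.ModSec

section sec

variable {X Y P : Scheme.{u}} (p : P ⟶ Y) (g : X ⟶ Y) [IsOpenImmersion g]
  [IsIso (p ∣_ g.opensRange)]

/-- the section of `p` over the open immersion `g` -/
noncomputable def sec : X ⟶ P :=
  g.isoOpensRange.hom ≫ inv (p ∣_ g.opensRange) ≫ (p ⁻¹ᵁ g.opensRange).ι

theorem sec_comp : sec p g ≫ p = g := by
  unfold sec
  rw [Category.assoc, Category.assoc, ← morphismRestrict_ι, IsIso.inv_hom_id_assoc]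
  exact Scheme.Hom.isoOpensRange_hom_ι g

instance : IsOpenImmersion (sec p g) := by unfold sec; infer_instance

theorem sec_image_le (V : X.Opens) : sec p g ''ᵁ V ≤ p ⁻¹ᵁ (g ''ᵁ V) := by
  rintro _ ⟨v, hv, rfl⟩
  change p (sec p g v) ∈ g ''ᵁ V
  rw [← Scheme.Hom.comp_apply, sec_comp]
  exact ⟨v, hv, rfl⟩

theorem le_sec_image (V : X.Opens) : p ⁻¹ᵁ (g ''ᵁ V) ≤ sec p g ''ᵁ V := by
  intro x hx
  obtain ⟨v, hv, hvx⟩ := hx
  have hxU : x ∈ p ⁻¹ᵁ g.opensRange := ⟨v, hvx⟩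
  let x₀ : (p ⁻¹ᵁ g.opensRange).toScheme := ⟨x, hxU⟩
  obtain ⟨v', hv'⟩ : ∃ v' : X, g.isoOpensRange.hom v' = (p ∣_ g.opensRange) x₀ :=
    ⟨g.isoOpensRange.inv ((p ∣_ g.opensRange) x₀), by
      rw [← Scheme.Hom.comp_apply, Iso.inv_hom_id]; rfl⟩
  have hsec : sec p g v' = x := by
    have h1 : (inv (p ∣_ g.opensRange)) ((p ∣_ g.opensRange) x₀) = x₀ := by
      rw [← Scheme.Hom.comp_apply, IsIso.hom_inv_id]; rfl
    unfold sec
    rw [Scheme.Hom.comp_apply, hv', Scheme.Hom.comp_apply, h1]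
    rfl
  have hgv : g v' = g v := by
    have h1 : p (sec p g v') = g v' := by
      rw [← Scheme.Hom.comp_apply, sec_comp]
    rw [← h1, hsec]
    exact hvx.symm
  have hvv : v' = v := g.isOpenEmbedding.injective hgv
  exact ⟨v', hvv ▸ hv, hsec⟩

theorem sec_image_eq (V : X.Opens) : sec p g ''ᵁ V = p ⁻¹ᵁ (g ''ᵁ V) :=
  le_antisymm (sec_image_le p g V) (le_sec_image p g V)

/-- the ring identity relating the scalar actions -/
theorem ring_id (V : X.Opens) (r : Γ(X, V)) :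
    (P.presheaf.map (homOfLE (sec_image_le p g V)).op).hom
        ((p.app (g ''ᵁ V)).hom ((g.appIso V).inv.hom r)) =
      ((sec p g).appIso V).inv.hom r := by
  have h : p.app (g ''ᵁ V) ≫ P.presheaf.map (homOfLE (sec_image_le p g V)).op ≫
      ((sec p g).appIso V).hom = (g.appIso V).hom := by
    rw [Scheme.Hom.appIso_hom', Scheme.Hom.appIso_hom', ← Category.assoc]
    change p.appLE (g ''ᵁ V) (sec p g ''ᵁ V) (sec_image_le p g V) ≫ _ = _
    rw [Scheme.Hom.appLE_comp_appLE]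
    have key : ∀ (f' : X ⟶ Y) (_ : f' = g) (h1 : V ≤ f' ⁻¹ᵁ (g ''ᵁ V))
        (h2 : V ≤ g ⁻¹ᵁ (g ''ᵁ V)), f'.appLE (g ''ᵁ V) V h1 = g.appLE (g ''ᵁ V) V h2 := by
      rintro _ rfl _ _; rfl
    exact key _ (sec_comp p g) _ _
  have h2 := congrArg (fun t => t.hom ((g.appIso V).inv.hom r)) h
  simp only [CommRingCat.hom_comp, RingHom.comp_apply] at h2
  have h3 : (g.appIso V).hom.hom ((g.appIso V).inv.hom r) = r := by
    rw [← CommRingCat.comp_apply, Iso.inv_hom_id]; rfl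
  rw [h3] at h2
  have h4 : ∀ z : Γ(P, sec p g ''ᵁ V),
      ((sec p g).appIso V).inv.hom (((sec p g).appIso V).hom.hom z) = z := by
    intro z; rw [← CommRingCat.comp_apply, Iso.hom_inv_id]; rfl
  exact (h4 _).symm.trans (congrArg (fun z => ((sec p g).appIso V).inv.hom z) h2)

end sec

section psi

variable {X Y P : Scheme.{u}} {E : Y.Modules} {p : P ⟶ Y} {O1 : P.Modules}
  (φ : E ⟶ (Scheme.Modules.pushforward p).obj O1)
  (g : X ⟶ Y) [IsOpenImmersion g] [IsIso (p ∣_ g.opensRange)]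

/-- the restriction of `φ` on sections -/
noncomputable def tV (V : X.Opens) (a : Γ(E.restrict g, V)) : Γ(O1.restrict (sec p g), V) :=
  rs O1 (sec_image_le p g V) (show Γ(O1, p ⁻¹ᵁ (g ''ᵁ V)) from (φ.app (g ''ᵁ V)).hom a)

theorem tV_eq (V : X.Opens) (a : Γ(E, g ''ᵁ V)) :
    tV φ g V a = rs O1 (sec_image_le p g V)
      (show Γ(O1, p ⁻¹ᵁ (g ''ᵁ V)) from (φ.app (g ''ᵁ V)).hom a) := rfl

theorem exists_psi : ∃ ψ : E.restrict g ⟶ O1.restrict (sec p g),
    ∀ (V : X.Opens) (a : Γ(E.restrict g, V)), (ψ.app V).hom a = tV φ g V a := by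
  obtain ⟨τ, hτ⟩ := Groth.Agent.Lib.Helper2.HomGlue.exists_hom (M := E.restrict g)
    (N := O1.restrict (sec p g)) (good := fun _ => True) (t := fun V _ a => tV φ g V a)
    (fun U x hx => ⟨U, trivial, hx, le_rfl⟩)
    (by
      intro V _ a b
      change rs O1 _ (show Γ(O1, p ⁻¹ᵁ (g ''ᵁ V)) from (φ.app (g ''ᵁ V)).hom
        ((show Γ(E, g ''ᵁ V) from a) + (show Γ(E, g ''ᵁ V) from b))) = _
      rw [map_add]
      exact rs_add O1 _ _ _)
    (by
      intro V _ r a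
      change rs O1 _ (show Γ(O1, p ⁻¹ᵁ (g ''ᵁ V)) from (φ.app (g ''ᵁ V)).hom
        (((g.appIso V).inv.hom r) • (show Γ(E, g ''ᵁ V) from a))) =
        (((sec p g).appIso V).inv.hom r) • (show Γ(O1, sec p g ''ᵁ V) from tV φ g V a)
      rw [Scheme.Modules.Hom.app_smul]
      change rs O1 _ (((p.app (g ''ᵁ V)).hom ((g.appIso V).inv.hom r)) •
        (show Γ(O1, p ⁻¹ᵁ (g ''ᵁ V)) from (φ.app (g ''ᵁ V)).hom a)) = _
      rw [rs_smul, ring_id p g V r]
      rfl)
    (by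
      intro V V' _ _ h a
      change rs O1 (Scheme.Hom.image_mono _ h) (tV φ g V a) =
        tV φ g V' (rs E (Scheme.Hom.image_mono _ h) (show Γ(E, g ''ᵁ V) from a))
      rw [tV_eq, tV_eq, rs_rs, hom_rs]
      change _ = rs O1 _ (rs O1 ((Opens.map p.base).map
        (homOfLE (Scheme.Hom.image_mono g h))).le _)
      rw [rs_rs])
  exact ⟨τ, fun V a => hτ V trivial a⟩

end psi

end Groth.Agent.Lib.Helper35.OpenSec
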