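import Groth.Agent.Lib.Helper35.OpenSec2
import Groth.Agent.Lib.Helper74.TwistGen

/-!
# `P(E)` over an open on which `E` is invertible (helper35)

`nonempty_restrict_iso`: for `(𝒮, j)` the graded symmetric algebra of a quasi-coherent `E` on `Y`,
`p : P = Proj 𝒮 → Y` with twisting sheaf `O1`, and an open immersion `g : X ⟶ Y` such that `E` is
locally free of rank one over the image of `g`: there is an open immersion `i : X ⟶ P` over `Y`
with `E.restrict g ≅ O1.restrict i`.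

`isGen_pushforward`: a local generator of `L` gives a local generator of `g_* L`.
-/

set_option autoImplicit false
universe u
open CategoryTheory CategoryTheory.Limits AlgebraicGeometry TopologicalSpace Opposite
open scoped HomogeneousIdeal

namespace Groth.Agent.Lib.Helper35.OpenSec

open Groth.Agent.Lib.Helper35.GS Groth.Agent.Lib.Helper74.SymQ RelSpec
open Groth.Agent.Lib.Helper74.TwistNat

theorem nonempty_restrict_iso {X Y P : Scheme.{u}} {E : Y.Modules} [E.IsQuasicoherent]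
    (𝒮 : RelProj.QCGrAlg Y) (j : E ⟶ 𝒮.toModule) (hj : RelProj.IsGrSymAlg E 𝒮 j)
    {p : P ⟶ Y} {chart : ∀ (U : Y.Opens) (hU : IsAffineOpen U),
      (((p ⁻¹ᵁ U : P.Opens) : Scheme.{u}) ≅ Proj (𝒮.deg U hU))}
    (hP : RelProj.IsRelProj 𝒮 p chart)
    {O1 : P.Modules} {lam : ∀ (U : Y.Opens) (hU : IsAffineOpen U), O1 ⟶ GTw p chart 1 U hU}
    (hO : RelProj.IsRelTwist 𝒮 p chart 1 O1 lam)
    (g : X ⟶ Y) [IsOpenImmersion g]
    (hcov : ∀ x : X, ∃ (V : X.Opens) (e : Γ(E, g ''ᵁ V)), x ∈ V ∧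
      Groth.Agent.Lib.Helper35.Gen.IsGen E (g ''ᵁ V) e) :
    ∃ (i : X ⟶ P) (_ : IsOpenImmersion i), i ≫ p = g ∧
      Nonempty (E.restrict g ≅ O1.restrict i) := by
  -- affine refinement of the cover
  have hcov' : ∀ (U : X.Opens) (x : X), x ∈ U → ∃ (V : X.Opens), x ∈ V ∧ V ≤ U ∧
      IsAffineOpen (g ''ᵁ V) ∧ ∃ e : Γ(E, g ''ᵁ V),
        Function.Bijective (fun r : Γ(Y, g ''ᵁ V) => r • e) := by
    intro U x hx
    obtain ⟨V, e, hxV, he⟩ := hcov x
    obtain ⟨W, hW, hxW, hWle⟩ :=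
      exists_isAffineOpen_mem_and_subset (x := x) (U := U ⊓ V) ⟨hx, hxV⟩
    have hle : g ''ᵁ W ≤ g ''ᵁ V := Scheme.Hom.image_mono _ (hWle.trans inf_le_right)
    exact ⟨W, hxW, hWle.trans inf_le_left, hW.image_of_isOpenImmersion g, _, (he.mono hle).bij⟩
  haveI hiso : IsIso (p ∣_ g.opensRange) := by
    refine isIso_restrict_of_cover 𝒮 j hP hj g.opensRange ?_
    rintro _ ⟨x, rfl⟩
    obtain ⟨V, hxV, -, hV, e, he⟩ := hcov' ⊤ x trivial
    refine ⟨g ''ᵁ V, hV, e, ⟨x, hxV, rfl⟩, ?_, he⟩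
    rintro _ ⟨v, -, rfl⟩
    exact ⟨v, rfl⟩
  have hsym : ∀ (U : Y.Opens) (_ : IsAffineOpen U),
      IsSymmetricAlgebra (jLin (A := 𝒮.toQCAlg) j U) :=
    fun U hU => isSymmetricAlgebra_of_isSymAlg hj.1 U hU
  have hj1 : ∀ (U : Y.Opens) (hU : IsAffineOpen U) (x : Γ(E, U)),
      jLin (A := 𝒮.toQCAlg) j U x ∈ 𝒮.deg U hU 1 := fun U hU x => hj.2 U hU x
  obtain ⟨φ, hφ⟩ := exists_phi 𝒮 j hj1 hP hO
  obtain ⟨ψ, hψ⟩ := exists_psi φ g
  refine ⟨sec p g, inferInstance, sec_comp p g, ?_⟩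
  let B : Set X.Opens := {V | IsAffineOpen (g ''ᵁ V) ∧
    ∃ e : Γ(E, g ''ᵁ V), Function.Bijective (fun r : Γ(Y, g ''ᵁ V) => r • e)}
  have hB : Opens.IsBasis B := by
    rw [Opens.isBasis_iff_nbhd]
    intro U x hx
    obtain ⟨V, hxV, hVU, hV, e, he⟩ := hcov' U x hx
    exact ⟨V, ⟨hV, e, he⟩, hxV, hVU⟩
  haveI : IsIso ψ := by
    refine Groth.Agent.Lib.Helper40.AffBC.isIso_of_app_bijective_of_basis B hB ψ ?_
    rintro V ⟨hV, e, he⟩
    haveI : IsIso (p ∣_ (g ''ᵁ V)) := isIso_restrict_of_gen 𝒮 j hP hj (g ''ᵁ V) hV e he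
    have hpW := app_bijective_of_isIso_restrict p (g ''ᵁ V)
    have hb := tt_bijective' 𝒮 j hj1 hP hO hsym (g ''ᵁ V) hV hpW e he
    have hrs := Groth.Agent.Lib.Helper74.ModSec.rs_bijective_of_eq O1 (sec_image_eq p g V)
    have hfun : (fun a => (ψ.app V).hom a) =
        (Groth.Agent.Lib.Helper74.ModSec.rs O1 (sec_image_eq p g V).le) ∘
          (fun a => tt 𝒮 j hj1 hO (g ''ᵁ V) hV a) := by
      funext a
      rw [hψ V a, tV_eq]
      change _ = Groth.Agent.Lib.Helper74.ModSec.rs O1 _ (tt 𝒮 j hj1 hO (g ''ᵁ V) hV a)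
      rw [← hφ (g ''ᵁ V) hV a]
    change Function.Bijective (fun a => (ψ.app V).hom a)
    rw [hfun]
    exact hrs.comp hb
  exact ⟨asIso ψ⟩

/-- a generator of `L` over `V` gives a generator of `g_* L` over `g(V)` -/
theorem isGen_pushforward {X Y : Scheme.{u}} (g : X ⟶ Y) [IsOpenImmersion g] (L : X.Modules)
    (V : X.Opens) (e : Γ(L, V)) (he : Groth.Agent.Lib.Helper35.Gen.IsGen L V e) :
    ∃ e' : Γ((Scheme.Modules.pushforward g).obj L, g ''ᵁ V),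
      Groth.Agent.Lib.Helper35.Gen.IsGen ((Scheme.Modules.pushforward g).obj L) (g ''ᵁ V) e' := by
  have hle : g ⁻¹ᵁ (g ''ᵁ V) ≤ V := (Scheme.Hom.preimage_image_eq g V).le
  refine ⟨Groth.Agent.Lib.Helper35.Gen.rs L hle e, ?_⟩
  have hrange : g ''ᵁ V ≤ g.opensRange := by
    rintro _ ⟨v, -, rfl⟩
    exact ⟨v, rfl⟩
  exact Groth.Agent.Lib.Helper74.TwistGen.isGen_of_pushforward g L
    ((Scheme.Modules.pushforward g).obj L) (𝟙 _) (fun W _ => Function.bijective_id)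
    (g ''ᵁ V) hrange _ (he.mono hle)

end Groth.Agent.Lib.Helper35.OpenSec
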