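import Groth.Agent.Lib.Helper35.CoprodCI
import Groth.Agent.Lib.Helper74.RelProjClosed
import Groth.Agent.Lib.Helper74.InvSymDom
import Groth.Agent.Lib.Helper74.RelTildeQC
import Groth.Agent.Lib.Helper2.QCohLim

set_option autoImplicit false
universe u
open CategoryTheory CategoryTheory.Limits AlgebraicGeometry TopologicalSpace Opposite
open scoped HomogeneousIdeal

namespace Groth.Agent.Lib.Helper35.PBiprod

open Groth.Agent.Lib.Helper74 Groth.Agent.Lib.Helper74.SymQ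

section alg

variable {A B σ τ : Type u} [CommRing A] [SetLike σ A] [AddSubgroupClass σ A]
  [CommRing B] [SetLike τ B] [AddSubgroupClass τ B]
  {𝒜 : ℕ → σ} {ℬ : ℕ → τ} [GradedRing 𝒜] [GradedRing ℬ]
  (f : 𝒜 →+*ᵍ ℬ) (hf : ℬ₊ ≤ 𝒜₊.map f)

theorem mem_map_iff (y : Proj ℬ) (a : A) :
    a ∈ (Proj.map f hf y).asHomogeneousIdeal ↔ f a ∈ y.asHomogeneousIdeal := by
  have h : (y ∈ Proj.map f hf ⁻¹ᵁ Proj.basicOpen 𝒜 a) ↔ y ∈ Proj.basicOpen ℬ (f a) := by
    rw [Proj.map_preimage_basicOpen]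
  rw [Proj.mem_basicOpen] at h
  have h' : (y ∈ Proj.map f hf ⁻¹ᵁ Proj.basicOpen 𝒜 a) ↔
      a ∉ (Proj.map f hf y).asHomogeneousIdeal := Proj.mem_basicOpen _ a (Proj.map f hf y)
  rw [h'] at h
  exact not_iff_not.mp h

theorem surj_graded_of_surjective (hs : Function.Surjective f) :
    ∀ n, 0 < n → ∀ b ∈ ℬ n, ∃ a ∈ 𝒜 n, f a = b := by
  classical
  intro n _ b hb
  obtain ⟨a, ha⟩ := hs b
  refine ⟨DirectSum.decompose 𝒜 a n, SetLike.coe_mem _, ?_⟩
  rw [GradedRingHom.map_directSumDecompose 𝒜 ℬ f, ha, DirectSum.decompose_of_mem_same ℬ hb]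

end alg

section sheaf

variable {Y : Scheme.{u}} {E G : Y.Modules}

/-- a morphism of quasi-coherent algebras `𝒮 ⟶ 𝒮E` out of an algebra receiving `G`, compatible with a
split epimorphism `q : G ⟶ E` and the structure map of the symmetric algebra `𝒮E` of `E`, is surjective
on sections over affine opens. -/
theorem surjective_of_split [E.IsQuasicoherent] {𝒮E 𝒮 : RelSpec.QCAlg Y}
    (jE : E ⟶ 𝒮E.toModule) (hjE : RelSpec.IsSymAlg E 𝒮E jE)
    (j : G ⟶ 𝒮.toModule) (π : 𝒮 ⟶ 𝒮E) (q : G ⟶ E) (i : E ⟶ G) (hiq : i ≫ q = 𝟙 E)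
    (hjπ : j ≫ RelSpec.QCAlg.Hom.toModuleMap π = q ≫ jE)
    (U : Y.Opens) (hU : IsAffineOpen U) : Function.Surjective (π.hom.app (op U)).hom := by
  have hsym := isSymmetricAlgebra_of_isSymAlg hjE U hU
  intro x
  change x ∈ (π.hom.app (op U)).hom.range
  induction x using hsym.induction with
  | algebraMap r => exact ⟨algebraMap _ _ r, hom_algebraMap π U r⟩
  | ι m =>
    refine ⟨(j.app U).hom ((i.app U).hom m), ?_⟩
    have h1 := congrArg (fun t => (Scheme.Modules.Hom.app t U).hom ((i.app U).hom m)) hjπ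
    have h2 := congrArg (fun t => (Scheme.Modules.Hom.app t U).hom m) hiq
    simp only [Scheme.Modules.Hom.comp_app, Scheme.Modules.Hom.id_app] at h1 h2
    change (π.hom.app (op U)).hom ((j.app U).hom ((i.app U).hom m)) = (jE.app U).hom m
    refine Eq.trans ?_ (congrArg (fun t => (jE.app U).hom t) h2)
    exact h1
  | mul a b ha hb => exact Subring.mul_mem _ ha hb
  | add a b ha hb => exact Subring.add_mem _ ha hb

end sheaf

section rel

variable {Y PA PB : Scheme.{u}} {𝒜 ℬ : RelProj.QCGrAlg Y}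
    (φ : 𝒜.toQCAlg ⟶ ℬ.toQCAlg) (hφ : RelProj.IsGradedHom φ)
    (hirr : ∀ (U : Y.Opens) (hU : IsAffineOpen U),
      (ℬ.deg U hU)₊ ≤ ((𝒜.deg U hU)₊).map (RelProj.gradedHomAt φ hφ U hU))
    {pA : PA ⟶ Y} {pB : PB ⟶ Y}
    {chartA : ∀ (U : Y.Opens) (hU : IsAffineOpen U),
      (((pA ⁻¹ᵁ U : PA.Opens) : Scheme.{u}) ≅ Proj (𝒜.deg U hU))}
    {chartB : ∀ (U : Y.Opens) (hU : IsAffineOpen U),
      (((pB ⁻¹ᵁ U : PB.Opens) : Scheme.{u}) ≅ Proj (ℬ.deg U hU))}

/-- a morphism of relative Proj's induced by a graded homomorphism which is surjective on sections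
over affine opens is a closed immersion. -/
theorem isClosedImmersion_of_surjective
    (hA : RelProj.IsRelProj 𝒜 pA chartA) (hB : RelProj.IsRelProj ℬ pB chartB)
    (h : PB ⟶ PA) (hh : RelProj.IsRelProjMap φ hφ hirr chartA chartB h)
    (hs : ∀ (U : Y.Opens) (_ : IsAffineOpen U), Function.Surjective (φ.hom.app (op U)).hom) :
    IsClosedImmersion h :=
  RelProjLib.relProjMap_of_forall φ hφ hirr @IsClosedImmersion hA hB h hh (fun U hU =>
    RelProjLib.isClosedImmersion_map_of_pos _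
      (surj_graded_of_surjective (RelProj.gradedHomAt φ hφ U hU) (hs U hU)) (hirr U hU))

theorem emb_comp_map (h : PB ⟶ PA) (hh : RelProj.IsRelProjMap φ hφ hirr chartA chartB h)
    (U : Y.Opens) (hU : IsAffineOpen U) :
    RelProj.emb pB chartB U hU ≫ h =
      Proj.map (RelProj.gradedHomAt φ hφ U hU) (hirr U hU) ≫ RelProj.emb pA chartA U hU := by
  unfold RelProj.emb
  rw [Category.assoc, hh U hU, Iso.inv_hom_id_assoc]

theorem map_emb_apply (h : PB ⟶ PA) (hh : RelProj.IsRelProjMap φ hφ hirr chartA chartB h)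
    (U : Y.Opens) (hU : IsAffineOpen U) (y : Proj (ℬ.deg U hU)) :
    h (RelProj.emb pB chartB U hU y) =
      RelProj.emb pA chartA U hU (Proj.map (RelProj.gradedHomAt φ hφ U hU) (hirr U hU) y) := by
  rw [← Scheme.Hom.comp_apply, ← Scheme.Hom.comp_apply, emb_comp_map φ hφ hirr h hh U hU]

end rel

section main

/-- the two linear embeddings `P(E) → P(E ⊕ F) ← P(F)` have disjoint images. -/
theorem disjoint_range {Y PE PF P : Scheme.{u}} (E F : Y.Modules)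
    (hE : Coh.IsQCoh E) (hF : Coh.IsQCoh F) (𝒮E 𝒮F 𝒮 : RelProj.QCGrAlg Y)
    (jE : E ⟶ 𝒮E.toModule) (jF : F ⟶ 𝒮F.toModule)
    (j : E ⊞ F ⟶ 𝒮.toModule) (hj : RelProj.IsGrSymAlg (E ⊞ F) 𝒮 j)
    (πE : 𝒮.toQCAlg ⟶ 𝒮E.toQCAlg) (hπE : RelProj.IsGradedHom πE)
    (hjπE : j ≫ RelSpec.QCAlg.Hom.toModuleMap πE = biprod.fst ≫ jE)
    (πF : 𝒮.toQCAlg ⟶ 𝒮F.toQCAlg) (hπF : RelProj.IsGradedHom πF)
    (hjπF : j ≫ RelSpec.QCAlg.Hom.toModuleMap πF = biprod.snd ≫ jF)
    (hirrE : ∀ (U : Y.Opens) (hU : IsAffineOpen U),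
      (𝒮E.deg U hU)₊ ≤ ((𝒮.deg U hU)₊).map (RelProj.gradedHomAt πE hπE U hU))
    (hirrF : ∀ (U : Y.Opens) (hU : IsAffineOpen U),
      (𝒮F.deg U hU)₊ ≤ ((𝒮.deg U hU)₊).map (RelProj.gradedHomAt πF hπF U hU))
    (p : P ⟶ Y) (pE : PE ⟶ Y) (pF : PF ⟶ Y)
    (chart : ∀ (U : Y.Opens) (hU : IsAffineOpen U), ((p ⁻¹ᵁ U : P.Opens) : Scheme.{u}) ≅ Proj (𝒮.deg U hU))
    (chartE : ∀ (U : Y.Opens) (hU : IsAffineOpen U), ((pE ⁻¹ᵁ U : PE.Opens) : Scheme.{u}) ≅ Proj (𝒮E.deg U hU))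
    (chartF : ∀ (U : Y.Opens) (hU : IsAffineOpen U), ((pF ⁻¹ᵁ U : PF.Opens) : Scheme.{u}) ≅ Proj (𝒮F.deg U hU))
    (hP : RelProj.IsRelProj 𝒮 p chart) (hPE : RelProj.IsRelProj 𝒮E pE chartE) (hPF : RelProj.IsRelProj 𝒮F pF chartF)
    (hE' : PE ⟶ P) (hhE : RelProj.IsRelProjMap πE hπE hirrE chart chartE hE')
    (hF' : PF ⟶ P) (hhF : RelProj.IsRelProjMap πF hπF hirrF chart chartF hF')
    (x : PE) (x' : PF) : hE' x ≠ hF' x' := by
  haveI : E.IsQuasicoherent := hE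
  haveI : F.IsQuasicoherent := hF
  haveI : (E ⊞ F).IsQuasicoherent := Groth.Agent.Lib.Helper2.KerSec.isQuasicoherent_biprod E F
  intro heq
  obtain ⟨U, hU, hz⟩ := RelTilde.exists_affine_mem p (hE' x)
  have hcompE : hE' ≫ p = pE := RelProjLib.relProjMap_comp πE hπE hirrE hP hPE hE' hhE
  have hcompF : hF' ≫ p = pF := RelProjLib.relProjMap_comp πF hπF hirrF hP hPF hF' hhF
  have hxU : x ∈ pE ⁻¹ᵁ U := by
    rw [← hcompE]
    exact hz
  have hx'U : x' ∈ pF ⁻¹ᵁ U := by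
    rw [← hcompF]
    change p (hF' x') ∈ U
    rw [← heq]
    exact hz
  obtain ⟨yE, rfl⟩ := RelTilde.exists_emb_eq (chart := chartE) U hU x hxU
  obtain ⟨yF, rfl⟩ := RelTilde.exists_emb_eq (chart := chartF) U hU x' hx'U
  rw [map_emb_apply πE hπE hirrE hE' hhE U hU, map_emb_apply πF hπF hirrF hF' hhF U hU] at heq
  have hw := (RelProj.emb p chart U hU).isOpenEmbedding.injective heq
  set w := Proj.map (RelProj.gradedHomAt πE hπE U hU) (hirrE U hU) yE with hw_def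
  have hinl : ∀ a : Γ(E, U), ((j.app U).hom ((biprod.inl : E ⟶ E ⊞ F).app U a) :
      𝒮.presheaf.obj (op U)) ∈ w.asHomogeneousIdeal := by
    intro a
    rw [hw]
    refine (mem_map_iff (RelProj.gradedHomAt πF hπF U hU) (hirrF U hU) yF _).mpr ?_
    have h1 := congrArg (fun t => (Scheme.Modules.Hom.app t U).hom
      ((Scheme.Modules.Hom.app (biprod.inl : E ⟶ E ⊞ F) U).hom a)) hjπF
    have h2 := congrArg (fun t => (Scheme.Modules.Hom.app t U).hom a)
      (biprod.inl_snd : (biprod.inl : E ⟶ E ⊞ F) ≫ biprod.snd = 0)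
    simp only [Scheme.Modules.Hom.comp_app, Scheme.Modules.Hom.zero_app] at h1 h2
    have h3 : (RelProj.gradedHomAt πF hπF U hU)
        ((j.app U).hom ((Scheme.Modules.Hom.app (biprod.inl : E ⟶ E ⊞ F) U).hom a)) = 0 := by
      refine Eq.trans h1 ?_
      refine Eq.trans (congrArg (fun t => (jF.app U).hom t) h2) ?_
      exact map_zero _
    rw [h3]
    exact zero_mem _
  have hinr : ∀ b : Γ(F, U), ((j.app U).hom ((biprod.inr : F ⟶ E ⊞ F).app U b) :
      𝒮.presheaf.obj (op U)) ∈ w.asHomogeneousIdeal := by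
    intro b
    rw [hw_def]
    refine (mem_map_iff (RelProj.gradedHomAt πE hπE U hU) (hirrE U hU) yE _).mpr ?_
    have h1 := congrArg (fun t => (Scheme.Modules.Hom.app t U).hom
      ((Scheme.Modules.Hom.app (biprod.inr : F ⟶ E ⊞ F) U).hom b)) hjπE
    have h2 := congrArg (fun t => (Scheme.Modules.Hom.app t U).hom b)
      (biprod.inr_fst : (biprod.inr : F ⟶ E ⊞ F) ≫ biprod.fst = 0)
    simp only [Scheme.Modules.Hom.comp_app, Scheme.Modules.Hom.zero_app] at h1 h2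
    have h3 : (RelProj.gradedHomAt πE hπE U hU)
        ((j.app U).hom ((Scheme.Modules.Hom.app (biprod.inr : F ⟶ E ⊞ F) U).hom b)) = 0 := by
      refine Eq.trans h1 ?_
      refine Eq.trans (congrArg (fun t => (jE.app U).hom t) h2) ?_
      exact map_zero _
    rw [h3]
    exact zero_mem _
  have hall : ∀ s : Γ(E ⊞ F, U), ((j.app U).hom s : 𝒮.presheaf.obj (op U)) ∈
      w.asHomogeneousIdeal := by
    intro s
    have h2 := congrArg (fun t => (Scheme.Modules.Hom.app t U).hom s)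
      (biprod.total : (biprod.fst : E ⊞ F ⟶ E) ≫ biprod.inl + biprod.snd ≫ biprod.inr = 𝟙 _)
    simp only [Scheme.Modules.Hom.comp_app, Scheme.Modules.Hom.add_app,
      Scheme.Modules.Hom.id_app] at h2
    have h3 : s = (Scheme.Modules.Hom.app (biprod.inl : E ⟶ E ⊞ F) U).hom
        ((Scheme.Modules.Hom.app (biprod.fst : E ⊞ F ⟶ E) U).hom s) +
        (Scheme.Modules.Hom.app (biprod.inr : F ⟶ E ⊞ F) U).hom
        ((Scheme.Modules.Hom.app (biprod.snd : E ⊞ F ⟶ F) U).hom s) := h2.symm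
    rw [h3, map_add]
    exact add_mem (hinl _) (hinr _)
  have hirr := InvSym.irrelevant_le_span_range (𝒮.deg U hU)
      (isSymmetricAlgebra_of_isSymAlg hj.1 U hU) (𝒮.str_mem U hU) (hj.2 U hU)
  refine w.not_irrelevant_le (hirr.trans (Ideal.span_le.mpr ?_))
  rintro _ ⟨m, rfl⟩
  exact hall m

end main

end Groth.Agent.Lib.Helper35.PBiprod
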