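import Groth.Agent.Lib.Helper20.PerfAff2
import Groth.Agent.Lib.Helper20.UnivHomeoPerf
import Groth.Agent.Lib.Helper35.Gen3

/-!
# Purely inseparable base change: `p`-power lifting of functions (helper35)
-/

set_option autoImplicit false
universe u

open CategoryTheory AlgebraicGeometry TopologicalSpace Opposite Limits FrobSch

namespace Groth.Agent.Lib.Helper35.PInsep

open Groth.Agent.Lib.Helper35.Gen Groth.Agent.Lib.Helper20.PerfAff

/-- in a pushout square of commutative rings of characteristic `p`, if every element of `B` has a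
`p`-power in the image of `R`, then every element of `C` has a `p`-power in the image of `A`. -/
theorem exists_pow_of_isPushout {R A B C : CommRingCat.{u}} (a : R ⟶ A) (b : R ⟶ B) (c : A ⟶ C)
    (d : B ⟶ C) (H : IsPushout a b c d) (p : ℕ) [Fact p.Prime] (hp : (p : C) = 0)
    (hB : ∀ y : B, ∃ (n : ℕ) (r : R), b.hom r = y ^ p ^ n) (x : C) :
    ∃ (n : ℕ) (a' : A), c.hom a' = x ^ p ^ n := by
  classical
  have hadd : ∀ (x y : C) (m : ℕ), (x + y) ^ p ^ m = x ^ p ^ m + y ^ p ^ m := by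
    intro x y m
    rcases subsingleton_or_nontrivial C with h | h
    · exact Subsingleton.elim _ _
    · haveI : CharP C p := (CharP.charP_iff_prime_eq_zero Fact.out).2 hp
      exact add_pow_char_pow ..
  let S : Subring C :=
    { carrier := {x | ∃ (n : ℕ) (a' : A), c.hom a' = x ^ p ^ n}
      mul_mem' := by
        rintro x y ⟨n₁, a₁, h₁⟩ ⟨n₂, a₂, h₂⟩
        refine ⟨n₁ + n₂, a₁ ^ p ^ n₂ * a₂ ^ p ^ n₁, ?_⟩
        rw [map_mul, map_pow, map_pow, h₁, h₂, ← pow_mul, ← pow_mul, ← pow_add, ← pow_add,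
          add_comm n₂ n₁, mul_pow]
      one_mem' := ⟨0, 1, by simp⟩
      add_mem' := by
        rintro x y ⟨n₁, a₁, h₁⟩ ⟨n₂, a₂, h₂⟩
        refine ⟨n₁ + n₂, a₁ ^ p ^ n₂ + a₂ ^ p ^ n₁, ?_⟩
        rw [map_add, map_pow, map_pow, h₁, h₂, ← pow_mul, ← pow_mul, ← pow_add, ← pow_add,
          add_comm n₂ n₁, hadd]
      zero_mem' := ⟨0, 0, by simp⟩
      neg_mem' := by
        rintro x ⟨n, a', h⟩
        refine ⟨n, (-1) ^ p ^ n * a', ?_⟩
        rw [map_mul, map_pow, map_neg, map_one, h, ← mul_pow, neg_one_mul] }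
  have hcS : ∀ a' : A, c.hom a' ∈ S := fun a' => ⟨0, a', by simp⟩
  have hw' : ∀ r : R, c.hom (a.hom r) = d.hom (b.hom r) := fun r =>
    congrArg (fun φ : R ⟶ C => φ.hom r) H.w
  have hdS : ∀ y : B, d.hom y ∈ S := by
    intro y
    obtain ⟨n, r, hr⟩ := hB y
    refine ⟨n, a.hom r, ?_⟩
    rw [hw', hr, map_pow]
  let c' : A ⟶ CommRingCat.of S := CommRingCat.ofHom (c.hom.codRestrict S hcS)
  let d' : B ⟶ CommRingCat.of S := CommRingCat.ofHom (d.hom.codRestrict S hdS)
  let ι : CommRingCat.of S ⟶ C := CommRingCat.ofHom S.subtype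
  have hw : a ≫ c' = b ≫ d' := by
    ext r
    exact hw' r
  have hc'ι : c' ≫ ι = c := by
    ext r
    rfl
  have hd'ι : d' ≫ ι = d := by
    ext r
    rfl
  have h1 : c ≫ (H.desc c' d' hw ≫ ι) = c ≫ 𝟙 C := by
    rw [← Category.assoc, H.inl_desc, hc'ι, Category.comp_id]
  have h2 : d ≫ (H.desc c' d' hw ≫ ι) = d ≫ 𝟙 C := by
    rw [← Category.assoc, H.inr_desc, hd'ι, Category.comp_id]
  have h3 : H.desc c' d' hw ≫ ι = 𝟙 C := H.hom_ext h1 h2
  have hx : ι.hom ((H.desc c' d' hw).hom x) = x := congrArg (fun φ : C ⟶ C => φ.hom x) h3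
  have hmem : ι.hom ((H.desc c' d' hw).hom x) ∈ S := ((H.desc c' d' hw).hom x).2
  rw [hx] at hmem
  exact hmem

section Scheme

variable {k k' : Type u} [Field k] [Field k'] [Algebra k k'] [IsPurelyInseparable k k']
  (p : ℕ) [Fact p.Prime] [CharP k p] {X : Scheme.{u}} (f : X ⟶ Spec (CommRingCat.of k))

/-- every element of `Γ(Spec k', ⊤)` has a `p`-power coming from `Γ(Spec k, ⊤)` -/
theorem exists_pow_appTop (y : Γ(Spec (CommRingCat.of k'), ⊤)) :
    ∃ (n : ℕ) (r : Γ(Spec (CommRingCat.of k), ⊤)),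
      (Spec.map (CommRingCat.ofHom (algebraMap k k'))).appTop.hom r = y ^ p ^ n := by
  haveI : ExpChar k p := ExpChar.prime Fact.out
  obtain ⟨n, a0, ha0⟩ := IsPurelyInseparable.pow_mem k p
    ((Scheme.ΓSpecIso (CommRingCat.of k')).hom.hom y)
  refine ⟨n, (Scheme.ΓSpecIso (CommRingCat.of k)).inv.hom a0, ?_⟩
  have hinj : Function.Injective (Scheme.ΓSpecIso (CommRingCat.of k')).hom.hom :=
    (Scheme.ΓSpecIso (CommRingCat.of k')).commRingCatIsoToRingEquiv.injective
  apply hinj
  have h1 := congrArg (fun ψ : Γ(Spec (CommRingCat.of k), ⊤) ⟶ CommRingCat.of k' =>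
    ψ.hom ((Scheme.ΓSpecIso (CommRingCat.of k)).inv.hom a0))
    (Scheme.ΓSpecIso_naturality (CommRingCat.ofHom (algebraMap k k')))
  have h2 : (Scheme.ΓSpecIso (CommRingCat.of k)).hom.hom
      ((Scheme.ΓSpecIso (CommRingCat.of k)).inv.hom a0) = a0 :=
    congrArg (fun ψ : CommRingCat.of k ⟶ CommRingCat.of k => ψ.hom a0)
      (Scheme.ΓSpecIso (CommRingCat.of k)).inv_hom_id
  rw [map_pow, ← ha0]
  refine h1.trans ?_
  change algebraMap k k' ((Scheme.ΓSpecIso (CommRingCat.of k)).hom.hom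
      ((Scheme.ΓSpecIso (CommRingCat.of k)).inv.hom a0)) = _
  rw [h2]

include p in
/-- purely inseparable field extensions give universal homeomorphisms -/
theorem isUnivHomeo_specMap :
    FlatMor.IsUnivHomeo (Spec.map (CommRingCat.ofHom (algebraMap k k'))) := by
  haveI : ExpChar k p := ExpChar.prime Fact.out
  haveI : CharP k' p := charP_of_injective_algebraMap (algebraMap k k').injective p
  rw [Groth.Agent.Lib.Helper20.UnivHomeo.isUnivHomeo_iff]
  refine Groth.Agent.Lib.Helper20.UnivHomeo.uh_of_isPRadical p Fact.out (CharP.cast_eq_zero k' p)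
    ?_ ?_
  · intro x
    obtain ⟨n, y, hy⟩ := IsPurelyInseparable.pow_mem k p x
    exact ⟨n, y, hy⟩
  · intro a ha
    have : a = 0 := (algebraMap k k').injective (by rw [ha, map_zero])
    rw [this]
    exact IsNilpotent.zero

include p in
theorem isHomeomorph_fst :
    IsHomeomorph (pullback.fst f (Spec.map (CommRingCat.ofHom (algebraMap k k')))) :=
  isUnivHomeo_specMap (k := k) (k' := k') p _ _ _
    (IsPullback.of_hasPullback f (Spec.map (CommRingCat.ofHom (algebraMap k k'))))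

end Scheme

section Inj

/-- stalk maps of flat morphisms are injective -/
theorem stalkMap_injective {X Y : Scheme.{u}} (f : X ⟶ Y) [Flat f] (x : X) :
    Function.Injective (f.stalkMap x).hom := by
  algebraize [(f.stalkMap x).hom]
  have : Module.FaithfullyFlat (Y.presheaf.stalk (f x)) (X.presheaf.stalk x) :=
    @Module.FaithfullyFlat.of_flat_of_isLocalHom _ _ _ _ _ _ _
      (Flat.stalkMap f x) (f.toLRSHom.prop x)
  exact ‹RingHom.FaithfullyFlat _›.injective

/-- pullback of functions along a flat surjective morphism is injective -/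
theorem app_injective {X Y : Scheme.{u}} (f : X ⟶ Y) [Flat f] [Surjective f] (U : Y.Opens) :
    Function.Injective (f.app U).hom := by
  intro s t hst
  refine TopCat.Presheaf.section_ext Y.sheaf U s t ?_
  intro y hy
  obtain ⟨x, rfl⟩ := f.surjective y
  apply stalkMap_injective f x
  have h1 := Scheme.Hom.germ_stalkMap_apply f U x hy s
  have h2 := Scheme.Hom.germ_stalkMap_apply f U x hy t
  exact h1.trans ((congrArg _ hst).trans h2.symm)

end Inj

section Pow

variable {k k' : Type u} [Field k] [Field k'] [Algebra k k'] [IsPurelyInseparable k k']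
  (p : ℕ) [Fact p.Prime] [CharP k p] {X : Scheme.{u}} (f : X ⟶ Spec (CommRingCat.of k))

instance flat_specMap : Flat (Spec.map (CommRingCat.ofHom (algebraMap k k'))) := by
  rw [HasRingHomProperty.Spec_iff (P := @Flat)]
  exact RingHom.flat_algebraMap_iff.mpr inferInstance

theorem appLE_self_apply {X Y : Scheme.{u}} (g : X ⟶ Y) (U : Y.Opens) (e : g ⁻¹ᵁ U ≤ g ⁻¹ᵁ U)
    (r : Γ(Y, U)) : (g.appLE U (g ⁻¹ᵁ U) e).hom r = (g.app U).hom r := by
  have h : g.appLE U (g ⁻¹ᵁ U) e = g.app U := g.appLE_eq_app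
  rw [h]

include p in
theorem powLifts_affine (U : X.affineOpens) :
    PowLifts (pullback.fst f (Spec.map (CommRingCat.ofHom (algebraMap k k')))) p U.1 := by
  intro b
  have H := IsPullback.of_hasPullback f (Spec.map (CommRingCat.ofHom (algebraMap k k')))
  have hUST : (⊤ : (Spec (CommRingCat.of k')).Opens) ≤
      (Spec.map (CommRingCat.ofHom (algebraMap k k'))) ⁻¹ᵁ ⊤ := fun _ _ => trivial
  have hUSX : U.1 ≤ f ⁻¹ᵁ ⊤ := fun _ _ => trivial
  have hUY : (pullback.fst f (Spec.map (CommRingCat.ofHom (algebraMap k k')))) ⁻¹ᵁ U.1 =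
      (pullback.fst f (Spec.map (CommRingCat.ofHom (algebraMap k k')))) ⁻¹ᵁ U.1 ⊓
        (pullback.snd f (Spec.map (CommRingCat.ofHom (algebraMap k k')))) ⁻¹ᵁ ⊤ := by
    ext y
    simp
  have hiso := isIso_pushoutSection_of_isAffineOpen H hUST hUSX hUY
    (isAffineOpen_top _) (isAffineOpen_top _) U.2
  have hpo := (isIso_pushoutSection_iff H hUST hUSX hUY).mp hiso
  haveI : IsCharP (pullback f (Spec.map (CommRingCat.ofHom (algebraMap k k')))) p :=
    IsCharP.of_hom (pullback.fst f (Spec.map (CommRingCat.ofHom (algebraMap k k'))) ≫ f) p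
  have hp0 := natCast_eq_zero_app (pullback f (Spec.map (CommRingCat.ofHom (algebraMap k k')))) p
    ((pullback.fst f (Spec.map (CommRingCat.ofHom (algebraMap k k')))) ⁻¹ᵁ U.1)
  have hB : ∀ y : Γ(Spec (CommRingCat.of k'), ⊤), ∃ (n : ℕ) (r : Γ(Spec (CommRingCat.of k), ⊤)),
      ((Spec.map (CommRingCat.ofHom (algebraMap k k'))).appLE ⊤ ⊤ hUST).hom r = y ^ p ^ n := by
    intro y
    obtain ⟨n, r, hr⟩ := exists_pow_appTop (k := k) (k' := k') p y
    refine ⟨n, r, ?_⟩
    rw [← hr]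
    exact appLE_self_apply (Spec.map (CommRingCat.ofHom (algebraMap k k'))) ⊤ hUST r
  obtain ⟨n, a', ha'⟩ := exists_pow_of_isPushout _ _ _ _ hpo p hp0 hB b
  refine ⟨n, a', ?_⟩
  rw [← ha']
  exact (appLE_self_apply _ U.1 _ a').symm

end Pow

end Groth.Agent.Lib.Helper35.PInsep
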