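import Mathlib

/-!
# p-linear endomorphisms of finite-dimensional vector spaces over algebraically closed fields

`F : V →ₛₗ[frobenius k p] V`.  Fixed vectors, Lang's theorem, Fitting-type decomposition.
-/

namespace Groth.Agent.Lib.Helper35.PLinear

open Polynomial

variable {k : Type*} [Field k] {p : ℕ} [Fact p.Prime] [CharP k p]
variable {V : Type*} [AddCommGroup V] [Module k V]

theorem map_smul_pow (F : V →ₛₗ[frobenius k p] V) (a : k) (v : V) : F (a • v) = a ^ p • F v := by
  rw [F.map_smulₛₗ, frobenius_def]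

/-- The span of the fixed vectors. -/
def fixedSpan (F : V →ₛₗ[frobenius k p] V) : Submodule k V := Submodule.span k {v | F v = v}

/-- The span of the vectors killed by an iterate. -/
def nilSpan (F : V →ₛₗ[frobenius k p] V) : Submodule k V :=
  Submodule.span k {v | ∃ m : ℕ, (⇑F)^[m] v = 0}

theorem linearIndependent_of_fixed {ι : Type*} [Fintype ι] (F : V →ₛₗ[frobenius k p] V)
    (e : ι → V) (he : ∀ i, F (e i) = e i)
    (hind : ∀ c : ι → ℤ, ∑ i, c i • e i = 0 → ∀ i, (p : ℤ) ∣ c i) :
    LinearIndependent k e := by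
  classical
  rw [Fintype.linearIndependent_iff]
  suffices H : ∀ (n : ℕ) (a : ι → k), (Finset.univ.filter (fun i => a i ≠ 0)).card = n →
      ∑ i, a i • e i = 0 → ∀ i, a i = 0 from fun a ha => H _ a rfl ha
  intro n
  induction n using Nat.strong_induction_on with
  | _ n ih =>
    intro a hcard hsum
    by_contra hne
    push_neg at hne
    obtain ⟨i0, hi0⟩ := hne
    let b : ι → k := fun i => a i / a i0
    have hb0 : b i0 = 1 := div_self hi0
    have hbsum : ∑ i, b i • e i = 0 := by
      have : ∑ i, b i • e i = (a i0)⁻¹ • ∑ i, a i • e i := by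
        rw [Finset.smul_sum]
        refine Finset.sum_congr rfl (fun i _ => ?_)
        rw [smul_smul]
        congr 1
        simp [b, div_eq_inv_mul]
      rw [this, hsum, smul_zero]
    have hFsum : ∑ i, (b i) ^ p • e i = 0 := by
      have := congrArg F hbsum
      rw [map_sum, map_zero] at this
      rw [← this]
      refine Finset.sum_congr rfl (fun i _ => ?_)
      rw [map_smul_pow, he]
    have hdiff : ∑ i, ((b i) ^ p - b i) • e i = 0 := by
      simp only [sub_smul, Finset.sum_sub_distrib, hFsum, hbsum, sub_zero]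
    have hsupp : (Finset.univ.filter (fun i => (b i) ^ p - b i ≠ 0)).card < n := by
      rw [← hcard]
      apply Finset.card_lt_card
      rw [Finset.ssubset_iff_of_subset]
      · exact ⟨i0, by simp [hi0], by simp [hb0]⟩
      · intro i
        simp only [Finset.mem_filter, Finset.mem_univ, true_and]
        intro h ha0
        apply h
        simp [b, ha0, (Fact.out : p.Prime).ne_zero]
    have hall := ih _ hsupp (fun i => (b i) ^ p - b i) rfl hdiff
    have hint : ∀ i, ∃ n : ℤ, (n : k) = b i := by
      intro i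
      have : (b i) ^ p = b i := sub_eq_zero.mp (hall i)
      exact (mem_bot_iff_intCast p k).mp ((Subfield.mem_bot_iff_pow_eq_self k p).mpr this)
    choose c hc using hint
    have hcsum : ∑ i, c i • e i = 0 := by
      rw [← hbsum]
      refine Finset.sum_congr rfl (fun i _ => ?_)
      rw [← hc i, Int.cast_smul_eq_zsmul]
    have hdvd := hind c hcsum i0
    have h0 : (c i0 : k) = 0 := by
      obtain ⟨m, hm⟩ := hdvd
      rw [hm]
      push_cast
      rw [CharP.cast_eq_zero k p, zero_mul]
    rw [hc i0, hb0] at h0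
    exact one_ne_zero h0

section span

variable (F : V →ₛₗ[frobenius k p] V)

theorem fixedSpan_le_comap : fixedSpan F ≤ (fixedSpan F).comap F := by
  refine Submodule.span_le.mpr (fun v hv => ?_)
  simp only [Submodule.comap_coe, Set.mem_preimage, SetLike.mem_coe]
  have hv' : F v = v := hv
  rw [hv']
  exact Submodule.subset_span hv

theorem map_mem_fixedSpan {v : V} (hv : v ∈ fixedSpan F) : F v ∈ fixedSpan F :=
  fixedSpan_le_comap F hv

variable [IsAlgClosed k]

theorem exists_map_eq_of_mem_fixedSpan {y : V} (hy : y ∈ fixedSpan F) :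
    ∃ s ∈ fixedSpan F, F s = y := by
  induction hy using Submodule.closure_induction with
  | zero => exact ⟨0, Submodule.zero_mem _, map_zero _⟩
  | add x y _ _ hx hy =>
    obtain ⟨s, hs, rfl⟩ := hx
    obtain ⟨t, ht, rfl⟩ := hy
    exact ⟨s + t, Submodule.add_mem _ hs ht, map_add _ _ _⟩
  | smul_mem a x hx =>
    obtain ⟨b, hb⟩ := IsAlgClosed.exists_pow_nat_eq a (Fact.out : p.Prime).pos
    have hx' : F x = x := hx
    exact ⟨b • x, Submodule.smul_mem _ _ (Submodule.subset_span hx), by
      rw [map_smul_pow, hb, hx']⟩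

theorem exists_map_sub_eq_of_mem_fixedSpan {y : V} (hy : y ∈ fixedSpan F) :
    ∃ s ∈ fixedSpan F, F s - s = y := by
  induction hy using Submodule.closure_induction with
  | zero => exact ⟨0, Submodule.zero_mem _, by simp⟩
  | add x y _ _ hx hy =>
    obtain ⟨s, hs, rfl⟩ := hx
    obtain ⟨t, ht, rfl⟩ := hy
    exact ⟨s + t, Submodule.add_mem _ hs ht, by rw [map_add]; abel⟩
  | smul_mem a x hx =>
    have hdeg : (X ^ p - X - C a : k[X]).degree ≠ 0 := by
      have h1 : (X ^ p - X - C a : k[X]) = X ^ p - (X + C a) := by ring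
      rw [h1, degree_sub_eq_left_of_degree_lt]
      · rw [degree_X_pow]
        exact_mod_cast (Fact.out : p.Prime).ne_zero
      · rw [degree_X_pow]
        calc (X + C a : k[X]).degree ≤ 1 := by
              refine (degree_add_le _ _).trans (max_le degree_X_le (degree_C_le.trans zero_le_one))
          _ < (p : WithBot ℕ) := by exact_mod_cast (Fact.out : p.Prime).one_lt
    obtain ⟨t, ht⟩ := IsAlgClosed.exists_root _ hdeg
    have ht' : t ^ p - t = a := by
      simp only [IsRoot.def, eval_sub, eval_pow, eval_X, eval_C] at ht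
      exact sub_eq_zero.mp ht
    have hx' : F x = x := hx
    exact ⟨t • x, Submodule.smul_mem _ _ (Submodule.subset_span hx), by
      rw [map_smul_pow, hx', ← sub_smul, ht']⟩

end span


section inj

variable (F : V →ₛₗ[frobenius k p] V)

theorem eq_zero_of_map_eq_zero_of_mem_fixedSpan {v : V} (hv : v ∈ fixedSpan F) (h0 : F v = 0) :
    v = 0 := by
  classical
  obtain ⟨b, hbsub, hspan, hli⟩ := exists_linearIndependent k {v : V | F v = v}
  rw [fixedSpan, ← hspan, Finsupp.mem_span_iff_linearCombination] at hv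
  obtain ⟨c, rfl⟩ := hv
  rw [Finsupp.linearCombination_apply, Finsupp.sum, map_sum] at h0
  have h1 : ∑ i ∈ c.support, (c i) ^ p • (i : V) = 0 := by
    rw [← h0]
    refine Finset.sum_congr rfl (fun i _ => ?_)
    have hi : F (i : V) = i := hbsub i.2
    rw [map_smul_pow, hi]
  have h2 := (linearIndependent_iff'.mp hli) c.support (fun i => (c i) ^ p) h1
  have h3 : c = 0 := by
    ext i
    by_cases hi : i ∈ c.support
    · have := h2 i hi
      simpa using pow_eq_zero_iff (Fact.out : p.Prime).ne_zero |>.mp this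
    · simpa using hi
  rw [h3, map_zero]

theorem eq_zero_of_iterate_eq_zero_of_mem_fixedSpan (m : ℕ) {v : V} (hv : v ∈ fixedSpan F)
    (h0 : (⇑F)^[m] v = 0) : v = 0 := by
  induction m generalizing v with
  | zero => simpa using h0
  | succ m ih =>
    rw [Function.iterate_succ_apply] at h0
    exact eq_zero_of_map_eq_zero_of_mem_fixedSpan F hv (ih (map_mem_fixedSpan F hv) h0)

theorem iterate_smul (m : ℕ) (a : k) (v : V) : (⇑F)^[m] (a • v) = a ^ (p ^ m) • (⇑F)^[m] v := by
  induction m generalizing a v with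
  | zero => simp
  | succ m ih =>
    rw [Function.iterate_succ_apply, Function.iterate_succ_apply, map_smul_pow, ih, ← pow_mul,
      pow_succ']

theorem iterate_add (m : ℕ) (v w : V) : (⇑F)^[m] (v + w) = (⇑F)^[m] v + (⇑F)^[m] w := by
  induction m generalizing v w with
  | zero => simp
  | succ m ih =>
    rw [Function.iterate_succ_apply, Function.iterate_succ_apply, Function.iterate_succ_apply,
      map_add, ih]

theorem iterate_zero (m : ℕ) : (⇑F)^[m] (0 : V) = 0 := by
  induction m with
  | zero => simp
  | succ m ih => rw [Function.iterate_succ_apply, map_zero, ih]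

theorem exists_iterate_eq_zero_of_mem_nilSpan {v : V} (hv : v ∈ nilSpan F) :
    ∃ m : ℕ, (⇑F)^[m] v = 0 := by
  induction hv using Submodule.span_induction with
  | mem x hx => exact hx
  | zero => exact ⟨0, rfl⟩
  | add x y _ _ hx hy =>
    obtain ⟨m, hm⟩ := hx
    obtain ⟨n, hn⟩ := hy
    refine ⟨m + n, ?_⟩
    have h1 : (⇑F)^[m + n] x = 0 := by
      rw [add_comm, Function.iterate_add_apply, hm, iterate_zero]
    have h2 : (⇑F)^[m + n] y = 0 := by
      rw [Function.iterate_add_apply, hn, iterate_zero]
    rw [iterate_add, h1, h2, add_zero]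
  | smul a x _ hx =>
    obtain ⟨m, hm⟩ := hx
    exact ⟨m, by rw [iterate_smul, hm, smul_zero]⟩

theorem disjoint_fixedSpan_nilSpan : Disjoint (fixedSpan F) (nilSpan F) := by
  rw [Submodule.disjoint_def]
  intro x hx hx'
  obtain ⟨m, hm⟩ := exists_iterate_eq_zero_of_mem_nilSpan F hx'
  exact eq_zero_of_iterate_eq_zero_of_mem_fixedSpan F m hx hm

end inj


section exist

theorem mem_span_range_fin_iff (u : ℕ → V) (r : ℕ) (x : V) :
    x ∈ Submodule.span k (Set.range (fun i : Fin r => u i)) ↔
      ∃ a : ℕ → k, ∑ i ∈ Finset.range r, a i • u i = x := by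
  rw [Submodule.mem_span_range_iff_exists_fun]
  constructor
  · rintro ⟨c, rfl⟩
    refine ⟨fun i => if h : i < r then c ⟨i, h⟩ else 0, ?_⟩
    rw [← Fin.sum_univ_eq_sum_range (fun i => (if h : i < r then c ⟨i, h⟩ else 0) • u i) r]
    refine Finset.sum_congr rfl (fun i _ => ?_)
    simp [i.2]
  · rintro ⟨a, rfl⟩
    exact ⟨fun i => a i, Fin.sum_univ_eq_sum_range (fun i => a i • u i) r⟩

/-- The additive polynomials used to find a fixed vector in the cyclic case. -/
noncomputable def auxPoly (p : ℕ) (a : ℕ → k) : ℕ → k[X]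
  | 0 => C (a 0) * X ^ p
  | (i + 1) => (auxPoly p a i) ^ p + C (a (i + 1)) * X ^ p

omit [Fact p.Prime] in
theorem auxPoly_zero (a : ℕ → k) : auxPoly p a 0 = C (a 0) * X ^ p := rfl

omit [Fact p.Prime] in
theorem auxPoly_succ (a : ℕ → k) (i : ℕ) :
    auxPoly p a (i + 1) = (auxPoly p a i) ^ p + C (a (i + 1)) * X ^ p := rfl

theorem derivative_auxPoly (a : ℕ → k) (i : ℕ) : derivative (auxPoly p a i) = 0 := by
  have hp : ((p : ℕ) : k) = 0 := CharP.cast_eq_zero k p
  induction i with
  | zero =>
    rw [auxPoly_zero, derivative_C_mul, derivative_X_pow]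
    simp [hp]
  | succ i ih =>
    rw [auxPoly_succ, derivative_add, derivative_pow, derivative_C_mul, derivative_X_pow]
    simp [hp]

theorem eval_zero_auxPoly (a : ℕ → k) (i : ℕ) : (auxPoly p a i).eval 0 = 0 := by
  have hp : p ≠ 0 := (Fact.out : p.Prime).ne_zero
  induction i with
  | zero => simp [auxPoly_zero, hp]
  | succ i ih => simp [auxPoly_succ, ih, hp]

theorem natDegree_auxPoly (a : ℕ → k) (ha : a 0 ≠ 0) (i : ℕ) :
    (auxPoly p a i).natDegree = p ^ (i + 1) := by
  have hp : 1 < p := (Fact.out : p.Prime).one_lt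
  induction i with
  | zero =>
    rw [auxPoly_zero, natDegree_C_mul_X_pow _ _ ha, zero_add, pow_one]
  | succ i ih =>
    rw [auxPoly_succ, natDegree_add_eq_left_of_natDegree_lt, natDegree_pow, ih, ← pow_succ']
    rw [natDegree_pow, ih, ← pow_succ']
    refine lt_of_le_of_lt (natDegree_C_mul_X_pow_le _ _) ?_
    calc p = p ^ 1 := (pow_one p).symm
      _ < p ^ (i + 1 + 1) := Nat.pow_lt_pow_right hp (by omega)

variable [IsAlgClosed k]

theorem exists_root_ne_zero_auxPoly (a : ℕ → k) (ha : a 0 ≠ 0) (i : ℕ) :
    ∃ t : k, t ≠ 0 ∧ (auxPoly p a i).eval t = t := by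
  have hp : 1 < p := (Fact.out : p.Prime).one_lt
  set G : k[X] := auxPoly p a i - X with hG
  have hG0 : G.coeff 0 = 0 := by
    rw [coeff_zero_eq_eval_zero, hG, eval_sub, eval_zero_auxPoly, eval_X, sub_zero]
  have hGd : G.natDegree = p ^ (i + 1) := by
    rw [hG, natDegree_sub_eq_left_of_natDegree_lt, natDegree_auxPoly a ha]
    rw [natDegree_auxPoly a ha, natDegree_X]
    exact Nat.one_lt_pow (by omega) hp
  have hGH : G = G.divX * X := by
    have := divX_mul_X_add G
    rw [hG0, C_0, add_zero] at this
    exact this.symm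
  have hder : derivative G = -1 := by
    rw [hG, derivative_sub, derivative_auxPoly, derivative_X, zero_sub]
  have hH0 : G.divX.eval 0 = -1 := by
    have h1 : derivative G = derivative G.divX * X + G.divX := by
      conv_lhs => rw [hGH]
      rw [derivative_mul, derivative_X, mul_one]
    have h2 := congrArg (eval 0) h1
    rw [hder] at h2
    simpa using h2.symm
  have hHd : G.divX.degree ≠ 0 := by
    have hne : G.divX ≠ 0 := by
      intro h
      rw [h] at hH0
      simp at hH0
    have h2 : G.natDegree = G.divX.natDegree + 1 := by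
      conv_lhs => rw [hGH]
      rw [natDegree_mul_X hne]
    rw [degree_eq_natDegree hne]
    have h3 : 2 ≤ p ^ (i + 1) := by
      calc 2 ≤ p := hp
        _ = p ^ 1 := (pow_one p).symm
        _ ≤ p ^ (i + 1) := Nat.pow_le_pow_right (by omega) (by omega)
    have : G.divX.natDegree ≠ 0 := by omega
    exact_mod_cast this
  obtain ⟨t, ht⟩ := IsAlgClosed.exists_root _ hHd
  refine ⟨t, ?_, ?_⟩
  · rintro rfl
    rw [IsRoot.def, hH0] at ht
    exact (neg_ne_zero.mpr one_ne_zero) ht
  · have : G.eval t = 0 := by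
      rw [hGH, eval_mul, ht, zero_mul]
    rw [hG, eval_sub, eval_X] at this
    exact sub_eq_zero.mp this

theorem exists_fixed_ne_zero [FiniteDimensional k V] [Nontrivial V]
    (F : V →ₛₗ[frobenius k p] V) (hinj : Function.Injective F) :
    ∃ x : V, x ≠ 0 ∧ F x = x := by
  classical
  have hp : p ≠ 0 := (Fact.out : p.Prime).ne_zero
  obtain ⟨w, hw⟩ := exists_ne (0 : V)
  let u : ℕ → V := fun i => (⇑F)^[i] w
  have hu_succ : ∀ i, u (i + 1) = F (u i) := fun i => Function.iterate_succ_apply' F i w
  let U : ℕ →o Submodule k V :=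
    ⟨fun r => Submodule.span k (Set.range (fun i : Fin r => u i)), by
      intro r s hrs
      refine Submodule.span_mono ?_
      rintro _ ⟨i, rfl⟩
      exact ⟨Fin.castLE hrs i, rfl⟩⟩
  have hex : ∃ r, u r ∈ U r := by
    obtain ⟨n, hn⟩ := monotone_stabilizes_iff_noetherian.mpr
      (inferInstance : IsNoetherian k V) U
    refine ⟨n, ?_⟩
    rw [hn (n + 1) (Nat.le_succ n)]
    exact Submodule.subset_span ⟨⟨n, Nat.lt_succ_self n⟩, rfl⟩
  let r := Nat.find hex
  have hr : u r ∈ U r := Nat.find_spec hex
  have hmin : ∀ m, m < r → u m ∉ U m := fun m hm => Nat.find_min hex hm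
  have hr0 : r ≠ 0 := by
    intro h0
    rw [h0] at hr
    have : U 0 = ⊥ := by
      change Submodule.span k (Set.range (fun i : Fin 0 => u i)) = ⊥
      rw [Submodule.span_eq_bot]
      rintro _ ⟨i, rfl⟩
      exact i.elim0
    rw [this, Submodule.mem_bot] at hr
    exact hw hr
  obtain ⟨r', hr'⟩ := Nat.exists_eq_succ_of_ne_zero hr0
  have hlt : r' < r := by omega
  have hnot := hmin r' hlt
  rw [hr'] at hr
  change u (r' + 1) ∈ Submodule.span k (Set.range (fun i : Fin (r' + 1) => u i)) at hr
  change u r' ∉ Submodule.span k (Set.range (fun i : Fin r' => u i)) at hnot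
  rw [mem_span_range_fin_iff] at hr hnot
  obtain ⟨a, ha⟩ := hr
  rw [Finset.sum_range_succ'] at ha
  -- a 0 ≠ 0
  have ha0 : a 0 ≠ 0 := by
    intro h0
    apply hnot
    have hroot : ∀ i, ∃ b : k, b ^ p = a (i + 1) := fun i =>
      IsAlgClosed.exists_pow_nat_eq _ (Nat.pos_of_ne_zero hp)
    choose b hb using hroot
    refine ⟨b, ?_⟩
    apply hinj
    rw [map_sum, ← hu_succ, ← ha, h0, zero_smul, add_zero]
    refine Finset.sum_congr rfl (fun i _ => ?_)
    rw [map_smul_pow, hb, hu_succ]
  obtain ⟨t, ht0, ht⟩ := exists_root_ne_zero_auxPoly (p := p) a ha0 r'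
  let x : ℕ → k := fun i => (auxPoly p a i).eval t
  have hx0 : x 0 = a 0 * t ^ p := by
    simp [x, auxPoly_zero]
  have hxs : ∀ i, x (i + 1) = (x i) ^ p + a (i + 1) * t ^ p := by
    intro i
    simp [x, auxPoly_succ]
  have hxr : x r' = t := ht
  refine ⟨∑ i ∈ Finset.range (r' + 1), x i • u i, ?_, ?_⟩
  · intro h0
    apply hnot
    rw [Finset.sum_range_succ, hxr] at h0
    refine ⟨fun i => -(x i / t), ?_⟩
    have h1 : t • u r' = -∑ i ∈ Finset.range r', x i • u i := by
      rw [eq_neg_iff_add_eq_zero, add_comm]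
      exact h0
    have h2 : u r' = t⁻¹ • (t • u r') := by
      rw [smul_smul, inv_mul_cancel₀ ht0, one_smul]
    rw [h2, h1, smul_neg, Finset.smul_sum, ← Finset.sum_neg_distrib]
    refine Finset.sum_congr rfl (fun i _ => ?_)
    rw [smul_smul, neg_smul, div_eq_inv_mul]
  · rw [map_sum]
    have h1 : ∑ i ∈ Finset.range (r' + 1), F (x i • u i) =
        ∑ i ∈ Finset.range (r' + 1), (x i) ^ p • u (i + 1) := by
      refine Finset.sum_congr rfl (fun i _ => ?_)
      rw [map_smul_pow, hu_succ]
    rw [h1, Finset.sum_range_succ, hxr, ← ha, Finset.sum_range_succ' (fun i => x i • u i)]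
    simp only [hxs, hx0, add_smul, Finset.sum_add_distrib, smul_add, Finset.smul_sum, smul_smul]
    rw [add_assoc]
    congr 1
    congr 1
    · refine Finset.sum_congr rfl (fun i _ => ?_)
      rw [mul_comm]
    · rw [mul_comm]

end exist


section lang

variable [IsAlgClosed k] [FiniteDimensional k V]

/-- **Lang's theorem** for injective `p`-linear maps: the fixed vectors span. -/
theorem fixedSpan_eq_top_of_injective (F : V →ₛₗ[frobenius k p] V)
    (hinj : Function.Injective F) : fixedSpan F = ⊤ := by
  by_contra hne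
  let S := fixedSpan F
  let Fq : (V ⧸ S) →ₛₗ[frobenius k p] (V ⧸ S) := S.mapQ S F (fixedSpan_le_comap F)
  have hFq : ∀ v, Fq (S.mkQ v) = S.mkQ (F v) := fun v => rfl
  haveI : Nontrivial (V ⧸ S) := Submodule.Quotient.nontrivial_iff.mpr hne
  have hFqinj : Function.Injective Fq := by
    rw [injective_iff_map_eq_zero]
    intro q hq
    obtain ⟨w, rfl⟩ := S.mkQ_surjective q
    rw [hFq, Submodule.mkQ_apply, Submodule.Quotient.mk_eq_zero] at hq
    obtain ⟨s, hs, hsw⟩ := exists_map_eq_of_mem_fixedSpan F hq
    have : s = w := hinj hsw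
    rw [Submodule.mkQ_apply, Submodule.Quotient.mk_eq_zero, ← this]
    exact hs
  obtain ⟨q, hq0, hqfix⟩ := exists_fixed_ne_zero Fq hFqinj
  obtain ⟨w, rfl⟩ := S.mkQ_surjective q
  rw [hFq] at hqfix
  have hmem : F w - w ∈ S := by
    rw [← Submodule.Quotient.mk_eq_zero, Submodule.Quotient.mk_sub, sub_eq_zero]
    exact hqfix
  obtain ⟨s, hs, hsw⟩ := exists_map_sub_eq_of_mem_fixedSpan F (Submodule.neg_mem _ hmem)
  have hfix : F (w + s) = w + s := by
    rw [map_add]
    have : F s = s - (F w - w) := by
      rw [sub_eq_add_neg s, ← hsw]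
      abel
    rw [this]
    abel
  have hws : w + s ∈ S := Submodule.subset_span hfix
  have hw : w ∈ S := by
    have := Submodule.sub_mem _ hws hs
    simpa using this
  apply hq0
  rw [Submodule.mkQ_apply, Submodule.Quotient.mk_eq_zero]
  exact hw

end lang

section decomp

universe u

variable {k : Type*} [Field k] {p : ℕ} [Fact p.Prime] [CharP k p] [IsAlgClosed k]

theorem sup_eq_top_aux (n : ℕ) : ∀ (V : Type u) [AddCommGroup V] [Module k V]
    [FiniteDimensional k V] (F : V →ₛₗ[frobenius k p] V), Module.finrank k V = n →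
    fixedSpan F ⊔ nilSpan F = ⊤ := by
  induction n using Nat.strong_induction_on with
  | _ n ih =>
    intro V _ _ _ F hn
    by_cases hinj : Function.Injective F
    · rw [fixedSpan_eq_top_of_injective F hinj, top_sup_eq]
    · let K := LinearMap.ker F
      have hK : K ≠ ⊥ := by rwa [Ne, LinearMap.ker_eq_bot]
      have hKle : K ≤ K.comap F := by
        intro v hv
        have hv' : F v = 0 := hv
        rw [Submodule.mem_comap, hv']
        exact Submodule.zero_mem _
      let Fq : (V ⧸ K) →ₛₗ[frobenius k p] (V ⧸ K) := K.mapQ K F hKle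
      have hFq : ∀ v, Fq (K.mkQ v) = K.mkQ (F v) := fun v => rfl
      have hlt : Module.finrank k (V ⧸ K) < n := by
        have h1 := K.finrank_quotient_add_finrank
        have h2 : 1 ≤ Module.finrank k K := Submodule.one_le_finrank_iff.mpr hK
        omega
      have hq := ih _ hlt (V ⧸ K) Fq rfl
      have hSle : fixedSpan Fq ≤ (fixedSpan F ⊔ nilSpan F).map K.mkQ := by
        refine Submodule.span_le.mpr ?_
        intro q hq
        obtain ⟨v, rfl⟩ := K.mkQ_surjective q
        have hq' : Fq (K.mkQ v) = K.mkQ v := hq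
        rw [hFq] at hq'
        have hmem : F v - v ∈ K := by
          rw [← Submodule.Quotient.mk_eq_zero, Submodule.Quotient.mk_sub, sub_eq_zero]
          exact hq'
        have hFF : F (F v) = F v := by
          have : F (F v - v) = 0 := hmem
          rw [map_sub, sub_eq_zero] at this
          exact this
        exact ⟨F v, Submodule.mem_sup_left (Submodule.subset_span hFF), hq'⟩
      have hNle : nilSpan Fq ≤ (fixedSpan F ⊔ nilSpan F).map K.mkQ := by
        refine Submodule.span_le.mpr ?_
        rintro q ⟨m, hm⟩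
        obtain ⟨v, rfl⟩ := K.mkQ_surjective q
        have hiter : ∀ m, (⇑Fq)^[m] (K.mkQ v) = K.mkQ ((⇑F)^[m] v) := by
          intro m
          induction m with
          | zero => rfl
          | succ m ih =>
            rw [Function.iterate_succ_apply', ih, hFq, ← Function.iterate_succ_apply' F]
        rw [hiter] at hm
        have hmem : (⇑F)^[m] v ∈ K := by
          rwa [Submodule.mkQ_apply, Submodule.Quotient.mk_eq_zero] at hm
        have h0 : (⇑F)^[m + 1] v = 0 := by
          rw [Function.iterate_succ_apply']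
          exact hmem
        exact ⟨v, Submodule.mem_sup_right (Submodule.subset_span ⟨m + 1, h0⟩), rfl⟩
      rw [eq_top_iff]
      intro v _
      have hmk : K.mkQ v ∈ (fixedSpan F ⊔ nilSpan F).map K.mkQ := by
        have : K.mkQ v ∈ fixedSpan Fq ⊔ nilSpan Fq := by
          rw [hq]
          trivial
        exact (sup_le hSle hNle) this
      obtain ⟨u, hu, huv⟩ := hmk
      have hdiff : v - u ∈ K := by
        rw [← Submodule.Quotient.mk_eq_zero, Submodule.Quotient.mk_sub, sub_eq_zero]
        exact huv.symm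
      have hKN : v - u ∈ nilSpan F := by
        refine Submodule.subset_span ⟨1, ?_⟩
        exact hdiff
      have : v = u + (v - u) := by abel
      rw [this]
      exact Submodule.add_mem _ hu (Submodule.mem_sup_right hKN)

/-- Fitting/Lang decomposition for `p`-linear endomorphisms over an algebraically closed field. -/
theorem isCompl_fixedSpan_nilSpan {V : Type u} [AddCommGroup V] [Module k V]
    [FiniteDimensional k V] (F : V →ₛₗ[frobenius k p] V) :
    IsCompl (fixedSpan F) (nilSpan F) :=
  ⟨disjoint_fixedSpan_nilSpan F, codisjoint_iff.mpr (sup_eq_top_aux _ V F rfl)⟩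

end decomp

end Groth.Agent.Lib.Helper35.PLinear
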