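import Groth.Agent.Lib.Helper35.AmpleFamily
import Groth.Agent.Lib.Helper35.PbTensor
import Groth.Agent.Lib.Lead.Tw5
import Groth.Agent.Lib.Lead.Ample1
import Groth.Agent.Lib.Lead.RelAmp3
import Groth.Agent.Lib.Helper7.FinLocFreePullback
import Groth.Agent.S4380
import Groth.Agent.S4381

/-!
# Composition of relatively ample modules (EGA II 4.6.13 (ii))
-/

set_option autoImplicit false
universe u

open CategoryTheory AlgebraicGeometry TopologicalSpace Opposite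

namespace Groth.Agent.Lib.Helper35.RelAmpComp

open Groth.Agent.Lib.Helper35.AbSheaf Groth.Agent.Lib.Helper35.Gen
open Groth.Agent.Lib.Helper35.GlobGen Groth.Agent.Lib.Helper60.TensorLib
open Groth.Agent.Lib.Helper35.PbInv Groth.Agent.Lib.Lead.Inv

variable {X Y : Scheme.{u}}

/-- the key module isomorphism `L^{am} ⊗ (f^*(K^m))^{na} ≅ (L ⊗ f^*(K^n))^{am}` -/
theorem nonempty_key_iso (f : X ⟶ Y) {L : X.Modules} {K : Y.Modules} (hL : PicF.IsInvertible L)
    (hK : PicF.IsInvertible K) (a m n : ℕ) :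
    Nonempty (CohB1.tensorMod (CohB1.tensorPow L (a * m))
        (CohB1.tensorPow ((Scheme.Modules.pullback f).obj (CohB1.tensorPow K m)) (n * a)) ≅
      CohB1.tensorPow (CohB1.tensorMod L ((Scheme.Modules.pullback f).obj (CohB1.tensorPow K n)))
        (a * m)) := by
  obtain ⟨e₁⟩ := Groth.Agent.Lib.Helper35.PbTensor.nonempty_pullback_tensorPow f
    (Gen.isInvertible_tensorPow hK m) (n * a)
  obtain ⟨μ₁⟩ := nonempty_tensorPow_mul hK m (n * a)
  obtain ⟨μ₂⟩ := nonempty_tensorPow_mul hK n (a * m)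
  obtain ⟨c⟩ := nonempty_tensorPow_cast K (show m * (n * a) = n * (a * m) by ring)
  obtain ⟨e₃⟩ := Groth.Agent.Lib.Helper35.PbTensor.nonempty_pullback_tensorPow f
    (Gen.isInvertible_tensorPow hK n) (a * m)
  obtain ⟨e₄⟩ := nonempty_tensorPow_tensorMod hL
    (isInvertible_pullback (u := f) (Gen.isInvertible_tensorPow hK n)) (a * m)
  exact ⟨tensorModCongrRight _ (e₁.symm ≪≫
    (Scheme.Modules.pullback f).mapIso (μ₁ ≪≫ c ≪≫ μ₂.symm) ≪≫ e₃) ≪≫ e₄.symm⟩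

/-- one chart: a section of `(L|_U)^a` over `U = f⁻¹(Y_t)`, `t ∈ Γ(K^m)`, gives for all large `n`
a global section of `(L ⊗ f^*(K^n))^{am}` with the same generating locus. -/
theorem exists_chart_section [CompactSpace X] [QuasiSeparatedSpace X] (f : X ⟶ Y)
    {L : X.Modules} {K : Y.Modules} (hL : PicF.IsInvertible L) (hK : PicF.IsInvertible K)
    (m : ℕ) (hm : 0 < m) (t : Coh.structureModule Y ⟶ CohB1.tensorPow K m) (a : ℕ) (ha : 0 < a)
    (s : Coh.structureModule ((f ⁻¹ᵁ CohB1.genLocus _ t : X.Opens) : Scheme.{u}) ⟶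
      CohB1.tensorPow (L.restrict (f ⁻¹ᵁ CohB1.genLocus _ t).ι) a) :
    ∃ N₀ : ℕ, ∀ n, N₀ ≤ n → ∃ τ : Coh.structureModule X ⟶
      CohB1.tensorPow (CohB1.tensorMod L
        ((Scheme.Modules.pullback f).obj (CohB1.tensorPow K n))) (a * m),
      CohB1.genLocus _ τ = (f ⁻¹ᵁ CohB1.genLocus _ t).ι ''ᵁ CohB1.genLocus _ s := by
  have hKm := Gen.isInvertible_tensorPow hK m
  obtain ⟨t', -, ht'⟩ := (PbFamily.base (u := f) hKm).exists_section t
  have hB := isInvertible_pullback (u := f) hKm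
  have hLU : PicF.IsInvertible (L.restrict (f ⁻¹ᵁ CohB1.genLocus _ t).ι) :=
    Groth.Agent.Lib.Helper35.ModRestrict.isInvertible_restrict _ L hL
  obtain ⟨m', rfl⟩ : ∃ m', m = m' + 1 := ⟨m - 1, by omega⟩
  have hpow := genLocus_secPow (Gen.isInvertible_tensorPow hLU a) s m'
  obtain ⟨iso₁⟩ := nonempty_tensorPow_mul hLU a (m' + 1)
  obtain ⟨s₂, hs₂⟩ := exists_section_of_iso
    ⟨iso₁ ≪≫ (Groth.Agent.Lib.Helper60.TensorRestrict.restrictTensorPowIso
      (f ⁻¹ᵁ CohB1.genLocus _ t).ι L (a * (m' + 1))).symm⟩ (secPow s (m' + 1))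
  obtain ⟨N₀, h⟩ := Groth.Agent.Lib.Helper35.TwistExt.exists_twist_section
    (Gen.isInvertible_tensorPow hL (a * (m' + 1))) hB t'
    (f ⁻¹ᵁ CohB1.genLocus _ t) ht'.symm s₂
  refine ⟨N₀, fun n hn => ?_⟩
  have hna : N₀ ≤ n * a := hn.trans (Nat.le_mul_of_pos_right n ha)
  obtain ⟨τ₀, hτ₀⟩ := h (n * a) hna
  obtain ⟨τ, hτ⟩ := exists_section_of_iso (nonempty_key_iso f hL hK a (m' + 1) n) τ₀
  exact ⟨τ, by rw [hτ, hτ₀, hs₂, hpow]⟩

/-- **Step A**: over a base carrying an ample `K`, `L ⊗ f^*(K^n)` is ample for all large `n` when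
`L` is `f`-ample. -/
theorem exists_isAmple_tensor_pullback (f : X ⟶ Y) {L : X.Modules} {K : Y.Modules}
    (hL : RelAmple.IsRelAmple f L) (hK : CohB1.IsAmple K) :
    ∃ n₀ : ℕ, ∀ n, n₀ ≤ n → CohB1.IsAmple
      (CohB1.tensorMod L ((Scheme.Modules.pullback f).obj (CohB1.tensorPow K n))) := by
  haveI := hL.1
  haveI := hK.2.1
  haveI : CompactSpace X := QuasiCompact.compactSpace_of_compactSpace f
  haveI : QuasiSeparatedSpace Y :=
    Groth.Agent.Lib.Helper35.Ample.quasiSeparatedSpace_of_cover_genLocus hK.1 hK.2.2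
  haveI : QuasiSeparated f := Groth.Agent.Lib.Helper35.AmpleFamily.quasiSeparated_of_isRelAmple f hL
  haveI : QuasiSeparatedSpace X := quasiSeparatedSpace_of_quasiSeparated f
  have hLinv := Groth.Agent.Lib.Helper35.AmpleFamily.isInvertible_of_isRelAmple f hL
  obtain ⟨m, hm, ι, hfin, t, htaff, htcov⟩ := exists_finite_cover_common_exponent hK
  have hA : ∀ i, CohB1.IsAmple (L.restrict (f ⁻¹ᵁ CohB1.genLocus _ (t i)).ι) :=
    fun i => hL.2 ⟨_, htaff i⟩
  choose a ha J hJfin s hsaff hscov using fun i => exists_finite_cover_common_exponent (hA i)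
  haveI : Finite ι := hfin
  haveI : ∀ i, Finite (J i) := hJfin
  obtain ⟨n₀, hn₀⟩ := exists_uniform_finite
    (fun (p : Σ i, J i) (n : ℕ) => ∃ τ : Coh.structureModule X ⟶
      CohB1.tensorPow (CohB1.tensorMod L
        ((Scheme.Modules.pullback f).obj (CohB1.tensorPow K n))) (a p.1 * m),
      CohB1.genLocus _ τ =
        (f ⁻¹ᵁ CohB1.genLocus _ (t p.1)).ι ''ᵁ CohB1.genLocus _ (s p.1 p.2))
    (fun p => exists_chart_section f hLinv hK.1 m hm (t p.1) (a p.1) (ha p.1) (s p.1 p.2))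
  refine ⟨n₀, fun n hn => ⟨Gen.isInvertible_tensorMod hLinv
    (isInvertible_pullback (u := f) (Gen.isInvertible_tensorPow hK.1 n)), inferInstance,
    fun x => ?_⟩⟩
  obtain ⟨i, hi⟩ := htcov (f x)
  obtain ⟨j, hj⟩ := hscov i ⟨x, hi⟩
  obtain ⟨τ, hτ⟩ := hn₀ n hn ⟨i, j⟩
  have hpos : 0 < a i * m := Nat.mul_pos (ha i) hm
  obtain ⟨τ', hτ'⟩ := exists_cast_section _ (show a i * m = (a i * m - 1) + 1 by omega) τ
  refine ⟨a i * m - 1, τ', ?_, ?_⟩
  · rw [hτ', hτ]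
    exact ⟨⟨x, hi⟩, hj, rfl⟩
  · rw [hτ', hτ]
    exact (hsaff i j).image_of_isOpenImmersion _

/-- restriction of a relatively ample module to the preimage of an open of the base -/
theorem isRelAmple_morphismRestrict (f : X ⟶ Y) {L : X.Modules} (hL : RelAmple.IsRelAmple f L)
    (U : Y.Opens) : RelAmple.IsRelAmple (f ∣_ U) (L.restrict (f ⁻¹ᵁ U).ι) := by
  haveI := hL.1
  refine ⟨inferInstance, fun V' => ?_⟩
  refine (isAmple_restrict_restrict_iff L (f ⁻¹ᵁ U) _ _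
    (image_morphismRestrict_preimage f U V'.1)).mpr ?_
  exact hL.2 ⟨U.ι ''ᵁ V'.1, V'.2.image_of_isOpenImmersion _⟩

/-- the local form of the twisted module -/
theorem nonempty_restrict_twist_iso (f : X ⟶ Y) (L : X.Modules) (K : Y.Modules) (n : ℕ)
    (U : Y.Opens) :
    Nonempty ((CohB1.tensorMod L ((Scheme.Modules.pullback f).obj (CohB1.tensorPow K n))).restrict
        (f ⁻¹ᵁ U).ι ≅
      CohB1.tensorMod (L.restrict (f ⁻¹ᵁ U).ι)
        ((Scheme.Modules.pullback (f ∣_ U)).obj (CohB1.tensorPow (K.restrict U.ι) n))) :=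
  ⟨Groth.Agent.Lib.Helper60.TensorRestrict.restrictTensorIso (f ⁻¹ᵁ U).ι _ _ ≪≫
    tensorModCongrRight _ (Groth.Agent.Lib.Helper7.FinLocFree.restrictPullbackIso f _ U ≪≫
      (Scheme.Modules.pullback (f ∣_ U)).mapIso
        (Groth.Agent.Lib.Helper60.TensorRestrict.restrictTensorPowIso U.ι K n))⟩

/-- **`S2331`** (EGA II 4.6.13 (ii)) -/
theorem isRelAmple_comp {X Y Z : Scheme.{u}} [CompactSpace Z] (f : X ⟶ Y) (g : Y ⟶ Z)
    [QuasiCompact f] [QuasiCompact g] (L : X.Modules) (K : Y.Modules)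
    (hL : RelAmple.IsRelAmple f L) (hK : RelAmple.IsRelAmple g K) :
    ∃ n₀ : ℕ, 0 < n₀ ∧ ∀ n, n₀ ≤ n →
      RelAmple.IsRelAmple (f ≫ g)
        (CohB1.tensorMod L ((Scheme.Modules.pullback f).obj (CohB1.tensorPow K n))) := by
  classical
  -- affine neighbourhoods in `Z` and the local bounds
  have h1 : ∀ z : Z, ∃ V : Z.Opens, IsAffineOpen V ∧ z ∈ V := fun z => by
    obtain ⟨V, hV, hz, -⟩ := exists_isAffineOpen_mem_and_subset (x := z) (U := ⊤) trivial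
    exact ⟨V, hV, hz⟩
  choose V hV hzV using h1
  have h2 : ∀ z : Z, ∃ n₀ : ℕ, ∀ n, n₀ ≤ n → CohB1.IsAmple
      (CohB1.tensorMod (L.restrict (f ⁻¹ᵁ (g ⁻¹ᵁ V z)).ι)
        ((Scheme.Modules.pullback (f ∣_ (g ⁻¹ᵁ V z))).obj
          (CohB1.tensorPow (K.restrict (g ⁻¹ᵁ V z).ι) n))) := fun z =>
    exists_isAmple_tensor_pullback (f ∣_ (g ⁻¹ᵁ V z))
      (isRelAmple_morphismRestrict f hL (g ⁻¹ᵁ V z)) (hK.2 ⟨V z, hV z⟩)
  choose N hN using h2
  obtain ⟨T, hT⟩ := CompactSpace.elim_nhds_subcover (fun z => (V z : Set Z))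
    (fun z => (V z).isOpen.mem_nhds (hzV z))
  refine ⟨T.sup N + 1, Nat.succ_pos _, fun n hn => ?_⟩
  have hsup : ⨆ z : {z // z ∈ T}, V z.1 = ⊤ := by
    rw [eq_top_iff]
    intro w _
    have hw : w ∈ ⋃ z ∈ T, (V z : Set Z) := by rw [hT]; trivial
    simp only [Set.mem_iUnion] at hw
    obtain ⟨z, hz, hwz⟩ := hw
    exact Opens.mem_iSup.mpr ⟨⟨z, hz⟩, hwz⟩
  refine (Groth.Agent.S4380.result (f ≫ g) _ (fun z : {z // z ∈ T} => V z.1) hsup).mpr ?_
  rintro ⟨z, hz⟩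
  haveI : IsAffine (V z : Scheme.{u}) := hV z
  rw [Groth.Agent.S4381.result]
  have hle : N z ≤ n := (Finset.le_sup (f := N) hz).trans (Nat.le_of_succ_le hn)
  obtain ⟨e⟩ := nonempty_restrict_twist_iso f L K n (g ⁻¹ᵁ V z)
  exact Groth.Agent.Lib.Helper35.Ample.isAmple_of_iso e.symm (hN z n hle)

end Groth.Agent.Lib.Helper35.RelAmpComp
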