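import Groth.Agent.Lib.Helper35.ResProp3
import Groth.Agent.Lib.Helper35.ProjAmple
import Groth.Agent.Lib.Lead.Ample1

/-!
# Coherent sheaves on `Proj` of a Noetherian graded ring are quotients of sums of twists
-/

set_option autoImplicit false
universe u

open AlgebraicGeometry CategoryTheory Opposite TopologicalSpace Limits

namespace Groth.Agent.Lib.Helper35.ProjRes

open Groth.Agent.Lib.Helper60.TwistLib Groth.Agent.Lib.Helper60.TensorLib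
open Groth.Agent.Lib.Helper35.ProjAmple

variable {R A : Type u} [CommRing R] [CommRing A] [Algebra R A] (𝒜 : ℕ → Submodule R A)
  [GradedAlgebra 𝒜]

/-- `O(k)` has local generators (as a fraction `g / h` of homogeneous elements) near every point -/
def HasGens (k : ℤ) : Prop :=
  ∀ x : Proj 𝒜, ∃ U : (Proj 𝒜).Opens, x ∈ U ∧
    ∃ (i j : ℕ) (g : 𝒜 i) (h : 𝒜 j), (i : ℤ) = j + k ∧
      ∀ y ∈ U, g.1 ∉ y.asHomogeneousIdeal ∧ h.1 ∉ y.asHomogeneousIdeal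

variable {𝒜}

theorem hasGens_mul_of_cover {d : ℕ} {ι : Type*} (g : ι → 𝒜 d)
    (hcov : ∀ x : Proj 𝒜, ∃ i, x ∈ Proj.basicOpen 𝒜 (g i).1) (k : ℤ) :
    HasGens 𝒜 (k * d) := by
  intro x
  obtain ⟨i₀, hi₀⟩ := hcov x
  obtain ⟨i, j, g', h', hij, H⟩ := exists_gens_pow 𝒜 (g i₀) k
  exact ⟨Proj.basicOpen 𝒜 (g i₀).1, hi₀, i, j, g', h', hij, fun y hy =>
    H y ((Proj.mem_basicOpen 𝒜 _ y).mp hy)⟩

theorem isInvertible_of_hasGens {n : ℤ} (h : HasGens 𝒜 n) :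
    PicF.IsInvertible (Twist.twist 𝒜 n) := by
  intro x
  obtain ⟨U, hxU, i, j, g, h', hij, hU⟩ := h x
  exact ⟨U, hxU, twist_restrict_iso 𝒜 U.ι n g h' hij
    (fun y => (hU _ y.2).1) (fun y => (hU _ y.2).2)⟩

theorem tensor_iso_of_hasGens {m n : ℤ} (hm : HasGens 𝒜 m) (hn : HasGens 𝒜 n) :
    Nonempty (CohB1.tensorMod (Twist.twist 𝒜 m) (Twist.twist 𝒜 n) ≅ Twist.twist 𝒜 (m + n)) := by
  refine twist_tensor_iso 𝒜 m n (fun x => ?_)
  obtain ⟨U₁, hx₁, i₁, j₁, g₁, h₁, e₁, H₁⟩ := hm x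
  obtain ⟨U₂, hx₂, i₂, j₂, g₂, h₂, e₂, H₂⟩ := hn x
  exact ⟨U₁ ⊓ U₂, ⟨hx₁, hx₂⟩, i₁, j₁, i₂, j₂, g₁, h₁, g₂, h₂, e₁, e₂, fun y hy =>
    ⟨(H₁ y hy.1).1, (H₁ y hy.1).2, (H₂ y hy.2).1, (H₂ y hy.2).2⟩⟩

variable (𝒜) in
theorem twist_zero_iso : Nonempty (Twist.twist 𝒜 0 ≅ Coh.structureModule (Proj 𝒜)) := by
  have hiso : IsIso (numHom 𝒜 (⟨1, SetLike.GradedOne.one_mem⟩ : 𝒜 0)) := by
    apply isIso_of_app_bijective
    intro W
    apply numHom_app_bijective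
    intro y _
    exact (Proj.mem_basicOpen 𝒜 (1 : A) y).mpr (one_notMem 𝒜 y)
  exact ⟨(asIso (numHom 𝒜 (⟨1, SetLike.GradedOne.one_mem⟩ : 𝒜 0))).symm⟩

theorem twist_cast {a b : ℤ} (h : a = b) : Nonempty (Twist.twist 𝒜 a ≅ Twist.twist 𝒜 b) := by
  subst h
  exact ⟨Iso.refl _⟩

theorem tensorPow_twist_iso {d : ℤ} (h : ∀ k : ℤ, HasGens 𝒜 (k * d)) (n : ℕ) :
    Nonempty (CohB1.tensorPow (Twist.twist 𝒜 d) n ≅ Twist.twist 𝒜 (n * d)) := by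
  induction n with
  | zero =>
    obtain ⟨e⟩ := twist_zero_iso 𝒜
    obtain ⟨c⟩ := twist_cast (𝒜 := 𝒜) (a := ((0 : ℕ) : ℤ) * d) (b := 0) (by simp)
    exact ⟨e.symm ≪≫ c.symm⟩
  | succ n ih =>
    obtain ⟨e⟩ := ih
    have h1 : HasGens 𝒜 d := by simpa using h 1
    obtain ⟨t⟩ := tensor_iso_of_hasGens (h n) h1
    obtain ⟨c⟩ := twist_cast (𝒜 := 𝒜) (a := (n : ℤ) * d + d) (b := ((n + 1 : ℕ) : ℤ) * d)
      (by push_cast; ring)
    exact ⟨tensorModCongrLeft e _ ≪≫ t ≪≫ c⟩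

variable (𝒜) in
/-- if the irrelevant ideal is finitely generated, `Proj` is covered by finitely many `D₊(f)`
with `f` homogeneous of positive degree -/
theorem exists_finite_pos_cover (hfg : (HomogeneousIdeal.irrelevant 𝒜).toIdeal.FG) :
    ∃ (ι : Type) (_ : Finite ι) (e : ι → ℕ) (_ : ∀ i, 0 < e i) (f : ∀ i, 𝒜 (e i)),
      ∀ x : Proj 𝒜, ∃ i, x ∈ Proj.basicOpen 𝒜 (f i).1 := by
  classical
  obtain ⟨s, hs⟩ := hfg
  let ι' : Type u := Σ a : s, (DirectSum.decompose 𝒜 (a : A)).support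
  have hpos : ∀ i : ι', 0 < (i.2 : ℕ) := by
    rintro ⟨a, i, hi⟩
    rw [Nat.pos_iff_ne_zero]
    rintro rfl
    have ha : (a : A) ∈ (HomogeneousIdeal.irrelevant 𝒜).toIdeal := by
      rw [← hs]
      exact Ideal.subset_span a.2
    have h0 := (HomogeneousIdeal.mem_irrelevant_iff 𝒜 (a : A)).mp ha
    rw [GradedRing.proj_apply] at h0
    rw [DFinsupp.mem_support_iff] at hi
    exact hi (Subtype.ext h0)
  let f' : ∀ i : ι', 𝒜 (i.2 : ℕ) := fun i => DirectSum.decompose 𝒜 (i.1 : A) i.2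
  have hcov : ∀ x : Proj 𝒜, ∃ i : ι', x ∈ Proj.basicOpen 𝒜 (f' i).1 := by
    intro x
    have h1 := Proj.iSup_basicOpen_eq_top 𝒜 (fun i : ι' => ((f' i : 𝒜 (i.2 : ℕ)) : A)) (by
      rw [← hs, Ideal.span_le]
      intro a ha
      rw [← DirectSum.sum_support_decompose 𝒜 a]
      refine Ideal.sum_mem _ (fun i hi => Ideal.subset_span ?_)
      exact ⟨⟨⟨a, ha⟩, ⟨i, hi⟩⟩, rfl⟩)
    have h2 : x ∈ (⨆ i : ι', Proj.basicOpen 𝒜 ((f' i : 𝒜 (i.2 : ℕ)) : A)) := by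
      rw [h1]; trivial
    exact Opens.mem_iSup.mp h2
  haveI : Finite ι' := inferInstance
  obtain ⟨n, ⟨eq⟩⟩ := Finite.exists_equiv_fin ι'
  exact ⟨Fin n, inferInstance, fun i => ((eq.symm i).2 : ℕ), fun i => hpos _,
    fun i => f' (eq.symm i), fun x => by
      obtain ⟨i, hi⟩ := hcov x
      refine ⟨eq i, ?_⟩
      show x ∈ Proj.basicOpen 𝒜 (f' (eq.symm (eq i))).1
      rw [Equiv.symm_apply_apply]
      exact hi⟩

variable (𝒜) in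
/-- a finite cover of `Proj` by `D₊(g)` with all `g` of the same positive degree -/
theorem exists_common_degree_cover (hfg : (HomogeneousIdeal.irrelevant 𝒜).toIdeal.FG) :
    ∃ (d : ℕ) (_ : 0 < d) (ι : Type) (_ : Finite ι) (g : ι → 𝒜 d),
      ∀ x : Proj 𝒜, ∃ i, x ∈ Proj.basicOpen 𝒜 (g i).1 := by
  classical
  obtain ⟨ι, hfin, e, he, f, hcov⟩ := exists_finite_pos_cover 𝒜 hfg
  haveI := Fintype.ofFinite ι
  let d : ℕ := ∏ i, e i
  have hd : 0 < d := Finset.prod_pos (fun i _ => he i)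
  have key2 : ∀ i, ∃ g : 𝒜 d, Proj.basicOpen 𝒜 g.1 = Proj.basicOpen 𝒜 (f i).1 := by
    intro i
    obtain ⟨q, hq⟩ : e i ∣ d := Finset.dvd_prod_of_mem e (Finset.mem_univ i)
    have hq0 : 0 < q := Nat.pos_of_ne_zero (fun h => by rw [h, Nat.mul_zero] at hq; omega)
    have hmem : (f i).1 ^ q ∈ 𝒜 d := by
      have h1 := SetLike.pow_mem_graded q (f i).2
      rw [smul_eq_mul, Nat.mul_comm, ← hq] at h1
      exact h1
    exact ⟨⟨(f i).1 ^ q, hmem⟩, Proj.basicOpen_pow 𝒜 _ q hq0⟩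
  choose g hg using key2
  refine ⟨d, hd, ι, hfin, g, fun x => ?_⟩
  obtain ⟨i, hi⟩ := hcov x
  exact ⟨i, by rw [hg]; exact hi⟩

theorem compactSpace_of_cover {d : ℕ} (hd : 0 < d) {ι : Type*} [Finite ι] (g : ι → 𝒜 d)
    (hcov : ∀ x : Proj 𝒜, ∃ i, x ∈ Proj.basicOpen 𝒜 (g i).1) : CompactSpace (Proj 𝒜) := by
  constructor
  have h1 : (Set.univ : Set (Proj 𝒜)) = ⋃ i, (Proj.basicOpen 𝒜 (g i).1 : Set (Proj 𝒜)) := by
    ext x
    simp only [Set.mem_univ, Set.mem_iUnion, true_iff]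
    exact hcov x
  rw [h1]
  exact isCompact_iUnion (fun i => (Proj.isAffineOpen_basicOpen 𝒜 (g i).1 (g i).2 hd).isCompact)

/-- `O(d)` is ample on `Proj` when `Proj` is covered by finitely many `D₊(g)`, `deg g = d > 0` -/
theorem isAmple_twist_of_cover {d : ℕ} (hd : 0 < d) {ι : Type*} [Finite ι] (g : ι → 𝒜 d)
    (hcov : ∀ x : Proj 𝒜, ∃ i, x ∈ Proj.basicOpen 𝒜 (g i).1) :
    CohB1.IsAmple (Twist.twist 𝒜 (d : ℤ)) := by
  haveI := compactSpace_of_cover hd g hcov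
  have h1 := isAmple_restrict_twist 𝒜 (𝟙 (Proj 𝒜)) d hd g
    (fun i x _ => ⟨x, rfl⟩) (fun x => hcov x)
  exact Groth.Agent.Lib.Helper35.Ample.isAmple_of_iso
    (Scheme.Modules.restrictFunctorId.app (Twist.twist 𝒜 (d : ℤ))) h1

open Groth.Agent.Lib.Helper35.ResProp in
/-- `S0846` under the hypothesis that the irrelevant ideal is finitely generated -/
theorem exists_epi_sigma_twist (hfg : (HomogeneousIdeal.irrelevant 𝒜).toIdeal.FG)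
    (F : (Proj 𝒜).Modules) (hF : Coh.IsCoh F) :
    ∃ (r : ℕ) (d : Fin r → ℤ) (φ : (∐ fun j : Fin r => Twist.twist 𝒜 (d j)) ⟶ F), Epi φ := by
  obtain ⟨d, hd, ι, hfin, g, hcov⟩ := exists_common_degree_cover 𝒜 hfg
  have hL := isAmple_twist_of_cover hd g hcov
  have hG : ∀ k : ℤ, HasGens 𝒜 (k * d) := hasGens_mul_of_cover g hcov
  obtain ⟨m, k₀, k, σ, hσ⟩ := exists_finite_locSpan_pow hL F hF
  -- identify the power with a twist
  obtain ⟨e1⟩ := Groth.Agent.Lib.Lead.Inv.nonempty_tensorPow_mul hL.1 m k₀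
  obtain ⟨e2⟩ := tensorPow_twist_iso hG (m * k₀)
  let eA : CohB1.tensorPow (CohB1.tensorPow (Twist.twist 𝒜 (d : ℤ)) m) k₀ ≅
      Twist.twist 𝒜 (((m * k₀ : ℕ) : ℤ) * d) := e1 ≪≫ e2
  have hσ' := locSpan_of_iso (tensorModCongrRight F eA) σ hσ
  have hA : PicF.IsInvertible (Twist.twist 𝒜 (((m * k₀ : ℕ) : ℤ) * d)) :=
    isInvertible_of_hasGens (hG _)
  have hN : PicF.IsInvertible (Twist.twist 𝒜 (-(((m * k₀ : ℕ) : ℤ)) * d)) :=
    isInvertible_of_hasGens (hG _)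
  obtain ⟨t⟩ := tensor_iso_of_hasGens (hG ((m * k₀ : ℕ) : ℤ)) (hG (-((m * k₀ : ℕ) : ℤ)))
  obtain ⟨c⟩ := twist_cast (𝒜 := 𝒜) (a := ((m * k₀ : ℕ) : ℤ) * d + -(((m * k₀ : ℕ) : ℤ)) * d)
    (b := 0) (by ring)
  obtain ⟨z⟩ := twist_zero_iso 𝒜
  obtain ⟨π, hπ⟩ := exists_epi_sigma_of_locSpan F _ _ hA hN (t ≪≫ c ≪≫ z) k _ hσ'
  exact ⟨k, fun _ => -(((m * k₀ : ℕ) : ℤ)) * d, π, hπ⟩

end Groth.Agent.Lib.Helper35.ProjRes
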