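import Groth.Agent.Lib.Helper35.Gen2
import Groth.Agent.Lib.Lead.QCohAff8

/-!
# Sections of quasi-coherent modules over basic opens of local functions
-/

universe u

open CategoryTheory AlgebraicGeometry TopologicalSpace Opposite

namespace Groth.Agent.Lib.Helper35.QcohSec

open Groth.Agent.Lib.Helper35.AbSheaf Groth.Agent.Lib.Helper35.Gen
open Groth.Agent.Lib.Lead.QCohAff

variable {X : Scheme.{u}}

theorem rr_pow {U V : X.Opens} (h : V ≤ U) (c : Γ(X, U)) (n : ℕ) :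
    rr X h (c ^ n) = rr X h c ^ n := map_pow _ _ _

theorem basicOpen_rr {U V : X.Opens} (h : V ≤ U) (c : Γ(X, U)) :
    X.basicOpen (rr X h c) = V ⊓ X.basicOpen c :=
  Scheme.basicOpen_res X c (homOfLE h).op

theorem exists_pow_smul_eq_zero_of_affine (F : X.Modules) [F.IsQuasicoherent] {V : X.Opens}
    (hV : IsAffineOpen V) (c : Γ(X, V)) (x : Γ(F, V))
    (hx : rs F (X.basicOpen_le c) x = 0) : ∃ n : ℕ, c ^ n • x = 0 := by
  have hloc := isLocalizedModule_resL F hV c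
  have h0 : resL F V c x = 0 := hx
  obtain ⟨⟨_, n, rfl⟩, hn⟩ := (IsLocalizedModule.eq_zero_iff (.powers c) (resL F V c)).mp h0
  exact ⟨n, hn⟩

theorem exists_extension_of_affine (F : X.Modules) [F.IsQuasicoherent] {V : X.Opens}
    (hV : IsAffineOpen V) (c : Γ(X, V)) (y : Γ(F, X.basicOpen c)) :
    ∃ (n : ℕ) (x : Γ(F, V)),
      rs F (X.basicOpen_le c) x = (rr X (X.basicOpen_le c) c) ^ n • y := by
  have hloc := isLocalizedModule_resL F hV c
  obtain ⟨⟨x, ⟨_, n, rfl⟩⟩, hxy⟩ := IsLocalizedModule.surj (.powers c) (resL F V c)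
    (SecOver.ofSec c y)
  refine ⟨n, x, ?_⟩
  have h1 : (c ^ n • SecOver.ofSec c y).toSec = (resL F V c x).toSec := congrArg SecOver.toSec hxy
  rw [secOver_smul_def, resL_apply] at h1
  have h2 : X.presheaf.map (homOfLE (X.basicOpen_le c)).op (c ^ n) =
      (rr X (X.basicOpen_le c) c) ^ n := rr_pow _ c n
  rw [h2] at h1
  exact h1.symm

theorem exists_pow_smul_eq_zero_of_compact (F : X.Modules) [F.IsQuasicoherent] {V W : X.Opens}
    (hWV : W ≤ V) (hW : IsCompact (W : Set X)) (c : Γ(X, V)) (x : Γ(F, W))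
    (hx : rs F (inf_le_left : W ⊓ X.basicOpen c ≤ W) x = 0) :
    ∃ n : ℕ, (rr X hWV c) ^ n • x = 0 := by
  obtain ⟨s, hs, hWs⟩ := isCompact_iff_finite_and_eq_biUnion_affineOpens.mp hW
  have hloc : ∀ A : X.affineOpens, ∃ n : ℕ, ∀ h : A.1 ≤ W,
      (rr X (h.trans hWV) c) ^ n • rs F h x = 0 := by
    intro A
    by_cases h : A.1 ≤ W
    · have hA : X.basicOpen (rr X (h.trans hWV) c) ≤ W ⊓ X.basicOpen c := by
        rw [basicOpen_rr]
        exact inf_le_inf_right _ h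
      obtain ⟨n, hn⟩ := exists_pow_smul_eq_zero_of_affine F A.2 (rr X (h.trans hWV) c)
        (rs F h x) (by
          rw [rs_rs, ← rs_rs F (inf_le_left : W ⊓ X.basicOpen c ≤ W) hA, hx, rs_zero])
      exact ⟨n, fun _ => hn⟩
    · exact ⟨0, fun h' => absurd h' h⟩
  choose n hn using hloc
  let N := ∑ i ∈ hs.toFinset, n i
  refine ⟨N, ?_⟩
  have hle : ∀ i : s, (i.1 : X.Opens) ≤ W := by
    intro i
    rw [hWs]
    exact le_iSup₂ (f := fun (j : X.affineOpens) (_ : j ∈ s) => (j : X.Opens)) i.1 i.2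
  have hcov : W ≤ ⨆ i : s, (i.1 : X.Opens) := by
    rw [hWs, iSup_subtype']
  refine ext_cover F.presheaf F.isSheaf (fun i : s => (i.1 : X.Opens)) hle hcov _ _ (fun i => ?_)
  change rs F (hle i) (rr X hWV c ^ N • x) = rs F (hle i) 0
  have hN : N = (N - n i.1) + n i.1 := by
    have : n i.1 ≤ ∑ j ∈ hs.toFinset, n j :=
      Finset.single_le_sum (f := n) (fun _ _ => Nat.zero_le _) (hs.mem_toFinset.mpr i.2)
    omega
  rw [rs_zero, rs_smul, rr_pow, rr_rr, hN, pow_add, mul_smul, hn i.1 (hle i), smul_zero]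

end Groth.Agent.Lib.Helper35.QcohSec
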