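import Mathlib
import Groth.Agent.Lib.Helper35.PbBase

/-!
# An immersion criterion (chartwise surjectivity on affine pieces)
-/

universe u

open CategoryTheory CategoryTheory.Limits AlgebraicGeometry TopologicalSpace Opposite

namespace Groth.Agent.Lib.Helper35.VA

theorem surjective_app_congr {X P : Scheme.{u}} (g : X ⟶ P) {A B : P.Opens} (h : A = B)
    (hs : Function.Surjective (g.app B).hom) : Function.Surjective (g.app A).hom := by
  subst h
  exact hs

/-- a morphism which, over an affine open cover of the target, has affine preimages and surjective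
maps on sections, is a closed immersion -/
theorem isClosedImmersion_of_affine_cover {X Y : Scheme.{u}} (g : X ⟶ Y) {ι : Type*}
    (W : ι → Y.Opens) (hW : ∀ j, IsAffineOpen (W j)) (hcov : ⨆ j, W j = ⊤)
    (hX : ∀ j, IsAffineOpen (g ⁻¹ᵁ W j))
    (hsurj : ∀ j, Function.Surjective (g.app (W j)).hom) : IsClosedImmersion g := by
  refine (HasAffineProperty.iff_of_iSup_eq_top (P := @IsClosedImmersion)
    (fun j => (⟨W j, hW j⟩ : Y.affineOpens)) hcov).mpr (fun j => ⟨hX j, ?_⟩)
  change Function.Surjective ((g ∣_ W j).appTop).hom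
  have h1 : Function.Surjective (g.app ((W j).ι ''ᵁ ⊤)).hom :=
    surjective_app_congr g (Scheme.Opens.ι_image_top (W j)) (hsurj j)
  have h2 : Function.Bijective
      (X.presheaf.map (eqToHom (image_morphismRestrict_preimage g (W j) ⊤)).op).hom :=
    ConcreteCategory.bijective_of_isIso _
  intro y
  obtain ⟨z, hz⟩ := h2.2 y
  obtain ⟨w, hw⟩ := h1 z
  refine ⟨w, ?_⟩
  have e := congrArg (fun φ => φ.hom w) (morphismRestrict_appTop g (W j))
  refine e.trans ?_
  change (X.presheaf.map (eqToHom (image_morphismRestrict_preimage g (W j) ⊤)).op).hom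
    ((g.app ((W j).ι ''ᵁ ⊤)).hom w) = y
  rw [hw, hz]

theorem surjective_app_of_eq {X P : Scheme.{u}} {i i' : X ⟶ P} (h : i = i') (W : P.Opens)
    (hs : Function.Surjective (i.app W).hom) : Function.Surjective (i'.app W).hom := by
  subst h
  exact hs

/-- **Immersion criterion**: `i : X ⟶ P`, affine opens `W j` of `P` whose preimages are affine and
cover `X`, with `Γ(P, W j) → Γ(X, i⁻¹ W j)` surjective. -/
theorem isImmersion_of_affine_cover {X P : Scheme.{u}} (i : X ⟶ P) {ι : Type*}
    (W : ι → P.Opens) (hW : ∀ j, IsAffineOpen (W j))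
    (hX : ∀ j, IsAffineOpen (i ⁻¹ᵁ W j)) (hcov : ∀ x : X, ∃ j, i x ∈ W j)
    (hsurj : ∀ j, Function.Surjective (i.app (W j)).hom) : IsImmersion i := by
  let U : P.Opens := ⨆ j, W j
  have hrange : Set.range i ⊆ Set.range U.ι := by
    rintro _ ⟨x, rfl⟩
    obtain ⟨j, hj⟩ := hcov x
    rw [Scheme.Opens.range_ι]
    exact (le_iSup W j) hj
  let g₁ : X ⟶ U := IsOpenImmersion.lift U.ι i hrange
  have hfac : g₁ ≫ U.ι = i := IsOpenImmersion.lift_fac U.ι i hrange
  have hcl : IsClosedImmersion g₁ := by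
    refine isClosedImmersion_of_affine_cover g₁ (fun j => U.ι ⁻¹ᵁ W j) (fun j => ?_) ?_
      (fun j => ?_) (fun j => ?_)
    · exact (hW j).preimage_of_isOpenImmersion U.ι
        (by rw [Scheme.Opens.opensRange_ι]; exact le_iSup W j)
    · rw [eq_top_iff]
      rintro ⟨y, hy⟩ -
      obtain ⟨j, hj⟩ := Opens.mem_iSup.mp hy
      exact Opens.mem_iSup.mpr ⟨j, hj⟩
    · have : g₁ ⁻¹ᵁ (U.ι ⁻¹ᵁ W j) = i ⁻¹ᵁ W j := by
        rw [← hfac]; rfl
      rw [this]
      exact hX j
    · have h1 : Function.Surjective ((g₁ ≫ U.ι).app (W j)).hom :=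
        surjective_app_of_eq hfac.symm (W j) (hsurj j)
      intro y
      obtain ⟨z, hz⟩ := h1 y
      refine ⟨(U.ι.app (W j)).hom z, ?_⟩
      have e := congrArg (fun φ => φ.hom z) (Scheme.Hom.comp_app g₁ U.ι (W j))
      exact e.symm.trans hz
  rw [← hfac]
  infer_instance

/-- variant with the preimages given up to equality and `appLE` -/
theorem isImmersion_of_affine_cover' {X P : Scheme.{u}} (i : X ⟶ P) {ι : Type*}
    (W : ι → P.Opens) (A : ι → X.Opens) (hA : ∀ j, A j = i ⁻¹ᵁ W j)
    (hW : ∀ j, IsAffineOpen (W j)) (hAaff : ∀ j, IsAffineOpen (A j))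
    (hcov : ∀ x : X, ∃ j, x ∈ A j)
    (hsurj : ∀ j, Function.Surjective (i.appLE (W j) (A j) (hA j).le).hom) : IsImmersion i := by
  refine isImmersion_of_affine_cover i W hW (fun j => hA j ▸ hAaff j) (fun x => ?_) (fun j => ?_)
  · obtain ⟨j, hj⟩ := hcov x
    refine ⟨j, ?_⟩
    rw [hA j] at hj
    exact hj
  · have key : ∀ (B : X.Opens) (hB : B = i ⁻¹ᵁ W j),
        Function.Surjective (i.appLE (W j) B hB.le).hom → Function.Surjective (i.app (W j)).hom := by
      intro B hB h
      subst hB
      rwa [Scheme.Hom.appLE, show (homOfLE (le_refl (i ⁻¹ᵁ W j))).op = 𝟙 _ from rfl,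
        CategoryTheory.Functor.map_id, Category.comp_id] at h
    exact key (A j) (hA j) (hsurj j)

/-- surjectivity from generation: if a generating set of the target ring is hit -/
theorem surjective_of_closure {R S : Type*} [CommRing R] [CommRing S] (φ : R →+* S) (G : Set S)
    (hG : Subring.closure G = ⊤) (h : ∀ g ∈ G, g ∈ Set.range φ) : Function.Surjective φ := by
  rw [← RingHom.range_eq_top, eq_top_iff, ← hG]
  exact Subring.closure_le.mpr (fun g hg => h g hg)

end Groth.Agent.Lib.Helper35.VA
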