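import Mathlib
import Groth.Agent.Lib.Helper35.VA1
import Groth.Agent.Lib.Helper60.ProjUP12
import Groth.Prelude.Def_LCI2

/-!
# From good generating sections to a very ample (P^n) structure
-/

set_option autoImplicit false
universe u

open CategoryTheory CategoryTheory.Limits AlgebraicGeometry TopologicalSpace Opposite

namespace Groth.Agent.Lib.Helper35.VA

open Groth.Agent.Lib.Helper35.Gen Groth.Agent.Lib.Helper35.PbInv Groth.Agent.Lib.Helper35.AbSheaf
open Groth.Agent.Lib.Helper60.ProjUPLib Groth.Agent.Lib.Helper60.ProjFrac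
open Groth.Agent.Lib.Lead.QCohAff

variable {X : Scheme.{u}}

/-- if the generating loci of the sections `t j` cover, the sections generate stalkwise -/
theorem generatedBy_of_cover (N : X.Modules) {ι : Type*} (t : ι → ProjUP.Γm N)
    (h : ∀ x : X, ∃ j, x ∈ genOpen N (t j)) : ProjUP.GeneratedBy N t := by
  intro x
  obtain ⟨j, hj⟩ := h x
  rw [eq_top_iff]
  intro z _
  obtain ⟨U, hxU, m, rfl⟩ := TopCat.Presheaf.germ_exist N.presheaf (x := x) z
  let W : X.Opens := U ⊓ genOpen N (t j)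
  have hxW : x ∈ W := ⟨hxU, hj⟩
  have hgen : IsGen N W (rs N le_top (t j)) := by
    have := (isGen_genOpen N (t j)).mono (inf_le_right : W ≤ genOpen N (t j))
    rwa [rs_rs] at this
  obtain ⟨c, hc⟩ := hgen.exists_eq_smul (rs N (inf_le_left : W ≤ U) m)
  have h1 : N.presheaf.germ U x hxU m = N.presheaf.germ W x hxW (rs N inf_le_left m) :=
    (germ_res N (inf_le_left : W ≤ U) x hxW m).symm
  have h2 : N.presheaf.germ W x hxW (rs N le_top (t j)) =
      (N.presheaf.germ ⊤ x trivial).hom (t j) := germ_res N (le_top : W ≤ ⊤) x hxW (t j)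
  change (N.presheaf.germ U x hxU).hom m ∈ _
  have h3 : (N.presheaf.germ U x hxU).hom m =
      X.presheaf.germ W x hxW c • (N.presheaf.germ ⊤ x trivial).hom (t j) := by
    change N.presheaf.germ U x hxU m = _
    rw [h1, hc, germ_smul, h2]
  rw [h3]
  exact Submodule.smul_mem _ _ (Submodule.subset_span ⟨j, rfl⟩)

section charts

variable {R A : Type u} [CommRing R] [CommRing A] [Algebra R A] (𝒜 : ℕ → Submodule R A)
  [GradedAlgebra 𝒜]
variable {ι : Type*} (g : ι → A) (hg : ∀ i, g i ∈ 𝒜 1) (hgen : Algebra.adjoin R (Set.range g) = ⊤)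
variable (r : X ⟶ Proj 𝒜) {N : X.Modules} (t : ι → Γ(N, ⊤))
  (τ : (Scheme.Modules.pullback r).obj (Twist.twist 𝒜 ((1 : ℕ) : ℤ)) ≅ N)
  (hτ : ∀ i, (τ.hom.app ⊤).hom (psec 𝒜 r ⟨g i, hg i⟩) = t i)

include hgen hτ in
theorem preimage_eq_genOpen (j : ι) : r ⁻¹ᵁ Proj.basicOpen 𝒜 (g j) = genOpen N (t j) := by
  apply le_antisymm
  · apply le_genOpen
    have h1 := IsGen.map_iso τ (isGen_psec 𝒜 r ⟨g j, hg j⟩)
    rw [hom_rs, hτ] at h1
    exact h1
  · apply le_preimage_of_isGen_psec 𝒜 g hg hgen r ⟨g j, hg j⟩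
    have h1 := IsGen.map_iso τ.symm (isGen_genOpen N (t j))
    rw [hom_rs] at h1
    have h2 : (τ.symm.hom.app ⊤).hom (t j) = psec 𝒜 r ⟨g j, hg j⟩ := by
      rw [← hτ j]
      exact congrArg (fun φ => (Scheme.Modules.Hom.app φ ⊤).hom (psec 𝒜 r ⟨g j, hg j⟩))
        τ.hom_inv_id
    rw [h2] at h1
    exact h1

include hτ in
theorem rs_eq_cfun_smul (j k : ι) :
    rs N (le_top : r ⁻¹ᵁ Proj.basicOpen 𝒜 (g j) ≤ ⊤) (t k) =
      cfun 𝒜 r ⟨g k, hg k⟩ ⟨g j, hg j⟩ • rs N le_top (t j) := by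
  have h1 := congrArg (fun s => (τ.hom.app _).hom s)
    (rs_psec_eq_smul 𝒜 r ⟨g k, hg k⟩ ⟨g j, hg j⟩)
  simp only at h1
  rw [Scheme.Modules.Hom.app_smul, hom_rs, hom_rs, hτ, hτ] at h1
  exact h1

end charts

end Groth.Agent.Lib.Helper35.VA
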