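import Mathlib
import Groth.Agent.Lib.Helper35.VA2

/-!
# Good sections give a very ample (P^n) structure
-/

set_option autoImplicit false
universe u

open CategoryTheory CategoryTheory.Limits AlgebraicGeometry TopologicalSpace Opposite

namespace Groth.Agent.Lib.Helper35.VA

open Groth.Agent.Lib.Helper35.Gen Groth.Agent.Lib.Helper35.PbInv Groth.Agent.Lib.Helper35.AbSheaf
open Groth.Agent.Lib.Helper60.ProjUPLib Groth.Agent.Lib.Helper60.ProjFrac
open Groth.Agent.Lib.Lead.QCohAff

variable {X S : Scheme.{u}}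

/-- Global sections of `N` whose generating loci include, around every point, an affine one mapping
into an affine open `V` of the base and whose ring of functions is generated by `Γ(S, V)` and the
ratios `t k / t j`. -/
def GoodSections (f : X ⟶ S) (N : X.Modules) : Prop :=
  ∃ (n : ℕ) (t : Fin (n + 1) → Γ(N, ⊤)), ∀ x : X, ∃ j : Fin (n + 1),
    x ∈ genOpen N (t j) ∧ IsAffineOpen (genOpen N (t j)) ∧
    ∃ (V : S.Opens) (_ : IsAffineOpen V) (hle : genOpen N (t j) ≤ f ⁻¹ᵁ V),
      Subring.closure (Set.range (f.appLE V (genOpen N (t j)) hle).hom ∪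
        {c | ∃ k, c • rs N (le_top : genOpen N (t j) ≤ ⊤) (t j) = rs N le_top (t k)}) = ⊤

theorem isRelVeryAmplePn_of_goodSections (f : X ⟶ S) (N : X.Modules)
    (hN : PicF.IsInvertible N) (h : GoodSections f N) : RelAmple.IsRelVeryAmplePn f N := by
  obtain ⟨n, t, ht⟩ := h
  have hgenBy : ProjUP.GeneratedBy N t :=
    generatedBy_of_cover N t (fun x => (ht x).imp (fun j hj => hj.1))
  let R : Type u := ULift.{u} ℤ
  let q : X ⟶ Spec (CommRingCat.of R) := specULiftZIsTerminal.from X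
  obtain ⟨r, hr, τ, hτ⟩ := exists_projSpace n q N hN t hgenBy
  let 𝒜 := CohB1.polyGrading n R
  let g : Fin (n + 1) → MvPolynomial (Fin (n + 1)) R := fun i => MvPolynomial.X i
  have hg : ∀ i, g i ∈ 𝒜 1 := fun i => MvPolynomial.isHomogeneous_X R i
  have hadj : Algebra.adjoin R (Set.range g) = ⊤ := MvPolynomial.adjoin_range_X
  have hpre : ∀ j, r ⁻¹ᵁ Proj.basicOpen 𝒜 (g j) = genOpen N (t j) :=
    preimage_eq_genOpen 𝒜 g hg hadj r t τ hτ
  have hcomm : r ≫ CohB1.ProjSpace.toSpec n R = f ≫ specULiftZIsTerminal.from S :=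
    specULiftZIsTerminal.hom_ext _ _
  let i : X ⟶ CohB1.ProjSpaceOver n S := pullback.lift r f hcomm
  have hi1 : i ≫ pullback.fst (CohB1.ProjSpace.toSpec n R) (specULiftZIsTerminal.from S) = r :=
    pullback.lift_fst _ _ _
  have hi2 : i ≫ pullback.snd (CohB1.ProjSpace.toSpec n R) (specULiftZIsTerminal.from S) = f :=
    pullback.lift_snd _ _ _
  refine ⟨n, i, ?_, hi2, ?_⟩
  · choose j hxj haff V hV hle hgenj using ht
    let D : Fin (n + 1) → (Proj 𝒜).Opens := fun k => Proj.basicOpen 𝒜 (g k)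
    let W : X → (CohB1.ProjSpaceOver n S).Opens := fun x =>
      pullback.fst (CohB1.ProjSpace.toSpec n R) (specULiftZIsTerminal.from S) ⁻¹ᵁ D (j x) ⊓
        pullback.snd (CohB1.ProjSpace.toSpec n R) (specULiftZIsTerminal.from S) ⁻¹ᵁ V x
    have hA : ∀ x, genOpen N (t (j x)) = i ⁻¹ᵁ W x := by
      intro x
      change _ = i ⁻¹ᵁ (pullback.fst (CohB1.ProjSpace.toSpec n R)
        (specULiftZIsTerminal.from S) ⁻¹ᵁ D (j x)) ⊓ i ⁻¹ᵁ (pullback.snd
        (CohB1.ProjSpace.toSpec n R) (specULiftZIsTerminal.from S) ⁻¹ᵁ V x)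
      rw [← Scheme.Hom.comp_preimage, ← Scheme.Hom.comp_preimage, hi1, hi2]
      change _ = r ⁻¹ᵁ Proj.basicOpen 𝒜 (g (j x)) ⊓ f ⁻¹ᵁ V x
      rw [hpre]
      exact (inf_eq_left.mpr (hle x)).symm
    refine isImmersion_of_affine_cover' i W (fun x => genOpen N (t (j x))) hA (fun x => ?_)
      haff (fun x => ⟨x, hxj x⟩) (fun x => ?_)
    · exact Groth.Agent.Lib.Helper35.PbInv.isAffineOpen_inf_preimage_of_pullback
        (CohB1.ProjSpace.toSpec n R) (specULiftZIsTerminal.from S) (D (j x)) ⊤ (V x)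
        (Proj.isAffineOpen_basicOpen 𝒜 (g (j x)) (hg (j x)) one_pos) (isAffineOpen_top _) (hV x)
        le_top le_top
    · refine surjective_of_closure _ _ (hgenj x) ?_
      rintro c (⟨y, rfl⟩ | ⟨k, hk⟩)
      · refine ⟨((pullback.snd (CohB1.ProjSpace.toSpec n R)
          (specULiftZIsTerminal.from S)).appLE (V x) (W x) inf_le_right).hom y, ?_⟩
        have e := Scheme.Hom.appLE_comp_appLE i (pullback.snd (CohB1.ProjSpace.toSpec n R)
          (specULiftZIsTerminal.from S)) (V x) (W x) (genOpen N (t (j x))) inf_le_right (hA x).le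
        have e2 := congrArg (fun φ => φ.hom y) e
        refine e2.trans ?_
        exact appLE_hom_congr hi2 _ _ _ _ y
      · -- the ratio
        have hle' : genOpen N (t (j x)) ≤ r ⁻¹ᵁ Proj.basicOpen 𝒜 (g (j x)) := (hpre (j x)).ge
        have h1 := congrArg (rs N hle') (rs_eq_cfun_smul 𝒜 g hg r t τ hτ (j x) k)
        rw [rs_rs, rs_smul, rs_rs] at h1
        have hc : c = rr X hle' (cfun 𝒜 r ⟨g k, hg k⟩ ⟨g (j x), hg (j x)⟩) :=
          (isGen_genOpen N (t (j x))).smul_injective (hk.trans h1)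
        let y : Γ(Proj 𝒜, D (j x)) := fr 𝒜 (g k) (g (j x)) (hg k) (hg (j x))
          (Proj.basicOpen 𝒜 (g (j x))) (notMem_of_mem_basicOpen 𝒜 le_rfl)
        refine ⟨((pullback.fst (CohB1.ProjSpace.toSpec n R)
          (specULiftZIsTerminal.from S)).appLE (D (j x)) (W x) inf_le_left).hom y, ?_⟩
        have e := Scheme.Hom.appLE_comp_appLE i (pullback.fst (CohB1.ProjSpace.toSpec n R)
          (specULiftZIsTerminal.from S)) (D (j x)) (W x) (genOpen N (t (j x))) inf_le_left (hA x).le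
        have e2 := congrArg (fun φ => φ.hom y) e
        refine e2.trans ?_
        rw [hc]
        exact appLE_hom_congr hi1 _ _ _ hle' y
  · -- the isomorphism
    refine ⟨τ.symm ≪≫ ?_⟩
    exact (Scheme.Modules.pullbackCongr hi1.symm).app _ ≪≫
      ((Scheme.Modules.pullbackComp i (pullback.fst (CohB1.ProjSpace.toSpec n R)
        (specULiftZIsTerminal.from S))).app _).symm

end Groth.Agent.Lib.Helper35.VA
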