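import Mathlib
import Groth.Agent.Lib.Helper35.VA3

/-!
# Good sections: a flexible form, invariance under isomorphism
-/

set_option autoImplicit false
universe v w u

open CategoryTheory CategoryTheory.Limits AlgebraicGeometry TopologicalSpace Opposite

namespace Groth.Agent.Lib.Helper35.VA

open Groth.Agent.Lib.Helper35.Gen Groth.Agent.Lib.Helper35.PbInv Groth.Agent.Lib.Helper35.AbSheaf
open Groth.Agent.Lib.Helper60.ProjUPLib

variable {X S : Scheme.{u}}

/-- one good chart for the family of sections `t` at the index `j` on the open `A` -/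
def GoodChart (f : X ⟶ S) (N : X.Modules) {ι : Type v} (t : ι → Γ(N, ⊤)) (j : ι) (A : X.Opens) :
    Prop :=
  IsAffineOpen A ∧ IsGen N A (rs N le_top (t j)) ∧
    (∀ W : X.Opens, IsGen N W (rs N le_top (t j)) → W ≤ A) ∧
    ∃ (V : S.Opens) (_ : IsAffineOpen V) (hle : A ≤ f ⁻¹ᵁ V),
      Subring.closure (Set.range (f.appLE V A hle).hom ∪
        {c | ∃ k, c • rs N (le_top : A ≤ ⊤) (t j) = rs N le_top (t k)}) = ⊤

/-- flexible form of `GoodSections` -/
def GoodSections' (f : X ⟶ S) (N : X.Modules) : Prop :=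
  ∃ (ι : Type u) (_ : Finite ι) (t : ι → Γ(N, ⊤)), ∀ x : X, ∃ (j : ι) (A : X.Opens),
    x ∈ A ∧ GoodChart f N t j A

theorem GoodChart.reindex {f : X ⟶ S} {N : X.Modules} {ι : Type v} {ι' : Type w} {t : ι → Γ(N, ⊤)}
    {t' : ι' → Γ(N, ⊤)} (φ : ι → ι') (hφ : ∀ i, t' (φ i) = t i) {j : ι} {A : X.Opens}
    (h : GoodChart f N t j A) : GoodChart f N t' (φ j) A := by
  obtain ⟨h1, h2, h3, V, hV, hle, h4⟩ := h
  refine ⟨h1, ?_, ?_, V, hV, hle, ?_⟩
  · rw [hφ]; exact h2
  · rw [hφ]; exact h3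
  · rw [eq_top_iff, ← h4]
    apply Subring.closure_mono
    apply Set.union_subset_union_right
    rintro c ⟨k, hk⟩
    exact ⟨φ k, by rw [hφ, hφ]; exact hk⟩

theorem GoodChart.map_iso {f : X ⟶ S} {N N' : X.Modules} (e : N ≅ N') {ι : Type v}
    {t : ι → Γ(N, ⊤)} {j : ι} {A : X.Opens} (h : GoodChart f N t j A) :
    GoodChart f N' (fun i => (e.hom.app ⊤).hom (t i)) j A := by
  obtain ⟨h1, h2, h3, V, hV, hle, h4⟩ := h
  refine ⟨h1, ?_, ?_, V, hV, hle, ?_⟩
  · have := IsGen.map_iso e h2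
    rwa [hom_rs] at this
  · intro W hW
    apply h3
    have h5 := IsGen.map_iso e.symm hW
    rw [hom_rs] at h5
    have h6 : (e.symm.hom.app ⊤).hom ((e.hom.app ⊤).hom (t j)) = t j :=
      congrArg (fun φ => (Scheme.Modules.Hom.app φ ⊤).hom (t j)) e.hom_inv_id
    rwa [h6] at h5
  · rw [eq_top_iff, ← h4]
    apply Subring.closure_mono
    apply Set.union_subset_union_right
    rintro c ⟨k, hk⟩
    refine ⟨k, ?_⟩
    have := congrArg (e.hom.app A).hom hk
    rwa [Scheme.Modules.Hom.app_smul, hom_rs, hom_rs] at this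

theorem GoodSections'.of_iso {f : X ⟶ S} {N N' : X.Modules} (e : N ≅ N')
    (h : GoodSections' f N) : GoodSections' f N' := by
  obtain ⟨ι, hfin, t, ht⟩ := h
  refine ⟨ι, hfin, fun i => (e.hom.app ⊤).hom (t i), fun x => ?_⟩
  obtain ⟨j, A, hxA, hA⟩ := ht x
  exact ⟨j, A, hxA, hA.map_iso e⟩

theorem goodSections_of_flex {f : X ⟶ S} {N : X.Modules} (h : GoodSections' f N) :
    GoodSections f N := by
  obtain ⟨ι, hfin, t, ht⟩ := h
  -- reindex by `Fin (n + 1)`
  have hcard : Nat.card (Option ι) = Nat.card ι + 1 := Finite.card_option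
  let e : Option ι ≃ Fin (Nat.card ι + 1) := (Finite.equivFin (Option ι)).trans (finCongr hcard)
  let t₀ : Option ι → Γ(N, ⊤) := fun o => o.elim 0 t
  let t' : Fin (Nat.card ι + 1) → Γ(N, ⊤) := fun a => t₀ (e.symm a)
  refine ⟨Nat.card ι, t', fun x => ?_⟩
  obtain ⟨j, A, hxA, hA⟩ := ht x
  have hA' : GoodChart f N t' (e (some j)) A := by
    have h1 : GoodChart f N t₀ (some j) A := hA.reindex (t' := t₀) some (fun i => rfl)
    exact h1.reindex (t' := t') (fun o => e o) (fun o => by simp [t'])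
  obtain ⟨h1, h2, h3, V, hV, hle, h4⟩ := hA'
  obtain rfl : A = genOpen N (t' (e (some j))) :=
    le_antisymm (le_genOpen N _ A h2) (h3 _ (isGen_genOpen N _))
  exact ⟨e (some j), hxA, h1, V, hV, hle, h4⟩

end Groth.Agent.Lib.Helper35.VA
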