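import Mathlib
import Groth.Agent.Lib.Helper35.VA4
import Groth.Agent.Lib.Helper35.QcohSec
import Groth.Agent.Lib.Lead.Tw5

/-!
# Extending finitely many sections over `X_σ` to global sections of twists, with control of loci
-/

set_option autoImplicit false
universe v w u

open CategoryTheory CategoryTheory.Limits AlgebraicGeometry TopologicalSpace Opposite

namespace Groth.Agent.Lib.Helper35.VA

open Groth.Agent.Lib.Helper35.Gen Groth.Agent.Lib.Helper35.PbInv Groth.Agent.Lib.Helper35.AbSheaf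
open Groth.Agent.Lib.Helper60.ProjUPLib Groth.Agent.Lib.Helper35.QcohSec

variable {X S : Scheme.{u}}

/-- if `a • z` generates on `W` then `a` is invertible on `W` -/
theorem le_basicOpen_of_isGen_smul {L : X.Modules} {U W : X.Opens} (hW : W ≤ U) (a : Γ(X, U))
    (z : Γ(L, U)) (h : IsGen L W (rs L hW (a • z))) : W ≤ X.basicOpen a := by
  rw [← forall_isUnit_iff_le_basicOpen a W hW]
  intro W' hW'
  have hb := h W' hW'
  rw [rs_rs, rs_smul] at hb
  obtain ⟨c, hc⟩ := hb.2 (rs L (hW'.trans hW) z)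
  have h1 : (c * rr X (hW'.trans hW) a) • (rr X (hW'.trans hW) a • rs L (hW'.trans hW) z) =
      (1 : Γ(X, W')) • (rr X (hW'.trans hW) a • rs L (hW'.trans hW) z) := by
    have hc' : c • rr X (hW'.trans hW) a • rs L (hW'.trans hW) z = rs L (hW'.trans hW) z := hc
    rw [one_smul, mul_comm, mul_smul, hc']
  have h2 : c * rr X (hW'.trans hW) a = 1 := hb.1 h1
  exact IsUnit.of_mul_eq_one c (by rw [mul_comm]; exact h2)

/-- a local generator on a basic open of an affine open, extended to the affine open -/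
theorem exists_chart_gen {F : X.Modules} (hF : PicF.IsInvertible F) [F.IsQuasicoherent]
    {U : X.Opens} (hU : IsAffineOpen U) (x : X) (hx : x ∈ U) :
    ∃ (h₀ : Γ(X, U)) (y₀ : Γ(F, U)), x ∈ X.basicOpen h₀ ∧
      IsGen F (X.basicOpen h₀) (rs F (X.basicOpen_le h₀) y₀) := by
  obtain ⟨U₁, hx₁, e, he⟩ := exists_isGen_of_isInvertible hF x
  obtain ⟨h₀, hle, hxh⟩ := hU.exists_basicOpen_le (V := U ⊓ U₁) ⟨x, ⟨hx, hx₁⟩⟩ hx
  have he' : IsGen F (X.basicOpen h₀) (rs F (hle.trans inf_le_right) e) := he.mono _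
  obtain ⟨p, y₀, hy₀⟩ := exists_extension_of_affine F hU h₀ (rs F (hle.trans inf_le_right) e)
  refine ⟨h₀, y₀, hxh, ?_⟩
  rw [hy₀, isGen_smul_iff he']
  have hu : IsUnit (rr X (X.basicOpen_le h₀) h₀) :=
    RingedSpace.isUnit_res_basicOpen X.toRingedSpace h₀
  exact (X.basicOpen_of_isUnit (hu.pow p)).ge

end Groth.Agent.Lib.Helper35.VA

namespace Groth.Agent.Lib.Helper35.VA

open Groth.Agent.Lib.Helper35.Gen Groth.Agent.Lib.Helper35.PbInv Groth.Agent.Lib.Helper35.AbSheaf
open Groth.Agent.Lib.Helper60.ProjUPLib Groth.Agent.Lib.Helper35.QcohSec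
open Groth.Agent.Lib.Helper35.GlobGen

variable {X S : Scheme.{u}}

theorem iso_symm_hom_app {N N' : X.Modules} (e : N ≅ N') (W : X.Opens) (v : Γ(N, W)) :
    (e.symm.hom.app W).hom ((e.hom.app W).hom v) = v :=
  congrArg (fun φ : N ⟶ N => (Scheme.Modules.Hom.app φ W).hom v) e.hom_inv_id

/-- finitely many sections over `X_σ` extend, after twisting by `σ^k` for all large `k`, to global
sections whose generating loci stay inside `X_σ` -/
theorem exists_global_sections [CompactSpace X] [QuasiSeparatedSpace X] {L' : X.Modules}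
    (hL' : PicF.IsInvertible L') (σ : Coh.structureModule X ⟶ L') (F : X.Modules)
    [F.IsQuasicoherent] (hF : PicF.IsInvertible F) {ι : Type*} [Finite ι]
    (z : ι → Γ(F, CohB1.genLocus L' σ)) :
    ∃ k₀ : ℕ, ∀ k, k₀ ≤ k → ∃ t : ι → Γ(CohB1.tensorMod F (CohB1.tensorPow L' k), ⊤),
      (∀ i, rs _ (le_top : CohB1.genLocus L' σ ≤ ⊤) (t i) =
        tm F (CohB1.tensorPow L' k) (z i) (gpow (SecTwist.val σ (CohB1.genLocus L' σ)) k)) ∧
      ∀ i (W : X.Opens), IsGen _ W (rs _ le_top (t i)) → W ≤ CohB1.genLocus L' σ := by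
  obtain ⟨n₀, hn₀⟩ := Groth.Agent.Lib.Lead.Inv.exists_uniform_finite
    (fun (i : ι) (n : ℕ) => ∃ t' : Γ(CohB1.tensorMod F (CohB1.tensorPow L' n), ⊤),
      rs _ (le_top : CohB1.genLocus L' σ ≤ ⊤) t' =
        tm F (CohB1.tensorPow L' n) (z i) (gpow (SecTwist.val σ (CohB1.genLocus L' σ)) n))
    (fun i => by
      have h := Groth.Agent.Lib.Lead.Inv.exists_twist_extends_ge hL' σ F (z i)
      simp only [← Groth.Agent.Lib.Lead.Inv.secTwist_pow_eq] at h
      simp only [← pow_eq_gpow]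
      exact h)
  refine ⟨n₀ + 1, fun k hk => ?_⟩
  obtain ⟨n, rfl⟩ : ∃ n, k = n + 1 := ⟨k - 1, by omega⟩
  have hn : n₀ ≤ n := by omega
  choose t' ht' using hn₀ n hn
  have hOK : Groth.Agent.Lib.Lead.Inv.AssocOK F (CohB1.tensorPow L' n) L' :=
    Groth.Agent.Lib.Lead.Inv.assocOK_of_mid_right (isInvertible_tensorPow hL' n) hL'
  let s : ι → (Coh.structureModule X ⟶
      CohB1.tensorMod (CohB1.tensorMod F (CohB1.tensorPow L' n)) L') :=
    fun i => SecTwist.tmulHom (secHom _ (t' i)) σ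
  have hval : ∀ i (W : X.Opens), SecTwist.val (s i) W =
      tm _ L' (rs _ le_top (t' i)) (SecTwist.val σ W) := by
    intro i W
    change SecTwist.val (SecTwist.tmulHom (secHom _ (t' i)) σ) W = _
    rw [SecTwist.val_tmulHom, val_secHom]
    rfl
  refine ⟨fun i => ((Groth.Agent.Lib.Lead.Inv.assocIso hOK).hom.app ⊤).hom (SecTwist.val (s i) ⊤),
    fun i => ?_, fun i W hW => ?_⟩
  · change rs (CohB1.tensorMod F (CohB1.tensorMod (CohB1.tensorPow L' n) L')) _ _ = _
    rw [← hom_rs, rs_val, hval, ht']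
    exact Groth.Agent.Lib.Lead.Inv.assocIso_hom_tmul hOK _ _ _
  · have hW' : IsGen (CohB1.tensorMod F (CohB1.tensorMod (CohB1.tensorPow L' n) L')) W
        (rs _ le_top (((Groth.Agent.Lib.Lead.Inv.assocIso hOK).hom.app ⊤).hom
          (SecTwist.val (s i) ⊤))) := hW
    have h1 := IsGen.map_iso (Groth.Agent.Lib.Lead.Inv.assocIso hOK).symm hW'
    rw [hom_rs] at h1
    rw [iso_symm_hom_app, rs_val] at h1
    have h3 := (isGen_val_iff (s i) W).mp h1
    change W ≤ CohB1.genLocus _ (SecTwist.tmulHom (secHom _ (t' i)) σ) at h3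
    rw [genLocus_tmulHom (isInvertible_tensorMod hF (isInvertible_tensorPow hL' n)) hL'] at h3
    exact h3.trans inf_le_right

end Groth.Agent.Lib.Helper35.VA
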