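import Mathlib
import Groth.Agent.Lib.Helper35.VA5
import Groth.Agent.Lib.Helper35.Ample4

/-!
# The local chart: good sections of `F ⊗ L'^k` near a point of an affine `X_σ`
-/

set_option autoImplicit false
universe v w u

open CategoryTheory CategoryTheory.Limits AlgebraicGeometry TopologicalSpace Opposite

namespace Groth.Agent.Lib.Helper35.VA

open Groth.Agent.Lib.Helper35.Gen Groth.Agent.Lib.Helper35.PbInv Groth.Agent.Lib.Helper35.AbSheaf
open Groth.Agent.Lib.Helper60.ProjUPLib Groth.Agent.Lib.Helper35.QcohSec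
open Groth.Agent.Lib.Helper35.GlobGen

variable {X S : Scheme.{u}}

theorem exists_goodChart [CompactSpace X] [QuasiSeparatedSpace X] (f : X ⟶ S) {L' F : X.Modules}
    (hL' : PicF.IsInvertible L') (hF : PicF.IsInvertible F) (σ : Coh.structureModule X ⟶ L')
    (hU : IsAffineOpen (CohB1.genLocus L' σ)) (V : S.Opens) (hV : IsAffineOpen V)
    (hUV : CohB1.genLocus L' σ ≤ f ⁻¹ᵁ V) (s : Finset Γ(X, CohB1.genLocus L' σ))
    (hs : Subring.closure (Set.range (f.appLE V _ hUV).hom ∪
      (s : Set Γ(X, CohB1.genLocus L' σ))) = ⊤)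
    (x : X) (hx : x ∈ CohB1.genLocus L' σ) :
    ∃ (A : X.Opens), x ∈ A ∧ ∃ (ι : Type u) (_ : Finite ι) (i₀ : ι) (k₀ : ℕ), ∀ k, k₀ ≤ k →
      ∃ t : ι → Γ(CohB1.tensorMod F (CohB1.tensorPow L' k), ⊤), GoodChart f _ t i₀ A := by
  haveI : F.IsQuasicoherent := Groth.Agent.Lib.Helper35.Ample.isQuasicoherent_of_isInvertible hF
  obtain ⟨h₀, y₀, hxh, hgen₀⟩ := exists_chart_gen hF hU x hx
  have hAU : X.basicOpen h₀ ≤ CohB1.genLocus L' σ := X.basicOpen_le h₀
  let y : Γ(F, CohB1.genLocus L' σ) := h₀ • y₀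
  let z : Option (Option s) → Γ(F, CohB1.genLocus L' σ) :=
    fun o => o.elim y (fun o' => o'.elim y₀ (fun a => a.1 • y))
  obtain ⟨k₀, hk₀⟩ := exists_global_sections hL' σ F hF z
  refine ⟨X.basicOpen h₀, hxh, Option (Option s), inferInstance, none, k₀, fun k hk => ?_⟩
  obtain ⟨t, ht, hloc⟩ := hk₀ k hk
  let N := CohB1.tensorMod F (CohB1.tensorPow L' k)
  let g : Γ(CohB1.tensorPow L' k, CohB1.genLocus L' σ) :=
    gpow (SecTwist.val σ (CohB1.genLocus L' σ)) k
  let u : Γ(X, X.basicOpen h₀) := rr X hAU h₀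
  have hu : IsUnit u := RingedSpace.isUnit_res_basicOpen X.toRingedSpace h₀
  have hrsA : ∀ i, rs N (le_top : X.basicOpen h₀ ≤ ⊤) (t i) =
      tm F _ (rs F hAU (z i)) (rs _ hAU g) := by
    intro i
    rw [← rs_rs N (le_top : CohB1.genLocus L' σ ≤ ⊤) hAU, ht, rs_tm]
  have hyA : rs F hAU y = u • rs F hAU y₀ := rs_smul F hAU h₀ y₀
  have hgenY : IsGen F (X.basicOpen h₀) (rs F hAU y) := by
    rw [hyA, isGen_smul_iff hgen₀]
    exact (X.basicOpen_of_isUnit hu).ge
  have hgenG : IsGen _ (X.basicOpen h₀) (rs _ hAU g) :=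
    (((isGen_val_iff σ (CohB1.genLocus L' σ)).mpr le_rfl).gpow k).mono hAU
  refine ⟨t, hU.basicOpen h₀, ?_, ?_, V, hV, hAU.trans hUV, ?_⟩
  · rw [hrsA none]
    exact hgenY.tm hgenG
  · intro W hW
    have hWU : W ≤ CohB1.genLocus L' σ := hloc none W hW
    have e : rs N (le_top : W ≤ ⊤) (t none) = rs N hWU (h₀ • tm F _ y₀ g) := by
      rw [← rs_rs N (le_top : CohB1.genLocus L' σ ≤ ⊤) hWU, ht]
      change rs N hWU (tm F _ (h₀ • y₀) g) = _
      rw [tm_smul_left]
    rw [e] at hW
    exact le_basicOpen_of_isGen_smul hWU h₀ _ hW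
  · set C := Subring.closure (Set.range (f.appLE V (X.basicOpen h₀) (hAU.trans hUV)).hom ∪
      {c | ∃ i, c • rs N (le_top : X.basicOpen h₀ ≤ ⊤) (t none) = rs N le_top (t i)}) with hC
    -- the restrictions of the generators are ratios
    have h_a : ∀ a ∈ s, rr X hAU a ∈ C := by
      intro a ha
      apply Subring.subset_closure
      right
      refine ⟨some (some ⟨a, ha⟩), ?_⟩
      rw [hrsA, hrsA]
      change _ = tm F _ (rs F hAU (a • y)) (rs _ hAU g)
      rw [rs_smul, tm_smul_left]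
      rfl
    obtain ⟨uinv, huinv⟩ := hu.exists_left_inv
    have h_inv : uinv ∈ C := by
      apply Subring.subset_closure
      right
      refine ⟨some none, ?_⟩
      rw [hrsA, hrsA]
      change uinv • tm F _ (rs F hAU y) (rs _ hAU g) = tm F _ (rs F hAU y₀) (rs _ hAU g)
      rw [hyA, ← tm_smul_left, smul_smul, huinv, one_smul]
    have h_base : ∀ y' : Γ(S, V), rr X hAU ((f.appLE V _ hUV).hom y') ∈ C := by
      intro y'
      apply Subring.subset_closure
      left
      refine ⟨y', ?_⟩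
      exact (congrArg (fun φ => φ.hom y') (Scheme.Hom.appLE_map f hUV (homOfLE hAU).op)).symm
    have h_all : ∀ b : Γ(X, CohB1.genLocus L' σ), rr X hAU b ∈ C := by
      intro b
      have hb : b ∈ Subring.closure (Set.range (f.appLE V _ hUV).hom ∪
          (s : Set Γ(X, CohB1.genLocus L' σ))) := hs ▸ Subring.mem_top b
      induction hb using Subring.closure_induction with
      | mem b hb =>
        rcases hb with ⟨y', rfl⟩ | hb
        · exact h_base y'
        · exact h_a b hb
      | zero => rw [map_zero]; exact zero_mem _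
      | one => rw [map_one]; exact one_mem _
      | add a b _ _ ha hb => rw [map_add]; exact add_mem ha hb
      | neg a _ ha => rw [map_neg]; exact neg_mem ha
      | mul a b _ _ ha hb => rw [map_mul]; exact mul_mem ha hb
    rw [eq_top_iff]
    intro w _
    haveI := hU.isLocalization_basicOpen h₀
    obtain ⟨⟨b, ⟨_, q, rfl⟩⟩, hw⟩ := IsLocalization.surj (Submonoid.powers h₀) w
    have hw' : w * u ^ q = rr X hAU b := by
      have : w * (algebraMap Γ(X, CohB1.genLocus L' σ) Γ(X, X.basicOpen h₀)) (h₀ ^ q) =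
          (algebraMap Γ(X, CohB1.genLocus L' σ) Γ(X, X.basicOpen h₀)) b := hw
      rw [map_pow] at this
      exact this
    have h1 : w = rr X hAU b * uinv ^ q := by
      rw [← hw', mul_assoc, ← mul_pow, mul_comm u uinv, huinv, one_pow, mul_one]
    rw [h1]
    exact mul_mem (h_all b) (pow_mem h_inv q)

end Groth.Agent.Lib.Helper35.VA
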