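import Mathlib
import Groth.Agent.Lib.Helper35.VA6
import Groth.Agent.Lib.Helper35.FinTwist
import Groth.Agent.Lib.Lead.Avoid1

/-!
# Good sections of `M ⊗ L^n` for all large `n` (`L` ample, `f` locally of finite type)
-/

set_option autoImplicit false
universe v w u

open CategoryTheory CategoryTheory.Limits AlgebraicGeometry TopologicalSpace Opposite

namespace Groth.Agent.Lib.Helper35.VA

open Groth.Agent.Lib.Helper35.Gen Groth.Agent.Lib.Helper35.PbInv Groth.Agent.Lib.Helper35.AbSheaf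
open Groth.Agent.Lib.Helper60.ProjUPLib Groth.Agent.Lib.Helper35.QcohSec
open Groth.Agent.Lib.Helper35.GlobGen

variable {X S : Scheme.{u}}

theorem exists_finset_closure {A B : Type*} [CommRing A] [CommRing B] (φ : A →+* B)
    (h : φ.FiniteType) : ∃ s : Finset B, Subring.closure (Set.range φ ∪ (s : Set B)) = ⊤ := by
  letI := φ.toAlgebra
  obtain ⟨s, hs⟩ := (h : Algebra.FiniteType A B).out
  refine ⟨s, ?_⟩
  have h1 := Algebra.adjoin_eq_ring_closure (R := A) (s : Set B)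
  rw [hs] at h1
  exact h1.symm.trans Algebra.top_toSubring

/-- a finite cover by affine `X_σ`, `σ` sections of one power `L^m`, refining a given cover -/
theorem exists_finite_cover_common_exponent_le {L : X.Modules} (hL : CohB1.IsAmple L)
    (Ncov : X → X.Opens) (hN : ∀ x, x ∈ Ncov x) :
    ∃ (m : ℕ) (_ : 0 < m), ∀ x : X, ∃ (σ : Coh.structureModule X ⟶ CohB1.tensorPow L m) (y : X),
      x ∈ CohB1.genLocus _ σ ∧ IsAffineOpen (CohB1.genLocus _ σ) ∧
        CohB1.genLocus _ σ ≤ Ncov y := by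
  have hInv := hL.1
  haveI := hL.2.1
  choose n s hx hle haff using fun x =>
    Groth.Agent.Lib.Lead.Inv.exists_affine_section_le hL (Ncov x) x (hN x)
  obtain ⟨t, ht⟩ := isCompact_univ.elim_finite_subcover
    (fun x : X => (CohB1.genLocus _ (s x) : Set X)) (fun x => (CohB1.genLocus _ (s x)).2)
    (fun x _ => Set.mem_iUnion.mpr ⟨x, hx x⟩)
  let m : ℕ := ∏ x ∈ t, (n x + 1)
  have hm : 0 < m := Finset.prod_pos (fun x _ => Nat.succ_pos _)
  have key : ∀ x ∈ t, ∃ s' : Coh.structureModule X ⟶ CohB1.tensorPow L m,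
      CohB1.genLocus _ s' = CohB1.genLocus _ (s x) := by
    intro x hxt
    obtain ⟨q, hq⟩ : (n x + 1) ∣ m := Finset.dvd_prod_of_mem (fun x => n x + 1) hxt
    have hq0 : q ≠ 0 := by
      rintro rfl
      rw [Nat.mul_zero] at hq
      exact hm.ne' hq
    obtain ⟨k, rfl⟩ := Nat.exists_eq_succ_of_ne_zero hq0
    obtain ⟨s₁, hs₁⟩ := Groth.Agent.Lib.Lead.Inv.exists_pow_section hInv (s x) k
    obtain ⟨s₂, hs₂⟩ := Groth.Agent.Lib.Lead.Inv.exists_cast_section L hq.symm s₁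
    exact ⟨s₂, hs₂.trans hs₁⟩
  refine ⟨m, hm, fun x => ?_⟩
  have hxm := ht (Set.mem_univ x)
  obtain ⟨y, hy⟩ := Set.mem_iUnion.mp hxm
  obtain ⟨hyt, hxy⟩ := Set.mem_iUnion.mp hy
  obtain ⟨s', hs'⟩ := key y hyt
  refine ⟨s', y, ?_, ?_, ?_⟩
  · rw [hs']; exact hxy
  · rw [hs']; exact haff y
  · rw [hs']; exact hle y

/-- good sections of `F ⊗ L'^k` for all large `k` -/
theorem exists_goodSections_twist [CompactSpace X] [QuasiSeparatedSpace X] (f : X ⟶ S)
    [LocallyOfFiniteType f] {L' F : X.Modules} (hL' : PicF.IsInvertible L')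
    (hF : PicF.IsInvertible F)
    (hcov : ∀ x : X, ∃ σ : Coh.structureModule X ⟶ L', x ∈ CohB1.genLocus L' σ ∧
      IsAffineOpen (CohB1.genLocus L' σ) ∧
      ∃ V : S.Opens, IsAffineOpen V ∧ CohB1.genLocus L' σ ≤ f ⁻¹ᵁ V) :
    ∃ K : ℕ, ∀ k, K ≤ k → GoodSections' f (CohB1.tensorMod F (CohB1.tensorPow L' k)) := by
  have hchart : ∀ x : X, ∃ (A : X.Opens), x ∈ A ∧ ∃ (ι : Type u) (_ : Finite ι) (i₀ : ι) (k₀ : ℕ),
      ∀ k, k₀ ≤ k →
        ∃ t : ι → Γ(CohB1.tensorMod F (CohB1.tensorPow L' k), ⊤), GoodChart f _ t i₀ A := by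
    intro x
    obtain ⟨σ, hxσ, haff, V, hV, hle⟩ := hcov x
    obtain ⟨s, hs⟩ := exists_finset_closure _ (f.finiteType_appLE hV haff hle)
    exact exists_goodChart f hL' hF σ haff V hV hle s hs x hxσ
  choose A hxA ιc hfin i₀ k₀ hk using hchart
  obtain ⟨T, hT⟩ := isCompact_univ.elim_finite_subcover
    (fun x : X => (A x : Set X)) (fun x => (A x).2)
    (fun x _ => Set.mem_iUnion.mpr ⟨x, hxA x⟩)
  refine ⟨T.sup k₀, fun k hkK => ?_⟩
  have hk' : ∀ x : T, ∃ t : ιc x.1 → Γ(CohB1.tensorMod F (CohB1.tensorPow L' k), ⊤),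
      GoodChart f _ t (i₀ x.1) (A x.1) :=
    fun x => hk x.1 k ((Finset.le_sup x.2).trans hkK)
  choose t ht using hk'
  haveI : ∀ x : T, Finite (ιc x.1) := fun x => hfin x.1
  refine ⟨Σ x : T, ιc x.1, inferInstance, fun p => t p.1 p.2, fun y => ?_⟩
  have hym := hT (Set.mem_univ y)
  obtain ⟨x, hx⟩ := Set.mem_iUnion.mp hym
  obtain ⟨hxT, hyx⟩ := Set.mem_iUnion.mp hx
  refine ⟨⟨⟨x, hxT⟩, i₀ x⟩, A x, hyx, ?_⟩
  exact (ht ⟨x, hxT⟩).reindex (t' := fun p : Σ x : T, ιc x.1 => t p.1 p.2)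
    (fun j => ⟨⟨x, hxT⟩, j⟩) (fun j => rfl)

end Groth.Agent.Lib.Helper35.VA
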