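import Mathlib
import Groth.Agent.Lib.Helper35.VA7

/-!
# `M ⊗ L^n` is very ample (P^n) for all large `n` when `L` is ample and `f` locally of finite type
-/

set_option autoImplicit false
universe v w u

open CategoryTheory CategoryTheory.Limits AlgebraicGeometry TopologicalSpace Opposite

namespace Groth.Agent.Lib.Helper35.VA

open Groth.Agent.Lib.Helper35.Gen Groth.Agent.Lib.Helper35.PbInv Groth.Agent.Lib.Helper35.AbSheaf
open Groth.Agent.Lib.Helper60.TensorLib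

variable {X S : Scheme.{u}}

theorem isRelVeryAmplePn_of_iso {f : X ⟶ S} {N N' : X.Modules} (e : N ≅ N')
    (h : RelAmple.IsRelVeryAmplePn f N) : RelAmple.IsRelVeryAmplePn f N' := by
  obtain ⟨n, i, hi, hf, ⟨a⟩⟩ := h
  exact ⟨n, i, hi, hf, ⟨e.symm ≪≫ a⟩⟩

/-- **Main theorem**: for `f` locally of finite type, `L` ample and `M` invertible, `M ⊗ L^n` is very
ample relative to `f` (projective-space form) for all large `n`. -/
theorem exists_isRelVeryAmplePn (f : X ⟶ S) [LocallyOfFiniteType f] {L M : X.Modules}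
    (hL : CohB1.IsAmple L) (hM : PicF.IsInvertible M) :
    ∃ n₀ : ℕ, ∀ n, n₀ ≤ n →
      RelAmple.IsRelVeryAmplePn f (CohB1.tensorMod M (CohB1.tensorPow L n)) := by
  haveI := hL.2.1
  haveI : QuasiSeparatedSpace X :=
    Groth.Agent.Lib.Helper35.Ample.quasiSeparatedSpace_of_cover_genLocus hL.1 hL.2.2
  have hVex : ∀ x : X, ∃ V : S.Opens, IsAffineOpen V ∧ f x ∈ V := fun x => by
    obtain ⟨V, hV, hxV, -⟩ := exists_isAffineOpen_mem_and_subset (x := f x) (U := ⊤) trivial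
    exact ⟨V, hV, hxV⟩
  choose V hV hfV using hVex
  obtain ⟨m, hm, hcov⟩ := exists_finite_cover_common_exponent_le hL (fun x => f ⁻¹ᵁ V x) hfV
  have hL' := isInvertible_tensorPow hL.1 m
  have hcov' : ∀ x : X, ∃ σ : Coh.structureModule X ⟶ CohB1.tensorPow L m,
      x ∈ CohB1.genLocus _ σ ∧ IsAffineOpen (CohB1.genLocus _ σ) ∧
      ∃ V : S.Opens, IsAffineOpen V ∧ CohB1.genLocus _ σ ≤ f ⁻¹ᵁ V := by
    intro x
    obtain ⟨σ, y, h1, h2, h3⟩ := hcov x
    exact ⟨σ, h1, h2, V y, hV y, h3⟩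
  have h1 : ∀ ρ ∈ Finset.range m, ∃ K : ℕ, ∀ k, K ≤ k →
      GoodSections' f (CohB1.tensorMod (CohB1.tensorMod M (CohB1.tensorPow L ρ))
        (CohB1.tensorPow (CohB1.tensorPow L m) k)) := fun ρ _ =>
    exists_goodSections_twist f hL' (isInvertible_tensorMod hM (isInvertible_tensorPow hL.1 ρ)) hcov'
  obtain ⟨K, hK⟩ := Groth.Agent.Lib.Lead.Inv.exists_uniform_finset (Finset.range m) _ h1
  refine ⟨m * K, fun n hn => ?_⟩
  have hρ : n % m < m := Nat.mod_lt _ hm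
  have hk : K ≤ n / m := (Nat.le_div_iff_mul_le hm).mpr (by rw [mul_comm]; exact hn)
  have hgs := hK (n / m) hk (n % m) (Finset.mem_range.mpr hρ)
  obtain ⟨e1⟩ := Groth.Agent.Lib.Helper35.FinTwist.nonempty_twist_iso hM hL.1 (n % m) m (n / m)
  obtain ⟨e2⟩ := Groth.Agent.Lib.Lead.Inv.nonempty_tensorPow_cast L (Nat.mod_add_div n m)
  have hgs' := (hgs.of_iso e1).of_iso (tensorModCongrRight M e2)
  exact isRelVeryAmplePn_of_goodSections f _
    (isInvertible_tensorMod hM (isInvertible_tensorPow hL.1 n)) (goodSections_of_flex hgs')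

/-- the form `L^n ⊗ M` -/
theorem exists_isRelVeryAmplePn_right (f : X ⟶ S) [LocallyOfFiniteType f] {L M : X.Modules}
    (hL : CohB1.IsAmple L) (hM : PicF.IsInvertible M) :
    ∃ n₀ : ℕ, ∀ n, n₀ ≤ n →
      RelAmple.IsRelVeryAmplePn f (CohB1.tensorMod (CohB1.tensorPow L n) M) := by
  obtain ⟨n₀, h⟩ := exists_isRelVeryAmplePn f hL hM
  refine ⟨n₀, fun n hn => ?_⟩
  obtain ⟨e⟩ := Groth.Agent.Lib.Lead.Inv.nonempty_comm M (CohB1.tensorPow L n)
  exact isRelVeryAmplePn_of_iso e (h n hn)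

/-- the form `L^n` -/
theorem exists_isRelVeryAmplePn_pow (f : X ⟶ S) [LocallyOfFiniteType f] {L : X.Modules}
    (hL : CohB1.IsAmple L) :
    ∃ n₀ : ℕ, ∀ n, n₀ ≤ n → RelAmple.IsRelVeryAmplePn f (CohB1.tensorPow L n) := by
  obtain ⟨n₀, h⟩ := exists_isRelVeryAmplePn f hL
    (Groth.Agent.Lib.Helper35.Gen.isInvertible_tensorPow hL.1 0)
  refine ⟨n₀, fun n hn => ?_⟩
  obtain ⟨e⟩ := nonempty_tensorMod_unit_left (CohB1.tensorPow L n)
  exact isRelVeryAmplePn_of_iso e (h n hn)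

end Groth.Agent.Lib.Helper35.VA
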