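import Mathlib
import Groth.Agent.Lib.Helper35.VA8
import Groth.Agent.Lib.Helper35.ProjRes
import Groth.Agent.Lib.Helper35.PbAmple
import Groth.Agent.S2327

/-!
# Very ample (P^n) over an affine base implies ample
-/

set_option autoImplicit false
universe v w u

open CategoryTheory CategoryTheory.Limits AlgebraicGeometry TopologicalSpace Opposite

namespace Groth.Agent.Lib.Helper35.VA

open Groth.Agent.Lib.Helper35.Gen Groth.Agent.Lib.Helper35.PbInv Groth.Agent.Lib.Helper35.AbSheaf
open Groth.Agent.Lib.Helper60.ProjUPLib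

variable {X S : Scheme.{u}}

/-- `O(1)` on projective space over a ring is ample -/
theorem isAmple_twistProjSpace (n : ℕ) (R : Type u) [CommRing R] :
    CohB1.IsAmple (Twist.twistProjSpace n R 1) := by
  let 𝒜 := CohB1.polyGrading n R
  let g : Fin (n + 1) → MvPolynomial (Fin (n + 1)) R := fun i => MvPolynomial.X i
  have hg : ∀ i, g i ∈ 𝒜 1 := fun i => MvPolynomial.isHomogeneous_X R i
  have hadj : Algebra.adjoin R (Set.range g) = ⊤ := MvPolynomial.adjoin_range_X
  exact Groth.Agent.Lib.Helper35.ProjRes.isAmple_twist_of_cover (𝒜 := 𝒜) one_pos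
    (fun i => (⟨g i, hg i⟩ : 𝒜 1)) (fun x => exists_mem_basicOpen 𝒜 g hadj x)

/-- `O(1)` on projective space over an affine scheme is ample -/
theorem isAmple_twistOver (n : ℕ) (Y : Scheme.{u}) [IsAffine Y] :
    CohB1.IsAmple (Twist.twistOver n Y 1) := by
  haveI : IsAffineHom (specULiftZIsTerminal.from Y) := isAffineHom_of_isAffine _
  haveI : IsAffineHom (pullback.fst (CohB1.ProjSpace.toSpec n (ULift.{u} ℤ))
      (specULiftZIsTerminal.from Y)) :=
    MorphismProperty.pullback_fst _ _ inferInstance
  exact isAmple_pullback_of_isAffineHom (pullback.fst (CohB1.ProjSpace.toSpec n (ULift.{u} ℤ))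
      (specULiftZIsTerminal.from Y)) (isAmple_twistProjSpace n (ULift.{u} ℤ))

/-- very ample (P^n form) over an affine base, on a quasi-compact scheme, implies ample -/
theorem isAmple_of_isRelVeryAmplePn {Y : Scheme.{u}} [IsAffine Y] [CompactSpace X] (q : X ⟶ Y)
    {N : X.Modules} (h : RelAmple.IsRelVeryAmplePn q N) : CohB1.IsAmple N := by
  obtain ⟨n, i, hi, -, ⟨e⟩⟩ := h
  exact Groth.Agent.Lib.Helper35.Ample.isAmple_of_iso e.symm
    (isAmple_pullback_of_isEmbedding i i.isEmbedding (isAmple_twistOver n Y))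

end Groth.Agent.Lib.Helper35.VA
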