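import Mathlib
import Groth.Agent.Lib.Helper35.VA9
import Groth.Agent.Lib.Helper35.PbBase

/-!
# Ampleness of `i^* O(1)` over affine opens of an arbitrary base
-/

set_option autoImplicit false
universe v w u

open CategoryTheory CategoryTheory.Limits AlgebraicGeometry TopologicalSpace Opposite

namespace Groth.Agent.Lib.Helper35.VA

open Groth.Agent.Lib.Helper35.Gen Groth.Agent.Lib.Helper35.PbInv Groth.Agent.Lib.Helper35.AbSheaf

variable {Z T : Scheme.{u}}

/-- the projection `P^N_T ⟶ P^N_ℤ` -/
noncomputable def pFst (N : ℕ) (T : Scheme.{u}) :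
    CohB1.ProjSpaceOver N T ⟶ CohB1.ProjSpace N (ULift.{u} ℤ) :=
  pullback.fst (CohB1.ProjSpace.toSpec N (ULift.{u} ℤ)) (specULiftZIsTerminal.from T)

/-- the part of `P^N_T` over an open of `T` -/
noncomputable def overOpen (N : ℕ) (D : T.Opens) : (CohB1.ProjSpaceOver N T).Opens :=
  CohB1.ProjSpaceOver.toBase N T ⁻¹ᵁ D

/-- over an affine open `D` of the base, `P^N_T|_D → P^N_ℤ` is affine -/
theorem isAffineHom_ι_fst (N : ℕ) (D : T.Opens) (hD : IsAffineOpen D) :
    IsAffineHom ((overOpen N D).ι ≫ pFst N T) := by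
  apply isAffineHom_of_forall_exists_isAffineOpen
  intro x
  obtain ⟨B, hB, hxB, -⟩ := exists_isAffineOpen_mem_and_subset (x := x) (U := ⊤) trivial
  refine ⟨B, hxB, hB, ?_⟩
  rw [Scheme.Hom.comp_preimage,
    ← Scheme.Hom.isAffineOpen_iff_of_isOpenImmersion (overOpen N D).ι,
    Scheme.Hom.image_preimage_eq_opensRange_inf, Scheme.Opens.opensRange_ι, inf_comm]
  exact isAffineOpen_inf_preimage_of_pullback (CohB1.ProjSpace.toSpec N (ULift.{u} ℤ))
    (specULiftZIsTerminal.from T) B ⊤ D hB (isAffineOpen_top _) hD le_top le_top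

/-- `O(1)` on `P^N_T` restricted over an affine open of `T` is ample -/
theorem isAmple_twistOver_restrict (N : ℕ) (D : T.Opens) (hD : IsAffineOpen D) :
    CohB1.IsAmple ((Twist.twistOver N T 1).restrict (overOpen N D).ι) := by
  haveI := isAffineHom_ι_fst N D hD
  have h := isAmple_pullback_of_isAffineHom ((overOpen N D).ι ≫ pFst N T)
    (isAmple_twistProjSpace N (ULift.{u} ℤ))
  refine Groth.Agent.Lib.Helper35.Ample.isAmple_of_iso ?_ h
  exact ((Scheme.Modules.pullbackComp (overOpen N D).ι (pFst N T)).app _).symm ≪≫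
    ((Scheme.Modules.restrictFunctorIsoPullback (overOpen N D).ι).app _).symm

/-- **Lemma R**: for an immersion `i : Z ⟶ P^N_T`, the restriction of `i^* O(1)` to a compact open
of `Z` lying over an affine open of `T` is ample. -/
theorem isAmple_restrict_of_immersion (N : ℕ) (i : Z ⟶ CohB1.ProjSpaceOver N T) [IsImmersion i]
    (D : T.Opens) (hD : IsAffineOpen D) (W' : Z.Opens) (hW' : W' ≤ i ⁻¹ᵁ overOpen N D)
    (hc : IsCompact (W' : Set Z)) :
    CohB1.IsAmple (((Scheme.Modules.pullback i).obj (Twist.twistOver N T 1)).restrict W'.ι) := by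
  haveI : CompactSpace (↑W' : Scheme.{u}) := isCompact_iff_compactSpace.mp hc
  have hemb : Topology.IsEmbedding (i.resLE (overOpen N D) W' hW') := by
    have h1 : Topology.IsEmbedding (W'.ι ≫ i) := (W'.ι ≫ i).isEmbedding
    rw [← Scheme.Hom.resLE_comp_ι i hW'] at h1
    have h2 : Topology.IsEmbedding ((overOpen N D).ι ∘ (i.resLE (overOpen N D) W' hW')) := by
      convert h1 using 1
      funext z
      exact (Scheme.Hom.comp_apply _ _ z).symm
    exact Topology.IsEmbedding.of_comp (i.resLE _ W' hW').continuous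
      (Scheme.Hom.continuous _) h2
  have h := isAmple_pullback_of_isEmbedding (i.resLE _ W' hW') hemb
    (isAmple_twistOver_restrict N D hD)
  exact Groth.Agent.Lib.Helper35.Ample.isAmple_of_iso
    (restrictPullbackIsoLE i (Twist.twistOver N T 1) _ W' hW').symm h

end Groth.Agent.Lib.Helper35.VA
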