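import Mathlib
import Groth.Agent.Lib.Helper35.VA10
import Groth.Agent.Lib.Lead.RelAmp3
import Groth.Agent.Lib.Helper60.TensorRestrictPow

/-!
# Locally very ample (P^n) implies relatively ample
-/

set_option autoImplicit false
universe v w u

open CategoryTheory CategoryTheory.Limits AlgebraicGeometry TopologicalSpace Opposite

namespace Groth.Agent.Lib.Helper35.VA

open Groth.Agent.Lib.Helper35.Gen Groth.Agent.Lib.Helper35.PbInv Groth.Agent.Lib.Helper35.AbSheaf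

variable {X S : Scheme.{u}}

theorem isCompact_preimage_ι (U W : X.Opens) (hWU : W ≤ U) (hW : IsCompact (W : Set X)) :
    IsCompact ((U.ι ⁻¹ᵁ W : (↑U : Scheme.{u}).Opens) : Set (↑U : Scheme.{u})) := by
  have hemb : Topology.IsEmbedding U.ι := U.ι.isEmbedding
  refine (hemb.isInducing.isCompact_preimage_iff ?_).mpr hW
  rw [Scheme.Opens.range_ι]
  exact hWU

/-- if `M` restricted over `Vj` is very ample (P^n) relative to `f ∣_ Vj`, then `M` is ample over every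
affine open `A ≤ Vj` -/
theorem isAmple_restrict_of_isRelVeryAmplePn_restrict (f : X ⟶ S) [QuasiCompact f] (M : X.Modules)
    (Vj : S.Opens) (h : RelAmple.IsRelVeryAmplePn (f ∣_ Vj) (M.restrict (f ⁻¹ᵁ Vj).ι))
    (A : S.Opens) (hA : IsAffineOpen A) (hAV : A ≤ Vj) :
    CohB1.IsAmple (M.restrict (f ⁻¹ᵁ A).ι) := by
  obtain ⟨N, i, hi, hcomp, ⟨e⟩⟩ := h
  have hD : IsAffineOpen (Vj.ι ⁻¹ᵁ A) :=
    hA.preimage_of_isOpenImmersion Vj.ι (by rw [Scheme.Opens.opensRange_ι]; exact hAV)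
  let W' : (↑(f ⁻¹ᵁ Vj) : Scheme.{u}).Opens := (f ⁻¹ᵁ Vj).ι ⁻¹ᵁ (f ⁻¹ᵁ A)
  have hle : f ⁻¹ᵁ A ≤ f ⁻¹ᵁ Vj := Scheme.Hom.preimage_mono f hAV
  have hW' : W' ≤ i ⁻¹ᵁ overOpen N (Vj.ι ⁻¹ᵁ A) := by
    change W' ≤ i ⁻¹ᵁ (CohB1.ProjSpaceOver.toBase N _ ⁻¹ᵁ (Vj.ι ⁻¹ᵁ A))
    rw [← Scheme.Hom.comp_preimage]
    change W' ≤ (i ≫ pullback.snd _ _) ⁻¹ᵁ (Vj.ι ⁻¹ᵁ A)
    rw [hcomp, ← Scheme.Hom.comp_preimage, morphismRestrict_ι, Scheme.Hom.comp_preimage]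
  have hc : IsCompact (W' : Set (↑(f ⁻¹ᵁ Vj) : Scheme.{u})) :=
    isCompact_preimage_ι (f ⁻¹ᵁ Vj) (f ⁻¹ᵁ A) hle
      (QuasiCompact.isCompact_preimage (f := f) _ A.2 hA.isCompact)
  have h1 := isAmple_restrict_of_immersion N i (Vj.ι ⁻¹ᵁ A) hD W' hW' hc
  have h2 : CohB1.IsAmple ((M.restrict (f ⁻¹ᵁ Vj).ι).restrict W'.ι) :=
    Groth.Agent.Lib.Helper35.Ample.isAmple_of_iso
      ((Scheme.Modules.restrictFunctor W'.ι).mapIso e.symm) h1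
  have hW : (f ⁻¹ᵁ Vj).ι ''ᵁ W' = f ⁻¹ᵁ A := by
    rw [Scheme.Hom.image_preimage_eq_opensRange_inf, Scheme.Opens.opensRange_ι]
    exact inf_eq_right.mpr hle
  exact (Groth.Agent.Lib.Lead.Inv.isAmple_restrict_restrict_iff M (f ⁻¹ᵁ Vj) W' (f ⁻¹ᵁ A) hW).mp h2

/-- the same for a positive power -/
theorem isAmple_restrict_of_isRelVeryAmplePn_pow (f : X ⟶ S) [QuasiCompact f] (L : X.Modules)
    (hL : PicF.IsInvertible L) (Vj : S.Opens) (d : ℕ) (hd : 0 < d)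
    (h : RelAmple.IsRelVeryAmplePn (f ∣_ Vj) ((CohB1.tensorPow L d).restrict (f ⁻¹ᵁ Vj).ι))
    (A : S.Opens) (hA : IsAffineOpen A) (hAV : A ≤ Vj) :
    CohB1.IsAmple (L.restrict (f ⁻¹ᵁ A).ι) := by
  have h1 := isAmple_restrict_of_isRelVeryAmplePn_restrict f (CohB1.tensorPow L d) Vj h A hA hAV
  have h2 : CohB1.IsAmple (CohB1.tensorPow (L.restrict (f ⁻¹ᵁ A).ι) d) :=
    Groth.Agent.Lib.Helper35.Ample.isAmple_of_iso
      (Groth.Agent.Lib.Helper60.TensorRestrict.restrictTensorPowIso (f ⁻¹ᵁ A).ι L d) h1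
  haveI := h2.2.1
  exact (Groth.Agent.S2327.aux _ _
    (Groth.Agent.Lib.Helper35.ModRestrict.isInvertible_restrict _ L hL) d hd).mpr h2

/-- **locally (on the base) some positive power very ample (P^n) ⇒ relatively ample** -/
theorem isRelAmple_of_locally_veryAmplePn (f : X ⟶ S) [QuasiCompact f] (L : X.Modules)
    (hL : PicF.IsInvertible L) {ι : Type*} (V : ι → S.Opens) (hV : (⨆ j, V j) = ⊤)
    (h : ∀ j, ∃ d : ℕ, 0 < d ∧
      RelAmple.IsRelVeryAmplePn (f ∣_ V j) ((CohB1.tensorPow L d).restrict (f ⁻¹ᵁ V j).ι)) :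
    RelAmple.IsRelAmple f L := by
  refine ⟨inferInstance, fun V₀ => ?_⟩
  apply Groth.Agent.Lib.Lead.Inv.isAmple_restrict_preimage_of_cover f V₀.1 V₀.2 L
  intro y hy
  have hy' : y ∈ (⨆ j, V j) := by rw [hV]; trivial
  obtain ⟨j, hj⟩ := Opens.mem_iSup.mp hy'
  obtain ⟨a, hle, hya⟩ := V₀.2.exists_basicOpen_le (V := V₀.1 ⊓ V j) ⟨y, ⟨hy, hj⟩⟩ hy
  obtain ⟨d, hd, hva⟩ := h j
  exact ⟨a, hya, isAmple_restrict_of_isRelVeryAmplePn_pow f L hL (V j) d hd hva _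
    (V₀.2.basicOpen a) (hle.trans inf_le_right)⟩

end Groth.Agent.Lib.Helper35.VA

namespace Groth.Agent.Lib.Helper35.VA

variable {X S : Scheme.{u}}

/-- relatively ample ⇒ over every affine open all large powers are very ample (P^n) -/
theorem exists_isRelVeryAmplePn_restrict (f : X ⟶ S) [LocallyOfFiniteType f] (L : X.Modules)
    (h : RelAmple.IsRelAmple f L) (V : S.Opens) (hV : IsAffineOpen V) :
    ∃ n₀ : ℕ, ∀ n, n₀ ≤ n →
      RelAmple.IsRelVeryAmplePn (f ∣_ V) ((CohB1.tensorPow L n).restrict (f ⁻¹ᵁ V).ι) := by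
  have hA : CohB1.IsAmple (L.restrict (f ⁻¹ᵁ V).ι) := h.2 ⟨V, hV⟩
  obtain ⟨n₀, hn₀⟩ := exists_isRelVeryAmplePn_pow (f ∣_ V) hA
  refine ⟨n₀, fun n hn => ?_⟩
  exact isRelVeryAmplePn_of_iso
    (Groth.Agent.Lib.Helper60.TensorRestrict.restrictTensorPowIso (f ⁻¹ᵁ V).ι L n).symm (hn₀ n hn)

end Groth.Agent.Lib.Helper35.VA
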