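import Mathlib
import Groth.Agent.Lib.Helper35.VA11
import Groth.Agent.Lib.Helper7.ProjSpaceProper
import Groth.Prelude.Def_RelProj

/-!
# H-quasi-projective versus quasi-projective morphisms
-/

set_option autoImplicit false
universe v w u

open CategoryTheory CategoryTheory.Limits AlgebraicGeometry TopologicalSpace Opposite

namespace Groth.Agent.Lib.Helper35.VA

open Groth.Agent.Lib.Helper35.Gen Groth.Agent.Lib.Helper35.PbInv Groth.Agent.Lib.Helper35.AbSheaf
open Groth.Agent.Lib.Helper7.ProjSpaceProper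

variable {Z T : Scheme.{u}}

/-- the map `P^N_{T₁} ⟶ P^N_{T₂}` induced by a morphism of bases -/
noncomputable def mapBase (N : ℕ) {T₁ T₂ : Scheme.{u}} (b : T₁ ⟶ T₂) :
    CohB1.ProjSpaceOver N T₁ ⟶ CohB1.ProjSpaceOver N T₂ :=
  pullback.map (CohB1.ProjSpace.toSpec N (ULift.{u} ℤ)) (specULiftZIsTerminal.from T₁)
    (CohB1.ProjSpace.toSpec N (ULift.{u} ℤ)) (specULiftZIsTerminal.from T₂) (𝟙 _) b (𝟙 _)
    (by simp) (specULiftZIsTerminal.hom_ext _ _)

instance (N : ℕ) {T₁ T₂ : Scheme.{u}} (b : T₁ ⟶ T₂) [IsIso b] : IsIso (mapBase N b) := by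
  unfold mapBase
  exact pullback.map_isIso _ _ _ _ _ _ _ _ _

theorem mapBase_toBase (N : ℕ) {T₁ T₂ : Scheme.{u}} (b : T₁ ⟶ T₂) :
    mapBase N b ≫ CohB1.ProjSpaceOver.toBase N T₂ = CohB1.ProjSpaceOver.toBase N T₁ ≫ b :=
  pullback.lift_snd _ _ _

/-- H-quasi-projectivity is invariant under isomorphisms of arrows -/
theorem isHQuasiProjective_of_arrow_iso {Z₁ T₁ Z₂ T₂ : Scheme.{u}} (g₁ : Z₁ ⟶ T₁) (g₂ : Z₂ ⟶ T₂)
    (e : Arrow.mk g₁ ≅ Arrow.mk g₂) (h : RelProj.IsHQuasiProjective g₁) :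
    RelProj.IsHQuasiProjective g₂ := by
  obtain ⟨N, i, hi, hqc, hcomp⟩ := h
  have hw : e.hom.left ≫ g₂ = g₁ ≫ e.hom.right := e.hom.w
  haveI : IsIso e.hom.left := inferInstance
  haveI : IsIso e.hom.right := inferInstance
  refine ⟨N, inv e.hom.left ≫ i ≫ mapBase N e.hom.right, inferInstance, inferInstance, ?_⟩
  rw [Category.assoc, Category.assoc, mapBase_toBase, ← Category.assoc i, hcomp, IsIso.inv_comp_eq]
  exact hw.symm

/-- an H-quasi-projective morphism is quasi-projective (any base) -/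
theorem isQuasiProjective_of_isHQuasiProjective (g : Z ⟶ T) (h : RelProj.IsHQuasiProjective g) :
    RelProj.IsQuasiProjective g := by
  obtain ⟨N, i, hi, hqc, hcomp⟩ := h
  have hlft : LocallyOfFiniteType g := by
    rw [← hcomp]; infer_instance
  have hqcg : QuasiCompact g := by
    rw [← hcomp]; infer_instance
  refine ⟨hlft, hqcg, (Scheme.Modules.pullback i).obj (Twist.twistOver N T 1), hqcg, fun D => ?_⟩
  refine isAmple_restrict_of_immersion N i D.1 D.2 (g ⁻¹ᵁ D.1) ?_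
    (QuasiCompact.isCompact_preimage (f := g) _ D.1.2 D.2.isCompact)
  change g ⁻¹ᵁ D.1 ≤ i ⁻¹ᵁ (CohB1.ProjSpaceOver.toBase N T ⁻¹ᵁ D.1)
  rw [← Scheme.Hom.comp_preimage, hcomp]

/-- a quasi-projective morphism is H-quasi-projective over every affine open of the base -/
theorem isHQuasiProjective_restrict_of_isQuasiProjective (g : Z ⟶ T)
    (h : RelProj.IsQuasiProjective g) (V : T.Opens) (hV : IsAffineOpen V) :
    RelProj.IsHQuasiProjective (g ∣_ V) := by
  obtain ⟨hlft, hqc, L, hL⟩ := h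
  obtain ⟨n₀, hn₀⟩ := exists_isRelVeryAmplePn_restrict g L hL V hV
  obtain ⟨N, i, hi, hcomp, -⟩ := hn₀ n₀ le_rfl
  refine ⟨N, i, hi, ?_, hcomp⟩
  haveI : IsAffine (↑V : Scheme.{u}) := hV
  haveI : QuasiCompact (i ≫ CohB1.ProjSpaceOver.toBase N (↑V : Scheme.{u})) := by
    change QuasiCompact (i ≫ pullback.snd _ _)
    rw [hcomp]; infer_instance
  exact QuasiCompact.of_comp i (CohB1.ProjSpaceOver.toBase N (↑V : Scheme.{u}))

end Groth.Agent.Lib.Helper35.VA
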