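import Mathlib
import Groth.Agent.Lib.Helper35.VA12
import Groth.Agent.Lib.Helper35.RelAmpComp
import Groth.Agent.Lib.Lead.RelAmp1

/-!
# Immersions into projective space over a base and ample modules
-/

set_option autoImplicit false
universe v w u

open CategoryTheory CategoryTheory.Limits AlgebraicGeometry TopologicalSpace Opposite

namespace Groth.Agent.Lib.Helper35.VA

open Groth.Agent.Lib.Helper35.Gen Groth.Agent.Lib.Helper35.PbInv Groth.Agent.Lib.Helper35.AbSheaf
open Groth.Agent.Lib.Helper7.ProjSpaceProper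

variable {X S : Scheme.{u}}

/-- for an immersion `i : X ⟶ P^N_S` with quasi-compact structure map, `i^* O(1)` is relatively
ample -/
theorem isRelAmple_pullback_twistOver (N : ℕ) (i : X ⟶ CohB1.ProjSpaceOver N S) [IsImmersion i]
    (f : X ⟶ S) [QuasiCompact f] (hcomp : i ≫ CohB1.ProjSpaceOver.toBase N S = f) :
    RelAmple.IsRelAmple f ((Scheme.Modules.pullback i).obj (Twist.twistOver N S 1)) := by
  refine ⟨inferInstance, fun D => ?_⟩
  refine isAmple_restrict_of_immersion N i D.1 D.2 (f ⁻¹ᵁ D.1) ?_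
    (QuasiCompact.isCompact_preimage (f := f) _ D.1.2 D.2.isCompact)
  change f ⁻¹ᵁ D.1 ≤ i ⁻¹ᵁ (CohB1.ProjSpaceOver.toBase N S ⁻¹ᵁ D.1)
  rw [← Scheme.Hom.comp_preimage, hcomp]

/-- if the base carries an ample module, the source of a quasi-compact morphism factoring through an
immersion into `P^N_S` carries an ample module -/
theorem exists_isAmple_of_immersion (hS : ∃ K : S.Modules, CohB1.IsAmple K) (N : ℕ)
    (i : X ⟶ CohB1.ProjSpaceOver N S) [IsImmersion i]
    (f : X ⟶ S) [QuasiCompact f] (hcomp : i ≫ CohB1.ProjSpaceOver.toBase N S = f) :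
    ∃ L : X.Modules, CohB1.IsAmple L := by
  obtain ⟨K, hK⟩ := hS
  obtain ⟨n₀, hn₀⟩ := Groth.Agent.Lib.Helper35.RelAmpComp.exists_isAmple_tensor_pullback f
    (isRelAmple_pullback_twistOver N i f hcomp) hK
  exact ⟨_, hn₀ n₀ le_rfl⟩

/-- an ample module on the source of a morphism locally of finite type gives an immersion into some
`P^N_S` -/
theorem exists_immersion_of_isAmple (f : X ⟶ S) [LocallyOfFiniteType f] {L : X.Modules}
    (hL : CohB1.IsAmple L) :
    ∃ (N : ℕ) (i : X ⟶ CohB1.ProjSpaceOver N S), IsImmersion i ∧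
      i ≫ CohB1.ProjSpaceOver.toBase N S = f := by
  obtain ⟨n₀, hn₀⟩ := exists_isRelVeryAmplePn_pow f hL
  obtain ⟨N, i, hi, hcomp, -⟩ := hn₀ n₀ le_rfl
  exact ⟨N, i, hi, hcomp⟩

/-- an ample module is relatively ample for any quasi-compact morphism -/
theorem isRelAmple_of_isAmple (f : X ⟶ S) [QuasiCompact f] {L : X.Modules}
    (hL : CohB1.IsAmple L) : RelAmple.IsRelAmple f L := by
  refine ⟨inferInstance, fun V => ?_⟩
  haveI : CompactSpace (↑(f ⁻¹ᵁ V.1) : Scheme.{u}) :=
    isCompact_iff_compactSpace.mp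
      (QuasiCompact.isCompact_preimage (f := f) _ V.1.2 V.2.isCompact)
  exact Groth.Agent.Lib.Lead.Inv.isAmple_restrict_of_compactSpace (f ⁻¹ᵁ V.1).ι hL

/-- quasi-compactness of an immersion into `P^N_S` over `S` from that of the structure map -/
theorem quasiCompact_of_comp_toBase (N : ℕ) (i : X ⟶ CohB1.ProjSpaceOver N S)
    (f : X ⟶ S) [QuasiCompact f] (hcomp : i ≫ CohB1.ProjSpaceOver.toBase N S = f) :
    QuasiCompact i := by
  haveI : QuasiCompact (i ≫ CohB1.ProjSpaceOver.toBase N S) := by rw [hcomp]; infer_instance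
  exact QuasiCompact.of_comp i (CohB1.ProjSpaceOver.toBase N S)

end Groth.Agent.Lib.Helper35.VA
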