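import Groth.Agent.Lib.Helper5.ProjQuot
import Groth.Agent.Lib.Helper74.RelProjMap
import Groth.Agent.Lib.Helper93.ProjOverIso
import Groth.Agent.Lib.Helper35.VA13
import Groth.Agent.Lib.Helper35.NS4
import Groth.Agent.Lib.Helper7.ProjSpaceProper

/-!
# A proper scheme over an affine base with a relatively ample module is a `Proj`
-/

set_option autoImplicit false
set_option linter.style.haveILetI false
universe u

open CategoryTheory CategoryTheory.Limits AlgebraicGeometry TopologicalSpace Opposite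
open HomogeneousLocalization

noncomputable section

namespace Groth.Agent.Lib.Helper35.PQ

open Groth.Agent.Lib.Helper5

section quot

variable {R A : Type u} [CommRing R] [CommRing A] [Algebra R A]
variable (𝒜 : ℕ → Submodule R A) [GradedAlgebra 𝒜]
variable (s : Finset A) (hs1 : ∀ f ∈ s, f ∈ 𝒜 1)

include hs1 in
/-- variant of `Helper5.exists_proj_quot_iso` remembering that the quotient map is `R`-linear -/
theorem exists_proj_quot_iso_alg
    (hs : (HomogeneousIdeal.irrelevant 𝒜).toIdeal = Ideal.span (s : Set A))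
    {Z : Scheme.{u}} (i : Z ⟶ Proj 𝒜) [IsClosedImmersion i] :
    ∃ (B : Type u) (_ : CommRing B) (_ : Algebra R B) (ℬ : ℕ → Submodule R B) (_ : GradedAlgebra ℬ)
      (φ : 𝒜 →+*ᵍ ℬ) (_ : Function.Surjective φ)
      (_ : ∀ r : R, φ (algebraMap R A r) = algebraMap R B r)
      (hφ : HomogeneousIdeal.irrelevant ℬ ≤ (HomogeneousIdeal.irrelevant 𝒜).map φ)
      (e : Z ≅ Proj ℬ), e.hom ≫ Proj.map φ hφ = i := by
  let I := sheafIdeal 𝒜 i.ker s hs1
  have hI : I.IsHomogeneous 𝒜 := sheafIdeal_isHomogeneous 𝒜 i.ker s hs1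
  letI := quotGradedAlgebra 𝒜 hI
  let φ : 𝒜 →+*ᵍ quotGrading 𝒜 I := quotGradedRingHom 𝒜 hI
  have hsurj : Function.Surjective φ := Ideal.Quotient.mk_surjective
  have hφ := irrelevant_le_map_of_surjective 𝒜 (quotGrading 𝒜 I) φ hsurj
  have hcl : IsClosedImmersion (Proj.map φ hφ) := isClosedImmersion_map φ hsurj hφ
  have hker : (Proj.map φ hφ).ker = i.ker := by
    refine Scheme.IdealSheafData.ext_of_iSup_eq_top
      (fun f : s => projAffineOpen 𝒜 (hs1 f.1 f.2) one_pos) ?_ ?_
    · apply Proj.iSup_basicOpen_eq_top 𝒜 (fun f : s => (f : A))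
      rw [hs]
      apply Ideal.span_mono
      intro x hx
      exact ⟨⟨x, hx⟩, rfl⟩
    · rintro ⟨f, hf⟩
      have h1 := awayIdeal_ker_map 𝒜 (quotGrading 𝒜 I) φ hsurj hφ (hs1 f hf) one_pos
      have h2 := ker_awayMap_quot 𝒜 i.ker s hs1 hf
      have h3 : awayIdeal 𝒜 (Proj.map φ hφ).ker (hs1 f hf) one_pos =
          awayIdeal 𝒜 i.ker (hs1 f hf) one_pos := h1.trans h2
      rw [← map_awayToSection_awayIdeal 𝒜 _ (hs1 f hf) one_pos,
        ← map_awayToSection_awayIdeal 𝒜 i.ker (hs1 f hf) one_pos, h3]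
  have hiso : IsIso (IsClosedImmersion.lift (Proj.map φ hφ) i hker.le) :=
    IsClosedImmersion.isIso_lift _ _ hker
  exact ⟨A ⧸ I, inferInstance, inferInstance, quotGrading 𝒜 I, inferInstance, φ, hsurj,
    fun _ => rfl, hφ,
    asIso (IsClosedImmersion.lift (Proj.map φ hφ) i hker.le),
    IsClosedImmersion.lift_fac _ _ _⟩

end quot

section main

theorem isAmple_of_restrict_eq_top {X : Scheme.{u}} (L : X.Modules) (W : X.Opens) (hW : W = ⊤)
    (h : CohB1.IsAmple (L.restrict W.ι)) : CohB1.IsAmple L := by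
  subst hW
  exact Groth.Agent.Lib.Helper35.NS.isAmple_of_isAmple_restrict_top L h

/-- **a proper scheme over `Spec A` with a relatively ample invertible module is `Proj` of a graded
quotient of a polynomial ring** -/
theorem exists_proj_of_proper_of_isRelAmple {A : Type u} [CommRing A] {X : Scheme.{u}}
    (f : X ⟶ Spec (CommRingCat.of A)) [IsProper f]
    (L : X.Modules) (hamp : RelAmple.IsRelAmple f L) :
    ∃ (S : Type u) (_ : CommRing S) (_ : Algebra A S) (𝒮 : ℕ → Submodule A S)
      (_ : GradedAlgebra 𝒮) (s : Finset S),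
      Function.Surjective (algebraMap A (𝒮 0)) ∧ (∀ g ∈ s, g ∈ 𝒮 1) ∧
      (HomogeneousIdeal.irrelevant 𝒮).toIdeal = Ideal.span (s : Set S) ∧
      ∃ e : X ≅ Proj 𝒮, e.hom ≫ Proj.toSpecZero 𝒮 ≫
        Spec.map (CommRingCat.ofHom (algebraMap A (𝒮 0))) = f := by
  -- `L` is ample
  have hL : CohB1.IsAmple L := by
    refine isAmple_of_restrict_eq_top L (f ⁻¹ᵁ ⊤) (Scheme.Hom.preimage_top f) ?_
    exact hamp.2 ⟨⊤, isAffineOpen_top _⟩
  -- immersion into projective space
  obtain ⟨N, i, hi, hcomp⟩ := Groth.Agent.Lib.Helper35.VA.exists_immersion_of_isAmple f hL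
  set i' : X ⟶ CohB1.ProjSpace N A :=
    i ≫ (Groth.Agent.Lib.Helper93.ProjOverIso.overIso N A).hom with hi'
  have hcomp' : i' ≫ CohB1.ProjSpace.toSpec N A = f := by
    rw [hi', Category.assoc, Groth.Agent.Lib.Helper93.ProjOverIso.overIso_hom_toSpec, hcomp]
  haveI : IsImmersion i' := by rw [hi']; infer_instance
  haveI : IsSeparated (CohB1.ProjSpace.toSpec N A) := inferInstance
  haveI : UniversallyClosed (i' ≫ CohB1.ProjSpace.toSpec N A) := by
    rw [hcomp']; infer_instance
  haveI : UniversallyClosed i' :=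
    UniversallyClosed.of_comp_of_isSeparated i' (CohB1.ProjSpace.toSpec N A)
  haveI hcl' : IsClosedImmersion i' :=
    IsClosedImmersion.of_isPreimmersion i' i'.isClosedMap.isClosed_range
  let i'' : X ⟶ Proj (CohB1.polyGrading N A) := i'
  haveI : IsClosedImmersion i'' := hcl'
  -- the generators of the irrelevant ideal
  classical
  let s₀ : Finset (MvPolynomial (Fin (N + 1)) A) :=
    Finset.univ.image (MvPolynomial.X : Fin (N + 1) → MvPolynomial (Fin (N + 1)) A)
  have hs1 : ∀ g ∈ s₀, g ∈ CohB1.polyGrading N A 1 := by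
    intro g hg
    obtain ⟨k, -, rfl⟩ := Finset.mem_image.mp hg
    exact (MvPolynomial.mem_homogeneousSubmodule 1 _).mpr (MvPolynomial.isHomogeneous_X A k)
  have hs₀ : ((s₀ : Finset (MvPolynomial (Fin (N + 1)) A)) : Set (MvPolynomial (Fin (N + 1)) A)) =
      (MvPolynomial.X : Fin (N + 1) → MvPolynomial (Fin (N + 1)) A) '' Set.univ := by
    ext g
    simp [s₀]
  have hs : (HomogeneousIdeal.irrelevant (CohB1.polyGrading N A)).toIdeal =
      Ideal.span (s₀ : Set (MvPolynomial (Fin (N + 1)) A)) := by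
    apply le_antisymm
    · rw [hs₀]
      exact Groth.Agent.Lib.Helper93.ProjOverIso.irrelevant_le_span_X N A
    · rw [Ideal.span_le]
      intro g hg
      exact HomogeneousIdeal.mem_irrelevant_of_mem _ one_pos (hs1 g hg)
  obtain ⟨B, _, _, ℬ, _, φ, hsurj, hφalg, hφ, e, he⟩ :=
    exists_proj_quot_iso_alg (CohB1.polyGrading N A) s₀ hs1 hs i''
  refine ⟨B, inferInstance, inferInstance, ℬ, inferInstance, s₀.image φ, ?_, ?_, ?_, e, ?_⟩
  · -- degree zero
    rintro ⟨b, hb⟩
    obtain ⟨a, ha, rfl⟩ := exists_mem_graded_map_eq φ hsurj hb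
    have ha' : a ∈ (1 : Submodule A (MvPolynomial (Fin (N + 1)) A)) := by
      rw [← MvPolynomial.homogeneousSubmodule_zero]; exact ha
    obtain ⟨c, rfl⟩ := Submodule.mem_one.mp ha'
    refine ⟨c, Subtype.ext ?_⟩
    rw [SetLike.GradeZero.coe_algebraMap]
    exact (hφalg c).symm
  · intro g hg
    obtain ⟨g₀, hg₀, rfl⟩ := Finset.mem_image.mp hg
    exact φ.map_mem (hs1 g₀ hg₀)
  · apply le_antisymm
    · have h1 : (HomogeneousIdeal.irrelevant ℬ).toIdeal ≤
          ((HomogeneousIdeal.irrelevant (CohB1.polyGrading N A)).map φ).toIdeal := hφ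
      refine h1.trans ?_
      rw [HomogeneousIdeal.toIdeal_map, hs, Ideal.map_span]
      apply Ideal.span_mono
      rintro _ ⟨g, hg, rfl⟩
      exact Finset.mem_coe.mpr (Finset.mem_image.mpr ⟨g, hg, rfl⟩)
    · rw [Ideal.span_le]
      intro g hg
      obtain ⟨g₀, hg₀, rfl⟩ := Finset.mem_image.mp (Finset.mem_coe.mp hg)
      exact HomogeneousIdeal.mem_irrelevant_of_mem _ one_pos (φ.map_mem (hs1 g₀ hg₀))
  · -- compatibility with the structure morphisms
    have hm := Groth.Agent.Lib.Helper74.RelProjLib.map_toSpecZero φ hφ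
    have h2 : CommRingCat.ofHom (algebraMap A (CohB1.polyGrading N A 0)) ≫
        CommRingCat.ofHom φ.gradedZeroRingHom = CommRingCat.ofHom (algebraMap A (ℬ 0)) := by
      ext c
      exact hφalg c
    calc e.hom ≫ Proj.toSpecZero ℬ ≫ Spec.map (CommRingCat.ofHom (algebraMap A (ℬ 0)))
        = e.hom ≫ Proj.toSpecZero ℬ ≫ Spec.map (CommRingCat.ofHom φ.gradedZeroRingHom) ≫
            Spec.map (CommRingCat.ofHom (algebraMap A (CohB1.polyGrading N A 0))) := by
          rw [← h2, Spec.map_comp]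
      _ = e.hom ≫ (Proj.map φ hφ ≫ Proj.toSpecZero (CohB1.polyGrading N A)) ≫
            Spec.map (CommRingCat.ofHom (algebraMap A (CohB1.polyGrading N A 0))) := by
          rw [hm, Category.assoc]
      _ = (e.hom ≫ Proj.map φ hφ) ≫ CohB1.ProjSpace.toSpec N A := by
          simp only [Category.assoc]
          rfl
      _ = f := by
          rw [he]
          exact hcomp'

end main

end Groth.Agent.Lib.Helper35.PQ
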