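import Groth.Agent.Lib.Helper35.PerfAmple
import Groth.Agent.Lib.Helper35.AmpleFamily
import Groth.Agent.Lib.Helper35.IntegralSec
import Groth.Agent.Lib.Helper35.PbSection
import Groth.Agent.Lib.Helper35.PbTensor

/-!
# Invertible modules and perfections

The kernel of `Pic(X) → Pic(X_perf)` is the `p`-power torsion.
-/

universe u

open CategoryTheory AlgebraicGeometry TopologicalSpace Opposite FrobSch

namespace Groth.Agent.Lib.Helper35.PerfPic

open Groth.Agent.Lib.Helper35.AbSheaf Groth.Agent.Lib.Helper35.QcohSec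
open Groth.Agent.Lib.Helper35.Cocycle Groth.Agent.Lib.Helper35.Gen
open Groth.Agent.Lib.Helper35.GlobGen Groth.Agent.Lib.Helper35.PbInv
open Groth.Agent.Lib.Helper35.Ample

theorem cl_eq_iff {X : Scheme.{u}} {F G : X.Modules} :
    PicF.cl F = PicF.cl G ↔ Nonempty (F ≅ G) := by
  constructor
  · intro h
    have h1 := Quot.eqvGen_exact h
    clear h
    induction h1 with
    | rel _ _ h => exact h
    | refl _ => exact ⟨Iso.refl _⟩
    | symm _ _ _ ih => exact ⟨ih.some.symm⟩
    | trans _ _ _ _ _ ih1 ih2 => exact ⟨ih1.some ≪≫ ih2.some⟩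
  · rintro ⟨e⟩
    exact Quot.sound ⟨e⟩

variable (p : ℕ) [Fact p.Prime]

theorem bijective_pow_app (Z : Scheme.{u}) [IsCharP Z p] [IsPerfect Z p] (U : Z.Opens) :
    Function.Bijective (fun s : Γ(Z, U) => s ^ p) := by
  have h : IsIso ((frob Z p).app U) := inferInstance
  exact (ConcreteCategory.isIso_iff_bijective _).1 h

theorem bijective_pow_pow_app (Z : Scheme.{u}) [IsCharP Z p] [IsPerfect Z p] (U : Z.Opens)
    (n : ℕ) : Function.Bijective (fun s : Γ(Z, U) => s ^ p ^ n) := by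
  induction n with
  | zero =>
    have : (fun s : Γ(Z, U) => s ^ p ^ 0) = id := by
      funext s
      simp
    rw [this]
    exact Function.bijective_id
  | succ n ih =>
    have : (fun s : Γ(Z, U) => s ^ p ^ (n + 1)) =
        (fun s : Γ(Z, U) => s ^ p) ∘ (fun s : Γ(Z, U) => s ^ p ^ n) := by
      funext s
      simp only [Function.comp_apply, pow_succ, pow_mul]
    rw [this]
    exact (bijective_pow_app p Z U).comp ih

/-- the Picard group of a perfect scheme has no `p`-torsion -/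
theorem nonempty_iso_of_tensorPow_iso (Z : Scheme.{u}) [IsCharP Z p] [IsPerfect Z p]
    [CompactSpace Z] {M : Z.Modules} (hM : PicF.IsInvertible M) (n : ℕ)
    (h : Nonempty (CohB1.tensorPow M (p ^ n) ≅ Coh.structureModule Z)) :
    Nonempty (M ≅ Coh.structureModule Z) := by
  have hp : 0 < p := (Fact.out : p.Prime).pos
  obtain ⟨e⟩ := h
  obtain ⟨C⟩ := exists_genCover hM
  have htop : CohB1.genLocus _ e.inv = ⊤ :=
    Groth.Agent.Lib.Helper35.PbInv.genLocus_eq_top_of_isIso e.inv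
  obtain ⟨c, hcu, hU⟩ : ∃ c : ∀ i : C.ι, Γ(Z, C.V i),
      (∀ i j, rr Z (inf_le_left : C.V i ⊓ C.V j ≤ C.V i) (c i) =
        C.u i j ^ p ^ n * rr Z (inf_le_right : C.V i ⊓ C.V j ≤ C.V j) (c j)) ∧
      (∀ i, Z.basicOpen (c i) = CohB1.genLocus _ e.inv ⊓ C.V i) :=
    ⟨(C.pow (p ^ n)).c e.inv, ((C.pow (p ^ n)).data e.inv).hcu,
      ((C.pow (p ^ n)).data e.inv).hU⟩
  have hr : ∀ i, ∃ r : Γ(Z, C.V i), r ^ p ^ n = c i := fun i =>
    (bijective_pow_pow_app p Z (C.V i) n).2 (c i)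
  choose r hr using hr
  have hru : ∀ i j, rr Z (inf_le_left : C.V i ⊓ C.V j ≤ C.V i) (r i) =
      C.u i j * rr Z (inf_le_right : C.V i ⊓ C.V j ≤ C.V j) (r j) := by
    intro i j
    apply (bijective_pow_pow_app p Z (C.V i ⊓ C.V j) n).1
    change (rr Z _ (r i)) ^ p ^ n = (C.u i j * rr Z _ (r j)) ^ p ^ n
    rw [← rr_pow, hr i, mul_pow, ← rr_pow, hr j, hcu i j]
  have hglue : ∃ g : Γ(M, ⊤), ∀ i, rs M (le_top : C.V i ≤ ⊤) g = r i • C.e i := by
    have hcov : (⊤ : Z.Opens) ≤ iSup C.V := by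
      intro y _
      obtain ⟨i, hi⟩ := C.cover y
      exact Opens.mem_iSup.mpr ⟨i, hi⟩
    refine glue' M.presheaf M.isSheaf C.V (fun _ => le_top) hcov (fun i => r i • C.e i) ?_
    intro i j
    change rs M inf_le_left (r i • C.e i) = rs M inf_le_right (r j • C.e j)
    rw [rs_smul, rs_smul, C.hu i j, ← mul_smul, hru i j]
    congr 1
    ring
  obtain ⟨g, hg⟩ := hglue
  apply Groth.Agent.Lib.Helper35.IntegralSec.nonempty_iso_of_genLocus_eq_top (secHom M g)
  apply opens_eq_of_inf_eq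
  intro y
  obtain ⟨i, hyi⟩ := C.cover y
  refine ⟨C.V i, hyi, ?_⟩
  have h4 := genLocus_inf_eq_basicOpen (secHom M g) (C.he i) (r i) (by rw [val_secHom, hg i])
  rw [h4, ← Scheme.basicOpen_pow Z (r i) (n := p ^ n) (pow_pos hp n), hr i, hU i, htop]

section Perf

variable {X' X : Scheme.{u}} (π : X' ⟶ X) [IsCharP X' p] [IsCharP X p]
  (hπ : IsPerfection π p)
include hπ

theorem pullback_trivial_iff [CompactSpace X] [QuasiSeparatedSpace X] {L : X.Modules}
    (hL : PicF.IsInvertible L) :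
    Nonempty ((Scheme.Modules.pullback π).obj L ≅ Coh.structureModule X') ↔
      ∃ n : ℕ, Nonempty (CohB1.tensorPow L (p ^ n) ≅ Coh.structureModule X) := by
  haveI : IsIntegralHom π := Groth.Agent.Lib.Helper63.Perf.isIntegralHom_of_isPerfection p π hπ
  haveI : Surjective π := Groth.Agent.Lib.Helper63.Perf.surjective_of_isPerfection p π hπ
  haveI : CompactSpace X' := QuasiCompact.compactSpace_of_compactSpace π
  haveI : IsPerfect X' p := hπ.1
  constructor
  · rintro ⟨e⟩
    have htop : CohB1.genLocus _ e.inv = ⊤ :=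
      Groth.Agent.Lib.Helper35.PbInv.genLocus_eq_top_of_isIso e.inv
    obtain ⟨e1⟩ := Groth.Agent.Lib.Helper35.AmpleFamily.nonempty_tensorPow_one
      ((Scheme.Modules.pullback π).obj L)
    have h1 : CohB1.genLocus _ (e.inv ≫ e1.hom) = ⊤ := by
      rw [genLocus_comp_iso e1 e.inv, htop]
    obtain ⟨k, s, hs⟩ := Groth.Agent.Lib.Helper35.PerfAmple.exists_section π p hπ hL 1
      (e.inv ≫ e1.hom)
    rw [h1] at hs
    have h2 : CohB1.genLocus _ s = ⊤ := by
      rw [eq_top_iff]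
      intro x _
      obtain ⟨x', rfl⟩ := π.surjective x
      have : x' ∈ π ⁻¹ᵁ CohB1.genLocus _ s := by rw [hs]; trivial
      exact this
    have h3 := Groth.Agent.Lib.Helper35.IntegralSec.nonempty_iso_of_genLocus_eq_top s h2
    rw [Nat.one_mul] at h3
    exact ⟨k, h3⟩
  · rintro ⟨n, ⟨e⟩⟩
    obtain ⟨e2⟩ := Groth.Agent.Lib.Helper35.PbTensor.nonempty_pullback_tensorPow (u := π) hL (p ^ n)
    apply nonempty_iso_of_tensorPow_iso p X' (isInvertible_pullback π hL) n
    exact ⟨e2.symm ≪≫ (Scheme.Modules.pullback π).mapIso e ≪≫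
      Groth.Agent.Lib.Helper40.NisGen.pullbackUnitIso π⟩

end Perf

end Groth.Agent.Lib.Helper35.PerfPic
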