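import Groth.Agent.Lib.Helper35.PerfPic
import Groth.Agent.Lib.Helper35.CocIso
import Groth.Agent.Lib.Lead.CocycleMod

/-!
# Invertible modules on a perfection descend up to `p`-powers
-/

universe u

open CategoryTheory AlgebraicGeometry TopologicalSpace Opposite FrobSch

namespace Groth.Agent.Lib.Helper35.PerfPic

open Groth.Agent.Lib.Helper35.AbSheaf Groth.Agent.Lib.Helper35.QcohSec
open Groth.Agent.Lib.Helper35.Cocycle Groth.Agent.Lib.Helper35.Gen
open Groth.Agent.Lib.Helper35.GlobGen Groth.Agent.Lib.Helper35.PbInv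
open Groth.Agent.Lib.Helper35.Ample Groth.Agent.Lib.Helper35.PerfAmple
open Groth.Agent.Lib.Lead.CocycleMod

variable (p : ℕ) [Fact p.Prime] {X' X : Scheme.{u}} (π : X' ⟶ X) [IsCharP X' p] [IsCharP X p]
  (hπ : IsPerfection π p)
include hπ

/-- a finite affine cover of `X` trivialising `M` on the preimages -/
theorem exists_cover [CompactSpace X] {M : X'.Modules} (hM : PicF.IsInvertible M) :
    ∃ (ι : Type u) (_ : Finite ι) (W : ι → X.Opens), (∀ i, IsAffineOpen (W i)) ∧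
      (∀ x : X, ∃ i, x ∈ W i) ∧ ∃ g : ∀ i, Γ(M, π ⁻¹ᵁ W i), ∀ i, IsGen M (π ⁻¹ᵁ W i) (g i) := by
  haveI : Surjective π := Groth.Agent.Lib.Helper63.Perf.surjective_of_isPerfection p π hπ
  have hhomeo : IsHomeomorph π :=
    Groth.Agent.Lib.Helper20.PerfAff.isHomeomorph_of_isPerfection p π hπ
  have h1 : ∀ x : X, ∃ V : X.Opens, IsAffineOpen V ∧ x ∈ V ∧
      ∃ e : Γ(M, π ⁻¹ᵁ V), IsGen M (π ⁻¹ᵁ V) e := by
    intro x
    obtain ⟨x', rfl⟩ := π.surjective x
    obtain ⟨U', hxU', e, he⟩ := exists_isGen_of_isInvertible hM x'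
    have hopen : IsOpen (π '' (U' : Set X')) := hhomeo.isOpenMap _ U'.isOpen
    have hxU : π x' ∈ (⟨π '' (U' : Set X'), hopen⟩ : X.Opens) := ⟨x', hxU', rfl⟩
    obtain ⟨V, hV, hxV, hVU⟩ := exists_isAffineOpen_mem_and_subset
      (x := π x') (U := (⟨π '' (U' : Set X'), hopen⟩ : X.Opens)) hxU
    have hle : π ⁻¹ᵁ V ≤ U' := by
      intro y hy
      obtain ⟨z, hz, hzy⟩ := hVU hy
      have : z = y := hhomeo.injective hzy
      exact this ▸ hz
    exact ⟨V, hV, hxV, rs M hle e, he.mono hle⟩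
  choose V hV hxV e he using h1
  obtain ⟨t, ht⟩ := CompactSpace.elim_nhds_subcover (fun x => (V x : Set X))
    (fun x => (V x).isOpen.mem_nhds (hxV x))
  refine ⟨t, inferInstance, fun i => V i.1, fun i => hV i.1, ?_, fun i => e i.1, fun i => he i.1⟩
  intro x
  have hx : x ∈ ⋃ y ∈ t, (V y : Set X) := by
    rw [ht]
    trivial
  simp only [Set.mem_iUnion] at hx
  obtain ⟨y, hy, hxy⟩ := hx
  exact ⟨⟨y, hy⟩, hxy⟩

theorem exists_pullback_iso_tensorPow [CompactSpace X] [QuasiSeparatedSpace X]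
    {M : X'.Modules} (hM : PicF.IsInvertible M) :
    ∃ (n : ℕ) (L : X.Modules), PicF.IsInvertible L ∧
      Nonempty (CohB1.tensorPow M (p ^ n) ≅ (Scheme.Modules.pullback π).obj L) := by
  classical
  haveI : IsIntegralHom π := Groth.Agent.Lib.Helper63.Perf.isIntegralHom_of_isPerfection p π hπ
  haveI : Surjective π := Groth.Agent.Lib.Helper63.Perf.surjective_of_isPerfection p π hπ
  have hp : 0 < p := (Fact.out : p.Prime).pos
  obtain ⟨ι, hfin, W, hW, hWcov, g, hg⟩ := exists_cover p π hπ hM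
  haveI := hfin
  haveI := Fintype.ofFinite ι
  -- transition functions of `M`
  have hu0 : ∀ i j, ∃ a : Γ(X', π ⁻¹ᵁ (W i ⊓ W j)),
      rs M (π.preimage_mono (inf_le_left : W i ⊓ W j ≤ W i)) (g i) =
        a • rs M (π.preimage_mono (inf_le_right : W i ⊓ W j ≤ W j)) (g j) := fun i j =>
    ((hg j).mono (π.preimage_mono (inf_le_right : W i ⊓ W j ≤ W j))).exists_eq_smul _
  choose u' hu' using hu0
  have hu'self : ∀ i, u' i i = 1 := by
    intro i
    have h1 := hu' i i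
    have h2 : (1 : Γ(X', π ⁻¹ᵁ (W i ⊓ W i))) •
        rs M (π.preimage_mono (inf_le_right : W i ⊓ W i ≤ W i)) (g i) =
        u' i i • rs M (π.preimage_mono (inf_le_right : W i ⊓ W i ≤ W i)) (g i) := by
      rw [one_smul]
      exact h1
    exact (((hg i).mono (π.preimage_mono (inf_le_right : W i ⊓ W i ≤ W i))).smul_injective
      h2).symm
  -- the cocycle identity for `u'`
  have h12 : ∀ i j k, W i ⊓ W j ⊓ W k ≤ W i ⊓ W j := fun i j k => inf_le_left
  have h23 : ∀ i j k, W i ⊓ W j ⊓ W k ≤ W j ⊓ W k := fun i j k =>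
    le_inf (inf_le_left.trans inf_le_right) inf_le_right
  have h13 : ∀ i j k, W i ⊓ W j ⊓ W k ≤ W i ⊓ W k := fun i j k =>
    le_inf (inf_le_left.trans inf_le_left) inf_le_right
  have hcoc' : ∀ i j k, rr X' (π.preimage_mono (h13 i j k)) (u' i k) =
      rr X' (π.preimage_mono (h12 i j k)) (u' i j) *
        rr X' (π.preimage_mono (h23 i j k)) (u' j k) := by
    intro i j k
    have hYi : π ⁻¹ᵁ (W i ⊓ W j ⊓ W k) ≤ π ⁻¹ᵁ W i :=
      π.preimage_mono (inf_le_left.trans inf_le_left)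
    have hYj : π ⁻¹ᵁ (W i ⊓ W j ⊓ W k) ≤ π ⁻¹ᵁ W j :=
      π.preimage_mono (inf_le_left.trans inf_le_right)
    have hYk : π ⁻¹ᵁ (W i ⊓ W j ⊓ W k) ≤ π ⁻¹ᵁ W k := π.preimage_mono inf_le_right
    have A : rs M hYi (g i) = rr X' (π.preimage_mono (h12 i j k)) (u' i j) • rs M hYj (g j) := by
      have := congrArg (rs M (π.preimage_mono (h12 i j k))) (hu' i j)
      rw [rs_rs, rs_smul, rs_rs] at this
      exact this
    have B : rs M hYj (g j) = rr X' (π.preimage_mono (h23 i j k)) (u' j k) • rs M hYk (g k) := by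
      have := congrArg (rs M (π.preimage_mono (h23 i j k))) (hu' j k)
      rw [rs_rs, rs_smul, rs_rs] at this
      exact this
    have C : rs M hYi (g i) = rr X' (π.preimage_mono (h13 i j k)) (u' i k) • rs M hYk (g k) := by
      have := congrArg (rs M (π.preimage_mono (h13 i j k))) (hu' i k)
      rw [rs_rs, rs_smul, rs_rs] at this
      exact this
    rw [B, ← mul_smul] at A
    rw [A] at C
    exact (((hg k).mono hYk).smul_injective C).symm
  -- Step 1: lifts of `p`-power powers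
  have hWc : ∀ i j, IsCompact ((W i ⊓ W j : X.Opens) : Set X) := fun i j =>
    QuasiSeparatedSpace.inter_isCompact _ _ (W i).isOpen (hW i).isCompact (W j).isOpen
      (hW j).isCompact
  have hTc : ∀ i j k, IsCompact ((W i ⊓ W j ⊓ W k : X.Opens) : Set X) := fun i j k =>
    QuasiSeparatedSpace.inter_isCompact _ _ (W i ⊓ W j).isOpen (hWc i j) (W k).isOpen
      (hW k).isCompact
  have h1 : ∀ i j, ∃ (n : ℕ) (a : Γ(X, W i ⊓ W j)),
      papp π (W i ⊓ W j) a = u' i j ^ p ^ n ∧ (i = j → a = 1) := by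
    intro i j
    by_cases hij : i = j
    · subst hij
      refine ⟨0, 1, ?_, fun _ => rfl⟩
      rw [map_one, hu'self, one_pow]
    · obtain ⟨n, a, ha⟩ := Groth.Agent.Lib.Helper20.PerfAff.powLifts_of_isCompact π p
        (Groth.Agent.Lib.Helper20.PerfAff.powLifts_affine p π hπ) (W i ⊓ W j) (hWc i j) (u' i j)
      exact ⟨n, a, ha, fun h => absurd h hij⟩
  choose n₁ a₁ ha₁ ha₁self using h1
  obtain ⟨N₁, hN₁⟩ : ∃ N₁ : ℕ, ∀ i j, n₁ i j ≤ N₁ := by
    refine ⟨∑ i, ∑ j, n₁ i j, fun i j => ?_⟩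
    have h1 : n₁ i j ≤ ∑ j, n₁ i j :=
      Finset.single_le_sum (f := fun j => n₁ i j) (fun _ _ => Nat.zero_le _) (Finset.mem_univ j)
    have h2 : ∑ j, n₁ i j ≤ ∑ i, ∑ j, n₁ i j :=
      Finset.single_le_sum (f := fun i => ∑ j, n₁ i j) (fun _ _ => Nat.zero_le _)
        (Finset.mem_univ i)
    omega
  obtain ⟨a₂, ha₂def⟩ : ∃ a₂ : ∀ i j, Γ(X, W i ⊓ W j),
      ∀ i j, a₂ i j = a₁ i j ^ p ^ (N₁ - n₁ i j) := ⟨_, fun _ _ => rfl⟩
  have ha₂ : ∀ i j, papp π (W i ⊓ W j) (a₂ i j) = u' i j ^ p ^ N₁ := by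
    intro i j
    rw [ha₂def, map_pow, ha₁ i j, ← pow_mul, ← pow_add]
    congr 2
    have := hN₁ i j
    omega
  have ha₂self : ∀ i, a₂ i i = 1 := by
    intro i
    rw [ha₂def, ha₁self i i rfl, one_pow]
  -- Step 2: the cocycle identity holds up to nilpotents
  obtain ⟨z, hzdef⟩ : ∃ z : ∀ i j k, Γ(X, W i ⊓ W j ⊓ W k), ∀ i j k, z i j k =
      rr X (h13 i j k) (a₂ i k) - rr X (h12 i j k) (a₂ i j) * rr X (h23 i j k) (a₂ j k) :=
    ⟨_, fun _ _ _ => rfl⟩
  have hz : ∀ i j k, papp π (W i ⊓ W j ⊓ W k) (z i j k) = 0 := by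
    intro i j k
    rw [hzdef, map_sub, map_mul, papp_rr, papp_rr, papp_rr, ha₂, ha₂, ha₂, rr_pow, rr_pow,
      rr_pow, hcoc' i j k, mul_pow, sub_self]
  have h2 : ∀ i j k, ∃ m : ℕ, z i j k ^ p ^ m = 0 := fun i j k =>
    Groth.Agent.Lib.Helper20.PerfAff.exists_pow_prime_pow_eq_zero p (z i j k)
      (Groth.Agent.Lib.Helper20.PerfAff.isNilpotent_of_app_eq_zero π (W i ⊓ W j ⊓ W k)
        (hTc i j k) (z i j k) (hz i j k))
  choose m hm using h2
  obtain ⟨M₂, hM₂⟩ : ∃ M₂ : ℕ, ∀ i j k, m i j k ≤ M₂ := by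
    refine ⟨∑ i, ∑ j, ∑ k, m i j k, fun i j k => ?_⟩
    have h1 : m i j k ≤ ∑ k, m i j k :=
      Finset.single_le_sum (f := fun k => m i j k) (fun _ _ => Nat.zero_le _)
        (Finset.mem_univ k)
    have h2 : ∑ k, m i j k ≤ ∑ j, ∑ k, m i j k :=
      Finset.single_le_sum (f := fun j => ∑ k, m i j k) (fun _ _ => Nat.zero_le _)
        (Finset.mem_univ j)
    have h3 : ∑ j, ∑ k, m i j k ≤ ∑ i, ∑ j, ∑ k, m i j k :=
      Finset.single_le_sum (f := fun i => ∑ j, ∑ k, m i j k) (fun _ _ => Nat.zero_le _)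
        (Finset.mem_univ i)
    omega
  have hzM : ∀ i j k, z i j k ^ p ^ M₂ = 0 := fun i j k =>
    pow_eq_zero_of_le (Nat.pow_le_pow_right hp (hM₂ i j k)) (hm i j k)
  obtain ⟨η, hηdef⟩ : ∃ η : ∀ i j, Γ(X, W i ⊓ W j), ∀ i j, η i j = a₂ i j ^ p ^ M₂ :=
    ⟨_, fun _ _ => rfl⟩
  have hηT : ∀ i j k, rr X (h13 i j k) (η i k) =
      rr X (h12 i j k) (η i j) * rr X (h23 i j k) (η j k) := by
    intro i j k
    have h0 : (p : Γ(X, W i ⊓ W j ⊓ W k)) = 0 := natCast_eq_zero_app X p _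
    have h3 : z i j k ^ p ^ M₂ = rr X (h13 i j k) (a₂ i k) ^ p ^ M₂ -
        (rr X (h12 i j k) (a₂ i j) * rr X (h23 i j k) (a₂ j k)) ^ p ^ M₂ := by
      rw [hzdef]
      exact Groth.Agent.Lib.Helper20.PerfAff.sub_pow_prime_pow p h0 _ _ M₂
    rw [hzM i j k] at h3
    rw [hηdef, hηdef, hηdef, rr_pow, rr_pow, rr_pow, ← mul_pow, ← sub_eq_zero]
    exact h3.symm
  have hη : ∀ (i j k : ι) (Y : X.Opens) (h1 : Y ≤ W i ⊓ W j) (h2 : Y ≤ W j ⊓ W k)
      (h3 : Y ≤ W i ⊓ W k), rr X h3 (η i k) = rr X h1 (η i j) * rr X h2 (η j k) := by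
    intro i j k Y h1 h2 h3
    have hY : Y ≤ W i ⊓ W j ⊓ W k := le_inf h1 (h2.trans inf_le_right)
    have := congrArg (rr X hY) (hηT i j k)
    rw [map_mul, rr_rr, rr_rr, rr_rr] at this
    exact this
  have hηself : ∀ i, IsUnit (η i i) := by
    intro i
    rw [hηdef, ha₂self, one_pow]
    exact isUnit_one
  have hηpapp : ∀ i j, papp π (W i ⊓ W j) (η i j) = u' i j ^ p ^ (N₁ + M₂) := by
    intro i j
    rw [hηdef, map_pow, ha₂, ← pow_mul, ← pow_add]
  -- the glued module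
  have hgenL : ∀ i, IsGen (cocMod W η) (W i) (gen hη i) := fun i V h =>
    gen_bijective hη hηself i V h
  have hLinv : PicF.IsInvertible (cocMod W η) := by
    apply isInvertible_of_isGen
    intro x
    obtain ⟨i, hi⟩ := hWcov x
    exact ⟨W i, hi, gen hη i, hgenL i⟩
  refine ⟨N₁ + M₂, cocMod W η, hLinv, ?_⟩
  refine Groth.Agent.Lib.Helper35.CocIso.nonempty_iso (fun i => π ⁻¹ᵁ W i)
    (fun i => gpow (g i) (p ^ (N₁ + M₂))) (fun i => (hg i).gpow _)
    (fun i => pbSec π (cocMod W η) (W i) (gen hη i)) ?_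
    (fun i => isGen_pbSec π (cocMod W η) (W i) (gen hη i) (hgenL i))
    (fun x' => hWcov (π x'))
  intro i j
  have e1 : rs (CohB1.tensorPow M (p ^ (N₁ + M₂)))
      (π.preimage_mono (inf_le_left : W i ⊓ W j ≤ W i)) (gpow (g i) (p ^ (N₁ + M₂))) =
      u' i j ^ p ^ (N₁ + M₂) • rs (CohB1.tensorPow M (p ^ (N₁ + M₂)))
        (π.preimage_mono (inf_le_right : W i ⊓ W j ≤ W j)) (gpow (g j) (p ^ (N₁ + M₂))) := by
    rw [rs_gpow, rs_gpow, hu' i j, gpow_smul]
  have e2 : rs ((Scheme.Modules.pullback π).obj (cocMod W η))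
      (π.preimage_mono (inf_le_left : W i ⊓ W j ≤ W i))
        (pbSec π (cocMod W η) (W i) (gen hη i)) =
      u' i j ^ p ^ (N₁ + M₂) • rs ((Scheme.Modules.pullback π).obj (cocMod W η))
        (π.preimage_mono (inf_le_right : W i ⊓ W j ≤ W j))
          (pbSec π (cocMod W η) (W j) (gen hη j)) := by
    rw [pbSec_rs π _ (inf_le_left : W i ⊓ W j ≤ W i),
      pbSec_rs π _ (inf_le_right : W i ⊓ W j ≤ W j), gen_rel hη i j, pbSec_smul, ← hηpapp i j]
    rfl
  exact ⟨u' i j ^ p ^ (N₁ + M₂), e1, e2⟩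

end Groth.Agent.Lib.Helper35.PerfPic
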