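import Groth.Agent.Lib.Helper35.ThickPic
import Groth.Agent.Lib.Helper35.PInsep

/-!
# Descent of torsion invertible modules along `p`-radicial homeomorphisms (helper35)

Let `π : Y ⟶ X` be a surjective homeomorphism of schemes of characteristic `p` such that pullback
of functions is injective and every function on `π⁻¹U` (`U` affine) has a `p`-power coming from
`U`.  Then for every invertible `M` on `Y` with `M^n ≅ 𝒪` some `M^{p^m}` is the pullback of an
invertible `N` on `X` with `N^n ≅ 𝒪`.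
-/

set_option autoImplicit false
universe u

open CategoryTheory AlgebraicGeometry TopologicalSpace Opposite FrobSch

namespace Groth.Agent.Lib.Helper35.PowDescent

open Groth.Agent.Lib.Helper35.AbSheaf Groth.Agent.Lib.Helper35.Gen
open Groth.Agent.Lib.Helper35.PbInv Groth.Agent.Lib.Helper35.PerfAmple
open Groth.Agent.Lib.Lead.CocycleMod Groth.Agent.Lib.Helper35.ThickPic
open Groth.Agent.Lib.Helper20.PerfAff

variable {Y X : Scheme.{u}} (π : Y ⟶ X)

/-- a finite affine cover of `X` trivialising `M` on the preimages -/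
theorem exists_cover [Surjective π] (hhomeo : IsHomeomorph π) [CompactSpace X] {M : Y.Modules}
    (hM : PicF.IsInvertible M) :
    ∃ (ι : Type u) (_ : Finite ι) (W : ι → X.Opens), (∀ i, IsAffineOpen (W i)) ∧
      (∀ x : X, ∃ i, x ∈ W i) ∧ ∃ g : ∀ i, Γ(M, π ⁻¹ᵁ W i), ∀ i, IsGen M (π ⁻¹ᵁ W i) (g i) := by
  have h1 : ∀ x : X, ∃ V : X.Opens, IsAffineOpen V ∧ x ∈ V ∧
      ∃ e : Γ(M, π ⁻¹ᵁ V), IsGen M (π ⁻¹ᵁ V) e := by
    intro x
    obtain ⟨x', rfl⟩ := π.surjective x
    obtain ⟨U', hxU', e, he⟩ := exists_isGen_of_isInvertible hM x'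
    have hopen : IsOpen (π '' (U' : Set Y)) := hhomeo.isOpenMap _ U'.isOpen
    have hxU : π x' ∈ (⟨π '' (U' : Set Y), hopen⟩ : X.Opens) := ⟨x', hxU', rfl⟩
    obtain ⟨V, hV, hxV, hVU⟩ := exists_isAffineOpen_mem_and_subset
      (x := π x') (U := (⟨π '' (U' : Set Y), hopen⟩ : X.Opens)) hxU
    have hle : π ⁻¹ᵁ V ≤ U' := by
      intro y hy
      obtain ⟨z, hz, hzy⟩ := hVU hy
      have : z = y := hhomeo.injective hzy
      exact this ▸ hz
    exact ⟨V, hV, hxV, rs M hle e, he.mono hle⟩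
  choose V hV hxV e he using h1
  obtain ⟨t, ht⟩ := CompactSpace.elim_nhds_subcover (fun x => (V x : Set X))
    (fun x => (V x).isOpen.mem_nhds (hxV x))
  refine ⟨t, inferInstance, fun i => V i.1, fun i => hV i.1, ?_, fun i => e i.1, fun i => he i.1⟩
  intro x
  have hx : x ∈ ⋃ y ∈ t, (V y : Set X) := by
    rw [ht]
    trivial
  simp only [Set.mem_iUnion] at hx
  obtain ⟨y, hy, hxy⟩ := hx
  exact ⟨⟨y, hy⟩, hxy⟩

/-- units are detected after pullback -/
theorem isUnit_of_papp_isUnit (p : ℕ) [Fact p.Prime]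
    (hinj : ∀ U : X.Opens, Function.Injective (papp π U)) {U : X.Opens} (hU : PowLifts π p U)
    (a : Γ(X, U)) (h : IsUnit (papp π U a)) : IsUnit a := by
  obtain ⟨w, hw⟩ := h.exists_right_inv
  obtain ⟨l, e, he⟩ := hU w
  have he' : papp π U e = w ^ p ^ l := he
  have h1 : a ^ p ^ l * e = 1 := by
    apply hinj U
    rw [map_mul, map_pow, he', ← mul_pow, hw, one_pow, map_one]
  have h2 : IsUnit (a ^ p ^ l) := IsUnit.of_mul_eq_one _ h1
  exact (isUnit_pow_iff (pow_ne_zero _ (Fact.out : p.Prime).ne_zero)).mp h2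

theorem exists_descent (p : ℕ) [Fact p.Prime] [IsCharP X p] [Surjective π]
    [CompactSpace X] [QuasiSeparatedSpace X] (hhomeo : IsHomeomorph π)
    (hinj : ∀ U : X.Opens, Function.Injective (papp π U))
    (haff : ∀ U : X.affineOpens, PowLifts π p U.1)
    {M : Y.Modules} (hM : PicF.IsInvertible M) (n : ℕ)
    (htors : Nonempty (CohB1.tensorPow M n ≅ Coh.structureModule Y)) :
    ∃ (m : ℕ) (N : X.Modules), PicF.IsInvertible N ∧
      Nonempty (CohB1.tensorPow N n ≅ Coh.structureModule X) ∧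
      Nonempty ((Scheme.Modules.pullback π).obj N ≅ CohB1.tensorPow M (p ^ m)) := by
  classical
  obtain ⟨ι, hfin, W, hW, hWcov, g, hg⟩ := exists_cover π hhomeo hM
  haveI := hfin
  haveI := Fintype.ofFinite ι
  obtain ⟨φ⟩ := htors
  obtain ⟨t, ht⟩ : ∃ t : Γ(CohB1.tensorPow M n, ⊤), IsGen (CohB1.tensorPow M n) ⊤ t :=
    ⟨_, IsGen.of_iso φ.symm (isGen_one ⊤)⟩
  have hc0 : ∀ i, ∃ c : Γ(Y, π ⁻¹ᵁ W i),
      gpow (g i) n = c • rs (CohB1.tensorPow M n) le_top t :=
    fun i => (ht.mono le_top).exists_eq_smul _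
  choose c hc using hc0
  -- transition functions of `M`
  have hu0 : ∀ i j, ∃ a : Γ(Y, π ⁻¹ᵁ (W i ⊓ W j)),
      rs M (π.preimage_mono (inf_le_left : W i ⊓ W j ≤ W i)) (g i) =
        a • rs M (π.preimage_mono (inf_le_right : W i ⊓ W j ≤ W j)) (g j) := fun i j =>
    ((hg j).mono (π.preimage_mono (inf_le_right : W i ⊓ W j ≤ W j))).exists_eq_smul _
  choose u' hu' using hu0
  have hu'self : ∀ i, u' i i = 1 := by
    intro i
    have h1 := hu' i i
    have h2 : (1 : Γ(Y, π ⁻¹ᵁ (W i ⊓ W i))) •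
        rs M (π.preimage_mono (inf_le_right : W i ⊓ W i ≤ W i)) (g i) =
        u' i i • rs M (π.preimage_mono (inf_le_right : W i ⊓ W i ≤ W i)) (g i) := by
      rw [one_smul]
      exact h1
    exact (((hg i).mono (π.preimage_mono (inf_le_right : W i ⊓ W i ≤ W i))).smul_injective
      h2).symm
  have h12 : ∀ i j k, W i ⊓ W j ⊓ W k ≤ W i ⊓ W j := fun i j k => inf_le_left
  have h23 : ∀ i j k, W i ⊓ W j ⊓ W k ≤ W j ⊓ W k := fun i j k =>
    le_inf (inf_le_left.trans inf_le_right) inf_le_right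
  have h13 : ∀ i j k, W i ⊓ W j ⊓ W k ≤ W i ⊓ W k := fun i j k =>
    le_inf (inf_le_left.trans inf_le_left) inf_le_right
  have hcoc' : ∀ i j k, rr Y (π.preimage_mono (h13 i j k)) (u' i k) =
      rr Y (π.preimage_mono (h12 i j k)) (u' i j) *
        rr Y (π.preimage_mono (h23 i j k)) (u' j k) := by
    intro i j k
    have hYi : π ⁻¹ᵁ (W i ⊓ W j ⊓ W k) ≤ π ⁻¹ᵁ W i :=
      π.preimage_mono (inf_le_left.trans inf_le_left)
    have hYj : π ⁻¹ᵁ (W i ⊓ W j ⊓ W k) ≤ π ⁻¹ᵁ W j :=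
      π.preimage_mono (inf_le_left.trans inf_le_right)
    have hYk : π ⁻¹ᵁ (W i ⊓ W j ⊓ W k) ≤ π ⁻¹ᵁ W k := π.preimage_mono inf_le_right
    have A : rs M hYi (g i) = rr Y (π.preimage_mono (h12 i j k)) (u' i j) • rs M hYj (g j) := by
      have := congrArg (rs M (π.preimage_mono (h12 i j k))) (hu' i j)
      rw [rs_rs, rs_smul, rs_rs] at this
      exact this
    have B : rs M hYj (g j) = rr Y (π.preimage_mono (h23 i j k)) (u' j k) • rs M hYk (g k) := by
      have := congrArg (rs M (π.preimage_mono (h23 i j k))) (hu' j k)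
      rw [rs_rs, rs_smul, rs_rs] at this
      exact this
    have C : rs M hYi (g i) = rr Y (π.preimage_mono (h13 i j k)) (u' i k) • rs M hYk (g k) := by
      have := congrArg (rs M (π.preimage_mono (h13 i j k))) (hu' i k)
      rw [rs_rs, rs_smul, rs_rs] at this
      exact this
    rw [B, ← mul_smul] at A
    rw [A] at C
    exact (((hg k).mono hYk).smul_injective C).symm
  -- relation between `c` and `u'`
  have hcu : ∀ i j, rr Y (π.preimage_mono (inf_le_left : W i ⊓ W j ≤ W i)) (c i) =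
      u' i j ^ n * rr Y (π.preimage_mono (inf_le_right : W i ⊓ W j ≤ W j)) (c j) := by
    intro i j
    have hYi := π.preimage_mono (inf_le_left : W i ⊓ W j ≤ W i)
    have hYj := π.preimage_mono (inf_le_right : W i ⊓ W j ≤ W j)
    have A1 : rs (CohB1.tensorPow M n) hYi (gpow (g i) n) =
        rr Y hYi (c i) • rs (CohB1.tensorPow M n) le_top t := by
      rw [hc i, rs_smul, rs_rs]
    have A2 : rs (CohB1.tensorPow M n) hYi (gpow (g i) n) =
        (u' i j ^ n * rr Y hYj (c j)) • rs (CohB1.tensorPow M n) le_top t := by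
      rw [rs_gpow, hu' i j, gpow_smul, ← rs_gpow, hc j, rs_smul, rs_rs, mul_smul]
    exact (ht.mono le_top).smul_injective (A1.symm.trans A2)
  have hcunit : ∀ i, IsUnit (c i) := fun i => by
    apply isUnit_of_isGen_smul (ht.mono le_top)
    rw [← hc i]
    exact (hg i).gpow n
  -- lifts of `p`-powers
  have hWc : ∀ i j, IsCompact ((W i ⊓ W j : X.Opens) : Set X) := fun i j =>
    QuasiSeparatedSpace.inter_isCompact _ _ (W i).isOpen (hW i).isCompact (W j).isOpen
      (hW j).isCompact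
  have h1 : ∀ i j, ∃ (m : ℕ) (a : Γ(X, W i ⊓ W j)),
      papp π (W i ⊓ W j) a = u' i j ^ p ^ m := fun i j =>
    powLifts_of_isCompact π p haff (W i ⊓ W j) (hWc i j) (u' i j)
  choose n₁ a₁ ha₁ using h1
  have h2 : ∀ i, ∃ (m : ℕ) (a : Γ(X, W i)), papp π (W i) a = c i ^ p ^ m := fun i =>
    haff ⟨W i, hW i⟩ (c i)
  choose n₂ κ₁ hκ₁ using h2
  obtain ⟨N₁, hN₁, hN₂⟩ : ∃ N₁ : ℕ, (∀ i j, n₁ i j ≤ N₁) ∧ (∀ i, n₂ i ≤ N₁) := by
    refine ⟨(∑ i, ∑ j, n₁ i j) + ∑ i, n₂ i, fun i j => ?_, fun i => ?_⟩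
    · have h1 : n₁ i j ≤ ∑ j, n₁ i j :=
        Finset.single_le_sum (f := fun j => n₁ i j) (fun _ _ => Nat.zero_le _)
          (Finset.mem_univ j)
      have h2 : ∑ j, n₁ i j ≤ ∑ i, ∑ j, n₁ i j :=
        Finset.single_le_sum (f := fun i => ∑ j, n₁ i j) (fun _ _ => Nat.zero_le _)
          (Finset.mem_univ i)
      omega
    · have h1 : n₂ i ≤ ∑ i, n₂ i :=
        Finset.single_le_sum (f := fun i => n₂ i) (fun _ _ => Nat.zero_le _)
          (Finset.mem_univ i)
      omega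
  obtain ⟨η, hηdef⟩ : ∃ η : ∀ i j, Γ(X, W i ⊓ W j),
      ∀ i j, η i j = a₁ i j ^ p ^ (N₁ - n₁ i j) := ⟨_, fun _ _ => rfl⟩
  have hη1 : ∀ i j, papp π (W i ⊓ W j) (η i j) = u' i j ^ p ^ N₁ := by
    intro i j
    rw [hηdef, map_pow, ha₁ i j, ← pow_mul, ← pow_add]
    congr 2
    have := hN₁ i j
    omega
  obtain ⟨κ, hκdef⟩ : ∃ κ : ∀ i, Γ(X, W i), ∀ i, κ i = κ₁ i ^ p ^ (N₁ - n₂ i) :=
    ⟨_, fun _ => rfl⟩
  have hκ1 : ∀ i, papp π (W i) (κ i) = c i ^ p ^ N₁ := by
    intro i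
    rw [hκdef, map_pow, hκ₁ i, ← pow_mul, ← pow_add]
    congr 2
    have := hN₂ i
    omega
  have hκunit : ∀ i, IsUnit (κ i) := fun i =>
    isUnit_of_papp_isUnit π p hinj (haff ⟨W i, hW i⟩) (κ i)
      (by rw [hκ1]; exact (hcunit i).pow _)
  have hηT : ∀ i j k, rr X (h13 i j k) (η i k) =
      rr X (h12 i j k) (η i j) * rr X (h23 i j k) (η j k) := by
    intro i j k
    apply hinj
    rw [map_mul, papp_rr, papp_rr, papp_rr, hη1, hη1, hη1, map_pow, map_pow, map_pow,
      hcoc' i j k, mul_pow]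
  have hη : ∀ (i j k : ι) (V : X.Opens) (h1 : V ≤ W i ⊓ W j) (h2 : V ≤ W j ⊓ W k)
      (h3 : V ≤ W i ⊓ W k), rr X h3 (η i k) = rr X h1 (η i j) * rr X h2 (η j k) := by
    intro i j k V h1 h2 h3
    have hV : V ≤ W i ⊓ W j ⊓ W k := le_inf h1 (h2.trans inf_le_right)
    have := congrArg (rr X hV) (hηT i j k)
    rw [map_mul, rr_rr, rr_rr, rr_rr] at this
    exact this
  have hηself : ∀ i, IsUnit (η i i) := by
    intro i
    have : η i i = 1 := by
      apply hinj
      rw [hη1, hu'self, one_pow, map_one]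
    rw [this]
    exact isUnit_one
  have hκη : ∀ i j, rr X (inf_le_left : W i ⊓ W j ≤ W i) (κ i) =
      η i j ^ n * rr X (inf_le_right : W i ⊓ W j ≤ W j) (κ j) := by
    intro i j
    apply hinj
    rw [map_mul, map_pow, papp_rr, papp_rr, hη1, hκ1, hκ1, map_pow, map_pow, hcu i j, mul_pow,
      ← pow_mul, ← pow_mul, mul_comm n]
  -- the glued module
  have hgenL : ∀ i, IsGen (cocMod W η) (W i) (gen hη i) := fun i V h =>
    gen_bijective hη hηself i V h
  have hLinv : PicF.IsInvertible (cocMod W η) := by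
    apply isInvertible_of_isGen
    intro x
    obtain ⟨i, hi⟩ := hWcov x
    exact ⟨W i, hi, gen hη i, hgenL i⟩
  refine ⟨N₁, cocMod W η, hLinv, ?_, ?_⟩
  · refine Groth.Agent.Lib.Helper35.CocIso.nonempty_iso W
      (fun i => gpow (gen hη i) n) (fun i => (hgenL i).gpow n)
      (fun i => ((κ i : Γ(X, W i)) : Γ(Coh.structureModule X, W i))) ?_ ?_ hWcov
    · intro i j
      have e1 : rs (CohB1.tensorPow (cocMod W η) n) (inf_le_left : W i ⊓ W j ≤ W i)
          (gpow (gen hη i) n) =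
          (η i j ^ n) • rs (CohB1.tensorPow (cocMod W η) n) (inf_le_right : W i ⊓ W j ≤ W j)
            (gpow (gen hη j) n) := by
        rw [rs_gpow, rs_gpow, gen_rel hη i j, gpow_smul]
      have e2 : rs (Coh.structureModule X) (inf_le_left : W i ⊓ W j ≤ W i)
          ((κ i : Γ(X, W i)) : Γ(Coh.structureModule X, W i)) =
          (η i j ^ n) • rs (Coh.structureModule X) (inf_le_right : W i ⊓ W j ≤ W j)
            ((κ j : Γ(X, W j)) : Γ(Coh.structureModule X, W j)) := hκη i j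
      exact ⟨η i j ^ n, e1, e2⟩
    · intro i
      have h3 := isGen_smul_of_isUnit (isGen_one (W i)) (hκunit i)
      have e3 : (κ i) • ((1 : Γ(X, W i)) : Γ(Coh.structureModule X, W i)) =
          ((κ i : Γ(X, W i)) : Γ(Coh.structureModule X, W i)) := mul_one (κ i)
      exact (congrArg (IsGen (Coh.structureModule X) (W i)) e3).mp h3
  · refine Groth.Agent.Lib.Helper35.CocIso.nonempty_iso (fun i => π ⁻¹ᵁ W i)
      (fun i => pbSec π (cocMod W η) (W i) (gen hη i))
      (fun i => isGen_pbSec π (cocMod W η) (W i) (gen hη i) (hgenL i))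
      (fun i => gpow (g i) (p ^ N₁)) ?_ (fun i => (hg i).gpow _) (fun x' => hWcov (π x'))
    intro i j
    have e1 : rs (CohB1.tensorPow M (p ^ N₁))
        (π.preimage_mono (inf_le_left : W i ⊓ W j ≤ W i)) (gpow (g i) (p ^ N₁)) =
        u' i j ^ p ^ N₁ • rs (CohB1.tensorPow M (p ^ N₁))
          (π.preimage_mono (inf_le_right : W i ⊓ W j ≤ W j)) (gpow (g j) (p ^ N₁)) := by
      rw [rs_gpow, rs_gpow, hu' i j, gpow_smul]
    have e2 : rs ((Scheme.Modules.pullback π).obj (cocMod W η))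
        (π.preimage_mono (inf_le_left : W i ⊓ W j ≤ W i))
          (pbSec π (cocMod W η) (W i) (gen hη i)) =
        u' i j ^ p ^ N₁ • rs ((Scheme.Modules.pullback π).obj (cocMod W η))
          (π.preimage_mono (inf_le_right : W i ⊓ W j ≤ W j))
            (pbSec π (cocMod W η) (W j) (gen hη j)) := by
      rw [pbSec_rs π _ (inf_le_left : W i ⊓ W j ≤ W i),
        pbSec_rs π _ (inf_le_right : W i ⊓ W j ≤ W j), gen_rel hη i j, pbSec_smul, ← hη1 i j]
      rfl
    exact ⟨u' i j ^ p ^ N₁, e2, e1⟩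

end Groth.Agent.Lib.Helper35.PowDescent
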