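import Groth.Agent.Lib.Helper35.InvLocal

/-!
# Base change of pushforward along open immersions; invertibility is local
-/

universe u

open CategoryTheory AlgebraicGeometry TopologicalSpace Opposite

namespace Groth.Agent.Lib.Helper35.PushBC

open Groth.Agent.Lib.Helper35.AbSheaf Groth.Agent.Lib.Helper35.InvHom
open Groth.Agent.Lib.Helper35.InvPush Groth.Agent.Lib.Helper35.InvLocal
open Groth.Agent.Lib.Helper35.ModRestrict Scheme.Modules

lemma isIso_presheaf_map_of_le {X : Scheme.{u}} (L : X.Modules) {A B : X.Opens} (f : A ⟶ B)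
    (h : B ≤ A) : IsIso (L.presheaf.map f.op) := by
  refine ⟨L.presheaf.map (homOfLE h).op, ?_, ?_⟩
  · rw [← L.presheaf.map_comp, ← op_comp]
    have : homOfLE h ≫ f = 𝟙 B := Subsingleton.elim _ _
    rw [this, op_id, L.presheaf.map_id]
  · rw [← L.presheaf.map_comp, ← op_comp]
    have : f ≫ homOfLE h = 𝟙 A := Subsingleton.elim _ _
    rw [this, op_id, L.presheaf.map_id]

variable {U V U' V' : Scheme.{u}}

/-- In a cartesian square of open immersions, the unit `a^* j_* L → j'_* j'^* a^* j_* L` is iso. -/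
theorem isIso_unit_restrict_pushforward (j : U ⟶ V) (a : V' ⟶ V) (j' : U' ⟶ V')
    [IsOpenImmersion j] [IsOpenImmersion a] [IsOpenImmersion j']
    (hc : a ⁻¹ᵁ j.opensRange ≤ j'.opensRange) (L : U.Modules) :
    IsIso ((restrictAdjunction j').unit.app
      ((restrictFunctor a).obj ((pushforward j).obj L))) := by
  rw [Hom.isIso_iff_isIso_app]
  intro T
  rw [restrictAdjunction_unit_app_app]
  change IsIso (L.presheaf.map ((Opens.map j.base).map
    (a.opensFunctor.map (homOfLE (j'.image_preimage_le T)))).op)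
  apply isIso_presheaf_map_of_le
  intro x hx
  -- `hx : j x ∈ a '' T`
  obtain ⟨t, ht, htx⟩ := hx
  have h1 : t ∈ a ⁻¹ᵁ j.opensRange := ⟨x, htx.symm⟩
  obtain ⟨u', hu'⟩ := hc h1
  refine ⟨t, ?_, htx⟩
  exact ⟨u', by change j'.base u' ∈ T; rw [hu']; exact ht, hu'⟩

/-- base change for pushforward along open immersions -/
noncomputable def restrictPushforwardIso (j : U ⟶ V) (a : V' ⟶ V) (j' : U' ⟶ V') (b : U' ⟶ U)
    [IsOpenImmersion j] [IsOpenImmersion a] [IsOpenImmersion j'] [IsOpenImmersion b]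
    (w : j' ≫ a = b ≫ j) (hc : a ⁻¹ᵁ j.opensRange ≤ j'.opensRange) (L : U.Modules) :
    (restrictFunctor a).obj ((pushforward j).obj L) ≅
      (pushforward j').obj ((restrictFunctor b).obj L) :=
  haveI := isIso_unit_restrict_pushforward j a j' hc L
  asIso ((restrictAdjunction j').unit.app ((restrictFunctor a).obj ((pushforward j).obj L))) ≪≫
    (pushforward j').mapIso
      ((restrictFunctorComp j' a).symm.app _ ≪≫ (restrictFunctorCongr w).app _ ≪≫
        (restrictFunctorComp b j).app _ ≪≫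
        (restrictFunctor b).mapIso ((restrictFunctorAdjCounitIso j).app L))

/-- invertibility can be checked locally -/
theorem isInvertible_of_locally {X : Scheme.{u}} (M : X.Modules)
    (h : ∀ x : X, ∃ (Z : Scheme.{u}) (a : Z ⟶ X) (_ : IsOpenImmersion a),
      x ∈ a.opensRange ∧ PicF.IsInvertible (M.restrict a)) : PicF.IsInvertible M := by
  intro x
  obtain ⟨Z, a, _, ⟨z, rfl⟩, hM⟩ := h x
  obtain ⟨T, hzT, ⟨e⟩⟩ := hM z
  refine ⟨a ''ᵁ T, ⟨z, hzT, rfl⟩, ?_⟩
  have e' : (M.restrict (a ''ᵁ T).ι).restrict (a.isoImage T).hom ≅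
      Coh.structureModule (T : Scheme.{u}) :=
    (restrictFunctorComp (a.isoImage T).hom (a ''ᵁ T).ι).symm.app M ≪≫
      (restrictFunctorCongr (a.isoImage_hom_ι T)).app M ≪≫
      (restrictFunctorComp T.ι a).app M ≪≫ e
  exact nonempty_iso_structureModule_of_isIso (a.isoImage T).hom _ e'

end Groth.Agent.Lib.Helper35.PushBC
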