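import Groth.Agent.Lib.Helper35.PushRes
import Groth.Agent.Lib.Helper35.FinLocFreeSum
import Groth.Agent.Lib.Lead.QCohAff8

/-!
# The resolution property along affine morphisms
-/

set_option autoImplicit false
universe u

open AlgebraicGeometry CategoryTheory Opposite TopologicalSpace Limits

namespace Groth.Agent.Lib.Helper35.PushRes

open Groth.Agent.Lib.Helper35.GlobGen Groth.Agent.Lib.Helper35.AbSheaf
open Groth.Agent.Lib.Helper35.PbInv Groth.Agent.Lib.Helper35.ResProp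
open Groth.Agent.Lib.Helper35.Gen

variable {X : Scheme.{u}}

/-- the sections `m b ∈ Γ(P, Ω)` generate `P` at the points of `Ω` -/
def LocGenOn (Ω : X.Opens) (P : X.Modules) {κ : Type*} (m : κ → Γ(P, Ω)) : Prop :=
  ∀ (U : X.Opens) (t : Γ(P, U)) (x : X), x ∈ U → x ∈ Ω →
    ∃ (W : X.Opens) (hWU : W ≤ U) (hWΩ : W ≤ Ω), x ∈ W ∧
      rs P hWU t ∈ Submodule.span Γ(X, W) (Set.range fun b => rs P hWΩ (m b))

theorem locSurjOn_of_locGenOn {E P : X.Modules} (φ : E ⟶ P) (Ω : X.Opens) {κ : Type*}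
    (m : κ → Γ(P, Ω)) (hm : LocGenOn Ω P m)
    (h : ∀ b, ∀ x ∈ Ω, ∃ (W : X.Opens) (hW : W ≤ Ω), x ∈ W ∧
      ∃ z : Γ(E, W), (φ.app W).hom z = P.presheaf.map (homOfLE hW).op (m b)) :
    LocSurjOn Ω φ := by
  intro U t x hxU hxΩ
  obtain ⟨W, hWU, hWΩ, hxW, hmem⟩ := hm U t x hxU hxΩ
  have key : ∀ τ : Γ(P, W), τ ∈ Submodule.span Γ(X, W) (Set.range fun b => rs P hWΩ (m b)) →
      ∃ (W' : X.Opens) (hW' : W' ≤ W), x ∈ W' ∧ ∃ z : Γ(E, W'), (φ.app W').hom z = rs P hW' τ := by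
    intro τ hτ
    induction hτ using Submodule.span_induction with
    | mem τ₀ hτ₀ =>
      obtain ⟨b, rfl⟩ := hτ₀
      obtain ⟨W₁, hW₁, hxW₁, z, hz⟩ := h b x hxΩ
      refine ⟨W ⊓ W₁, inf_le_left, ⟨hxW, hxW₁⟩, rs E (inf_le_right : W ⊓ W₁ ≤ W₁) z, ?_⟩
      rw [← rs_app]
      have hz' : (φ.app W₁).hom z = rs P hW₁ (m b) := hz
      rw [hz', rs_rs, rs_rs]
    | zero => exact ⟨W, le_rfl, hxW, 0, by rw [map_zero, map_zero]⟩
    | add a b _ _ ha hb =>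
      obtain ⟨W₁, hW₁, hx₁, z₁, hz₁⟩ := ha
      obtain ⟨W₂, hW₂, hx₂, z₂, hz₂⟩ := hb
      refine ⟨W₁ ⊓ W₂, inf_le_left.trans hW₁, ⟨hx₁, hx₂⟩,
        rs E (inf_le_left : W₁ ⊓ W₂ ≤ W₁) z₁ + rs E (inf_le_right : W₁ ⊓ W₂ ≤ W₂) z₂, ?_⟩
      rw [map_add, ← rs_app, ← rs_app, hz₁, hz₂, rs_rs, rs_rs, map_add]
    | smul r a _ ha =>
      obtain ⟨W₁, hW₁, hx₁, z₁, hz₁⟩ := ha
      refine ⟨W₁, hW₁, hx₁, rr X hW₁ r • z₁, ?_⟩
      have h1 : (φ.app W₁).hom (rr X hW₁ r • z₁) = rr X hW₁ r • (φ.app W₁).hom z₁ :=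
        Scheme.Modules.Hom.app_smul φ _ z₁
      rw [h1, hz₁, rs_smul]
  obtain ⟨W', hW', hxW', z, hz⟩ := key _ hmem
  refine ⟨W', hW'.trans hWU, hxW', z, ?_⟩
  rw [hz, rs_rs]
  rfl

open Groth.Agent.Lib.Lead.QCohAff in
/-- on an affine open, module generators of the sections of a quasi-coherent module generate -/
theorem locGenOn_of_span (P : X.Modules) [P.IsQuasicoherent] (Ω : X.Opens)
    (hΩ : IsAffineOpen Ω) {κ : Type*} (m : κ → Γ(P, Ω))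
    (hm : Submodule.span Γ(X, Ω) (Set.range m) = ⊤) : LocGenOn Ω P m := by
  intro U t x hxU hxΩ
  obtain ⟨f, hfW, hxf⟩ := hΩ.exists_basicOpen_le (V := U ⊓ Ω) ⟨x, ⟨hxU, hxΩ⟩⟩ hxΩ
  have hDU : X.basicOpen f ≤ U := hfW.trans inf_le_left
  have hDΩ : X.basicOpen f ≤ Ω := X.basicOpen_le f
  refine ⟨X.basicOpen f, hDU, hDΩ, hxf, ?_⟩
  obtain ⟨n, σ, hσ⟩ := (LocOn.of_isQuasicoherent P hΩ).2 f (rs P hDU t)
  obtain ⟨u, hu⟩ := (isUnit_res_basicOpen f).pow n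
  have hτ' : rs P hDU t = (↑u⁻¹ : Γ(X, X.basicOpen f)) • P.presheaf.map (homOfLE hDΩ).op σ := by
    rw [hσ, ← hu, smul_smul, Units.inv_mul, one_smul]
  rw [hτ']
  refine Submodule.smul_mem _ _ ?_
  have hσT : σ ∈ Submodule.span Γ(X, Ω) (Set.range m) := by rw [hm]; trivial
  clear hτ' hσ
  induction hσT using Submodule.span_induction with
  | mem τ₀ hτ₀ =>
    obtain ⟨j, rfl⟩ := hτ₀
    exact Submodule.subset_span ⟨j, rfl⟩
  | zero => rw [map_zero]; exact Submodule.zero_mem _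
  | add a b _ _ ha hb => rw [map_add]; exact Submodule.add_mem _ ha hb
  | smul r a _ ha => rw [res_smul]; exact Submodule.smul_mem _ _ ha

/-- **the resolution property lifts along affine morphisms** -/
theorem hasResolutionProperty_of_isAffineHom {X Y : Scheme.{u}} (f : X ⟶ Y) [IsAffineHom f]
    [CompactSpace Y] [QuasiSeparatedSpace Y] (hY : PerfAux.HasResolutionProperty Y) :
    PerfAux.HasResolutionProperty X := by
  classical
  intro M hM hft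
  haveI : M.IsQuasicoherent := hM
  -- finite affine cover of `Y`
  have hcovY : ∀ y : Y, ∃ V : Y.Opens, IsAffineOpen V ∧ y ∈ V := by
    intro y
    obtain ⟨_, ⟨V, hV : IsAffineOpen V, rfl⟩, hyV, -⟩ :=
      (Y.isBasis_affineOpens).exists_subset_of_mem_open (Set.mem_univ y) isOpen_univ
    exact ⟨V, hV, hyV⟩
  choose V hV hyV using hcovY
  obtain ⟨t, ht⟩ := isCompact_univ.elim_finite_subcover
    (fun y : Y => ((V y : Y.Opens) : Set Y)) (fun y => (V y).2)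
    (fun y _ => Set.mem_iUnion.mpr ⟨y, hyV y⟩)
  let pt : Fin t.card → Y := fun a => (t.equivFin.symm a).1
  have hpt : ∀ y ∈ t, ∃ a, pt a = y := fun y hyt => ⟨t.equivFin ⟨y, hyt⟩, by simp [pt]⟩
  let V' : Fin t.card → Y.Opens := fun a => (V (pt a)).ι ''ᵁ ⊤
  have hV'eq : ∀ a, V' a = V (pt a) := fun a => Scheme.Opens.ι_image_top _
  have hV' : ∀ a, IsAffineOpen (V' a) := fun a => by rw [hV'eq]; exact hV _
  have hΩ : ∀ a, IsAffineOpen (f ⁻¹ᵁ V' a) := fun a => (hV' a).preimage f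
  have hfin : ∀ a, Module.Finite Γ(X, f ⁻¹ᵁ V' a) Γ(M, f ⁻¹ᵁ V' a) := fun a =>
    Groth.Agent.Lib.Lead.CohAff.finite_sections_of_isFiniteType M hft (hΩ a)
  have hgen : ∀ a, ∃ (k : ℕ) (m : Fin k → Γ(M, f ⁻¹ᵁ V' a)),
      Submodule.span Γ(X, f ⁻¹ᵁ V' a) (Set.range m) = ⊤ := fun a =>
    Module.Finite.exists_fin (R := Γ(X, f ⁻¹ᵁ V' a)) (M := Γ(M, f ⁻¹ᵁ V' a))
  choose k m hm using hgen
  have hcore := fun a => exists_local_lift_pullback f hY M (V (pt a)) (hV _) (m a)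
  choose E φ hE hφ using hcore
  refine ⟨∐ fun a => (Scheme.Modules.pullback f).obj (E a), Sigma.desc φ, ?_, ?_⟩
  · exact Groth.Agent.Lib.Helper35.FinLocFreeSum.isFinLocFree_sigma _ (fun a =>
      Groth.Agent.Lib.Helper7.FinLocFree.isFinLocFree_pullback f (hE a))
  · refine epi_of_locSurjOn _ (fun a => f ⁻¹ᵁ V' a) (fun x => ?_) (fun a => ?_)
    · have h1 := ht (Set.mem_univ (f x))
      obtain ⟨y, hy⟩ := Set.mem_iUnion.mp h1
      obtain ⟨hyt, hxy⟩ := Set.mem_iUnion.mp hy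
      obtain ⟨a, ha⟩ := hpt y hyt
      refine ⟨a, ?_⟩
      change f x ∈ V' a
      rw [hV'eq, ha]
      exact hxy
    · refine locSurjOn_comp_of_eq (Sigma.ι (fun a => (Scheme.Modules.pullback f).obj (E a)) a)
        (Sigma.desc φ) (φ a) (Sigma.ι_desc _ _) ?_
      exact locSurjOn_of_locGenOn (φ a) _ (m a) (locGenOn_of_span M _ (hΩ a) (m a) (hm a))
        (hφ a)

end Groth.Agent.Lib.Helper35.PushRes
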