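import Groth.Agent.Lib.Helper35.PushRes2
import Groth.Agent.Lib.Helper35.AmpleFamily
import Groth.Agent.Lib.Helper60.TensorRestrictPow
import Groth.Agent.Lib.Helper21.CohPullback
import Groth.Agent.Lib.Lead.Ample1

/-!
# The resolution property along morphisms with a relatively ample module
-/

set_option autoImplicit false
universe u

open AlgebraicGeometry CategoryTheory Opposite TopologicalSpace Limits

namespace Groth.Agent.Lib.Helper35.PushRes

open Groth.Agent.Lib.Helper35.GlobGen Groth.Agent.Lib.Helper35.AbSheaf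
open Groth.Agent.Lib.Helper35.PbInv Groth.Agent.Lib.Helper35.ResProp
open Groth.Agent.Lib.Helper35.Gen Groth.Agent.Lib.Helper35.Dual
open Groth.Agent.Lib.Helper60.TensorLib Groth.Agent.Lib.Helper60.TensorRestrict

variable {X : Scheme.{u}}

/-- restriction to an open subscheme preserves coherence (qcoh + finite type) -/
theorem isCoh_restrict (U : X.Opens) (M : X.Modules) (hM : Coh.IsCoh M) :
    Coh.IsCoh (M.restrict U.ι) := by
  haveI := hM.1
  refine ⟨inferInstance, ?_⟩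
  have h1 := Groth.Agent.Lib.Helper21.CohPullback.isFiniteType_pullback U.ι M hM.2
  let e : M.restrict U.ι ≅ (Scheme.Modules.pullback U.ι).obj M :=
    (Scheme.Modules.restrictFunctorIsoPullback U.ι).app M
  exact Groth.Agent.Lib.Helper21.CohNoeth.isFiniteType_of_epi e.inv h1

/-- **Serre, finite form, all large exponents** (for a fixed power `L^m`) -/
theorem exists_finite_locSpan_ge {L : X.Modules} (hL : CohB1.IsAmple L) (M : X.Modules)
    (hM : Coh.IsCoh M) :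
    ∃ (m : ℕ) (_ : 0 < m) (n₀ : ℕ), ∀ n, n₀ ≤ n → ∃ (k : ℕ)
      (σ : Fin k → Γ(CohB1.tensorMod M (CohB1.tensorPow (CohB1.tensorPow L m) n), ⊤)),
      LocSpan (CohB1.tensorMod M (CohB1.tensorPow (CohB1.tensorPow L m) n)) σ := by
  obtain ⟨m, hm, ι, hfin, s, haff, hcov⟩ :=
    Groth.Agent.Lib.Lead.Inv.exists_finite_cover_common_exponent hL
  have hInv := hL.1
  haveI := hL.2.1
  haveI : QuasiSeparatedSpace X :=
    Groth.Agent.Lib.Helper35.Ample.quasiSeparatedSpace_of_cover_genLocus hInv hL.2.2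
  have hInvm := Gen.isInvertible_tensorPow hInv m
  obtain ⟨n₀, hn₀⟩ := Groth.Agent.Lib.Lead.Inv.exists_uniform_finite
    (fun (i : ι) n => ∃ (k : ℕ)
      (σ : Fin k → Γ(CohB1.tensorMod M (CohB1.tensorPow (CohB1.tensorPow L m) n), ⊤)),
      LocSpanOn (CohB1.genLocus _ (s i))
        (CohB1.tensorMod M (CohB1.tensorPow (CohB1.tensorPow L m) n)) σ)
    (fun i => exists_locSpanOn hInvm (s i) (haff i) M hM)
  refine ⟨m, hm, n₀, fun n hn => ?_⟩
  have h := hn₀ n hn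
  choose k σ hσ using h
  haveI : Finite (Σ i : ι, Fin (k i)) := inferInstance
  obtain ⟨K, ⟨e⟩⟩ := Finite.exists_equiv_fin (Σ i : ι, Fin (k i))
  let σtot : (Σ i : ι, Fin (k i)) →
      Γ(CohB1.tensorMod M (CohB1.tensorPow (CohB1.tensorPow L m) n), ⊤) := fun p => σ p.1 p.2
  refine ⟨K, fun j => σtot (e.symm j), ?_⟩
  intro U t x hxU
  obtain ⟨i, hi⟩ := hcov x
  obtain ⟨W, hW, hxW, hmem⟩ := hσ i U t x hxU hi
  refine ⟨W, hW, hxW, Submodule.span_mono ?_ hmem⟩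
  rintro _ ⟨j, rfl⟩
  refine ⟨e ⟨i, j⟩, ?_⟩
  have h1 := congrArg (fun p => (CohB1.tensorMod M (CohB1.tensorPow (CohB1.tensorPow L m)
    n)).presheaf.map (homOfLE (le_top : W ≤ ⊤)).op (σtot p)) (e.symm_apply_apply ⟨i, j⟩)
  exact h1

theorem LocGenOn.mono {P : X.Modules} {Ω₁ Ω₂ : X.Opens} (h : Ω₂ ≤ Ω₁) {κ : Type*}
    (m : κ → Γ(P, Ω₁)) (hm : LocGenOn Ω₁ P m) : LocGenOn Ω₂ P (fun b => rs P h (m b)) := by
  intro U t x hxU hxΩ
  obtain ⟨W, hWU, hWΩ, hxW, hmem⟩ := hm (U ⊓ Ω₂) (rs P inf_le_left t) x ⟨hxU, hxΩ⟩ (h hxΩ)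
  refine ⟨W, hWU.trans inf_le_left, hWU.trans inf_le_right, hxW, ?_⟩
  rw [rs_rs] at hmem
  have : (fun b => rs P (hWU.trans inf_le_right) (rs P h (m b))) = fun b => rs P hWΩ (m b) := by
    funext b
    rw [rs_rs]
  rw [this]
  exact hmem

/-- spans over `Γ(U, W')` and over `Γ(X, U.ι ''ᵁ W')` agree -/
theorem mem_span_of_restrict (P : X.Modules) (U : X.Opens) (W' : (U : Scheme.{u}).Opens)
    (S : Set Γ(P.restrict U.ι, W')) (T : Γ(P.restrict U.ι, W'))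
    (h : T ∈ Submodule.span Γ((U : Scheme.{u}), W') S) :
    (show Γ(P, U.ι ''ᵁ W') from T) ∈
      Submodule.span Γ(X, U.ι ''ᵁ W') (show Set Γ(P, U.ι ''ᵁ W') from S) := by
  induction h using Submodule.span_induction with
  | mem τ hτ => exact Submodule.subset_span hτ
  | zero => exact Submodule.zero_mem _
  | add a b _ _ ha hb => exact Submodule.add_mem _ ha hb
  | smul r a _ ha =>
    have h1 := Groth.Agent.Lib.Helper60.TwistLib.smul_restrict P U.ι W' r a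
    rw [h1]
    exact Submodule.smul_mem _ _ ha

/-- global generation of the restriction to an open subscheme, seen on `X` -/
theorem locGenOn_of_locSpan_restrict (P : X.Modules) (U : X.Opens) {κ : Type*}
    (σ : κ → Γ(P.restrict U.ι, ⊤)) (hσ : LocSpan (P.restrict U.ι) σ) :
    LocGenOn (U.ι ''ᵁ ⊤) P (fun b => (show Γ(P, U.ι ''ᵁ ⊤) from σ b)) := by
  intro U' t x hxU' hxΩ
  obtain ⟨x', -, rfl⟩ := hxΩ
  let V : (U : Scheme.{u}).Opens := U.ι ⁻¹ᵁ U'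
  have hVU' : U.ι ''ᵁ V ≤ U' := by
    rintro _ ⟨y, hy, rfl⟩
    exact hy
  let t' : Γ(P.restrict U.ι, V) := rs P hVU' t
  obtain ⟨W', hW', hxW', hmem⟩ := hσ V t' x' hxU'
  have hWU' : U.ι ''ᵁ W' ≤ U' := (U.ι.image_mono hW').trans hVU'
  have hWΩ : U.ι ''ᵁ W' ≤ U.ι ''ᵁ ⊤ := U.ι.image_mono le_top
  refine ⟨U.ι ''ᵁ W', hWU', hWΩ, ⟨x', hxW', rfl⟩, ?_⟩
  have h1 : rs P hWU' t = (P.restrict U.ι).presheaf.map (homOfLE hW').op t' := by
    change _ = rs P (U.ι.image_mono hW') (rs P hVU' t)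
    rw [rs_rs]
  rw [h1]
  exact mem_span_of_restrict P U W' _ _ hmem

open Groth.Agent.Lib.Lead.Inv in
/-- twisting a locally surjective map by an inverse pair -/
theorem locSurjOn_twist {Ω : X.Opens} {E M A N : X.Modules} (hA : PicF.IsInvertible A)
    (hN : PicF.IsInvertible N) (c : CohB1.tensorMod (CohB1.tensorMod M A) N ≅ M)
    (φ : E ⟶ CohB1.tensorMod M A) (h : LocSurjOn Ω φ) :
    LocSurjOn Ω (mapLeft φ N ≫ c.hom) := by
  intro U t x hx hxΩ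
  obtain ⟨U₁, hxU₁, ν, hν⟩ := exists_isGen_of_isInvertible hN x
  have hc : Function.Bijective (c.hom.app (U ⊓ U₁)) := app_bijective_of_isIso c.hom (U ⊓ U₁)
  obtain ⟨w, hw⟩ := hc.2 (rs M (inf_le_left : U ⊓ U₁ ≤ U) t)
  obtain ⟨y, hy⟩ := (tm_right_bijective (CohB1.tensorMod M A) N ν hν (U ⊓ U₁)
    inf_le_right).2 w
  obtain ⟨W, hW, hxW, z, hz⟩ := h (U ⊓ U₁) y x ⟨hx, hxU₁⟩ hxΩ
  refine ⟨W, hW.trans inf_le_left, hxW, tm E N z (rs N (hW.trans inf_le_right) ν), ?_⟩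
  change (c.hom.app W).hom (((mapLeft φ N).app W).hom _) = _
  rw [mapLeft_tm]
  have hz' : (φ.app W).hom z = rs _ hW y := hz
  rw [hz']
  have h3 : tm (CohB1.tensorMod M A) N (rs _ hW y) (rs N (hW.trans inf_le_right) ν) =
      rs _ hW w := by
    rw [← hy, rs_tm, rs_rs]
  rw [h3, ← rs_app]
  have h4 : (c.hom.app (U ⊓ U₁)).hom w = rs M (inf_le_left : U ⊓ U₁ ≤ U) t := hw
  rw [h4, rs_rs]
  rfl

/-- tensoring a finite locally free module with an invertible one -/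
theorem isFinLocFree_tensorMod {E N : X.Modules} (hE : FlatMod.IsFinLocFree E)
    (hN : PicF.IsInvertible N) : FlatMod.IsFinLocFree (CohB1.tensorMod E N) := by
  intro x
  obtain ⟨U₁, n, hx₁, h₁⟩ := hE x
  obtain ⟨U₂, hx₂, ⟨e₂⟩⟩ := hN x
  obtain ⟨a⟩ := Groth.Agent.Lib.Helper2.FreeModAff.nonempty_iso_freeMod_of_le E
    (inf_le_left : U₁ ⊓ U₂ ≤ U₁) n h₁
  obtain ⟨b⟩ := Groth.Agent.Lib.Helper2.FreeModAff.nonempty_iso_freeMod_of_le N
    (inf_le_right : U₁ ⊓ U₂ ≤ U₂) 1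
    ⟨e₂ ≪≫ Groth.Agent.Lib.Helper35.FinLocFreeSum.unitIsoFreeOne _⟩
  obtain ⟨ρ⟩ := Groth.Agent.Lib.Lead.Inv.nonempty_unit_right
    (FlatMod.freeMod (↑(U₁ ⊓ U₂) : Scheme.{u}) n)
  refine ⟨U₁ ⊓ U₂, n, ⟨hx₁, hx₂⟩, ⟨?_⟩⟩
  exact restrictTensorIso (U₁ ⊓ U₂).ι E N ≪≫ tensorModCongrLeft a _ ≪≫
    tensorModCongrRight _ (b ≪≫ (Groth.Agent.Lib.Helper35.FinLocFreeSum.unitIsoFreeOne _).symm) ≪≫ ρ

end Groth.Agent.Lib.Helper35.PushRes
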