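import Groth.Agent.Lib.Helper35.PushRes3

/-!
# The resolution property along morphisms with a relatively ample module: assembly
-/

set_option autoImplicit false
universe u

open AlgebraicGeometry CategoryTheory Opposite TopologicalSpace Limits

namespace Groth.Agent.Lib.Helper35.PushRes

open Groth.Agent.Lib.Helper35.GlobGen Groth.Agent.Lib.Helper35.AbSheaf
open Groth.Agent.Lib.Helper35.PbInv Groth.Agent.Lib.Helper35.ResProp
open Groth.Agent.Lib.Helper35.Gen Groth.Agent.Lib.Helper35.Dual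
open Groth.Agent.Lib.Helper60.TensorLib Groth.Agent.Lib.Helper60.TensorRestrict

open Groth.Agent.Lib.Lead.Inv in
theorem hasResolutionProperty_of_isRelAmple {X Y : Scheme.{u}} (f : X ⟶ Y) [CompactSpace Y]
    [QuasiSeparatedSpace Y] (hY : PerfAux.HasResolutionProperty Y) (L : X.Modules)
    (hL : RelAmple.IsRelAmple f L) : PerfAux.HasResolutionProperty X := by
  classical
  intro M hM hft
  haveI : M.IsQuasicoherent := hM
  haveI := hL.1
  haveI : QuasiSeparated f :=
    Groth.Agent.Lib.Helper35.AmpleFamily.quasiSeparated_of_isRelAmple f hL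
  haveI : CompactSpace X := QuasiCompact.compactSpace_of_compactSpace f
  haveI : QuasiSeparatedSpace X := quasiSeparatedSpace_of_quasiSeparated f
  have hLinv := Groth.Agent.Lib.Helper35.AmpleFamily.isInvertible_of_isRelAmple f hL
  -- finite affine cover of `Y`
  have hcovY : ∀ y : Y, ∃ V : Y.Opens, IsAffineOpen V ∧ y ∈ V := by
    intro y
    obtain ⟨_, ⟨V, hV : IsAffineOpen V, rfl⟩, hyV, -⟩ :=
      (Y.isBasis_affineOpens).exists_subset_of_mem_open (Set.mem_univ y) isOpen_univ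
    exact ⟨V, hV, hyV⟩
  choose V hV hyV using hcovY
  obtain ⟨t, ht⟩ := isCompact_univ.elim_finite_subcover
    (fun y : Y => ((V y : Y.Opens) : Set Y)) (fun y => (V y).2)
    (fun y _ => Set.mem_iUnion.mpr ⟨y, hyV y⟩)
  let pt : Fin t.card → Y := fun a => (t.equivFin.symm a).1
  have hpt : ∀ y ∈ t, ∃ a, pt a = y := fun y hyt => ⟨t.equivFin ⟨y, hyt⟩, by simp [pt]⟩
  let V' : Fin t.card → Y.Opens := fun a => (V (pt a)).ι ''ᵁ ⊤
  have hV'eq : ∀ a, V' a = V (pt a) := fun a => Scheme.Opens.ι_image_top _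
  have hV' : ∀ a, IsAffineOpen (V' a) := fun a => by rw [hV'eq]; exact hV _
  let Ω : Fin t.card → X.Opens := fun a => f ⁻¹ᵁ V' a
  have hamp : ∀ a, CohB1.IsAmple (L.restrict (Ω a).ι) := fun a => hL.2 ⟨V' a, hV' a⟩
  have hS := fun a => exists_finite_locSpan_ge (hamp a) (M.restrict (Ω a).ι)
    (isCoh_restrict (Ω a) M ⟨hM, hft⟩)
  choose mm hmm n0 H using hS
  let N : ℕ := ∑ a, n0 a
  let e : ℕ := (∏ a, mm a) * N
  let n' : Fin t.card → ℕ := fun a => (∏ b ∈ Finset.univ.erase a, mm b) * N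
  have hn' : ∀ a, mm a * n' a = e := by
    intro a
    show mm a * ((∏ b ∈ Finset.univ.erase a, mm b) * N) = (∏ a, mm a) * N
    rw [← mul_assoc, Finset.mul_prod_erase Finset.univ mm (Finset.mem_univ a)]
  have hn0 : ∀ a, n0 a ≤ n' a := by
    intro a
    have h1 : n0 a ≤ N := Finset.single_le_sum (f := n0) (fun _ _ => Nat.zero_le _)
      (Finset.mem_univ a)
    have h2 : 1 ≤ ∏ b ∈ Finset.univ.erase a, mm b := Finset.prod_pos (fun b _ => hmm b)
    calc n0 a ≤ N := h1
      _ = 1 * N := (one_mul _).symm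
      _ ≤ _ := Nat.mul_le_mul_right _ h2
  let A : X.Modules := CohB1.tensorPow L e
  have hA : PicF.IsInvertible A := Gen.isInvertible_tensorPow hLinv e
  let P : X.Modules := CohB1.tensorMod M A
  haveI : P.IsQuasicoherent := isQuasicoherent_tensorMod_right M hA
  have hsec : ∀ a, ∃ (k : ℕ) (m : Fin k → Γ(P, Ω a)), LocGenOn (Ω a) P m := by
    intro a
    obtain ⟨k, σ, hσ⟩ := H a (n' a) (hn0 a)
    have hinv_a := (hamp a).1
    obtain ⟨μ⟩ := nonempty_tensorPow_mul hinv_a (mm a) (n' a)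
    obtain ⟨κ⟩ := nonempty_tensorPow_cast (L.restrict (Ω a).ι) (hn' a)
    let iso : P.restrict (Ω a).ι ≅ CohB1.tensorMod (M.restrict (Ω a).ι)
        (CohB1.tensorPow (CohB1.tensorPow (L.restrict (Ω a).ι) (mm a)) (n' a)) :=
      restrictTensorIso (Ω a).ι M A ≪≫
        tensorModCongrRight _ (restrictTensorPowIso (Ω a).ι L e ≪≫ κ.symm ≪≫ μ.symm)
    have h2 := locSpan_of_iso iso.symm σ hσ
    have h3 := locGenOn_of_locSpan_restrict P (Ω a) _ h2
    have hle : Ω a ≤ (Ω a).ι ''ᵁ ⊤ := by rw [Scheme.Opens.ι_image_top]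
    exact ⟨k, _, LocGenOn.mono hle _ h3⟩
  choose k m hm using hsec
  have hcore := fun a => exists_local_lift_pullback f hY P (V (pt a)) (hV _) (m a)
  choose E φ hE hφ using hcore
  have hN : PicF.IsInvertible (dual A) := isInvertible_dual hA
  obtain ⟨ε⟩ := isInverseOf_dual' hA
  obtain ⟨ρ⟩ := nonempty_unit_right M
  let c : CohB1.tensorMod (CohB1.tensorMod M A) (dual A) ≅ M :=
    assocIso (assocOK_of_mid_right (A := M) hA hN) ≪≫ tensorModCongrRight M ε ≪≫ ρ
  refine ⟨CohB1.tensorMod (∐ fun a => (Scheme.Modules.pullback f).obj (E a)) (dual A),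
    mapLeft (Sigma.desc φ) (dual A) ≫ c.hom, ?_, ?_⟩
  · exact isFinLocFree_tensorMod
      (Groth.Agent.Lib.Helper35.FinLocFreeSum.isFinLocFree_sigma _ (fun a =>
        Groth.Agent.Lib.Helper7.FinLocFree.isFinLocFree_pullback f (hE a))) hN
  · refine epi_of_locSurjOn _ Ω (fun x => ?_) (fun a => ?_)
    · have h1 := ht (Set.mem_univ (f x))
      obtain ⟨y, hy⟩ := Set.mem_iUnion.mp h1
      obtain ⟨hyt, hxy⟩ := Set.mem_iUnion.mp hy
      obtain ⟨a, ha⟩ := hpt y hyt
      refine ⟨a, ?_⟩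
      change f x ∈ V' a
      rw [hV'eq, ha]
      exact hxy
    · refine locSurjOn_twist hA hN c (Sigma.desc φ) ?_
      refine locSurjOn_comp_of_eq (Sigma.ι (fun a => (Scheme.Modules.pullback f).obj (E a)) a)
        (Sigma.desc φ) (φ a) (Sigma.ι_desc _ _) ?_
      exact locSurjOn_of_locGenOn (φ a) _ (m a) (hm a) (hφ a)

end Groth.Agent.Lib.Helper35.PushRes
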