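import Mathlib
import Groth.Agent.Lib.Helper35.NS2
import Groth.Agent.Lib.Lead.SheafPts

/-!
# Global sections of `L^k` from local coefficient data given on a basis of opens
-/

set_option autoImplicit false
universe u

open CategoryTheory CategoryTheory.Limits AlgebraicGeometry TopologicalSpace Opposite

namespace Groth.Agent.Lib.Helper35.RL

open Groth.Agent.Lib.Helper35.Gen Groth.Agent.Lib.Helper35.AbSheaf Groth.Agent.Lib.Helper35.NS
open Groth.Agent.Lib.Lead.SheafGlue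

variable {X : Scheme.{u}}

/-- **Gluing a global section of `L^k` from local coefficients given on a basis `B` of opens.** -/
theorem exists_section_of_coeff_basis (L : X.Modules) (hL : PicF.IsInvertible L) (k : ℕ)
    (B : X.Opens → Prop)
    (hB : ∀ (U : X.Opens) (x : X), x ∈ U → ∃ V : X.Opens, B V ∧ x ∈ V ∧ V ≤ U)
    (a : ∀ (V : X.Opens), B V → ∀ (ε : Γ(L, V)), IsGen L V ε → Γ(X, V))
    (hres : ∀ {V V' : X.Opens} (hV : B V) (hV' : B V') (h : V' ≤ V) (ε : Γ(L, V))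
      (hε : IsGen L V ε), a V' hV' (rs L h ε) (hε.mono h) = rr X h (a V hV ε hε))
    (hunit : ∀ (V : X.Opens) (hV : B V) (ε : Γ(L, V)) (hε : IsGen L V ε) (w : Γ(X, V))
      (hε' : IsGen L V (w • ε)), w ^ k * a V hV (w • ε) hε' = a V hV ε hε) :
    ∃ t : Γ(CohB1.tensorPow L k, ⊤), ∀ (V : X.Opens) (hV : B V) (ε : Γ(L, V)) (hε : IsGen L V ε),
      rs (CohB1.tensorPow L k) (le_top : V ≤ ⊤) t = a V hV ε hε • gpow ε k := by
  let ι : Type u := Σ V : X.Opens, {ε : Γ(L, V) // B V ∧ IsGen L V ε}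
  let U : ι → X.Opens := fun i => i.1
  let sf : ∀ i : ι, Γ(CohB1.tensorPow L k, U i) :=
    fun i => a i.1 i.2.2.1 i.2.1 i.2.2.2 • gpow i.2.1 k
  have hcover : (⊤ : X.Opens) ≤ iSup U := by
    intro x _
    obtain ⟨V, hxV, ε, hε⟩ := exists_isGen_of_isInvertible hL x
    obtain ⟨V', hBV', hxV', hle⟩ := hB V x hxV
    exact Opens.mem_iSup.mpr ⟨⟨V', rs L hle ε, hBV', hε.mono hle⟩, hxV'⟩
  -- restriction formula to basis elements
  have hrs : ∀ (i : ι) (W : X.Opens) (hBW : B W) (hW : W ≤ U i),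
      rs (CohB1.tensorPow L k) hW (sf i) =
        a W hBW (rs L hW i.2.1) (i.2.2.2.mono hW) • gpow (rs L hW i.2.1) k := by
    intro i W hBW hW
    change rs (CohB1.tensorPow L k) hW (a i.1 i.2.2.1 i.2.1 i.2.2.2 • gpow i.2.1 k) = _
    rw [rs_smul, rs_gpow, hres i.2.2.1 hBW hW]
  have hcomp : TopCat.Presheaf.IsCompatible (shf (CohB1.tensorPow L k)).1 U sf := by
    intro i j
    change rs (CohB1.tensorPow L k) (inf_le_left : U i ⊓ U j ≤ U i) (sf i) =
      rs (CohB1.tensorPow L k) (inf_le_right : U i ⊓ U j ≤ U j) (sf j)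
    apply Groth.Agent.Lib.Lead.SheafGlue.eq_of_locally_eq_pts
    intro x hx
    obtain ⟨W, hBW, hxW, hWle⟩ := hB (U i ⊓ U j) x hx
    refine ⟨W, hWle, hxW, ?_⟩
    change rs (CohB1.tensorPow L k) hWle (rs (CohB1.tensorPow L k) inf_le_left (sf i)) =
      rs (CohB1.tensorPow L k) hWle (rs (CohB1.tensorPow L k) inf_le_right (sf j))
    rw [rs_rs, rs_rs, hrs i W hBW (hWle.trans inf_le_left), hrs j W hBW (hWle.trans inf_le_right)]
    have hεi := i.2.2.2.mono (hWle.trans inf_le_left)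
    have hεj := j.2.2.2.mono (hWle.trans inf_le_right)
    obtain ⟨w, -, hw⟩ := exists_unit_smul hεi hεj
    have hεj' : IsGen L W (w • rs L (hWle.trans inf_le_left) i.2.1) := hw ▸ hεj
    have h1 := hunit _ hBW _ hεi w hεj'
    have h2 : a W hBW (rs L (hWle.trans inf_le_right) j.2.1) hεj =
        a W hBW (w • rs L (hWle.trans inf_le_left) i.2.1) hεj' := by
      congr 1
    rw [h2, hw, gpow_smul, ← mul_smul, mul_comm, h1]
  obtain ⟨t, ht, -⟩ := (shf (CohB1.tensorPow L k)).existsUnique_gluing' U ⊤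
    (fun i => homOfLE le_top) hcover sf hcomp
  refine ⟨t, fun V hV ε hε => ?_⟩
  exact ht ⟨V, ε, hV, hε⟩

end Groth.Agent.Lib.Helper35.RL
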