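import Groth.Agent.Lib.Helper35.RL9

/-!
# The injectivity condition for `r_{L,ψ}` when `u` is injective
-/

set_option autoImplicit false
set_option linter.style.haveILetI false
universe u

open CategoryTheory CategoryTheory.Limits AlgebraicGeometry TopologicalSpace Opposite
open scoped HomogeneousIdeal
open HomogeneousLocalization

noncomputable section

namespace Groth.Agent.Lib.Helper35.RL

open Groth.Agent.Lib.Helper74 Groth.Agent.Lib.Helper74.QMap Groth.Agent.Lib.Helper74.QMapImm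
open Groth.Agent.Lib.Helper74.QMapImmU Groth.Agent.Lib.Helper74.InvSym
open Groth.Agent.Lib.Helper35.Gen Groth.Agent.Lib.Helper35.GlobGen

section sec

variable {X : Scheme.{u}} {L : X.Modules} [L.IsQuasicoherent] {𝒮L : RelProj.QCGrAlg X}
  {j : L ⟶ 𝒮L.toModule} (hj : RelProj.IsGrSymAlg L 𝒮L j)
  (W₀ : X.Opens) (T : 𝒮L.presheaf.obj (op W₀)) {n : ℕ}
  (hT : ∀ (V : X.Opens) (hV : IsAffineOpen V) (hle : V ≤ W₀), resA 𝒮L hle T ∈ 𝒮L.deg V hV n)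

/-- the section of `(L|W₀)^n` attached to `T`, with its values -/
theorem exists_sec_val (hL : PicF.IsInvertible L) :
    ∃ s : Coh.structureModule (W₀ : Scheme.{u}) ⟶ CohB1.tensorPow (L.restrict W₀.ι) n,
      ∀ (V' : (W₀ : Scheme.{u}).Opens) (hV' : IsAffineOpen V')
        (ε' : Γ(L.restrict W₀.ι, V')) (hε' : IsGen (L.restrict W₀.ι) V' ε'),
        SecTwist.val s V' = coeffR hj W₀ T hT V' hV' ε' hε' • gpow ε' n := by
  have hL' : PicF.IsInvertible (L.restrict W₀.ι) :=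
    Groth.Agent.Lib.Helper35.ModRestrict.isInvertible_restrict W₀.ι L hL
  obtain ⟨t, ht⟩ := exists_section_of_coeff_basis (L.restrict W₀.ι) hL' n
    (fun V' => IsAffineOpen V')
    (fun U x hxU => by
      obtain ⟨V, hV, hxV, hVU⟩ := exists_isAffineOpen_mem_and_subset (x := x) (U := U) hxU
      exact ⟨V, hV, hxV, hVU⟩)
    (fun V' hV' ε' hε' => coeffR hj W₀ T hT V' hV' ε' hε')
    (fun hV hV' h ε hε => coeffR_res hj W₀ T hT hV hV' h ε hε)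
    (fun V hV ε hε w hε' => coeffR_unit hj W₀ T hT V hV ε hε w hε')
  refine ⟨secHom _ t, fun V' hV' ε' hε' => ?_⟩
  rw [Groth.Agent.Lib.Helper35.Ample.val_secHom]
  exact ht V' hV' ε' hε'

omit [L.IsQuasicoherent] in
theorem genLocus_of_val {c : ∀ (V' : (W₀ : Scheme.{u}).Opens) (_ : IsAffineOpen V')
      (ε' : Γ(L.restrict W₀.ι, V')) (_ : IsGen (L.restrict W₀.ι) V' ε'), Γ((W₀ : Scheme.{u}), V')}
    (s : Coh.structureModule (W₀ : Scheme.{u}) ⟶ CohB1.tensorPow (L.restrict W₀.ι) n)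
    (hs : ∀ (V' : (W₀ : Scheme.{u}).Opens) (hV' : IsAffineOpen V')
        (ε' : Γ(L.restrict W₀.ι, V')) (hε' : IsGen (L.restrict W₀.ι) V' ε'),
        SecTwist.val s V' = c V' hV' ε' hε' • gpow ε' n)
    (V' : (W₀ : Scheme.{u}).Opens) (hV' : IsAffineOpen V')
    (ε' : Γ(L.restrict W₀.ι, V')) (hε' : IsGen (L.restrict W₀.ι) V' ε') :
    CohB1.genLocus _ s ⊓ V' = (W₀ : Scheme.{u}).basicOpen (c V' hV' ε' hε') :=
  genLocus_inf_eq_basicOpen s (hε'.gpow n) _ (hs V' hV' ε' hε')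

end sec

variable {Y X P PL : Scheme.{u}} {q : X ⟶ Y}
  {L : X.Modules} (hL : PicF.IsInvertible L) [hLq : L.IsQuasicoherent]
  {𝒮 : RelProj.QCGrAlg Y} {𝒮L : RelProj.QCGrAlg X} {j : L ⟶ 𝒮L.toModule}
  (hj : RelProj.IsGrSymAlg L 𝒮L j)
  (u : RelProj.QGrHom q 𝒮 𝒮L)
  {p : P ⟶ Y} {chart : ∀ (U : Y.Opens) (hU : IsAffineOpen U),
    (((p ⁻¹ᵁ U : P.Opens) : Scheme.{u}) ≅ Proj (𝒮.deg U hU))}
  (hP : RelProj.IsRelProj 𝒮 p chart)
  {pL : PL ⟶ X} {chartL : ∀ (U : X.Opens) (hU : IsAffineOpen U),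
    (((pL ⁻¹ᵁ U : PL.Opens) : Scheme.{u}) ≅ Proj (𝒮L.deg U hU))}
  (hPL : RelProj.IsRelProj 𝒮L pL chartL)
  (r : ((RelProj.domQ u pL chartL : PL.Opens) : Scheme.{u}) ⟶ P)
  (hr : RelProj.IsProjQMapOn u p chart pL chartL (RelProj.domQ u pL chartL) r)
  (U : Y.Opens) (hU : IsAffineOpen U)

/-- condition (iv) for `(U, n, s)` -/
def Cond4U (n : ℕ) (s : 𝒮.presheaf.obj (op U)) : Prop :=
  ∀ (m : ℕ), 0 < m → ∀ s' ∈ 𝒮.deg U hU (m * n),
    (u.appLE U (XTU u U n s) (XTU_le u U n s)).hom s' = 0 → ∃ (k : ℕ), 0 < k ∧ s ^ k * s' = 0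

include hL hj hP hPL hr in
theorem isIso_fC_iff {n : ℕ} (hn : 0 < n) {s : 𝒮.presheaf.obj (op U)} (hs : s ∈ 𝒮.deg U hU n)
    (hXT : IsAffineOpen (XTU u U n s)) :
    IsIso (QMapImmU.fC u U hU hXT) ↔ QMapImmU.Cond3 u U hU n s ∧ Cond4U u U hU n s := by
  rw [QMapImmU.fC, isIso_SpecMap_iff, Function.Bijective, and_comm]
  refine and_congr ?_ ?_
  · exact AwayMapCrit.away_map_surjective_iff (u.gradedAt U hU (XTU u U n s) hXT (XTU_le u U n s)) hs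
      (𝒮L.strZero (XTU u U n s) hXT).hom (QMapImmU.bijective_φT hL hj u hP hPL r hr U hU hn hs hXT).2
  · exact AwayMapCrit.away_map_injective_iff (u.gradedAt U hU (XTU u U n s) hXT (XTU_le u U n s)) hs

include hL hj hP hPL hr in
/-- **injectivity condition** from injectivity of `u` over `U` and quasi-compactness of `q⁻¹(U)` -/
theorem cond4U_of_injective (hc : IsCompact ((q ⁻¹ᵁ U : X.Opens) : Set X))
    (hinj : Function.Injective (u.app U).hom) {n : ℕ} (hn : 0 < n)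
    {s : 𝒮.presheaf.obj (op U)} (hs : s ∈ 𝒮.deg U hU n) : Cond4U u U hU n s := by
  intro m _ s' _ h0
  haveI : CompactSpace ↥((q ⁻¹ᵁ U : X.Opens) : Scheme.{u}) := isCompact_iff_compactSpace.mp hc
  have hL' : PicF.IsInvertible (L.restrict (q ⁻¹ᵁ U).ι) :=
    Groth.Agent.Lib.Helper35.ModRestrict.isInvertible_restrict _ L hL
  obtain ⟨σ, hσU, hσ⟩ := exists_sec_XTU' hL hj u hP hPL r hr U hU hn hs
  obtain ⟨C⟩ := exists_genCover hL'
  haveI := C.fin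
  haveI := Fintype.ofFinite C.ι
  set T := (u.app U).hom s with hTdef
  set T' := (u.app U).hom s' with hT'def
  -- local killing
  have hloc : ∀ i : C.ι, ∃ k : ℕ, resA 𝒮L (image_le (q ⁻¹ᵁ U) (C.V i)) (T ^ k * T') = 0 := by
    intro i
    set c := coeffR hj (q ⁻¹ᵁ U) T (app_mem u U hU hs) (C.V i) (C.hV i) (C.e i) (C.he i) with hcdef
    have hspec := coeffR_spec hj (q ⁻¹ᵁ U) T (app_mem u U hU hs) (C.V i) (C.hV i) (C.e i) (C.he i)
    rw [← hcdef] at hspec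
    have hVaff : IsAffineOpen ((q ⁻¹ᵁ U).ι ''ᵁ C.V i) := (C.hV i).image_of_isOpenImmersion _
    -- `D(c) ≤ X_t`
    have hDle : X.basicOpen (show Γ(X, (q ⁻¹ᵁ U).ι ''ᵁ C.V i) from c) ≤ XTU u U n s := by
      have him : (q ⁻¹ᵁ U).ι ''ᵁ (((q ⁻¹ᵁ U : X.Opens) : Scheme.{u}).basicOpen c) =
          X.basicOpen (show Γ(X, (q ⁻¹ᵁ U).ι ''ᵁ C.V i) from c) := by
        rw [Scheme.image_basicOpen]
        simp only [Scheme.Opens.ι_appIso]
        rfl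
      rw [← him, ← hσ (C.V i) (C.hV i) (C.e i) (C.he i), hσU]
      rintro _ ⟨z, ⟨hz, -⟩, rfl⟩
      exact hz
    have hzero : resA 𝒮L (X.basicOpen_le (show Γ(X, (q ⁻¹ᵁ U).ι ''ᵁ C.V i) from c))
        (resA 𝒮L (image_le (q ⁻¹ᵁ U) (C.V i)) T') = 0 := by
      rw [resA_resA]
      have h1 : resA 𝒮L ((X.basicOpen_le (show Γ(X, (q ⁻¹ᵁ U).ι ''ᵁ C.V i) from c)).trans
          (image_le (q ⁻¹ᵁ U) (C.V i))) T' =
          resA 𝒮L hDle (resA 𝒮L (XTU_le u U n s) T') := (resA_resA 𝒮L _ _ T').symm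
      rw [h1]
      have h2 : resA 𝒮L (XTU_le u U n s) T' = 0 := h0
      rw [h2, map_zero]
    obtain ⟨k, hk⟩ := exists_pow_mul_eq_zero ((q ⁻¹ᵁ U).ι ''ᵁ C.V i) hVaff _ _ hzero
    refine ⟨k, ?_⟩
    rw [map_mul, map_pow, hspec, mul_pow, mul_assoc, mul_comm _ (resA 𝒮L _ T'), ← mul_assoc,
      hk, zero_mul]
  choose k hk using hloc
  refine ⟨(∑ i, k i) + 1, Nat.succ_pos _, hinj ?_⟩
  rw [map_zero, map_mul, map_pow]
  apply eq_zero_of_cover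
  intro x hx
  obtain ⟨i, hi⟩ := C.cover (⟨x, hx⟩ : ((q ⁻¹ᵁ U : X.Opens) : Scheme.{u}))
  refine ⟨(q ⁻¹ᵁ U).ι ''ᵁ C.V i, image_le (q ⁻¹ᵁ U) (C.V i), ⟨⟨x, hx⟩, hi, rfl⟩, ?_⟩
  have hN : (∑ i, k i) + 1 = ((∑ i, k i) + 1 - k i) + k i := by
    have : k i ≤ ∑ i, k i := Finset.single_le_sum (fun _ _ => Nat.zero_le _) (Finset.mem_univ i)
    omega
  have h3 := hk i
  rw [hN, pow_add, mul_assoc, map_mul, h3, mul_zero]

end Groth.Agent.Lib.Helper35.RL
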