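import Groth.Agent.Lib.Helper35.RL10
import Groth.Agent.Lib.Helper35.Ample3

/-!
# The surjectivity condition for `r_{L,ψ}` when `u` is bijective
-/

set_option autoImplicit false
set_option linter.style.haveILetI false
universe u

open CategoryTheory CategoryTheory.Limits AlgebraicGeometry TopologicalSpace Opposite
open scoped HomogeneousIdeal
open HomogeneousLocalization

noncomputable section

namespace Groth.Agent.Lib.Helper35.RL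

open Groth.Agent.Lib.Helper74 Groth.Agent.Lib.Helper74.QMap Groth.Agent.Lib.Helper74.QMapImm
open Groth.Agent.Lib.Helper74.QMapImmU Groth.Agent.Lib.Helper74.InvSym
open Groth.Agent.Lib.Helper35.Gen Groth.Agent.Lib.Helper35.GlobGen Groth.Agent.Lib.Helper35.AbSheaf
open Groth.Agent.Lib.Helper35.Ample Groth.Agent.Lib.Helper35.Cocycle

section glue

variable {X : Scheme.{u}} {L : X.Modules}

/-- gluing a section of `L^k` from coefficients on a cover with generators -/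
theorem GenCover.exists_glue (C : GenCover L) (k : ℕ) (x : ∀ i, Γ(X, C.V i))
    (hx : ∀ i j, rr X (inf_le_left : C.V i ⊓ C.V j ≤ C.V i) (x i) =
      C.u i j ^ k * rr X (inf_le_right : C.V i ⊓ C.V j ≤ C.V j) (x j)) :
    ∃ τ : Γ(CohB1.tensorPow L k, ⊤), ∀ i, rs (CohB1.tensorPow L k) (le_top : C.V i ≤ ⊤) τ =
      x i • gpow (C.e i) k := by
  have hcov : (⊤ : X.Opens) ≤ iSup C.V := by
    intro y _
    obtain ⟨i, hi⟩ := C.cover y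
    exact Opens.mem_iSup.mpr ⟨i, hi⟩
  refine glue' (CohB1.tensorPow L k).presheaf (CohB1.tensorPow L k).isSheaf C.V (fun _ => le_top) hcov
    (fun i => x i • gpow (C.e i) k) ?_
  intro i j
  change rs (CohB1.tensorPow L k) inf_le_left (x i • gpow (C.e i) k) =
    rs (CohB1.tensorPow L k) inf_le_right (x j • gpow (C.e j) k)
  rw [rs_smul, rs_smul, C.gpow_trans k i j (C.V i ⊓ C.V j) le_rfl, rr_self, ← mul_smul, hx i j,
    mul_comm]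

end glue

variable {Y X P PL : Scheme.{u}} {q : X ⟶ Y}
  {L : X.Modules} (hL : PicF.IsInvertible L) [hLq : L.IsQuasicoherent]
  {𝒮 : RelProj.QCGrAlg Y} {𝒮L : RelProj.QCGrAlg X} {j : L ⟶ 𝒮L.toModule}
  (hj : RelProj.IsGrSymAlg L 𝒮L j)
  (u : RelProj.QGrHom q 𝒮 𝒮L)
  {p : P ⟶ Y} {chart : ∀ (U : Y.Opens) (hU : IsAffineOpen U),
    (((p ⁻¹ᵁ U : P.Opens) : Scheme.{u}) ≅ Proj (𝒮.deg U hU))}
  (hP : RelProj.IsRelProj 𝒮 p chart)
  {pL : PL ⟶ X} {chartL : ∀ (U : X.Opens) (hU : IsAffineOpen U),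
    (((pL ⁻¹ᵁ U : PL.Opens) : Scheme.{u}) ≅ Proj (𝒮L.deg U hU))}
  (hPL : RelProj.IsRelProj 𝒮L pL chartL)
  (r : ((RelProj.domQ u pL chartL : PL.Opens) : Scheme.{u}) ⟶ P)
  (hr : RelProj.IsProjQMapOn u p chart pL chartL (RelProj.domQ u pL chartL) r)
  (U : Y.Opens) (hU : IsAffineOpen U)

include hL hj hP hPL hr in
/-- **surjectivity condition** from bijectivity of `u` over `U`, `q⁻¹(U)` quasi-compact and
quasi-separated -/
theorem cond3_of_bijective (hc : IsCompact ((q ⁻¹ᵁ U : X.Opens) : Set X))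
    [hqs : QuasiSeparatedSpace ↥((q ⁻¹ᵁ U : X.Opens) : Scheme.{u})]
    (hbij : Function.Bijective (u.app U).hom) {n : ℕ} (hn : 0 < n)
    {s : 𝒮.presheaf.obj (op U)} (hs : s ∈ 𝒮.deg U hU n) : QMapImmU.Cond3 u U hU n s := by
  intro t
  haveI : CompactSpace ↥((q ⁻¹ᵁ U : X.Opens) : Scheme.{u}) := isCompact_iff_compactSpace.mp hc
  have hL' : PicF.IsInvertible (L.restrict (q ⁻¹ᵁ U).ι) :=
    Groth.Agent.Lib.Helper35.ModRestrict.isInvertible_restrict _ L hL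
  set T := (u.app U).hom s with hTdef
  obtain ⟨σ, hσval⟩ := exists_sec_val hj (q ⁻¹ᵁ U) T (app_mem u U hU hs) hL
  have hσ := genLocus_of_val (q ⁻¹ᵁ U) σ hσval
  have hσU := genLocus_eq_XTU hL hj u hP hPL r hr U hU hn hs σ hσ
  obtain ⟨C⟩ := exists_genCover hL'
  haveI : (Coh.structureModule ((q ⁻¹ᵁ U : X.Opens) : Scheme.{u})).IsQuasicoherent :=
    isQuasicoherent_unit _
  -- the coefficients
  set cσ : ∀ i : C.ι, Γ(((q ⁻¹ᵁ U : X.Opens) : Scheme.{u}), C.V i) := fun i => (C.pow n).c σ i with hcσ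
  have hDc : ∀ i : C.ι, cσ i =
      coeffR hj (q ⁻¹ᵁ U) T (app_mem u U hU hs) (C.V i) (C.hV i) (C.e i) (C.he i) := by
    intro i
    have h1 : SecTwist.val σ (C.V i) = cσ i • gpow (C.e i) n := (C.pow n).c_spec σ i
    exact ((C.he i).gpow n).smul_injective (h1.symm.trans (hσval (C.V i) (C.hV i) (C.e i) (C.he i)))
  set G : ((q ⁻¹ᵁ U : X.Opens) : Scheme.{u}).Opens :=
    CohB1.genLocus (CohB1.tensorPow (L.restrict (q ⁻¹ᵁ U).ι) n) σ with hG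
  -- `t` over the generating locus
  have hUle : (q ⁻¹ᵁ U).ι ''ᵁ G ≤ XTU u U n s := by
    rw [hσU]
    rintro _ ⟨z, hz, rfl⟩
    exact hz
  let t' : Γ(((q ⁻¹ᵁ U : X.Opens) : Scheme.{u}), G) :=
    (X.presheaf.map (homOfLE hUle).op).hom t
  have hext : ∃ m : ℕ, 0 < m ∧ ∃ x : ∀ i : C.ι, Γ(((q ⁻¹ᵁ U : X.Opens) : Scheme.{u}), C.V i),
      (∀ i, rr _ (inf_le_right : G ⊓ C.V i ≤ C.V i) (x i) =
        (rr _ (inf_le_right : G ⊓ C.V i ≤ C.V i) (cσ i)) ^ m *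
          rr _ (inf_le_left : G ⊓ C.V i ≤ G) t') ∧
      (∀ i k, rr _ (inf_le_left : C.V i ⊓ C.V k ≤ C.V i) (x i) =
        (C.u i k ^ n) ^ m * rr _ (inf_le_right : C.V i ⊓ C.V k ≤ C.V k) (x k)) :=
    ((C.pow n).data σ).exists_extension (Coh.structureModule _) t'
  obtain ⟨m, hm, x, hx1, hx2⟩ := hext
  -- the glued section of `L^(n*m)`
  obtain ⟨τ, hτ⟩ := GenCover.exists_glue C (n * m) x (by
    intro i k
    rw [hx2 i k, ← pow_mul])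
  set τh := secHom (CohB1.tensorPow (L.restrict (q ⁻¹ᵁ U).ι) (n * m)) τ with hτh
  obtain ⟨T', hT'⟩ := exists_elt (j := j) (q ⁻¹ᵁ U) τh hL
  obtain ⟨s', hs'⟩ := hbij.2 T'
  have hcsec : ∀ i, csec (q ⁻¹ᵁ U) τh (C.V i) (C.e i) (C.he i) = x i := by
    intro i
    apply csec_eq_of_eq
    rw [val_secHom]
    exact hτ i
  have hT'i : ∀ i, resA 𝒮L (image_le (q ⁻¹ᵁ U) (C.V i)) T' =
      (𝒮L.str.app (op ((q ⁻¹ᵁ U).ι ''ᵁ C.V i))).hom (show Γ(X, (q ⁻¹ᵁ U).ι ''ᵁ C.V i) from x i) *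
        (SymQ.jLin j ((q ⁻¹ᵁ U).ι ''ᵁ C.V i) (show Γ(L, (q ⁻¹ᵁ U).ι ''ᵁ C.V i) from C.e i)) ^ (n * m) := by
    intro i
    rw [hT' (C.V i) (C.hV i) (C.e i) (C.he i)]
    unfold elt
    rw [hcsec i]
  have hVaff : ∀ i, IsAffineOpen ((q ⁻¹ᵁ U).ι ''ᵁ C.V i) :=
    fun i => (C.hV i).image_of_isOpenImmersion _
  have hs'deg : s' ∈ 𝒮.deg U hU (m * n) := by
    apply mem_deg_of_forall u U hU hbij.1 s' (m * n)
    intro x₀ hx₀
    obtain ⟨i, hi⟩ := C.cover (⟨x₀, hx₀⟩ : ((q ⁻¹ᵁ U : X.Opens) : Scheme.{u}))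
    refine ⟨(q ⁻¹ᵁ U).ι ''ᵁ C.V i, hVaff i, image_le (q ⁻¹ᵁ U) (C.V i), ⟨⟨x₀, hx₀⟩, hi, rfl⟩, ?_⟩
    have h1 : (u.appLE U ((q ⁻¹ᵁ U).ι ''ᵁ C.V i) (image_le (q ⁻¹ᵁ U) (C.V i))).hom s' =
        resA 𝒮L (image_le (q ⁻¹ᵁ U) (C.V i)) T' := by
      rw [← hs']; rfl
    rw [h1, hT'i i, Nat.mul_comm m n]
    exact GrPolyOne.mul_pow_mem (𝒮L.deg _ (hVaff i)) (𝒮L.str.app (op _)).hom
      (𝒮L.str_mem _ (hVaff i)) (hj.2 _ (hVaff i) (show Γ(L, (q ⁻¹ᵁ U).ι ''ᵁ C.V i) from C.e i)) _ _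
  refine ⟨m, hm, s', hs'deg, ?_⟩
  -- the equation, locally on `X_t`
  rw [← sub_eq_zero]
  apply eq_zero_of_cover
  intro x₀ hx₀
  have hx₀U : x₀ ∈ q ⁻¹ᵁ U := XTU_le u U n s hx₀
  obtain ⟨i, hi⟩ := C.cover (⟨x₀, hx₀U⟩ : ((q ⁻¹ᵁ U : X.Opens) : Scheme.{u}))
  have hx₀σ : (⟨x₀, hx₀U⟩ : ((q ⁻¹ᵁ U : X.Opens) : Scheme.{u})) ∈ G := by
    rw [hσU]
    exact hx₀
  set O : X.Opens := (q ⁻¹ᵁ U).ι ''ᵁ (G ⊓ C.V i) with hOdef
  have hOX : O ≤ XTU u U n s := (Scheme.Hom.image_mono _ inf_le_left).trans hUle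
  have hOV : O ≤ (q ⁻¹ᵁ U).ι ''ᵁ C.V i := Scheme.Hom.image_mono _ inf_le_right
  refine ⟨O, hOX, ⟨⟨x₀, hx₀U⟩, ⟨hx₀σ, hi⟩, rfl⟩, ?_⟩
  -- restrictions of the three elements to `O`
  have eT : resA 𝒮L hOX ((u.appLE U (XTU u U n s) (XTU_le u U n s)).hom s) =
      resA 𝒮L hOV (resA 𝒮L (image_le (q ⁻¹ᵁ U) (C.V i)) T) := by
    rw [resA_resA]
    exact resA_resA 𝒮L (XTU_le u U n s) hOX T
  have eT' : resA 𝒮L hOX ((u.appLE U (XTU u U n s) (XTU_le u U n s)).hom s') =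
      resA 𝒮L hOV (resA 𝒮L (image_le (q ⁻¹ᵁ U) (C.V i)) T') := by
    rw [resA_resA, ← hs']
    exact resA_resA 𝒮L (XTU_le u U n s) hOX ((u.app U).hom s')
  have hspec := coeffR_spec hj (q ⁻¹ᵁ U) T (app_mem u U hU hs) (C.V i) (C.hV i) (C.e i) (C.he i)
  rw [← hDc i] at hspec
  -- the key identity of functions on `O`
  have hkey : SymQ.resR hOV (show Γ(X, (q ⁻¹ᵁ U).ι ''ᵁ C.V i) from x i) =
      (SymQ.resR hOV (show Γ(X, (q ⁻¹ᵁ U).ι ''ᵁ C.V i) from cσ i)) ^ m * SymQ.resR hOX t := by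
    refine (hx1 i).trans ?_
    congr 1
    change (X.presheaf.map (homOfLE (Scheme.Hom.image_mono (q ⁻¹ᵁ U).ι
      (inf_le_left : G ⊓ C.V i ≤ G))).op).hom ((X.presheaf.map (homOfLE hUle).op).hom t) = _
    rw [← ConcreteCategory.comp_apply, ← Functor.map_comp]
    rfl
  rw [map_sub, map_mul, map_pow, eT, eT', hT'i i, hspec, map_mul, map_mul, map_pow, map_pow,
    sub_eq_zero]
  have e1 : resA 𝒮L hOX ((𝒮L.str.app (op (XTU u U n s))).hom t) =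
      (𝒮L.str.app (op O)).hom (SymQ.resR hOX t) := SymQ.str_res 𝒮L.toQCAlg hOX t
  have e2 : resA 𝒮L hOV ((𝒮L.str.app (op ((q ⁻¹ᵁ U).ι ''ᵁ C.V i))).hom
      (show Γ(X, (q ⁻¹ᵁ U).ι ''ᵁ C.V i) from x i)) =
      (𝒮L.str.app (op O)).hom (SymQ.resR hOV (show Γ(X, (q ⁻¹ᵁ U).ι ''ᵁ C.V i) from x i)) :=
    SymQ.str_res 𝒮L.toQCAlg hOV _
  have e3 : resA 𝒮L hOV ((𝒮L.str.app (op ((q ⁻¹ᵁ U).ι ''ᵁ C.V i))).hom
      (show Γ(X, (q ⁻¹ᵁ U).ι ''ᵁ C.V i) from cσ i)) =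
      (𝒮L.str.app (op O)).hom (SymQ.resR hOV (show Γ(X, (q ⁻¹ᵁ U).ι ''ᵁ C.V i) from cσ i)) :=
    SymQ.str_res 𝒮L.toQCAlg hOV _
  rw [e1, e2, e3, hkey, map_mul, map_pow, mul_pow, ← pow_mul]
  ring

end Groth.Agent.Lib.Helper35.RL
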