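import Groth.Agent.Lib.Helper35.RL6
import Groth.Agent.Lib.Helper74.QMapDominantLoc

/-!
# Dominance and quasi-compactness of `r_{L,ψ}`
-/

set_option autoImplicit false
set_option linter.style.haveILetI false
universe u

open CategoryTheory CategoryTheory.Limits AlgebraicGeometry TopologicalSpace Opposite
open scoped HomogeneousIdeal
open HomogeneousLocalization

noncomputable section

namespace Groth.Agent.Lib.Helper35.RL

open Groth.Agent.Lib.Helper74 Groth.Agent.Lib.Helper74.QMap Groth.Agent.Lib.Helper74.QMapImm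
open Groth.Agent.Lib.Helper74.QMapImmU Groth.Agent.Lib.Helper74.InvSym

section general

variable {Y X P PL : Scheme.{u}} {q : X ⟶ Y}
  {𝒮 : RelProj.QCGrAlg Y} {𝒮L : RelProj.QCGrAlg X}
  (u : RelProj.QGrHom q 𝒮 𝒮L)

/-- a section of the sheaf of rings `𝒮L` over `W` vanishing on the members of a cover vanishes -/
theorem eq_zero_of_cover (W : X.Opens) (T : 𝒮L.presheaf.obj (op W))
    (h : ∀ x ∈ W, ∃ (V : X.Opens) (hle : V ≤ W), x ∈ V ∧ resA 𝒮L hle T = 0) : T = 0 := by
  choose V hle hxV hT using h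
  refine TopCat.Sheaf.eq_of_locally_eq' (⟨𝒮L.presheaf, 𝒮L.isSheaf⟩ : TopCat.Sheaf CommRingCat.{u} X)
    (fun x : W => V x.1 x.2) W (fun x => homOfLE (hle x.1 x.2)) ?_ T 0 (fun x => ?_)
  · intro x hx
    exact Opens.mem_iSup.mpr ⟨⟨x, hx⟩, hxV x hx⟩
  · change resA 𝒮L (hle x.1 x.2) T = (𝒮L.presheaf.map (homOfLE (hle x.1 x.2)).op).hom 0
    rw [hT x.1 x.2, map_zero]

/-- locally nilpotent images under an injective `u` over a quasi-compact preimage: nilpotent -/
theorem isNilpotent_of_locNilp (U : Y.Opens) (hc : IsCompact ((q ⁻¹ᵁ U : X.Opens) : Set X))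
    (hinj : Function.Injective (u.app U).hom) (s : 𝒮.presheaf.obj (op U))
    (hloc : LocNilp u U s) : IsNilpotent s := by
  choose V hV hle hxV hnil using hloc
  obtain ⟨t, ht⟩ := hc.elim_finite_subcover
    (fun x : (q ⁻¹ᵁ U : X.Opens) => ((V x.1 x.2 : X.Opens) : Set X))
    (fun x => (V x.1 x.2).2)
    (fun x hx => Set.mem_iUnion.mpr ⟨⟨x, hx⟩, hxV x hx⟩)
  choose N hN using fun x : (q ⁻¹ᵁ U : X.Opens) => hnil x.1 x.2
  refine ⟨t.sum N, hinj ?_⟩
  rw [map_zero, map_pow]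
  apply eq_zero_of_cover
  intro x hx
  obtain ⟨i, hi, hxi⟩ : ∃ i ∈ t, x ∈ (V i.1 i.2 : Set X) := by
    have := ht hx
    simpa using this
  refine ⟨V i.1 i.2, hle i.1 i.2, hxi, ?_⟩
  rw [map_pow]
  have h1 : resA 𝒮L (hle i.1 i.2) ((u.app U).hom s) = (u.appLE U (V i.1 i.2) (hle i.1 i.2)).hom s :=
    rfl
  rw [h1]
  have h2 : N i ≤ t.sum N := Finset.single_le_sum (fun _ _ => Nat.zero_le _) hi
  exact pow_eq_zero_of_le h2 (hN i)

variable {p : P ⟶ Y} {chart : ∀ (U : Y.Opens) (hU : IsAffineOpen U),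
    (((p ⁻¹ᵁ U : P.Opens) : Scheme.{u}) ≅ Proj (𝒮.deg U hU))}
  (hP : RelProj.IsRelProj 𝒮 p chart)
  {pL : PL ⟶ X} {chartL : ∀ (U : X.Opens) (hU : IsAffineOpen U),
    (((pL ⁻¹ᵁ U : PL.Opens) : Scheme.{u}) ≅ Proj (𝒮L.deg U hU))}
  (hPL : RelProj.IsRelProj 𝒮L pL chartL)
  (r : ((RelProj.domQ u pL chartL : PL.Opens) : Scheme.{u}) ⟶ P)
  (hr : RelProj.IsProjQMapOn u p chart pL chartL (RelProj.domQ u pL chartL) r)

include hP hPL hr in
/-- `u` injective over affine opens, `q` quasi-compact ⇒ `Proj(u)` dominant -/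
theorem isDominant_of_injective [QuasiCompact q]
    (hinj : ∀ U : Y.Opens, IsAffineOpen U → Function.Injective (u.app U).hom) : IsDominant r := by
  rw [isDominant_iff_local u hP hPL r hr]
  intro U hU n _ s _ hloc
  exact isNilpotent_of_locNilp u U
    (QuasiCompact.isCompact_preimage (f := q) _ U.2 hU.isCompact) (hinj U hU) s hloc

include hPL hr in
/-- affine base: `u` injective on global sections, `X` quasi-compact ⇒ `Proj(u)` dominant -/
theorem isDominant_of_injective_top [CompactSpace X] (hY : IsAffineOpen (⊤ : Y.Opens))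
    (hinj : Function.Injective (u.app ⊤).hom) : IsDominant r := by
  have hle : ∀ V : X.Opens, V ≤ q ⁻¹ᵁ ⊤ := fun V => le_top.trans (Scheme.Hom.preimage_top q).ge
  rw [isDominant_iff_of_isAffine u hY hPL r hr hle]
  intro n _ s _ hloc
  refine isNilpotent_of_locNilp u ⊤ ?_ hinj s ?_
  · have : ((q ⁻¹ᵁ ⊤ : X.Opens) : Set X) = Set.univ := by
      rw [Scheme.Hom.preimage_top]; rfl
    rw [this]
    exact isCompact_univ
  · intro x _
    obtain ⟨V, hV, hxV, hnil⟩ := hloc x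
    exact ⟨V, hV, hle V, hxV, hnil⟩

end general

end Groth.Agent.Lib.Helper35.RL
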