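import Groth.Agent.Lib.Helper35.RL11
import Groth.Agent.Lib.Helper35.RL7
import Groth.Agent.Lib.Helper35.Ample4

/-!
# `L` relatively ample and `u` bijective ⇒ `r_{L,σ}` is a dominant open immersion
-/

set_option autoImplicit false
set_option linter.style.haveILetI false
universe u

open CategoryTheory CategoryTheory.Limits AlgebraicGeometry TopologicalSpace Opposite
open scoped HomogeneousIdeal
open HomogeneousLocalization

noncomputable section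

namespace Groth.Agent.Lib.Helper35.RL

open Groth.Agent.Lib.Helper74 Groth.Agent.Lib.Helper74.QMap Groth.Agent.Lib.Helper74.QMapImm
open Groth.Agent.Lib.Helper74.QMapImmU Groth.Agent.Lib.Helper74.InvSym
open Groth.Agent.Lib.Helper35.Gen Groth.Agent.Lib.Helper35.GlobGen Groth.Agent.Lib.Helper35.AbSheaf
open Groth.Agent.Lib.Helper35.Ample Groth.Agent.Lib.Helper35.Cocycle

theorem exists_affine_isGen {X : Scheme.{u}} {L : X.Modules} (hL : PicF.IsInvertible L) (x : X) :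
    ∃ (V : X.Opens) (_ : IsAffineOpen V), x ∈ V ∧ ∃ e : Γ(L, V), IsGen L V e := by
  obtain ⟨U, hxU, e, he⟩ := exists_isGen_of_isInvertible hL x
  obtain ⟨V, hV, hxV, hVU⟩ := exists_isAffineOpen_mem_and_subset (x := x) (U := U) hxU
  exact ⟨V, hV, hxV, rs L hVU e, he.mono hVU⟩

variable {Y X P PL : Scheme.{u}} {q : X ⟶ Y}
  {L : X.Modules} (hL : PicF.IsInvertible L) [hLq : L.IsQuasicoherent]
  {𝒮 : RelProj.QCGrAlg Y} {𝒮L : RelProj.QCGrAlg X} {j : L ⟶ 𝒮L.toModule}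
  (hj : RelProj.IsGrSymAlg L 𝒮L j)
  (u : RelProj.QGrHom q 𝒮 𝒮L)
  {p : P ⟶ Y} {chart : ∀ (U : Y.Opens) (hU : IsAffineOpen U),
    (((p ⁻¹ᵁ U : P.Opens) : Scheme.{u}) ≅ Proj (𝒮.deg U hU))}
  (hP : RelProj.IsRelProj 𝒮 p chart)
  {pL : PL ⟶ X} {chartL : ∀ (U : X.Opens) (hU : IsAffineOpen U),
    (((pL ⁻¹ᵁ U : PL.Opens) : Scheme.{u}) ≅ Proj (𝒮L.deg U hU))}
  (hPL : RelProj.IsRelProj 𝒮L pL chartL)
  (r : ((RelProj.domQ u pL chartL : PL.Opens) : Scheme.{u}) ⟶ P)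
  (hr : RelProj.IsProjQMapOn u p chart pL chartL (RelProj.domQ u pL chartL) r)
  (U : Y.Opens) (hU : IsAffineOpen U)

include hL hj hP hPL hr in
/-- a section `σ` of `(L|q⁻¹U)^n` comes from a homogeneous `s ∈ 𝒮(U)_n` when `u` is bijective over
`U`, and `X_s` is the generating locus of `σ` -/
theorem exists_homog_of_section (hbij : Function.Bijective (u.app U).hom) {n : ℕ} (hn : 0 < n)
    (σ : Coh.structureModule ((q ⁻¹ᵁ U : X.Opens) : Scheme.{u}) ⟶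
        CohB1.tensorPow (L.restrict (q ⁻¹ᵁ U).ι) n) :
    ∃ s : 𝒮.presheaf.obj (op U), s ∈ 𝒮.deg U hU n ∧
      XTU u U n s = (q ⁻¹ᵁ U).ι ''ᵁ CohB1.genLocus _ σ := by
  have hL' : PicF.IsInvertible (L.restrict (q ⁻¹ᵁ U).ι) :=
    Groth.Agent.Lib.Helper35.ModRestrict.isInvertible_restrict _ L hL
  obtain ⟨T, hT⟩ := exists_elt (j := j) (q ⁻¹ᵁ U) σ hL
  obtain ⟨s, hs⟩ := hbij.2 T
  have hsdeg : s ∈ 𝒮.deg U hU n := by
    apply mem_deg_of_forall u U hU hbij.1 s n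
    intro x₀ hx₀
    obtain ⟨V', hV', hxV', ε', hε'⟩ := exists_affine_isGen hL'
      (⟨x₀, hx₀⟩ : ((q ⁻¹ᵁ U : X.Opens) : Scheme.{u}))
    have hVaff : IsAffineOpen ((q ⁻¹ᵁ U).ι ''ᵁ V') := hV'.image_of_isOpenImmersion _
    refine ⟨(q ⁻¹ᵁ U).ι ''ᵁ V', hVaff, image_le (q ⁻¹ᵁ U) V', ⟨⟨x₀, hx₀⟩, hxV', rfl⟩, ?_⟩
    have h1 : (u.appLE U ((q ⁻¹ᵁ U).ι ''ᵁ V') (image_le (q ⁻¹ᵁ U) V')).hom s =
        resA 𝒮L (image_le (q ⁻¹ᵁ U) V') T := by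
      rw [← hs]; rfl
    rw [h1, hT V' hV' ε' hε']
    exact GrPolyOne.mul_pow_mem (𝒮L.deg _ hVaff) (𝒮L.str.app (op _)).hom
      (𝒮L.str_mem _ hVaff) (hj.2 _ hVaff (show Γ(L, (q ⁻¹ᵁ U).ι ''ᵁ V') from ε')) _ _
  have hσ : ∀ (V' : ((q ⁻¹ᵁ U : X.Opens) : Scheme.{u}).Opens) (hV' : IsAffineOpen V')
      (ε' : Γ(L.restrict (q ⁻¹ᵁ U).ι, V')) (hε' : IsGen (L.restrict (q ⁻¹ᵁ U).ι) V' ε'),
      CohB1.genLocus _ σ ⊓ V' = ((q ⁻¹ᵁ U : X.Opens) : Scheme.{u}).basicOpen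
        (coeffR hj (q ⁻¹ᵁ U) ((u.app U).hom s) (app_mem u U hU hsdeg) V' hV' ε' hε') := by
    intro V' hV' ε' hε'
    have h1 : coeffR hj (q ⁻¹ᵁ U) ((u.app U).hom s) (app_mem u U hU hsdeg) V' hV' ε' hε' =
        csec (q ⁻¹ᵁ U) σ V' ε' hε' := by
      refine coeffR_eq_of_eq hj _ _ _ V' hV' ε' hε'
        (show Γ(X, (q ⁻¹ᵁ U).ι ''ᵁ V') from csec (q ⁻¹ᵁ U) σ V' ε' hε') ?_
      rw [hs]
      exact hT V' hV' ε' hε'
    rw [h1]
    exact genLocus_inf_eq_basicOpen σ (hε'.gpow n) _ (csec_spec (q ⁻¹ᵁ U) σ V' ε' hε')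
  have hσU := genLocus_eq_XTU hL hj u hP hPL r hr U hU hn hsdeg σ hσ
  refine ⟨s, hsdeg, ?_⟩
  rw [hσU]
  ext y
  constructor
  · intro hy
    exact ⟨⟨y, XTU_le u U n s hy⟩, hy, rfl⟩
  · rintro ⟨z, hz, rfl⟩
    exact hz

include hL hj hP hPL hr in
/-- **local data from ampleness** -/
theorem exists_ample_data (hbij : Function.Bijective (u.app U).hom)
    (hA : CohB1.IsAmple (L.restrict (q ⁻¹ᵁ U).ι)) (x : X) (hx : x ∈ q ⁻¹ᵁ U) :
    ∃ (n : ℕ) (s : 𝒮.presheaf.obj (op U)), (0 < n ∧ s ∈ 𝒮.deg U hU n) ∧ x ∈ XTU u U n s ∧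
      IsAffineOpen (XTU u U n s) ∧ QMapImmU.Cond3 u U hU n s ∧ Cond4U u U hU n s := by
  obtain ⟨hL', hcpt, hA'⟩ := hA
  have hc : IsCompact ((q ⁻¹ᵁ U : X.Opens) : Set X) := isCompact_iff_compactSpace.mpr hcpt
  haveI : QuasiSeparatedSpace ↥((q ⁻¹ᵁ U : X.Opens) : Scheme.{u}) :=
    quasiSeparatedSpace_of_cover_genLocus hL' hA'
  obtain ⟨m, σ, hxσ, haff⟩ := hA' ⟨x, hx⟩
  obtain ⟨s, hsdeg, hXT⟩ := exists_homog_of_section hL hj u hP hPL r hr U hU hbij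
    (Nat.succ_pos m) σ
  refine ⟨m + 1, s, ⟨Nat.succ_pos m, hsdeg⟩, ?_, ?_,
    cond3_of_bijective hL hj u hP hPL r hr U hU hc hbij (Nat.succ_pos m) hsdeg,
    cond4U_of_injective hL hj u hP hPL r hr U hU hc hbij.1 (Nat.succ_pos m) hsdeg⟩
  · rw [hXT]
    exact ⟨⟨x, hx⟩, hxσ, rfl⟩
  · rw [hXT]
    exact haff.image_of_isOpenImmersion _

include hL hj hP hPL hr in
/-- **`L` relatively ample, `u` bijective over affine opens ⇒ `r_{L,σ}` everywhere defined, a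
dominant open immersion.** -/
theorem isOpenImmersion_of_isRelAmple
    (hu : ∀ (U : Y.Opens), IsAffineOpen U → Function.Bijective (u.app U).hom)
    (h : RelAmple.IsRelAmple q L) :
    RelProj.domQ u pL chartL = ⊤ ∧ IsOpenImmersion r ∧ IsDominant r := by
  haveI : QuasiCompact q := h.1
  have hdata : ∀ x : X, ∃ (U : Y.Opens) (hU : IsAffineOpen U) (n : ℕ) (s : 𝒮.presheaf.obj (op U)),
      (0 < n ∧ s ∈ 𝒮.deg U hU n) ∧ x ∈ XTU u U n s ∧ IsAffineOpen (XTU u U n s) ∧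
        QMapImmU.Cond3 u U hU n s ∧ Cond4U u U hU n s := by
    intro x
    obtain ⟨U, hU, hxU, -⟩ := exists_isAffineOpen_mem_and_subset (x := q x) (U := ⊤) trivial
    obtain ⟨n, s, h1, h2, h3, h4, h5⟩ := exists_ample_data hL hj u hP hPL r hr U hU (hu U hU)
      (h.2 ⟨U, hU⟩) x hxU
    exact ⟨U, hU, n, s, h1, h2, h3, h4, h5⟩
  choose Ua hUa n s hns hx hXT h3 h4 using hdata
  have hcov : ∀ x : X, ∃ a, x ∈ XTU u (Ua a) (n a) (s a) := fun x => ⟨x, hx x⟩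
  refine ⟨QMapImmU.domQ_eq_top_of_cover hL hj u hP hPL r hr Ua hUa n s hns hcov, ?_,
    isDominant_of_injective u hP hPL r hr (fun U hU => (hu U hU).1)⟩
  exact ImmLocal.isOpenImmersion_of_cover r
    (fun a => iX u (Ua a) (hUa a) (hns a).1 (hns a).2 (hXT a))
    (fun a => stdChart p chart (Ua a) (hUa a) (hns a).1 (s a) (hns a).2)
    (fun a => fC u (Ua a) (hUa a) (hXT a))
    (fun a => iX_comp u r hr (Ua a) (hUa a) (hns a).1 (hns a).2 (hXT a))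
    (fun a => opensRange_iX hL hj u hP hPL r hr (Ua a) (hUa a) (hns a).1 (hns a).2 (hXT a))
    (QMapImmU.exists_mem_range_iX hL hj u hP hPL r hr Ua hUa n s hns hcov hXT)
    (fun a => (isIso_fC_iff hL hj u hP hPL r hr (Ua a) (hUa a) (hns a).1 (hns a).2 (hXT a)).mpr
      ⟨h3 a, h4 a⟩)

end Groth.Agent.Lib.Helper35.RL
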