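import Groth.Agent.Lib.Helper35.RL12
import Groth.Agent.Lib.Helper74.QMapImm2

/-!
# Scheme-theoretic dominance of `r_{L,σ}` when `u` is injective
-/

set_option autoImplicit false
set_option linter.style.haveILetI false
universe u

open CategoryTheory CategoryTheory.Limits AlgebraicGeometry TopologicalSpace Opposite
open scoped HomogeneousIdeal
open HomogeneousLocalization

noncomputable section

namespace Groth.Agent.Lib.Helper35.RL

open Groth.Agent.Lib.Helper74 Groth.Agent.Lib.Helper74.QMap Groth.Agent.Lib.Helper74.QMapImm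
open Groth.Agent.Lib.Helper74.QMapImmU Groth.Agent.Lib.Helper74.InvSym

theorem appLE_congr_hom {A B : Scheme.{u}} {f₁ f₂ : A ⟶ B} (h : f₁ = f₂) (U : B.Opens)
    (V : A.Opens) (e₁ : V ≤ f₁ ⁻¹ᵁ U) (e₂ : V ≤ f₂ ⁻¹ᵁ U) :
    f₁.appLE U V e₁ = f₂.appLE U V e₂ := by
  subst h; rfl

variable {Y X P PL : Scheme.{u}} {q : X ⟶ Y}
  {𝒮 : RelProj.QCGrAlg Y} {𝒮L : RelProj.QCGrAlg X}
  (u : RelProj.QGrHom q 𝒮 𝒮L)
  (U : Y.Opens) (hU : IsAffineOpen U)

/-- an element of `𝒮(U)_(s)` dying in all `𝒮L(V)_(u s)` vanishes, if `u` is injective over `U` and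
`q⁻¹(U)` is quasi-compact -/
theorem away_eq_zero_of_forall (hc : IsCompact ((q ⁻¹ᵁ U : X.Opens) : Set X))
    (hinj : Function.Injective (u.app U).hom) {n : ℕ}
    {s : 𝒮.presheaf.obj (op U)} (hs : s ∈ 𝒮.deg U hU n) (w : Away (𝒮.deg U hU) s)
    (h : ∀ x ∈ q ⁻¹ᵁ U, ∃ (V : X.Opens) (hV : IsAffineOpen V) (hle : V ≤ q ⁻¹ᵁ U), x ∈ V ∧
      Away.map (u.gradedAt U hU V hV hle) s w = 0) : w = 0 := by
  obtain ⟨m, a, ha, rfl⟩ := Away.mk_surjective (𝒮.deg U hU) hs w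
  rw [AwayMapCrit.away_mk_eq_zero_iff]
  have hloc : ∀ x ∈ q ⁻¹ᵁ U, ∃ (V : X.Opens) (hle : V ≤ q ⁻¹ᵁ U), x ∈ V ∧
      ∃ k : ℕ, resA 𝒮L hle ((u.app U).hom s ^ k * (u.app U).hom a) = 0 := by
    intro x hx
    obtain ⟨V, hV, hle, hxV, h0⟩ := h x hx
    rw [Away.map_mk, AwayMapCrit.away_mk_eq_zero_iff] at h0
    obtain ⟨k, hk⟩ := h0
    refine ⟨V, hle, hxV, k, ?_⟩
    rw [map_mul, map_pow]
    exact hk
  choose V hle hxV k hk using hloc
  obtain ⟨t, ht⟩ := hc.elim_finite_subcover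
    (fun x : (q ⁻¹ᵁ U : X.Opens) => ((V x.1 x.2 : X.Opens) : Set X))
    (fun x => (V x.1 x.2).2)
    (fun x hx => Set.mem_iUnion.mpr ⟨⟨x, hx⟩, hxV x hx⟩)
  refine ⟨t.sum (fun x => k x.1 x.2), hinj ?_⟩
  rw [map_zero, map_mul, map_pow]
  apply eq_zero_of_cover
  intro x hx
  obtain ⟨i, hi, hxi⟩ : ∃ i ∈ t, x ∈ (V i.1 i.2 : Set X) := by
    have := ht hx
    simpa using this
  refine ⟨V i.1 i.2, hle i.1 i.2, hxi, ?_⟩
  have h2 : k i.1 i.2 ≤ t.sum (fun x => k x.1 x.2) :=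
    Finset.single_le_sum (f := fun x : (q ⁻¹ᵁ U : X.Opens) => k x.1 x.2)
      (fun _ _ => Nat.zero_le _) hi
  obtain ⟨d, hd⟩ := Nat.exists_eq_add_of_le h2
  rw [hd, pow_add, mul_comm (_ ^ k i.1 i.2), mul_assoc, map_mul, hk, mul_zero]

variable {p : P ⟶ Y} {chart : ∀ (U : Y.Opens) (hU : IsAffineOpen U),
    (((p ⁻¹ᵁ U : P.Opens) : Scheme.{u}) ≅ Proj (𝒮.deg U hU))}
  {pL : PL ⟶ X} {chartL : ∀ (U : X.Opens) (hU : IsAffineOpen U),
    (((pL ⁻¹ᵁ U : PL.Opens) : Scheme.{u}) ≅ Proj (𝒮L.deg U hU))}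
  (r : ((RelProj.domQ u pL chartL : PL.Opens) : Scheme.{u}) ⟶ P)
  (hr : RelProj.IsProjQMapOn u p chart pL chartL (RelProj.domQ u pL chartL) r)

include hr in
/-- functions on a standard chart of `P` inject into functions on its preimage under `Proj(u)` -/
theorem app_injective_of_injective (hc : IsCompact ((q ⁻¹ᵁ U : X.Opens) : Set X))
    (hinj : Function.Injective (u.app U).hom) {n : ℕ} (hn : 0 < n)
    {s : 𝒮.presheaf.obj (op U)} (hs : s ∈ 𝒮.deg U hU n) :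
    Function.Injective (r.app ((stdChart p chart U hU hn s hs) ''ᵁ ⊤)).hom := by
  set jj := stdChart p chart U hU hn s hs with hjj
  rw [injective_iff_map_eq_zero]
  intro g hg
  have hinjj : Function.Injective
      (jj.appLE (jj ''ᵁ ⊤) ⊤ (jj.preimage_image_eq ⊤).ge).hom := by
    rw [← Scheme.Hom.appIso_hom']
    exact (ConcreteCategory.bijective_of_isIso (jj.appIso ⊤).hom).1
  apply hinjj
  rw [map_zero]
  have hΓ : Function.Injective
      (Scheme.ΓSpecIso (CommRingCat.of (Away (𝒮.deg U hU) s))).hom.hom :=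
    (ConcreteCategory.bijective_of_isIso
      (Scheme.ΓSpecIso (CommRingCat.of (Away (𝒮.deg U hU) s))).hom).1
  apply hΓ
  rw [map_zero]
  apply away_eq_zero_of_forall u U hU hc hinj hs
  intro x hx
  obtain ⟨V, hV, hxV, hle₀⟩ := exists_isAffineOpen_mem_and_subset (x := x) (U := q ⁻¹ᵁ U) hx
  have hle : V ≤ q ⁻¹ᵁ U := hle₀
  refine ⟨V, hV, hle, hxV, ?_⟩
  set φ := CommRingCat.ofHom (Away.map (u.gradedAt U hU V hV hle) s) with hφ
  have hW := RelProj.range_awayEmb_subset_domQ u pL chartL U hU V hV hle hn s hs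
  set e := IsOpenImmersion.lift (RelProj.domQ u pL chartL).ι
    (RelProj.awayEmb u pL chartL U hU V hV hle hn s hs) hW with he
  have hcomm : e ≫ r = Spec.map φ ≫ jj := hr U hU V hV hle n hn s hs hW
  have e1 : (⊤ : (Spec (CommRingCat.of (Away (𝒮L.deg V hV) (u.gradedAt U hU V hV hle s)))).Opens) ≤
      (Spec.map φ ≫ jj) ⁻¹ᵁ (jj ''ᵁ ⊤) := fun z _ => ⟨(Spec.map φ) z, trivial, rfl⟩
  have e0 : (⊤ : (Spec (CommRingCat.of (Away (𝒮L.deg V hV) (u.gradedAt U hU V hV hle s)))).Opens) ≤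
      (e ≫ r) ⁻¹ᵁ (jj ''ᵁ ⊤) := by rw [hcomm]; exact e1
  have h1 : ((Spec.map φ ≫ jj).appLE (jj ''ᵁ ⊤) ⊤ e1).hom g = 0 := by
    rw [← appLE_congr_hom hcomm (jj ''ᵁ ⊤) ⊤ e0 e1, Scheme.Hom.comp_appLE]
    change (e.appLE _ ⊤ _).hom ((r.app _).hom g) = 0
    rw [hg, map_zero]
  have h2 : (Spec.map φ ≫ jj).appLE (jj ''ᵁ ⊤) ⊤ e1 =
      jj.appLE (jj ''ᵁ ⊤) ⊤ (jj.preimage_image_eq ⊤).ge ≫ (Spec.map φ).appLE ⊤ ⊤ le_top :=
    (Scheme.Hom.appLE_comp_appLE _ _ _ _ _ _ _).symm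
  have h2' : (Spec.map φ).appLE ⊤ ⊤ le_top = (Spec.map φ).appTop :=
    Scheme.Hom.appLE_eq_app _
  rw [h2, h2'] at h1
  have h3 := congrArg (fun ψ => ψ.hom ((jj.appLE (jj ''ᵁ ⊤) ⊤ (jj.preimage_image_eq ⊤).ge).hom g))
    (Scheme.ΓSpecIso_naturality φ)
  change (Scheme.ΓSpecIso _).hom.hom ((Spec.map φ).appTop.hom _) =
    φ.hom ((Scheme.ΓSpecIso _).hom.hom _) at h3
  have h1' : ((Spec.map φ).appTop).hom
      ((jj.appLE (jj ''ᵁ ⊤) ⊤ (jj.preimage_image_eq ⊤).ge).hom g) = 0 := h1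
  rw [h1', map_zero] at h3
  exact h3.symm

variable (hP : RelProj.IsRelProj 𝒮 p chart)

include hP hr in
/-- **affine base, `u` injective on global sections, `X` quasi-compact, `Proj(u)` quasi-compact ⇒
`Proj(u)` scheme-theoretically dominant** -/
theorem isSchemeTheoreticallyDominant_of_injective_top [CompactSpace X] [QuasiCompact r]
    (hY : IsAffineOpen (⊤ : Y.Opens))
    (hinj : Function.Injective (u.app ⊤).hom) : IsSchemeTheoreticallyDominant r := by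
  rw [isSchemeTheoreticallyDominant_iff]
  have hc : IsCompact ((q ⁻¹ᵁ (⊤ : Y.Opens) : X.Opens) : Set X) := by
    have : ((q ⁻¹ᵁ ⊤ : X.Opens) : Set X) = Set.univ := by
      rw [Scheme.Hom.preimage_top]; rfl
    rw [this]
    exact isCompact_univ
  let ι := Σ n : ℕ, {s : 𝒮.presheaf.obj (op ⊤) // 0 < n ∧ s ∈ 𝒮.deg ⊤ hY n}
  let Ui : ι → P.affineOpens := fun i =>
    ⟨(stdChart p chart ⊤ hY i.2.2.1 i.2.1 i.2.2.2) ''ᵁ ⊤,
      (isAffineOpen_top _).image_of_isOpenImmersion _⟩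
  refine Scheme.IdealSheafData.ext_of_iSup_eq_top Ui ?_ ?_
  · rw [eq_top_iff]
    intro y _
    obtain ⟨n, hn, s, hs, hy, -⟩ := QMapImm.exists_stdChart_le hP hY (⊤ : P.Opens) y trivial
    refine Opens.mem_iSup.mpr ⟨⟨n, s, hn, hs⟩, ?_⟩
    obtain ⟨z, rfl⟩ := hy
    exact ⟨z, trivial, rfl⟩
  · intro i
    rw [Scheme.Hom.ker_apply]
    exact (RingHom.injective_iff_ker_eq_bot _).mp
      (app_injective_of_injective u ⊤ hY r hr hc hinj i.2.2.1 i.2.2.2)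

end Groth.Agent.Lib.Helper35.RL
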