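import Groth.Agent.Lib.Helper35.RL13
import Groth.Agent.Lib.Lead.RelAmp1

/-!
# Affine base: `L` ample, `u` bijective on global sections ⇒ `r_{L,σ}` is a quasi-compact
scheme-theoretically dominant open immersion
-/

set_option autoImplicit false
set_option linter.style.haveILetI false
universe u

open CategoryTheory CategoryTheory.Limits AlgebraicGeometry TopologicalSpace Opposite
open scoped HomogeneousIdeal
open HomogeneousLocalization

noncomputable section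

namespace Groth.Agent.Lib.Helper35.RL

open Groth.Agent.Lib.Helper74 Groth.Agent.Lib.Helper74.QMap Groth.Agent.Lib.Helper74.QMapImm
open Groth.Agent.Lib.Helper74.QMapImmU Groth.Agent.Lib.Helper74.InvSym

variable {Y X P PL : Scheme.{u}} {q : X ⟶ Y}
  {L : X.Modules} (hL : PicF.IsInvertible L) [hLq : L.IsQuasicoherent]
  {𝒮 : RelProj.QCGrAlg Y} {𝒮L : RelProj.QCGrAlg X} {j : L ⟶ 𝒮L.toModule}
  (hj : RelProj.IsGrSymAlg L 𝒮L j)
  (u : RelProj.QGrHom q 𝒮 𝒮L)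
  {p : P ⟶ Y} {chart : ∀ (U : Y.Opens) (hU : IsAffineOpen U),
    (((p ⁻¹ᵁ U : P.Opens) : Scheme.{u}) ≅ Proj (𝒮.deg U hU))}
  (hP : RelProj.IsRelProj 𝒮 p chart)
  {pL : PL ⟶ X} {chartL : ∀ (U : X.Opens) (hU : IsAffineOpen U),
    (((pL ⁻¹ᵁ U : PL.Opens) : Scheme.{u}) ≅ Proj (𝒮L.deg U hU))}
  (hPL : RelProj.IsRelProj 𝒮L pL chartL)
  (r : ((RelProj.domQ u pL chartL : PL.Opens) : Scheme.{u}) ⟶ P)
  (hr : RelProj.IsProjQMapOn u p chart pL chartL (RelProj.domQ u pL chartL) r)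

include hL hj hP hPL hr in
theorem isOpenImmersion_of_isAmple_top [CompactSpace X] (hY : IsAffineOpen (⊤ : Y.Opens))
    (hLa : CohB1.IsAmple L) (hu : Function.Bijective (u.app ⊤).hom) :
    RelProj.domQ u pL chartL = ⊤ ∧ IsOpenImmersion r := by
  have hc : IsCompact ((q ⁻¹ᵁ (⊤ : Y.Opens) : X.Opens) : Set X) := by
    have : ((q ⁻¹ᵁ ⊤ : X.Opens) : Set X) = Set.univ := by
      rw [Scheme.Hom.preimage_top]; rfl
    rw [this]
    exact isCompact_univ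
  have hA : CohB1.IsAmple (L.restrict (q ⁻¹ᵁ (⊤ : Y.Opens)).ι) := by
    haveI : CompactSpace ↥((q ⁻¹ᵁ (⊤ : Y.Opens) : X.Opens) : Scheme.{u}) :=
      isCompact_iff_compactSpace.mp hc
    exact Groth.Agent.Lib.Lead.Inv.isAmple_restrict_of_compactSpace _ hLa
  have hdata : ∀ x : X, ∃ (n : ℕ) (s : 𝒮.presheaf.obj (op ⊤)),
      (0 < n ∧ s ∈ 𝒮.deg ⊤ hY n) ∧ x ∈ XTU u ⊤ n s ∧ IsAffineOpen (XTU u ⊤ n s) ∧
        QMapImmU.Cond3 u ⊤ hY n s ∧ Cond4U u ⊤ hY n s :=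
    fun x => exists_ample_data hL hj u hP hPL r hr ⊤ hY hu hA x trivial
  choose n s hns hx hXT h3 h4 using hdata
  have hcov : ∀ x : X, ∃ a, x ∈ XTU u ((fun _ : X => (⊤ : Y.Opens)) a) (n a) (s a) :=
    fun x => ⟨x, hx x⟩
  refine ⟨QMapImmU.domQ_eq_top_of_cover hL hj u hP hPL r hr (fun _ : X => (⊤ : Y.Opens))
    (fun _ => hY) n s hns hcov, ?_⟩
  exact ImmLocal.isOpenImmersion_of_cover r
    (fun a => iX u ⊤ hY (hns a).1 (hns a).2 (hXT a))
    (fun a => stdChart p chart ⊤ hY (hns a).1 (s a) (hns a).2)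
    (fun a => fC u ⊤ hY (hXT a))
    (fun a => iX_comp u r hr ⊤ hY (hns a).1 (hns a).2 (hXT a))
    (fun a => opensRange_iX hL hj u hP hPL r hr ⊤ hY (hns a).1 (hns a).2 (hXT a))
    (QMapImmU.exists_mem_range_iX hL hj u hP hPL r hr (fun _ : X => (⊤ : Y.Opens))
      (fun _ => hY) n s hns hcov hXT)
    (fun a => (isIso_fC_iff hL hj u hP hPL r hr ⊤ hY (hns a).1 (hns a).2 (hXT a)).mpr
      ⟨h3 a, h4 a⟩)

end Groth.Agent.Lib.Helper35.RL
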