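import Groth.Agent.Lib.Helper74.InvSymDom
import Groth.Agent.Lib.Helper35.RL1

/-!
# Coefficients of homogeneous sections of `Sym L` over trivialising affine opens
-/

set_option autoImplicit false
universe u

open CategoryTheory CategoryTheory.Limits AlgebraicGeometry TopologicalSpace Opposite

namespace Groth.Agent.Lib.Helper35.RL

open RelSpec Groth.Agent.Lib.Helper74 Groth.Agent.Lib.Helper74.SymQ Groth.Agent.Lib.Helper74.InvSym
open Groth.Agent.Lib.Helper35.Gen

variable {X : Scheme.{u}} {L : X.Modules} [L.IsQuasicoherent] {𝒮L : RelProj.QCGrAlg X}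
  {j : L ⟶ 𝒮L.toModule} (hj : RelProj.IsGrSymAlg L 𝒮L j)

include hj in
/-- a homogeneous element of degree `n` over a trivialising affine open is `c · j(e)^n` -/
theorem exists_coeff (V : X.Opens) (hV : IsAffineOpen V) (e : Γ(L, V))
    (he : Function.Bijective (fun r : Γ(X, V) => r • e)) {n : ℕ} {t : 𝒮L.presheaf.obj (op V)}
    (ht : t ∈ 𝒮L.deg V hV n) :
    ∃ c : Γ(X, V), t = (𝒮L.str.app (op V)).hom c * (jLin j V e) ^ n :=
  GrPolyOne.exists_eq_mul_pow (𝒮L.deg V hV) (𝒮L.str.app (op V)).hom (𝒮L.str_mem V hV)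
    (hj.2 V hV e) (bijective_eval₂ hj V hV e he).2 ht

include hj in
theorem coeff_unique (V : X.Opens) (hV : IsAffineOpen V) (e : Γ(L, V))
    (he : Function.Bijective (fun r : Γ(X, V) => r • e)) {n : ℕ} {c c' : Γ(X, V)}
    (h : (𝒮L.str.app (op V)).hom c * (jLin j V e) ^ n =
      (𝒮L.str.app (op V)).hom c' * (jLin j V e) ^ n) : c = c' := by
  have hinj := (bijective_eval₂ hj V hV e he).1
  have h1 : ∀ d : Γ(X, V), Polynomial.eval₂RingHom (𝒮L.str.app (op V)).hom (jLin j V e)
      (Polynomial.C d * Polynomial.X ^ n) = (𝒮L.str.app (op V)).hom d * (jLin j V e) ^ n := by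
    intro d
    simp [Polynomial.eval₂_mul, Polynomial.eval₂_C, Polynomial.eval₂_pow, Polynomial.eval₂_X]
  have h2 : Polynomial.C c * Polynomial.X ^ n = Polynomial.C c' * Polynomial.X ^ n :=
    hinj ((h1 c).trans (h.trans (h1 c').symm))
  have h3 := congrArg (fun q => Polynomial.coeff q n) h2
  simpa [Polynomial.coeff_C_mul_X_pow] using h3

/-- the coefficient -/
noncomputable def coeff (V : X.Opens) (hV : IsAffineOpen V) (e : Γ(L, V))
    (he : Function.Bijective (fun r : Γ(X, V) => r • e)) {n : ℕ} (t : 𝒮L.presheaf.obj (op V))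
    (ht : t ∈ 𝒮L.deg V hV n) : Γ(X, V) :=
  (exists_coeff hj V hV e he ht).choose

theorem coeff_spec (V : X.Opens) (hV : IsAffineOpen V) (e : Γ(L, V))
    (he : Function.Bijective (fun r : Γ(X, V) => r • e)) {n : ℕ} (t : 𝒮L.presheaf.obj (op V))
    (ht : t ∈ 𝒮L.deg V hV n) :
    t = (𝒮L.str.app (op V)).hom (coeff hj V hV e he t ht) * (jLin j V e) ^ n :=
  (exists_coeff hj V hV e he ht).choose_spec

theorem coeff_eq_of_eq (V : X.Opens) (hV : IsAffineOpen V) (e : Γ(L, V))
    (he : Function.Bijective (fun r : Γ(X, V) => r • e)) {n : ℕ} (t : 𝒮L.presheaf.obj (op V))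
    (ht : t ∈ 𝒮L.deg V hV n) (c : Γ(X, V))
    (h : t = (𝒮L.str.app (op V)).hom c * (jLin j V e) ^ n) : coeff hj V hV e he t ht = c :=
  coeff_unique hj V hV e he ((coeff_spec hj V hV e he t ht).symm.trans h)

/-- restriction of coefficients -/
theorem coeff_res {V V' : X.Opens} (hV : IsAffineOpen V) (hV' : IsAffineOpen V') (h : V' ≤ V)
    (e : Γ(L, V)) (he : Function.Bijective (fun r : Γ(X, V) => r • e))
    (he' : Function.Bijective (fun r : Γ(X, V') => r • rs L h e))
    {n : ℕ} (t : 𝒮L.presheaf.obj (op V)) (ht : t ∈ 𝒮L.deg V hV n) :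
    coeff hj V' hV' (rs L h e) he' (resA 𝒮L h t) (𝒮L.map_mem hV hV' h ht) =
      rr X h (coeff hj V hV e he t ht) := by
  apply coeff_eq_of_eq
  have h1 := coeff_spec hj V hV e he t ht
  have h2 : resA 𝒮L h t = resA 𝒮L h ((𝒮L.str.app (op V)).hom (coeff hj V hV e he t ht) *
      (jLin j V e) ^ n) := congrArg _ h1
  rw [h2, map_mul, map_pow]
  congr 1
  · exact str_res 𝒮L.toQCAlg h _
  · congr 1
    exact (jLin_res j h e).symm

/-- change of generator -/
theorem coeff_unit (V : X.Opens) (hV : IsAffineOpen V) (e : Γ(L, V))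
    (he : Function.Bijective (fun r : Γ(X, V) => r • e)) (w : Γ(X, V))
    (he' : Function.Bijective (fun r : Γ(X, V) => r • (w • e)))
    {n : ℕ} (t : 𝒮L.presheaf.obj (op V)) (ht : t ∈ 𝒮L.deg V hV n) :
    w ^ n * coeff hj V hV (w • e) he' t ht = coeff hj V hV e he t ht := by
  symm
  apply coeff_eq_of_eq
  have h1 := coeff_spec hj V hV (w • e) he' t ht
  have h2 : jLin j V (w • e) = (𝒮L.str.app (op V)).hom w * jLin j V e := by
    rw [map_smul, Algebra.smul_def]
    rfl
  rw [h2, mul_pow, ← map_pow, ← mul_assoc, ← map_mul] at h1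
  rw [mul_comm (w ^ n)]
  exact h1

end Groth.Agent.Lib.Helper35.RL
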