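import Groth.Agent.Lib.Helper35.RL2
import Groth.Agent.Lib.Helper35.ModRestrict
import Groth.Agent.Lib.Helper35.Ample1
import Groth.Agent.Lib.Lead.Inv2

/-!
# The section of `L^n` over an open attached to a homogeneous section of `Sym L`
-/

set_option autoImplicit false
universe u

open CategoryTheory CategoryTheory.Limits AlgebraicGeometry TopologicalSpace Opposite

namespace Groth.Agent.Lib.Helper35.RL

open RelSpec Groth.Agent.Lib.Helper74 Groth.Agent.Lib.Helper74.SymQ Groth.Agent.Lib.Helper74.InvSym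
open Groth.Agent.Lib.Helper35.Gen Groth.Agent.Lib.Helper35.GlobGen

variable {X : Scheme.{u}} {L : X.Modules} [L.IsQuasicoherent] {𝒮L : RelProj.QCGrAlg X}
  {j : L ⟶ 𝒮L.toModule} (hj : RelProj.IsGrSymAlg L 𝒮L j)
  (W₀ : X.Opens) (T : 𝒮L.presheaf.obj (op W₀)) {n : ℕ}
  (hT : ∀ (V : X.Opens) (hV : IsAffineOpen V) (hle : V ≤ W₀), resA 𝒮L hle T ∈ 𝒮L.deg V hV n)

theorem image_le (V' : (W₀ : Scheme.{u}).Opens) : W₀.ι ''ᵁ V' ≤ W₀ := by
  rintro _ ⟨z, -, rfl⟩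
  exact z.2

omit [L.IsQuasicoherent] in
theorem bij_of_isGen {V' : (W₀ : Scheme.{u}).Opens} {ε' : Γ(L.restrict W₀.ι, V')}
    (hε' : IsGen (L.restrict W₀.ι) V' ε') :
    Function.Bijective (fun r : Γ(X, W₀.ι ''ᵁ V') => r • (show Γ(L, W₀.ι ''ᵁ V') from ε')) := by
  have h := hε'.bij
  have h2 : (fun r : Γ(X, W₀.ι ''ᵁ V') => r • (show Γ(L, W₀.ι ''ᵁ V') from ε')) =
      (fun r : Γ((W₀ : Scheme.{u}), V') => (r • ε' : Γ(L.restrict W₀.ι, V'))) := by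
    funext r
    exact (Groth.Agent.Lib.Lead.Inv.restrict_smul W₀ V' r ε').symm
  rw [h2]
  exact h

/-- the coefficient of `T` with respect to a generator of `L|W₀` over an affine open of `W₀` -/
noncomputable def coeffR (V' : (W₀ : Scheme.{u}).Opens) (hV' : IsAffineOpen V')
    (ε' : Γ(L.restrict W₀.ι, V')) (hε' : IsGen (L.restrict W₀.ι) V' ε') :
    Γ((W₀ : Scheme.{u}), V') :=
  coeff hj (W₀.ι ''ᵁ V') (hV'.image_of_isOpenImmersion W₀.ι) (show Γ(L, W₀.ι ''ᵁ V') from ε')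
    (bij_of_isGen W₀ hε') (resA 𝒮L (image_le W₀ V') T) (hT _ _ _)

theorem coeffR_spec (V' : (W₀ : Scheme.{u}).Opens) (hV' : IsAffineOpen V')
    (ε' : Γ(L.restrict W₀.ι, V')) (hε' : IsGen (L.restrict W₀.ι) V' ε') :
    resA 𝒮L (image_le W₀ V') T =
      (𝒮L.str.app (op (W₀.ι ''ᵁ V'))).hom (coeffR hj W₀ T hT V' hV' ε' hε') *
        (jLin j (W₀.ι ''ᵁ V') (show Γ(L, W₀.ι ''ᵁ V') from ε')) ^ n :=
  coeff_spec hj _ _ _ _ _ _

theorem coeffR_eq_of_eq (V' : (W₀ : Scheme.{u}).Opens) (hV' : IsAffineOpen V')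
    (ε' : Γ(L.restrict W₀.ι, V')) (hε' : IsGen (L.restrict W₀.ι) V' ε')
    (c : Γ(X, W₀.ι ''ᵁ V'))
    (h : resA 𝒮L (image_le W₀ V') T = (𝒮L.str.app (op (W₀.ι ''ᵁ V'))).hom c *
        (jLin j (W₀.ι ''ᵁ V') (show Γ(L, W₀.ι ''ᵁ V') from ε')) ^ n) :
    coeffR hj W₀ T hT V' hV' ε' hε' = c :=
  coeff_eq_of_eq hj _ _ _ _ _ _ c h

theorem coeffR_res {V' V'' : (W₀ : Scheme.{u}).Opens} (hV' : IsAffineOpen V')
    (hV'' : IsAffineOpen V'') (h : V'' ≤ V')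
    (ε' : Γ(L.restrict W₀.ι, V')) (hε' : IsGen (L.restrict W₀.ι) V' ε') :
    coeffR hj W₀ T hT V'' hV'' (rs (L.restrict W₀.ι) h ε') (hε'.mono h) =
      rr (W₀ : Scheme.{u}) h (coeffR hj W₀ T hT V' hV' ε' hε') := by
  apply coeffR_eq_of_eq
  have h1 := coeffR_spec hj W₀ T hT V' hV' ε' hε'
  have him : W₀.ι ''ᵁ V'' ≤ W₀.ι ''ᵁ V' := Scheme.Hom.image_mono _ h
  have h2 : resA 𝒮L (image_le W₀ V'') T = resA 𝒮L him (resA 𝒮L (image_le W₀ V') T) :=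
    (resA_resA 𝒮L (image_le W₀ V') him T).symm
  rw [h2, h1, map_mul, map_pow]
  congr 1
  · exact str_res 𝒮L.toQCAlg him _
  · congr 1
    exact (jLin_res j him (show Γ(L, W₀.ι ''ᵁ V') from ε')).symm

theorem coeffR_unit (V' : (W₀ : Scheme.{u}).Opens) (hV' : IsAffineOpen V')
    (ε' : Γ(L.restrict W₀.ι, V')) (hε' : IsGen (L.restrict W₀.ι) V' ε')
    (w : Γ((W₀ : Scheme.{u}), V')) (hε'' : IsGen (L.restrict W₀.ι) V' (w • ε')) :
    w ^ n * coeffR hj W₀ T hT V' hV' (w • ε') hε'' = coeffR hj W₀ T hT V' hV' ε' hε' := by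
  symm
  apply coeffR_eq_of_eq
  have h1 := coeffR_spec hj W₀ T hT V' hV' (w • ε') hε''
  have h3 : (show Γ(L, W₀.ι ''ᵁ V') from (w • ε' : Γ(L.restrict W₀.ι, V'))) =
      (show Γ(X, W₀.ι ''ᵁ V') from w) • (show Γ(L, W₀.ι ''ᵁ V') from ε') :=
    Groth.Agent.Lib.Lead.Inv.restrict_smul W₀ V' w ε'
  have h2 : jLin j (W₀.ι ''ᵁ V') (show Γ(L, W₀.ι ''ᵁ V') from (w • ε' : Γ(L.restrict W₀.ι, V'))) =
      (𝒮L.str.app (op (W₀.ι ''ᵁ V'))).hom (show Γ(X, W₀.ι ''ᵁ V') from w) *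
        jLin j (W₀.ι ''ᵁ V') (show Γ(L, W₀.ι ''ᵁ V') from ε') := by
    rw [h3, map_smul, Algebra.smul_def]
    rfl
  rw [h2, mul_pow, ← map_pow, ← mul_assoc, ← map_mul] at h1
  rw [h1]
  congr 2
  exact mul_comm _ _

end Groth.Agent.Lib.Helper35.RL
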