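import Groth.Agent.Lib.Helper35.RL3
import Groth.Agent.Lib.Helper74.QMapPts

/-!
# The section of `L^n|W₀` attached to a homogeneous section of `Sym L` over `W₀`: its generating locus
-/

set_option autoImplicit false
universe u

open CategoryTheory CategoryTheory.Limits AlgebraicGeometry TopologicalSpace Opposite
open scoped HomogeneousIdeal

namespace Groth.Agent.Lib.Helper35.RL

open RelSpec Groth.Agent.Lib.Helper74 Groth.Agent.Lib.Helper74.SymQ Groth.Agent.Lib.Helper74.InvSym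
open Groth.Agent.Lib.Helper35.Gen Groth.Agent.Lib.Helper35.GlobGen
open Groth.Agent.Lib.Helper74.QMap

variable {X : Scheme.{u}} {L : X.Modules} [L.IsQuasicoherent] {𝒮L : RelProj.QCGrAlg X}
  {j : L ⟶ 𝒮L.toModule} (hj : RelProj.IsGrSymAlg L 𝒮L j)
  (W₀ : X.Opens) (T : 𝒮L.presheaf.obj (op W₀)) {n : ℕ}
  (hT : ∀ (V : X.Opens) (hV : IsAffineOpen V) (hle : V ≤ W₀), resA 𝒮L hle T ∈ 𝒮L.deg V hV n)

/-- the section of `(L|W₀)^n` attached to `T` -/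
theorem exists_sec (hL : PicF.IsInvertible L) :
    ∃ s : Coh.structureModule (W₀ : Scheme.{u}) ⟶ CohB1.tensorPow (L.restrict W₀.ι) n,
      ∀ (V' : (W₀ : Scheme.{u}).Opens) (hV' : IsAffineOpen V')
        (ε' : Γ(L.restrict W₀.ι, V')) (hε' : IsGen (L.restrict W₀.ι) V' ε'),
        CohB1.genLocus _ s ⊓ V' =
          (W₀ : Scheme.{u}).basicOpen (coeffR hj W₀ T hT V' hV' ε' hε') := by
  have hL' : PicF.IsInvertible (L.restrict W₀.ι) :=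
    Groth.Agent.Lib.Helper35.ModRestrict.isInvertible_restrict W₀.ι L hL
  obtain ⟨t, ht⟩ := exists_section_of_coeff_basis (L.restrict W₀.ι) hL' n
    (fun V' => IsAffineOpen V')
    (fun U x hxU => by
      obtain ⟨V, hV, hxV, hVU⟩ := exists_isAffineOpen_mem_and_subset (x := x) (U := U) hxU
      exact ⟨V, hV, hxV, hVU⟩)
    (fun V' hV' ε' hε' => coeffR hj W₀ T hT V' hV' ε' hε')
    (fun hV hV' h ε hε => coeffR_res hj W₀ T hT hV hV' h ε hε)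
    (fun V hV ε hε w hε' => coeffR_unit hj W₀ T hT V hV ε hε w hε')
  refine ⟨secHom _ t, fun V' hV' ε' hε' => ?_⟩
  refine genLocus_inf_eq_basicOpen (secHom _ t) (hε'.gpow n) _ ?_
  rw [Groth.Agent.Lib.Helper35.Ample.val_secHom]
  exact ht V' hV' ε' hε'

variable {PL : Scheme.{u}} {pL : PL ⟶ X}
  {chartL : ∀ (U : X.Opens) (hU : IsAffineOpen U),
    (((pL ⁻¹ᵁ U : PL.Opens) : Scheme.{u}) ≅ Proj (𝒮L.deg U hU))}

/-- the generating locus of the section attached to `T`, read on the charts of `Proj (Sym L)` -/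
theorem mem_genLocus_iff (hL : PicF.IsInvertible L) (hPL : RelProj.IsRelProj 𝒮L pL chartL)
    (s : Coh.structureModule (W₀ : Scheme.{u}) ⟶ CohB1.tensorPow (L.restrict W₀.ι) n)
    (hs : ∀ (V' : (W₀ : Scheme.{u}).Opens) (hV' : IsAffineOpen V')
        (ε' : Γ(L.restrict W₀.ι, V')) (hε' : IsGen (L.restrict W₀.ι) V' ε'),
        CohB1.genLocus _ s ⊓ V' =
          (W₀ : Scheme.{u}).basicOpen (coeffR hj W₀ T hT V' hV' ε' hε'))
    (V : X.Opens) (hV : IsAffineOpen V) (hle : V ≤ W₀) (y : Proj (𝒮L.deg V hV))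
    (x' : (W₀ : Scheme.{u})) (hx' : W₀.ι x' = pL (RelProj.emb pL chartL V hV y)) :
    x' ∈ CohB1.genLocus _ s ↔ y ∈ Proj.basicOpen (𝒮L.deg V hV) (resA 𝒮L hle T) := by
  have hL' : PicF.IsInvertible (L.restrict W₀.ι) :=
    Groth.Agent.Lib.Helper35.ModRestrict.isInvertible_restrict W₀.ι L hL
  obtain ⟨V₁', hV₁', ε₁', hx₁, hε₁'⟩ := exists_affine_generator hL' x'
  have hxV : x' ∈ W₀.ι ⁻¹ᵁ V := by
    change W₀.ι x' ∈ V
    rw [hx']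
    exact RelConeProj.emb_mem_preimage V hV y
  obtain ⟨V₂', hV₂', hx₂, hle₂⟩ := exists_isAffineOpen_mem_and_subset (x := x')
    (U := V₁' ⊓ W₀.ι ⁻¹ᵁ V) ⟨hx₁, hxV⟩
  have h21' : V₂' ≤ V₁' := fun z hz => (hle₂ hz).1
  set ε₂' := rs (L.restrict W₀.ι) h21' ε₁' with hε₂def
  have hε₂' : IsGen (L.restrict W₀.ι) V₂' ε₂' := hε₁'.mono h21'
  have hV₂ : IsAffineOpen (W₀.ι ''ᵁ V₂') := hV₂'.image_of_isOpenImmersion W₀.ι
  have h21 : W₀.ι ''ᵁ V₂' ≤ V := by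
    rintro _ ⟨z, hz, rfl⟩
    exact (hle₂ hz).2
  have hxV₂ : pL (RelProj.emb pL chartL V hV y) ∈ W₀.ι ''ᵁ V₂' := ⟨x', hx₂, hx'⟩
  obtain ⟨y₂, hy₂⟩ := RelConeProj.exists_emb_eq (pC := pL) (chartC := chartL) (W₀.ι ''ᵁ V₂') hV₂
    (RelProj.emb pL chartL V hV y) hxV₂
  have hyy : y = Proj.map (𝒮L.res hV hV₂ h21) (irrelevant_le_map_res 𝒮L hV hV₂ h21) y₂ := by
    apply RelConeProj.emb_injective (pC := pL) (chartC := chartL) V hV
    rw [← hy₂]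
    exact emb_eq_emb_map_res hPL hV hV₂ h21 y₂
  set c := coeffR hj W₀ T hT V₂' hV₂' ε₂' hε₂' with hc
  have hspec := coeffR_spec hj W₀ T hT V₂' hV₂' ε₂' hε₂'
  rw [← hc] at hspec
  have hz1 : jLin j (W₀.ι ''ᵁ V₂') (show Γ(L, W₀.ι ''ᵁ V₂') from ε₂') ∈
      𝒮L.deg (W₀.ι ''ᵁ V₂') hV₂ 1 := hj.2 (W₀.ι ''ᵁ V₂') hV₂ (show Γ(L, W₀.ι ''ᵁ V₂') from ε₂')
  have hbij := bijective_eval₂ hj (W₀.ι ''ᵁ V₂') hV₂ (show Γ(L, W₀.ι ''ᵁ V₂') from ε₂')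
    (bij_of_isGen W₀ hε₂')
  have hztop := GrPolyOne.basicOpen_z_eq_top (𝒮L.deg (W₀.ι ''ᵁ V₂') hV₂)
    (𝒮L.str.app (op (W₀.ι ''ᵁ V₂'))).hom (𝒮L.str_mem (W₀.ι ''ᵁ V₂') hV₂) hz1 hbij.2
  -- step 1: membership in the generating locus is membership in `D(c)`
  have e1 : x' ∈ CohB1.genLocus _ s ↔ x' ∈ (W₀ : Scheme.{u}).basicOpen c := by
    rw [← hs V₂' hV₂' ε₂' hε₂']
    exact ⟨fun h => ⟨h, hx₂⟩, fun h => h.1⟩
  -- step 2: pass to `X`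
  have e2 : x' ∈ (W₀ : Scheme.{u}).basicOpen c ↔
      pL (RelProj.emb pL chartL (W₀.ι ''ᵁ V₂') hV₂ y₂) ∈ X.basicOpen (show Γ(X, W₀.ι ''ᵁ V₂') from c) := by
    have him : W₀.ι ''ᵁ ((W₀ : Scheme.{u}).basicOpen c) = X.basicOpen (show Γ(X, W₀.ι ''ᵁ V₂') from c) := by
      rw [Scheme.image_basicOpen]
      simp only [Scheme.Opens.ι_appIso]
      rfl
    rw [hy₂, ← hx', ← him]
    constructor
    · intro h
      exact ⟨x', h, rfl⟩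
    · rintro ⟨z, hz, hzx⟩
      have : z = x' := W₀.ι.isOpenEmbedding.injective hzx
      rw [← this]
      exact hz
  -- step 3: chart points
  have e3 := emb_mem_basicOpen_iff hPL (W₀.ι ''ᵁ V₂') hV₂ (show Γ(X, W₀.ι ''ᵁ V₂') from c) y₂
  -- step 4: multiply by the generator
  have e4 : y₂ ∈ Proj.basicOpen (𝒮L.deg (W₀.ι ''ᵁ V₂') hV₂) ((𝒮L.str.app (op (W₀.ι ''ᵁ V₂'))).hom (show Γ(X, W₀.ι ''ᵁ V₂') from c)) ↔
      y₂ ∈ Proj.basicOpen (𝒮L.deg (W₀.ι ''ᵁ V₂') hV₂) (resA 𝒮L (image_le W₀ V₂') T) := by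
    rw [hspec, Proj.basicOpen_mul]
    have hzn : y₂ ∈ Proj.basicOpen (𝒮L.deg (W₀.ι ''ᵁ V₂') hV₂)
        ((jLin j (W₀.ι ''ᵁ V₂') (show Γ(L, W₀.ι ''ᵁ V₂') from ε₂')) ^ n) := by
      rw [Proj.mem_basicOpen]
      intro hmem
      have h1 := (y₂.isPrime).mem_of_pow_mem n hmem
      have h2 : y₂ ∈ Proj.basicOpen (𝒮L.deg (W₀.ι ''ᵁ V₂') hV₂) (jLin j (W₀.ι ''ᵁ V₂') (show Γ(L, W₀.ι ''ᵁ V₂') from ε₂')) := by
        rw [hztop]; trivial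
      exact (Proj.mem_basicOpen _ _ y₂).1 h2 h1
    exact ⟨fun h => ⟨h, hzn⟩, fun h => h.1⟩
  -- step 5: back to `V`
  have e5 : y₂ ∈ Proj.basicOpen (𝒮L.deg (W₀.ι ''ᵁ V₂') hV₂) (resA 𝒮L (image_le W₀ V₂') T) ↔
      y ∈ Proj.basicOpen (𝒮L.deg V hV) (resA 𝒮L hle T) := by
    have h2 : resA 𝒮L (image_le W₀ V₂') T = resA 𝒮L h21 (resA 𝒮L hle T) :=
      (resA_resA 𝒮L hle h21 T).symm
    rw [h2, hyy]
    exact Iff.rfl
  exact e1.trans (e2.trans (e3.trans (e4.trans e5)))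

end Groth.Agent.Lib.Helper35.RL
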