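import Groth.Agent.Lib.Helper35.RL4
import Groth.Agent.Lib.Helper74.QMapImmU2

/-!
# `r_{L,ψ}`: sections of `L^n` attached to homogeneous sections of the base algebra, local data
-/

set_option autoImplicit false
set_option linter.style.haveILetI false
universe u

open CategoryTheory CategoryTheory.Limits AlgebraicGeometry TopologicalSpace Opposite
open scoped HomogeneousIdeal
open HomogeneousLocalization

noncomputable section

namespace Groth.Agent.Lib.Helper35.RL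

open Groth.Agent.Lib.Helper74 Groth.Agent.Lib.Helper74.QMap Groth.Agent.Lib.Helper74.QMapImm
open Groth.Agent.Lib.Helper74.QMapImmU Groth.Agent.Lib.Helper74.InvSym
open Groth.Agent.Lib.Helper35.Gen

variable {Y X P PL : Scheme.{u}} {q : X ⟶ Y}
  {L : X.Modules} (hL : PicF.IsInvertible L) [hLq : L.IsQuasicoherent]
  {𝒮 : RelProj.QCGrAlg Y} {𝒮L : RelProj.QCGrAlg X} {j : L ⟶ 𝒮L.toModule}
  (hj : RelProj.IsGrSymAlg L 𝒮L j)
  (u : RelProj.QGrHom q 𝒮 𝒮L)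
  {p : P ⟶ Y} {chart : ∀ (U : Y.Opens) (hU : IsAffineOpen U),
    (((p ⁻¹ᵁ U : P.Opens) : Scheme.{u}) ≅ Proj (𝒮.deg U hU))}
  (hP : RelProj.IsRelProj 𝒮 p chart)
  {pL : PL ⟶ X} {chartL : ∀ (U : X.Opens) (hU : IsAffineOpen U),
    (((pL ⁻¹ᵁ U : PL.Opens) : Scheme.{u}) ≅ Proj (𝒮L.deg U hU))}
  (hPL : RelProj.IsRelProj 𝒮L pL chartL)
  (r : ((RelProj.domQ u pL chartL : PL.Opens) : Scheme.{u}) ⟶ P)
  (hr : RelProj.IsProjQMapOn u p chart pL chartL (RelProj.domQ u pL chartL) r)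
  (U : Y.Opens) (hU : IsAffineOpen U)

omit hLq in
/-- the image of a homogeneous section is homogeneous over every affine open -/
theorem app_mem {n : ℕ} {s : 𝒮.presheaf.obj (op U)} (hs : s ∈ 𝒮.deg U hU n)
    (V : X.Opens) (hV : IsAffineOpen V) (hle : V ≤ q ⁻¹ᵁ U) :
    resA 𝒮L hle ((u.app U).hom s) ∈ 𝒮L.deg V hV n :=
  (u.gradedAt U hU V hV hle).map_mem hs

include hL hj hP hPL hr in
/-- **the section of `L^n` over `q⁻¹(U)` attached to `s ∈ 𝒮(U)_n`**, with generating locus `X_t`,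
when `Proj(u)` is everywhere defined -/
theorem exists_sec_XTU (hdom : RelProj.domQ u pL chartL = ⊤) {n : ℕ} (hn : 0 < n)
    {s : 𝒮.presheaf.obj (op U)} (hs : s ∈ 𝒮.deg U hU n) :
    ∃ σ : Coh.structureModule ((q ⁻¹ᵁ U : X.Opens) : Scheme.{u}) ⟶
        CohB1.tensorPow (L.restrict (q ⁻¹ᵁ U).ι) n,
      CohB1.genLocus _ σ = (q ⁻¹ᵁ U).ι ⁻¹ᵁ XTU u U n s := by
  haveI : IsIso pL := isIso_pL hj hL hPL
  obtain ⟨σ, hσ⟩ := exists_sec hj (q ⁻¹ᵁ U) ((u.app U).hom s) (app_mem u U hU hs) hL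
  refine ⟨σ, ?_⟩
  ext x'
  -- the point of `PL` over `x'`
  set x : X := (q ⁻¹ᵁ U).ι x' with hx
  have hxU : x ∈ q ⁻¹ᵁ U := x'.2
  obtain ⟨w, hw⟩ : ∃ w, pL w = x :=
    ⟨(inv pL) x, by rw [← Scheme.Hom.comp_apply, IsIso.inv_hom_id]; rfl⟩
  have hwdom : w ∈ RelProj.domQ u pL chartL := by rw [hdom]; trivial
  obtain ⟨V₀, hV₀, hxV₀, hV₀le⟩ := exists_isAffineOpen_mem_and_subset (x := x) (U := q ⁻¹ᵁ U) hxU
  have hwV₀ : w ∈ pL ⁻¹ᵁ V₀ := by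
    change pL w ∈ V₀
    rw [hw]; exact hxV₀
  obtain ⟨y, hy⟩ := RelConeProj.exists_emb_eq (pC := pL) (chartC := chartL) V₀ hV₀ w hwV₀
  have hy' : RelProj.emb pL chartL V₀ hV₀ y ∈ RelProj.domQ u pL chartL := hy ▸ hwdom
  have hx'eq : (q ⁻¹ᵁ U).ι x' = pL (RelProj.emb pL chartL V₀ hV₀ y) := by
    rw [hy, hw]
  have e1 := mem_genLocus_iff hj (q ⁻¹ᵁ U) ((u.app U).hom s) (app_mem u U hU hs) hL hPL σ hσ
    V₀ hV₀ hV₀le y x' hx'eq
  have e2 := qmap_mem_range_stdChart_iff u hPL r hr U hU V₀ hV₀ hV₀le hn s hs y hy'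
  have e3 := mem_preimage_XTU_iff hL hj u hP hPL r hr U hU hn hs
    ⟨RelProj.emb pL chartL V₀ hV₀ y, hy'⟩
  have e4 : x' ∈ (q ⁻¹ᵁ U).ι ⁻¹ᵁ XTU u U n s ↔
      pL (RelProj.emb pL chartL V₀ hV₀ y) ∈ XTU u U n s := by
    change (q ⁻¹ᵁ U).ι x' ∈ XTU u U n s ↔ _
    rw [hx'eq]
  exact e1.trans (e2.symm.trans (e3.symm.trans e4.symm))

include hL hj hP hPL hr in
/-- local data over a FIXED affine open of the base, from an everywhere defined immersion -/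
theorem exists_local_data_at (hdom : RelProj.domQ u pL chartL = ⊤) [IsImmersion r] (x : X)
    (hxU : x ∈ q ⁻¹ᵁ U) :
    ∃ (n : ℕ) (s : 𝒮.presheaf.obj (op U)),
      (0 < n ∧ s ∈ 𝒮.deg U hU n) ∧ x ∈ XTU u U n s ∧ IsAffineOpen (XTU u U n s) := by
  have hfac : r.liftCoborder ≫ r.coborderRange.ι = r := r.liftCoborder_ι
  haveI : IsIso pL := isIso_pL hj hL hPL
  obtain ⟨pt, rfl⟩ : ∃ pt, pL pt = x :=
    ⟨(inv pL) x, by rw [← Scheme.Hom.comp_apply, IsIso.inv_hom_id]; rfl⟩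
  have hpt : pt ∈ RelProj.domQ u pL chartL := by rw [hdom]; trivial
  have hrw : r ⟨pt, hpt⟩ ∈ r.coborderRange := by
    have h1 : r ⟨pt, hpt⟩ = r.coborderRange.ι (r.liftCoborder ⟨pt, hpt⟩) := by
      rw [← Scheme.Hom.comp_apply, hfac]
    rw [h1]
    exact (r.liftCoborder ⟨pt, hpt⟩).2
  have hrU : r ⟨pt, hpt⟩ ∈ p ⁻¹ᵁ U := by
    have hc := isProjQMapOn_comp hP hPL r hr
    have h2 : p (r ⟨pt, hpt⟩) = q (pL pt) :=
      congrArg (fun ψ : ((RelProj.domQ u pL chartL : PL.Opens) : Scheme.{u}) ⟶ Y => ψ ⟨pt, hpt⟩) hc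
    change p (r ⟨pt, hpt⟩) ∈ U
    rw [h2]
    exact hxU
  obtain ⟨y₀, hy₀⟩ := RelConeProj.exists_emb_eq (pC := p) (chartC := chart) U hU _ hrU
  let O' : (Proj (𝒮.deg U hU)).Opens := RelProj.emb p chart U hU ⁻¹ᵁ r.coborderRange
  have hy₀O : y₀ ∈ O' := by
    change RelProj.emb p chart U hU y₀ ∈ r.coborderRange
    rw [hy₀]; exact hrw
  obtain ⟨n, hn, s, hs, hy₀s, hsO⟩ := exists_pos_homog_basicOpen_le (𝒮.deg U hU) O' y₀ hy₀O
  have hmem : r ⟨pt, hpt⟩ ∈ Set.range (stdChart p chart U hU hn s hs) := by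
    rw [range_stdChart]
    exact ⟨y₀, hy₀s, hy₀⟩
  have hW : Set.range (stdChart p chart U hU hn s hs) ⊆ Set.range r.coborderRange.ι := by
    rw [Scheme.Opens.range_ι, range_stdChart]
    rintro _ ⟨z, hz, rfl⟩
    exact hsO hz
  have hXT := isAffineOpen_XTU_of_lift hL hj u hP hPL r hr U hU hn hs
    r.coborderRange r.liftCoborder hfac hW
  refine ⟨n, s, ⟨hn, hs⟩, ?_, hXT⟩
  exact (mem_preimage_XTU_iff hL hj u hP hPL r hr U hU hn hs ⟨pt, hpt⟩).mpr hmem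

end Groth.Agent.Lib.Helper35.RL
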