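import Groth.Agent.Lib.Helper35.RL5
import Groth.Agent.Lib.Helper35.Ample4

/-!
# `r_{L,ψ}` everywhere defined and a topological embedding ⇒ `L` relatively ample
-/

set_option autoImplicit false
set_option linter.style.haveILetI false
universe u

open CategoryTheory CategoryTheory.Limits AlgebraicGeometry TopologicalSpace Opposite
open scoped HomogeneousIdeal
open HomogeneousLocalization

noncomputable section

namespace Groth.Agent.Lib.Helper35.RL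

open Groth.Agent.Lib.Helper74 Groth.Agent.Lib.Helper74.QMap Groth.Agent.Lib.Helper74.QMapImm
open Groth.Agent.Lib.Helper74.QMapImmU Groth.Agent.Lib.Helper74.InvSym
open Groth.Agent.Lib.Helper35.Gen

variable {Y X P PL : Scheme.{u}} {q : X ⟶ Y}
  {L : X.Modules} (hL : PicF.IsInvertible L) [hLq : L.IsQuasicoherent]
  {𝒮 : RelProj.QCGrAlg Y} {𝒮L : RelProj.QCGrAlg X} {j : L ⟶ 𝒮L.toModule}
  (hj : RelProj.IsGrSymAlg L 𝒮L j)
  (u : RelProj.QGrHom q 𝒮 𝒮L)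
  {p : P ⟶ Y} {chart : ∀ (U : Y.Opens) (hU : IsAffineOpen U),
    (((p ⁻¹ᵁ U : P.Opens) : Scheme.{u}) ≅ Proj (𝒮.deg U hU))}
  (hP : RelProj.IsRelProj 𝒮 p chart)
  {pL : PL ⟶ X} {chartL : ∀ (U : X.Opens) (hU : IsAffineOpen U),
    (((pL ⁻¹ᵁ U : PL.Opens) : Scheme.{u}) ≅ Proj (𝒮L.deg U hU))}
  (hPL : RelProj.IsRelProj 𝒮L pL chartL)
  (r : ((RelProj.domQ u pL chartL : PL.Opens) : Scheme.{u}) ⟶ P)
  (hr : RelProj.IsProjQMapOn u p chart pL chartL (RelProj.domQ u pL chartL) r)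
  (U : Y.Opens) (hU : IsAffineOpen U)

include hL hj hP hPL hr in
/-- a point of `G(u)` over `q⁻¹(U)` mapping into an open `O` of `P` lies in some `X_t`, `t` the image
of a homogeneous section over `U`, all of whose points map into `O` -/
theorem exists_XTU_le (O : P.Opens) (w : (RelProj.domQ u pL chartL : PL.Opens)) (hwO : r w ∈ O)
    (hxU : pL w.1 ∈ q ⁻¹ᵁ U) :
    ∃ (n : ℕ) (s : 𝒮.presheaf.obj (op U)), (0 < n ∧ s ∈ 𝒮.deg U hU n) ∧ pL w.1 ∈ XTU u U n s ∧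
      ∀ w₁ : (RelProj.domQ u pL chartL : PL.Opens), pL w₁.1 ∈ XTU u U n s → r w₁ ∈ O := by
  have hrU : r w ∈ p ⁻¹ᵁ U := by
    have hc := isProjQMapOn_comp hP hPL r hr
    have h2 : p (r w) = q (pL w.1) :=
      congrArg (fun ψ : ((RelProj.domQ u pL chartL : PL.Opens) : Scheme.{u}) ⟶ Y => ψ w) hc
    change p (r w) ∈ U
    rw [h2]
    exact hxU
  obtain ⟨y₀, hy₀⟩ := RelConeProj.exists_emb_eq (pC := p) (chartC := chart) U hU _ hrU
  let O' : (Proj (𝒮.deg U hU)).Opens := RelProj.emb p chart U hU ⁻¹ᵁ O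
  have hy₀O : y₀ ∈ O' := by
    change RelProj.emb p chart U hU y₀ ∈ O
    rw [hy₀]; exact hwO
  obtain ⟨n, hn, s, hs, hy₀s, hsO⟩ := exists_pos_homog_basicOpen_le (𝒮.deg U hU) O' y₀ hy₀O
  have hmem : r w ∈ Set.range (stdChart p chart U hU hn s hs) := by
    rw [range_stdChart]
    exact ⟨y₀, hy₀s, hy₀⟩
  refine ⟨n, s, ⟨hn, hs⟩, ?_, fun w₁ hw₁ => ?_⟩
  · exact (mem_preimage_XTU_iff hL hj u hP hPL r hr U hU hn hs w).mpr hmem
  · have h1 := (mem_preimage_XTU_iff hL hj u hP hPL r hr U hU hn hs w₁).mp hw₁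
    rw [range_stdChart] at h1
    obtain ⟨z, hz, hz'⟩ := h1
    rw [← hz']
    exact hsO hz

include hL hj hP hPL hr in
/-- **if `Proj(u)` is everywhere defined and a topological embedding then `L` is relatively ample** -/
theorem isRelAmple_of_isEmbedding [QuasiCompact q] (hdom : RelProj.domQ u pL chartL = ⊤)
    (hemb : Topology.IsEmbedding r.base) : RelAmple.IsRelAmple q L := by
  haveI : IsIso pL := isIso_pL hj hL hPL
  refine ⟨inferInstance, fun V => ?_⟩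
  obtain ⟨V, hV⟩ := V
  change CohB1.IsAmple (L.restrict (q ⁻¹ᵁ V).ι)
  haveI hcomp : CompactSpace ↥((q ⁻¹ᵁ V : X.Opens) : Scheme.{u}) :=
    isCompact_iff_compactSpace.mp (QuasiCompact.isCompact_preimage (f := q) _ V.2 hV.isCompact)
  apply Groth.Agent.Lib.Helper35.Ample.isAmple_of_isBasis
    (Groth.Agent.Lib.Helper35.ModRestrict.isInvertible_restrict _ L hL)
  rw [Opens.isBasis_iff_nbhd]
  intro W' x' hx'
  -- the open of `G(u)` over `W'`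
  let A : Set ((RelProj.domQ u pL chartL : PL.Opens) : Scheme.{u}) :=
    ((RelProj.domQ u pL chartL).ι ≫ pL).base ⁻¹' ((q ⁻¹ᵁ V).ι ''ᵁ W' : Set X)
  have hA : IsOpen A := ((q ⁻¹ᵁ V).ι ''ᵁ W').2.preimage
    ((RelProj.domQ u pL chartL).ι ≫ pL).base.hom.continuous
  obtain ⟨O, hO, hOA⟩ := hemb.toIsInducing.isOpen_iff.mp hA
  -- the point over `x'`
  obtain ⟨w, hw⟩ : ∃ w, pL w = (q ⁻¹ᵁ V).ι x' :=
    ⟨(inv pL) ((q ⁻¹ᵁ V).ι x'), by rw [← Scheme.Hom.comp_apply, IsIso.inv_hom_id]; rfl⟩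
  have hwdom : w ∈ RelProj.domQ u pL chartL := by rw [hdom]; trivial
  have hwA : (⟨w, hwdom⟩ : (RelProj.domQ u pL chartL : PL.Opens)) ∈ A := by
    change pL w ∈ ((q ⁻¹ᵁ V).ι ''ᵁ W' : Set X)
    rw [hw]
    exact ⟨x', hx', rfl⟩
  have hwO : r ⟨w, hwdom⟩ ∈ (⟨O, hO⟩ : P.Opens) := by
    rw [← hOA] at hwA
    exact hwA
  have hxV : pL (⟨w, hwdom⟩ : (RelProj.domQ u pL chartL : PL.Opens)).1 ∈ q ⁻¹ᵁ V := by
    change pL w ∈ q ⁻¹ᵁ V
    rw [hw]; exact x'.2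
  obtain ⟨n, s, ⟨hn, hs⟩, hx, hle⟩ := exists_XTU_le hL hj u hP hPL r hr V hV ⟨O, hO⟩
    ⟨w, hwdom⟩ hwO hxV
  obtain ⟨m, rfl⟩ : ∃ m, n = m + 1 := ⟨n - 1, by omega⟩
  obtain ⟨σ, hσ⟩ := exists_sec_XTU hL hj u hP hPL r hr V hV hdom hn hs
  refine ⟨_, ⟨m, σ, rfl⟩, ?_, ?_⟩
  · rw [hσ]
    change (q ⁻¹ᵁ V).ι x' ∈ XTU u V (m + 1) s
    rw [← hw]
    exact hx
  · rw [hσ]
    intro z' hz'
    have hz : (q ⁻¹ᵁ V).ι z' ∈ XTU u V (m + 1) s := hz'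
    obtain ⟨w₁, hw₁⟩ : ∃ w₁, pL w₁ = (q ⁻¹ᵁ V).ι z' :=
      ⟨(inv pL) ((q ⁻¹ᵁ V).ι z'), by rw [← Scheme.Hom.comp_apply, IsIso.inv_hom_id]; rfl⟩
    have hw₁dom : w₁ ∈ RelProj.domQ u pL chartL := by rw [hdom]; trivial
    have h1 : r ⟨w₁, hw₁dom⟩ ∈ (⟨O, hO⟩ : P.Opens) := hle ⟨w₁, hw₁dom⟩ (by
      change pL w₁ ∈ XTU u V (m + 1) s
      rw [hw₁]; exact hz)
    have h2 : (⟨w₁, hw₁dom⟩ : (RelProj.domQ u pL chartL : PL.Opens)) ∈ A := by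
      rw [← hOA]
      exact h1
    have h3 : pL w₁ ∈ ((q ⁻¹ᵁ V).ι ''ᵁ W' : Set X) := h2
    rw [hw₁] at h3
    obtain ⟨z'', hz'', hzz⟩ := h3
    have : z'' = z' := (q ⁻¹ᵁ V).ι.isOpenEmbedding.injective hzz
    rw [← this]
    exact hz''

end Groth.Agent.Lib.Helper35.RL
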