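import Groth.Agent.Lib.Helper35.RL7

/-!
# From sections of `(L|W₀)^n` to homogeneous sections of `Sym L` over `W₀`
-/

set_option autoImplicit false
universe u

open CategoryTheory CategoryTheory.Limits AlgebraicGeometry TopologicalSpace Opposite

namespace Groth.Agent.Lib.Helper35.RL

open RelSpec Groth.Agent.Lib.Helper74 Groth.Agent.Lib.Helper74.SymQ Groth.Agent.Lib.Helper74.InvSym
open Groth.Agent.Lib.Helper35.Gen Groth.Agent.Lib.Helper35.GlobGen Groth.Agent.Lib.Helper35.NS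

variable {X : Scheme.{u}} {L : X.Modules} {𝒮L : RelProj.QCGrAlg X}
  {j : L ⟶ 𝒮L.toModule} (W₀ : X.Opens) {n : ℕ}
  (σ : Coh.structureModule (W₀ : Scheme.{u}) ⟶ CohB1.tensorPow (L.restrict W₀.ι) n)

/-- the coefficient of `σ` with respect to a generator -/
noncomputable def csec (V' : (W₀ : Scheme.{u}).Opens) (ε' : Γ(L.restrict W₀.ι, V'))
    (hε' : IsGen (L.restrict W₀.ι) V' ε') : Γ((W₀ : Scheme.{u}), V') :=
  ((hε'.gpow n).exists_eq_smul (SecTwist.val σ V')).choose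

theorem csec_spec (V' : (W₀ : Scheme.{u}).Opens) (ε' : Γ(L.restrict W₀.ι, V'))
    (hε' : IsGen (L.restrict W₀.ι) V' ε') :
    SecTwist.val σ V' = csec W₀ σ V' ε' hε' • gpow ε' n :=
  ((hε'.gpow n).exists_eq_smul (SecTwist.val σ V')).choose_spec

theorem csec_eq_of_eq (V' : (W₀ : Scheme.{u}).Opens) (ε' : Γ(L.restrict W₀.ι, V'))
    (hε' : IsGen (L.restrict W₀.ι) V' ε') (c : Γ((W₀ : Scheme.{u}), V'))
    (h : SecTwist.val σ V' = c • gpow ε' n) : csec W₀ σ V' ε' hε' = c :=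
  (hε'.gpow n).smul_injective ((csec_spec W₀ σ V' ε' hε').symm.trans h)

theorem csec_res {V' V'' : (W₀ : Scheme.{u}).Opens} (h : V'' ≤ V')
    (ε' : Γ(L.restrict W₀.ι, V')) (hε' : IsGen (L.restrict W₀.ι) V' ε') :
    csec W₀ σ V'' (rs (L.restrict W₀.ι) h ε') (hε'.mono h) =
      rr (W₀ : Scheme.{u}) h (csec W₀ σ V' ε' hε') := by
  apply csec_eq_of_eq
  rw [← rs_val σ h, csec_spec W₀ σ V' ε' hε', rs_smul, rs_gpow]

theorem csec_unit (V' : (W₀ : Scheme.{u}).Opens) (ε' : Γ(L.restrict W₀.ι, V'))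
    (hε' : IsGen (L.restrict W₀.ι) V' ε') (w : Γ((W₀ : Scheme.{u}), V'))
    (hε'' : IsGen (L.restrict W₀.ι) V' (w • ε')) :
    w ^ n * csec W₀ σ V' (w • ε') hε'' = csec W₀ σ V' ε' hε' := by
  symm
  apply csec_eq_of_eq
  rw [csec_spec W₀ σ V' (w • ε') hε'', gpow_smul, ← mul_smul, mul_comm]

/-- the local element of `Sym L` attached to `σ` and a generator -/
noncomputable def elt (V' : (W₀ : Scheme.{u}).Opens) (ε' : Γ(L.restrict W₀.ι, V'))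
    (hε' : IsGen (L.restrict W₀.ι) V' ε') : 𝒮L.presheaf.obj (op (W₀.ι ''ᵁ V')) :=
  (𝒮L.str.app (op (W₀.ι ''ᵁ V'))).hom (show Γ(X, W₀.ι ''ᵁ V') from csec W₀ σ V' ε' hε') *
    (jLin j (W₀.ι ''ᵁ V') (show Γ(L, W₀.ι ''ᵁ V') from ε')) ^ n

theorem elt_res {V' V'' : (W₀ : Scheme.{u}).Opens} (h : V'' ≤ V')
    (ε' : Γ(L.restrict W₀.ι, V')) (hε' : IsGen (L.restrict W₀.ι) V' ε') :
    resA 𝒮L (Scheme.Hom.image_mono W₀.ι h) (elt (j := j) W₀ σ V' ε' hε') =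
      elt (j := j) W₀ σ V'' (rs (L.restrict W₀.ι) h ε') (hε'.mono h) := by
  have him : W₀.ι ''ᵁ V'' ≤ W₀.ι ''ᵁ V' := Scheme.Hom.image_mono _ h
  unfold elt
  rw [map_mul, map_pow, csec_res W₀ σ h ε' hε']
  congr 1
  · exact str_res 𝒮L.toQCAlg him _
  · congr 1
    exact (jLin_res j him (show Γ(L, W₀.ι ''ᵁ V') from ε')).symm

theorem elt_unit (V' : (W₀ : Scheme.{u}).Opens) (ε' : Γ(L.restrict W₀.ι, V'))
    (hε' : IsGen (L.restrict W₀.ι) V' ε') (w : Γ((W₀ : Scheme.{u}), V'))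
    (hε'' : IsGen (L.restrict W₀.ι) V' (w • ε')) :
    elt (j := j) W₀ σ V' (w • ε') hε'' = elt (j := j) W₀ σ V' ε' hε' := by
  have h3 : (show Γ(L, W₀.ι ''ᵁ V') from (w • ε' : Γ(L.restrict W₀.ι, V'))) =
      (show Γ(X, W₀.ι ''ᵁ V') from w) • (show Γ(L, W₀.ι ''ᵁ V') from ε') :=
    Groth.Agent.Lib.Lead.Inv.restrict_smul W₀ V' w ε'
  have h2 : jLin j (W₀.ι ''ᵁ V') (show Γ(L, W₀.ι ''ᵁ V') from (w • ε' : Γ(L.restrict W₀.ι, V'))) =
      (𝒮L.str.app (op (W₀.ι ''ᵁ V'))).hom (show Γ(X, W₀.ι ''ᵁ V') from w) *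
        jLin j (W₀.ι ''ᵁ V') (show Γ(L, W₀.ι ''ᵁ V') from ε') := by
    rw [h3, map_smul, Algebra.smul_def]
    rfl
  unfold elt
  rw [h2, mul_pow, ← map_pow, ← mul_assoc, ← map_mul, ← csec_unit W₀ σ V' ε' hε' w hε'']
  congr 2
  exact mul_comm _ _

/-- **the homogeneous section of `Sym L` over `W₀` attached to a section of `(L|W₀)^n`** -/
theorem exists_elt (hL : PicF.IsInvertible L) :
    ∃ T : 𝒮L.presheaf.obj (op W₀), ∀ (V' : (W₀ : Scheme.{u}).Opens) (_ : IsAffineOpen V')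
      (ε' : Γ(L.restrict W₀.ι, V')) (hε' : IsGen (L.restrict W₀.ι) V' ε'),
      resA 𝒮L (image_le W₀ V') T = elt (j := j) W₀ σ V' ε' hε' := by
  have hL' : PicF.IsInvertible (L.restrict W₀.ι) :=
    Groth.Agent.Lib.Helper35.ModRestrict.isInvertible_restrict W₀.ι L hL
  let ι : Type u := Σ V' : (W₀ : Scheme.{u}).Opens,
    {ε' : Γ(L.restrict W₀.ι, V') // IsAffineOpen V' ∧ IsGen (L.restrict W₀.ι) V' ε'}
  let U : ι → X.Opens := fun i => W₀.ι ''ᵁ i.1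
  let sf : ∀ i : ι, 𝒮L.presheaf.obj (op (U i)) := fun i => elt (j := j) W₀ σ i.1 i.2.1 i.2.2.2
  have hcover : W₀ ≤ iSup U := by
    intro x hx
    obtain ⟨V', hV', ε', hxV', hε'⟩ := exists_affine_generator hL' (⟨x, hx⟩ : (W₀ : Scheme.{u}))
    exact Opens.mem_iSup.mpr ⟨⟨V', ε', hV', hε'⟩, ⟨⟨x, hx⟩, hxV', rfl⟩⟩
  have hcomp : TopCat.Presheaf.IsCompatible 𝒮L.presheaf U sf := by
    intro i k
    refine TopCat.Sheaf.eq_of_locally_eq'
      (⟨𝒮L.presheaf, 𝒮L.isSheaf⟩ : TopCat.Sheaf CommRingCat.{u} X)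
      (fun W' : {W' : (W₀ : Scheme.{u}).Opens // IsAffineOpen W' ∧ W' ≤ i.1 ⊓ k.1} => W₀.ι ''ᵁ W'.1)
      (U i ⊓ U k)
      (fun W' => homOfLE (le_inf (Scheme.Hom.image_mono _ (W'.2.2.trans inf_le_left))
        (Scheme.Hom.image_mono _ (W'.2.2.trans inf_le_right)))) ?_ _ _ (fun W' => ?_)
    · rintro x ⟨⟨xi, hxi, rfl⟩, ⟨xk, hxk, hxe⟩⟩
      have hxx : xk = xi := W₀.ι.isOpenEmbedding.injective hxe
      subst hxx
      obtain ⟨W', hW', hxW', hW'le⟩ := exists_isAffineOpen_mem_and_subset (x := xk)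
        (U := i.1 ⊓ k.1) ⟨hxi, hxk⟩
      exact Opens.mem_iSup.mpr ⟨⟨W', hW', hW'le⟩, ⟨xk, hxW', rfl⟩⟩
    · obtain ⟨W', hW', hW'le⟩ := W'
      have hWi : W' ≤ i.1 := hW'le.trans inf_le_left
      have hWk : W' ≤ k.1 := hW'le.trans inf_le_right
      have e1 : resA 𝒮L (Scheme.Hom.image_mono W₀.ι hWi) (sf i) =
          elt (j := j) W₀ σ W' (rs (L.restrict W₀.ι) hWi i.2.1) (i.2.2.2.mono hWi) :=
        elt_res W₀ σ hWi i.2.1 i.2.2.2
      have e2 : resA 𝒮L (Scheme.Hom.image_mono W₀.ι hWk) (sf k) =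
          elt (j := j) W₀ σ W' (rs (L.restrict W₀.ι) hWk k.2.1) (k.2.2.2.mono hWk) :=
        elt_res W₀ σ hWk k.2.1 k.2.2.2
      obtain ⟨w, -, hw⟩ := exists_unit_smul (i.2.2.2.mono hWi) (k.2.2.2.mono hWk)
      have e3 : elt (j := j) W₀ σ W' (rs (L.restrict W₀.ι) hWk k.2.1) (k.2.2.2.mono hWk) =
          elt (j := j) W₀ σ W' (rs (L.restrict W₀.ι) hWi i.2.1) (i.2.2.2.mono hWi) := by
        have hgen : IsGen (L.restrict W₀.ι) W' (w • rs (L.restrict W₀.ι) hWi i.2.1) :=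
          hw ▸ k.2.2.2.mono hWk
        have := elt_unit (j := j) W₀ σ W' (rs (L.restrict W₀.ι) hWi i.2.1) (i.2.2.2.mono hWi) w hgen
        rw [← this]
        congr 1
      change resA 𝒮L _ (resA 𝒮L _ (sf i)) = resA 𝒮L _ (resA 𝒮L _ (sf k))
      rw [resA_resA, resA_resA]
      exact e1.trans (e3.symm.trans e2.symm)
  obtain ⟨T, hT, -⟩ := TopCat.Sheaf.existsUnique_gluing'
    (⟨𝒮L.presheaf, 𝒮L.isSheaf⟩ : TopCat.Sheaf CommRingCat.{u} X) U W₀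
    (fun i => homOfLE (image_le W₀ i.1)) hcover sf hcomp
  refine ⟨T, fun V' hV' ε' hε' => ?_⟩
  exact hT ⟨V', ε', hV', hε'⟩

end Groth.Agent.Lib.Helper35.RL
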