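import Groth.Agent.Lib.Helper35.RL8

/-!
# `X_t` as a generating locus without assuming `Proj(u)` everywhere defined; homogeneity by injectivity
-/

set_option autoImplicit false
set_option linter.style.haveILetI false
universe u

open CategoryTheory CategoryTheory.Limits AlgebraicGeometry TopologicalSpace Opposite
open scoped HomogeneousIdeal
open HomogeneousLocalization

noncomputable section

namespace Groth.Agent.Lib.Helper35.RL

open Groth.Agent.Lib.Helper74 Groth.Agent.Lib.Helper74.QMap Groth.Agent.Lib.Helper74.QMapImm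
open Groth.Agent.Lib.Helper74.QMapImmU Groth.Agent.Lib.Helper74.InvSym
open Groth.Agent.Lib.Helper35.Gen

variable {Y X P PL : Scheme.{u}} {q : X ⟶ Y}
  {L : X.Modules} (hL : PicF.IsInvertible L) [hLq : L.IsQuasicoherent]
  {𝒮 : RelProj.QCGrAlg Y} {𝒮L : RelProj.QCGrAlg X} {j : L ⟶ 𝒮L.toModule}
  (hj : RelProj.IsGrSymAlg L 𝒮L j)
  (u : RelProj.QGrHom q 𝒮 𝒮L)
  {p : P ⟶ Y} {chart : ∀ (U : Y.Opens) (hU : IsAffineOpen U),
    (((p ⁻¹ᵁ U : P.Opens) : Scheme.{u}) ≅ Proj (𝒮.deg U hU))}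
  (hP : RelProj.IsRelProj 𝒮 p chart)
  {pL : PL ⟶ X} {chartL : ∀ (U : X.Opens) (hU : IsAffineOpen U),
    (((pL ⁻¹ᵁ U : PL.Opens) : Scheme.{u}) ≅ Proj (𝒮L.deg U hU))}
  (hPL : RelProj.IsRelProj 𝒮L pL chartL)
  (r : ((RelProj.domQ u pL chartL : PL.Opens) : Scheme.{u}) ⟶ P)
  (hr : RelProj.IsProjQMapOn u p chart pL chartL (RelProj.domQ u pL chartL) r)
  (U : Y.Opens) (hU : IsAffineOpen U)

include hL hj hP hPL hr in
/-- any section with the coefficients of `u(s)` has generating locus `X_t` (no hypothesis on `G(u)`) -/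
theorem genLocus_eq_XTU {n : ℕ} (hn : 0 < n)
    {s : 𝒮.presheaf.obj (op U)} (hs : s ∈ 𝒮.deg U hU n)
    (σ : Coh.structureModule ((q ⁻¹ᵁ U : X.Opens) : Scheme.{u}) ⟶
        CohB1.tensorPow (L.restrict (q ⁻¹ᵁ U).ι) n)
    (hσ : ∀ (V' : ((q ⁻¹ᵁ U : X.Opens) : Scheme.{u}).Opens) (hV' : IsAffineOpen V')
        (ε' : Γ(L.restrict (q ⁻¹ᵁ U).ι, V')) (hε' : IsGen (L.restrict (q ⁻¹ᵁ U).ι) V' ε'),
        CohB1.genLocus _ σ ⊓ V' = ((q ⁻¹ᵁ U : X.Opens) : Scheme.{u}).basicOpen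
          (coeffR hj (q ⁻¹ᵁ U) ((u.app U).hom s) (app_mem u U hU hs) V' hV' ε' hε')) :
    CohB1.genLocus _ σ = (q ⁻¹ᵁ U).ι ⁻¹ᵁ XTU u U n s := by
  haveI : IsIso pL := isIso_pL hj hL hPL
  ext x'
  set x : X := (q ⁻¹ᵁ U).ι x' with hx
  have hxU : x ∈ q ⁻¹ᵁ U := x'.2
  obtain ⟨w, hw⟩ : ∃ w, pL w = x :=
    ⟨(inv pL) x, by rw [← Scheme.Hom.comp_apply, IsIso.inv_hom_id]; rfl⟩
  obtain ⟨V₀, hV₀, hxV₀, hV₀le⟩ := exists_isAffineOpen_mem_and_subset (x := x) (U := q ⁻¹ᵁ U) hxU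
  have hwV₀ : w ∈ pL ⁻¹ᵁ V₀ := by
    change pL w ∈ V₀
    rw [hw]; exact hxV₀
  obtain ⟨y, hy⟩ := RelConeProj.exists_emb_eq (pC := pL) (chartC := chartL) V₀ hV₀ w hwV₀
  have hx'eq : (q ⁻¹ᵁ U).ι x' = pL (RelProj.emb pL chartL V₀ hV₀ y) := by
    rw [hy, hw]
  have e1 := mem_genLocus_iff hj (q ⁻¹ᵁ U) ((u.app U).hom s) (app_mem u U hU hs) hL hPL σ hσ
    V₀ hV₀ hV₀le y x' hx'eq
  have e4 : x' ∈ (q ⁻¹ᵁ U).ι ⁻¹ᵁ XTU u U n s ↔
      pL (RelProj.emb pL chartL V₀ hV₀ y) ∈ XTU u U n s := by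
    change (q ⁻¹ᵁ U).ι x' ∈ XTU u U n s ↔ _
    rw [hx'eq]
  have key : ∀ hy' : RelProj.emb pL chartL V₀ hV₀ y ∈ RelProj.domQ u pL chartL,
      (x' ∈ CohB1.genLocus _ σ ↔ x' ∈ (q ⁻¹ᵁ U).ι ⁻¹ᵁ XTU u U n s) := by
    intro hy'
    have e2 := qmap_mem_range_stdChart_iff u hPL r hr U hU V₀ hV₀ hV₀le hn s hs y hy'
    have e3 := mem_preimage_XTU_iff hL hj u hP hPL r hr U hU hn hs
      ⟨RelProj.emb pL chartL V₀ hV₀ y, hy'⟩
    exact e1.trans (e2.symm.trans (e3.symm.trans e4.symm))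
  constructor
  · intro h
    have h1 := e1.mp h
    have hy' : RelProj.emb pL chartL V₀ hV₀ y ∈ RelProj.domQ u pL chartL :=
      (emb_mem_domQ_iff u hPL U hU V₀ hV₀ hV₀le y).mpr
        ((mem_domOpen_iff_homog _ y).mpr ⟨n, hn, s, hs, h1⟩)
    exact (key hy').mp h
  · intro h
    have h1 := e4.mp h
    have hy' : RelProj.emb pL chartL V₀ hV₀ y ∈ RelProj.domQ u pL chartL :=
      preimage_XTU_le_domQ hL hj u hP hPL r hr U hU hn hs h1
    exact (key hy').mpr h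

include hL hj hP hPL hr in
/-- the section of `L^n` over `q⁻¹(U)` attached to `s ∈ 𝒮(U)_n`, with its coefficients -/
theorem exists_sec_XTU' {n : ℕ} (hn : 0 < n)
    {s : 𝒮.presheaf.obj (op U)} (hs : s ∈ 𝒮.deg U hU n) :
    ∃ σ : Coh.structureModule ((q ⁻¹ᵁ U : X.Opens) : Scheme.{u}) ⟶
        CohB1.tensorPow (L.restrict (q ⁻¹ᵁ U).ι) n,
      CohB1.genLocus _ σ = (q ⁻¹ᵁ U).ι ⁻¹ᵁ XTU u U n s ∧
      ∀ (V' : ((q ⁻¹ᵁ U : X.Opens) : Scheme.{u}).Opens) (hV' : IsAffineOpen V')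
        (ε' : Γ(L.restrict (q ⁻¹ᵁ U).ι, V')) (hε' : IsGen (L.restrict (q ⁻¹ᵁ U).ι) V' ε'),
        CohB1.genLocus _ σ ⊓ V' = ((q ⁻¹ᵁ U : X.Opens) : Scheme.{u}).basicOpen
          (coeffR hj (q ⁻¹ᵁ U) ((u.app U).hom s) (app_mem u U hU hs) V' hV' ε' hε') := by
  obtain ⟨σ, hσ⟩ := exists_sec hj (q ⁻¹ᵁ U) ((u.app U).hom s) (app_mem u U hU hs) hL
  exact ⟨σ, genLocus_eq_XTU hL hj u hP hPL r hr U hU hn hs σ hσ, hσ⟩

omit hLq in
/-- an element of the base algebra whose images over an affine cover of `q⁻¹(U)` are homogeneous of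
degree `n` is homogeneous of degree `n`, when `u` is injective over `U` -/
theorem mem_deg_of_forall (hinj : Function.Injective (u.app U).hom) (a : 𝒮.presheaf.obj (op U))
    (n : ℕ)
    (h : ∀ x ∈ q ⁻¹ᵁ U, ∃ (V : X.Opens) (hV : IsAffineOpen V) (hle : V ≤ q ⁻¹ᵁ U), x ∈ V ∧
      (u.appLE U V hle).hom a ∈ 𝒮L.deg V hV n) : a ∈ 𝒮.deg U hU n := by
  classical
  have key : ∀ k, k ≠ n → (DirectSum.decompose (𝒮.deg U hU) a k : 𝒮.presheaf.obj (op U)) = 0 := by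
    intro k hk
    apply hinj
    rw [map_zero]
    apply eq_zero_of_cover
    intro x hx
    obtain ⟨V, hV, hle, hxV, hmem⟩ := h x hx
    refine ⟨V, hle, hxV, ?_⟩
    have h1 : resA 𝒮L hle ((u.app U).hom
        (DirectSum.decompose (𝒮.deg U hU) a k : 𝒮.presheaf.obj (op U))) =
        (u.gradedAt U hU V hV hle) (DirectSum.decompose (𝒮.deg U hU) a k) := rfl
    rw [h1, GradedRingHom.map_directSumDecompose]
    exact DirectSum.decompose_of_mem_ne _ hmem (Ne.symm hk)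
  rw [← DirectSum.sum_support_decompose (𝒮.deg U hU) a]
  refine sum_mem fun k _ => ?_
  by_cases hk : k = n
  · subst hk
    exact SetLike.coe_mem _
  · rw [key k hk]
    exact zero_mem _

omit hLq in
/-- a section of `𝒮L` over an affine open vanishing on `D(c)` is killed by a power of `c` -/
theorem exists_pow_mul_eq_zero (V : X.Opens) (hV : IsAffineOpen V) (c : Γ(X, V))
    (x : 𝒮L.presheaf.obj (op V)) (hx : resA 𝒮L (X.basicOpen_le c) x = 0) :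
    ∃ k : ℕ, (𝒮L.str.app (op V)).hom c ^ k * x = 0 := by
  letI := (𝒮L.presheaf.map (homOfLE (X.basicOpen_le c)).op).hom.toAlgebra
  haveI : IsLocalization.Away ((𝒮L.str.app (op V)).hom c)
      (𝒮L.presheaf.obj (op (X.basicOpen c))) := 𝒮L.isQC V hV c
  have h1 : algebraMap (𝒮L.presheaf.obj (op V)) (𝒮L.presheaf.obj (op (X.basicOpen c))) x = 0 := hx
  obtain ⟨⟨_, k, rfl⟩, hk⟩ := (IsLocalization.map_eq_zero_iff
    (Submonoid.powers ((𝒮L.str.app (op V)).hom c)) _ x).mp h1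
  exact ⟨k, hk⟩

include hj in
/-- over a trivialising affine open where `u(s) = c · j(e)^n`, the open `D(c)` lies in `X_t` -/
theorem basicOpen_le_XTU {n : ℕ} (s : 𝒮.presheaf.obj (op U))
    (V : X.Opens) (hV : IsAffineOpen V) (hle : V ≤ q ⁻¹ᵁ U) (e : Γ(L, V)) (he : IsGen L V e)
    (c : Γ(X, V))
    (hc : (u.appLE U V hle).hom s = (𝒮L.str.app (op V)).hom c * (SymQ.jLin j V e) ^ n) :
    X.basicOpen c ≤ XTU u U n s := by
  set V' := X.basicOpen c with hV'def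
  have hV' : IsAffineOpen V' := hV.basicOpen c
  have hle' : V' ≤ V := X.basicOpen_le c
  have he' : IsGen L V' (rs L hle' e) := he.mono hle'
  have hbij' := bijective_eval₂ hj V' hV' (rs L hle' e) he'.bij
  have hT' := hj.2 V' hV' (rs L hle' e)
  have hTres : SymQ.jLin j V' (rs L hle' e) = resA 𝒮L hle' (SymQ.jLin j V e) :=
    SymQ.jLin_res j hle' e
  have hau : IsUnit (SymQ.resR hle' c) := RingedSpace.isUnit_res_basicOpen _ c
  obtain ⟨a', ha'⟩ := hau.exists_right_inv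
  have htres : (u.appLE U V' (hle'.trans hle)).hom s =
      (𝒮L.str.app (op V')).hom (SymQ.resR hle' c) * SymQ.jLin j V' (rs L hle' e) ^ n := by
    have h0 : (u.appLE U V' (hle'.trans hle)).hom s = resA 𝒮L hle' ((u.appLE U V hle).hom s) :=
      congrArg (fun ψ => ψ.hom s) (u.appLE_map hle hle').symm
    rw [h0, hc, map_mul, map_pow, hTres]
    congr 1
    exact SymQ.str_res 𝒮L.toQCAlg hle' c
  refine le_iSup_of_le ⟨⟨V', hV'⟩, hle'.trans hle, ?_⟩ le_rfl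
  intro b hb
  obtain ⟨c', rfl⟩ := GrPolyOne.exists_eq_mul_pow (𝒮L.deg V' hV') (𝒮L.str.app (op V')).hom
    (𝒮L.str_mem V' hV') hT' hbij'.2 hb
  rw [SetLike.mem_coe, Ideal.mem_span_singleton']
  refine ⟨(𝒮L.str.app (op V')).hom (c' * a'), ?_⟩
  erw [htres]
  change (𝒮L.str.app (op V')).hom (c' * a') * ((𝒮L.str.app (op V')).hom (SymQ.resR hle' c) *
    SymQ.jLin j V' (rs L hle' e) ^ n) = (𝒮L.str.app (op V')).hom c' * SymQ.jLin j V' (rs L hle' e) ^ n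
  rw [← mul_assoc, ← map_mul, mul_assoc c', mul_comm a', ha', mul_one]

end Groth.Agent.Lib.Helper35.RL
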