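import Groth.Agent.Lib.Helper74.RelTwistLocus
import Groth.Agent.Lib.Helper35.ProjAmple

/-!
# Ampleness of `O(1)` (`GrTwist.twist 𝒜 1`) on finite unions of `D₊(a)`, `deg a = 1`
-/

set_option autoImplicit false
universe u

open AlgebraicGeometry CategoryTheory Opposite TopologicalSpace Limits

namespace Groth.Agent.Lib.Helper35.RVA

open Groth.Agent.Lib.Lead.Inv Groth.Agent.Lib.Helper74.TwistNat Groth.Agent.Lib.Helper74.TwistGen
open Groth.Agent.Lib.Helper60.TensorRestrict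

variable {A σ : Type u} [CommRing A] [SetLike σ A] [AddSubgroupClass σ A] (𝒜 : ℕ → σ) [GradedRing 𝒜]

/-- the global section `a / 1` of `O(1)` -/
noncomputable def glob (a : A) (ha : a ∈ 𝒜 1) : Γ(GrTwist.twist 𝒜 1, ⊤) :=
  fracSec 𝒜 a ha 1 SetLike.GradedOne.one_mem (by simp) ⊤ (fun y _ => GrMod.one_nin y)

/-- the morphism `O ⟶ O(1)` attached to `a` of degree one -/
noncomputable def globHom (a : A) (ha : a ∈ 𝒜 1) :
    Coh.structureModule (Proj 𝒜) ⟶ GrTwist.twist 𝒜 1 :=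
  Groth.Agent.Lib.Helper35.GlobGen.secHom _ (glob 𝒜 a ha)

theorem val_globHom (a : A) (ha : a ∈ 𝒜 1) (W : (Proj 𝒜).Opens) :
    val (globHom 𝒜 a ha) W =
      fracSec 𝒜 a ha 1 SetLike.GradedOne.one_mem (by simp) W (fun y _ => GrMod.one_nin y) := by
  refine sec_ext 𝒜 1 _ _ fun y => ?_
  rw [val, globHom, Groth.Agent.Lib.Helper35.GlobGen.secHom_app_one]
  rfl

theorem basicOpen_le_genLocus (a : A) (ha : a ∈ 𝒜 1) :
    Proj.basicOpen 𝒜 a ≤ CohB1.genLocus _ (globHom 𝒜 a ha) := by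
  rw [le_genLocus_iff_isGen, val_globHom]
  exact Groth.Agent.Lib.Helper74.TwistNat.isGen_fracSec 𝒜 a ha 1 _ _ _ _ (fun y hy => (Proj.mem_basicOpen 𝒜 a y).1 hy)

theorem genLocus_inf_le (a : A) (ha : a ∈ 𝒜 1) (t : A) (ht : t ∈ 𝒜 1) :
    CohB1.genLocus _ (globHom 𝒜 a ha) ⊓ Proj.basicOpen 𝒜 t ≤ Proj.basicOpen 𝒜 a := by
  intro y hy
  set W : (Proj 𝒜).Opens := CohB1.genLocus _ (globHom 𝒜 a ha) ⊓ Proj.basicOpen 𝒜 t with hW
  have hgl : IsGen (GrTwist.twist 𝒜 1) W (val (globHom 𝒜 a ha) W) :=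
    (le_genLocus_iff_isGen _ W).1 inf_le_left
  have htW : ∀ z ∈ W, t ∉ z.asHomogeneousIdeal := fun z hz => (Proj.mem_basicOpen 𝒜 t z).1 hz.2
  obtain ⟨c, hc⟩ := (hgl W le_rfl).2
    (fracSec 𝒜 t ht 1 SetLike.GradedOne.one_mem (by simp) W (fun z _ => GrMod.one_nin z))
  have h2 := congrArg (fun s => GrTwist.val s ⟨y, hy⟩) hc
  simp only at h2
  rw [smul_val, res_val, val_globHom, fracSec_val, fracSec_val] at h2
  have hu : IsUnit (Localization.mk t (⟨1, GrMod.one_nin y⟩ :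
      y.asHomogeneousIdeal.toIdeal.primeCompl) : GrTwist.Loc 𝒜 y) :=
    (isUnit_mk_iff y _ _).2 (htW y hy)
  rw [← h2] at hu
  exact (Proj.mem_basicOpen 𝒜 a y).2 ((isUnit_mk_iff y _ _).1 (isUnit_of_mul_isUnit_right hu))

theorem genLocus_globHom (hgen : Subring.closure ((𝒜 0 : Set A) ∪ (𝒜 1 : Set A)) = ⊤)
    (a : A) (ha : a ∈ 𝒜 1) :
    CohB1.genLocus _ (globHom 𝒜 a ha) = Proj.basicOpen 𝒜 a := by
  apply le_antisymm
  · intro y hy
    obtain ⟨t, ht, hty⟩ := exists_deg_one_notMem hgen y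
    exact genLocus_inf_le 𝒜 a ha t ht ⟨hy, (Proj.mem_basicOpen 𝒜 t y).2 hty⟩
  · exact basicOpen_le_genLocus 𝒜 a ha

theorem isInvertible_twist_one (hgen : Subring.closure ((𝒜 0 : Set A) ∪ (𝒜 1 : Set A)) = ⊤) :
    PicF.IsInvertible (GrTwist.twist 𝒜 1) := by
  rw [isInvertible_iff_exists_isGen]
  intro y
  obtain ⟨t, ht, hty⟩ := exists_deg_one_notMem hgen y
  exact ⟨Proj.basicOpen 𝒜 t, (Proj.mem_basicOpen 𝒜 t y).2 hty, _,
    Groth.Agent.Lib.Helper74.TwistNat.isGen_fracSec 𝒜 t ht 1 SetLike.GradedOne.one_mem (by simp) _ (fun z _ => GrMod.one_nin z)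
      (fun z hz => (Proj.mem_basicOpen 𝒜 t z).1 hz)⟩

/-- `O(1)` restricted to a quasi-compact open of `Proj` covered by `D₊(g)`, `deg g = 1`, is ample. -/
theorem isAmple_restrict_twist_one (hgen : Subring.closure ((𝒜 0 : Set A) ∪ (𝒜 1 : Set A)) = ⊤)
    {Q : Scheme.{u}} [CompactSpace Q] (j : Q ⟶ Proj 𝒜) [IsOpenImmersion j] {ι : Type*}
    (g : ι → A) (hg : ∀ i, g i ∈ 𝒜 1)
    (hle : ∀ i, Proj.basicOpen 𝒜 (g i) ≤ j.opensRange)
    (hcov : ∀ x : Q, ∃ i, j x ∈ Proj.basicOpen 𝒜 (g i)) :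
    CohB1.IsAmple ((GrTwist.twist 𝒜 1).restrict j) := by
  refine ⟨Groth.Agent.Lib.Helper35.ModRestrict.isInvertible_restrict j _
    (isInvertible_twist_one 𝒜 hgen), inferInstance, fun x => ?_⟩
  obtain ⟨i, hi⟩ := hcov x
  obtain ⟨s', hs'⟩ := Groth.Agent.Lib.Lead.Inv.exists_section_of_iso
    (Groth.Agent.Lib.Helper35.AmpleFamily.nonempty_tensorPow_one _)
    (restrictSec j _ (globHom 𝒜 (g i) (hg i)))
  have hgl : CohB1.genLocus _ s' = j ⁻¹ᵁ Proj.basicOpen 𝒜 (g i) := by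
    rw [hs', genLocus_restrictSec, genLocus_globHom 𝒜 hgen]
  refine ⟨0, s', ?_, ?_⟩
  · rw [hgl]
    exact hi
  · rw [hgl]
    exact (Proj.isAffineOpen_basicOpen 𝒜 (g i) (hg i) one_pos).preimage_of_isOpenImmersion j (hle i)

end Groth.Agent.Lib.Helper35.RVA
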