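import Groth.Agent.Lib.Helper35.RVA1
import Groth.Agent.Lib.Helper74.InvSymDom

/-!
# Restriction of `O_P(n)` to a chart; graded symmetric algebras are generated in degree one
-/

set_option autoImplicit false
universe u

open AlgebraicGeometry CategoryTheory Opposite TopologicalSpace Limits

namespace Groth.Agent.Lib.Helper35.RVA

open Groth.Agent.Lib.Helper74.RelTilde
open scoped Groth.Agent.Lib.Helper74.SymQ

variable {Y P : Scheme.{u}} {𝒮 : RelProj.QCGrAlg Y} {p : P ⟶ Y}
  {chart : ∀ (U : Y.Opens) (hU : IsAffineOpen U),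
    (((p ⁻¹ᵁ U : P.Opens) : Scheme.{u}) ≅ Proj (𝒮.deg U hU))}

/-- restriction of `O_P(n)` to a chart is `O(n)` of the chart -/
theorem nonempty_restrict_emb_iso {n : ℤ} {L : P.Modules}
    {lam : ∀ (U : Y.Opens) (hU : IsAffineOpen U),
      L ⟶ (Scheme.Modules.pushforward (RelProj.emb p chart U hU)).obj
        (GrTwist.twist (𝒮.deg U hU) n)}
    (hL : RelProj.IsRelTwist 𝒮 p chart n L lam) (U : Y.Opens) (hU : IsAffineOpen U) :
    Nonempty (L.restrict (RelProj.emb p chart U hU) ≅ GrTwist.twist (𝒮.deg U hU) n) := by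
  let φ : L.restrict (RelProj.emb p chart U hU) ⟶
      ((Scheme.Modules.pushforward (RelProj.emb p chart U hU)).obj
        (GrTwist.twist (𝒮.deg U hU) n)).restrict (RelProj.emb p chart U hU) :=
    (Scheme.Modules.restrictFunctor (RelProj.emb p chart U hU)).map (lam U hU)
  have hφ : IsIso φ := by
    rw [Scheme.Modules.Hom.isIso_iff_isIso_app]
    intro W
    have hb : Function.Bijective ((lam U hU).app (RelProj.emb p chart U hU ''ᵁ W)) := by
      refine hL.bijective U hU _ ?_
      rw [← opensRange_emb (chart := chart) U hU]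
      rintro _ ⟨z, -, rfl⟩
      exact ⟨z, rfl⟩
    exact (ConcreteCategory.isIso_iff_bijective _).2 hb
  exact ⟨asIso φ ≪≫ (Scheme.Modules.restrictFunctorAdjCounitIso (RelProj.emb p chart U hU)).app _⟩

/-- a graded symmetric algebra is generated in degree one -/
theorem isGenDegOne_of_isGrSymAlg {E : Y.Modules} (hE : Coh.IsQCoh E) {j : E ⟶ 𝒮.toModule}
    (hj : RelProj.IsGrSymAlg E 𝒮 j) : 𝒮.IsGenDegOne := by
  haveI : E.IsQuasicoherent := hE
  intro U hU
  have hf := Groth.Agent.Lib.Helper74.SymQ.isSymmetricAlgebra_of_isSymAlg hj.1 U hU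
  rw [eq_top_iff]
  intro a _
  induction a using hf.induction with
  | algebraMap r => exact Subring.subset_closure (Or.inl (𝒮.str_mem U hU r))
  | ι m => exact Subring.subset_closure (Or.inr (hj.2 U hU m))
  | mul a b ha hb => exact mul_mem (ha trivial) (hb trivial)
  | add a b ha hb => exact add_mem (ha trivial) (hb trivial)

end Groth.Agent.Lib.Helper35.RVA
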