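import Groth.Agent.Lib.Helper35.RVA2
import Groth.Agent.Lib.Helper35.PbAmple

/-!
# The pullback of `O_P(1)` along a topological embedding into `P = Proj(𝒮)` is relatively ample
-/

set_option autoImplicit false
universe u

open AlgebraicGeometry CategoryTheory Opposite TopologicalSpace Limits

namespace Groth.Agent.Lib.Helper35.RVA

open Groth.Agent.Lib.Helper74.RelTilde Groth.Agent.Lib.Helper74.TwistGen

/-- `f^*(g^* M) ≅ h^* M` when `f ≫ g = h`. -/
noncomputable def pbc {X Y Z : Scheme.{u}} (f : X ⟶ Y) (g : Y ⟶ Z) (h : X ⟶ Z)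
    (e : f ≫ g = h) (M : Z.Modules) :
    (Scheme.Modules.pullback f).obj ((Scheme.Modules.pullback g).obj M) ≅
      (Scheme.Modules.pullback h).obj M :=
  (Scheme.Modules.pullbackComp f g).app M ≪≫ (Scheme.Modules.pullbackCongr e).app M

theorem isEmbedding_of_comp {X Y Z : Scheme.{u}} (a : X ⟶ Y) (b : Y ⟶ Z) (c : X ⟶ Z)
    (e : a ≫ b = c) (hc : Topology.IsEmbedding c.base) : Topology.IsEmbedding a.base := by
  refine Topology.IsEmbedding.of_comp a.continuous b.continuous ?_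
  have : (b.base : Y → Z) ∘ (a.base : X → Y) = c.base := by
    funext x
    rw [← e]
    rfl
  rw [this]
  exact hc

variable {X Y P : Scheme.{u}} {𝒮 : RelProj.QCGrAlg Y} {p : P ⟶ Y}
  {chart : ∀ (U : Y.Opens) (hU : IsAffineOpen U),
    (((p ⁻¹ᵁ U : P.Opens) : Scheme.{u}) ≅ Proj (𝒮.deg U hU))}

/-- **EGA II 4.6.?**: for a quasi-compact `f : X ⟶ Y` and a `Y`-morphism `g : X ⟶ Proj(𝒮)`
(`𝒮` generated in degree one) which is a topological embedding, `g^* O(1)` is `f`-ample. -/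
theorem isRelAmple_pullback_relTwist (f : X ⟶ Y) [QuasiCompact f] (hgen : 𝒮.IsGenDegOne)
    {O1 : P.Modules}
    {lam : ∀ (U : Y.Opens) (hU : IsAffineOpen U),
      O1 ⟶ (Scheme.Modules.pushforward (RelProj.emb p chart U hU)).obj
        (GrTwist.twist (𝒮.deg U hU) 1)}
    (hO1 : RelProj.IsRelTwist 𝒮 p chart 1 O1 lam)
    (g : X ⟶ P) (hg : g ≫ p = f) (hemb : Topology.IsEmbedding g.base) :
    RelAmple.IsRelAmple f ((Scheme.Modules.pullback g).obj O1) := by
  classical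
  refine ⟨inferInstance, fun V => ?_⟩
  obtain ⟨V, hV⟩ := V
  change CohB1.IsAmple (((Scheme.Modules.pullback g).obj O1).restrict (f ⁻¹ᵁ V).ι)
  set XV : X.Opens := f ⁻¹ᵁ V with hXV
  haveI : CompactSpace ↥(XV : Scheme.{u}) :=
    isCompact_iff_compactSpace.mp (QuasiCompact.isCompact_preimage (f := f) _ V.2 hV.isCompact)
  let eV := RelProj.emb p chart V hV
  let gV : (XV : Scheme.{u}) ⟶ P := XV.ι ≫ g
  have hgVemb : Topology.IsEmbedding gV.base := by
    have : (gV.base : ↥(XV : Scheme.{u}) → P) = (g.base : X → P) ∘ (XV.ι.base : _ → X) := rfl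
    rw [this]
    exact hemb.comp XV.ι.isEmbedding
  have hrange : Set.range gV.base ⊆ Set.range eV.base := by
    rintro _ ⟨x, rfl⟩
    have h1 : gV x ∈ p ⁻¹ᵁ V := by
      change p (g (XV.ι x)) ∈ V
      have h2 : f (XV.ι x) ∈ V := x.2
      rw [← hg] at h2
      exact h2
    rw [← opensRange_emb (chart := chart) V hV] at h1
    exact h1
  let h : (XV : Scheme.{u}) ⟶ Proj (𝒮.deg V hV) := IsOpenImmersion.lift eV gV hrange
  have hfac : h ≫ eV = gV := IsOpenImmersion.lift_fac eV gV hrange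
  have hhemb : Topology.IsEmbedding h.base := isEmbedding_of_comp h eV gV hfac hgVemb
  -- degree one elements not vanishing at the image points
  have key : ∀ x : ↥(XV : Scheme.{u}), ∃ a ∈ 𝒮.deg V hV 1, a ∉ (h x).asHomogeneousIdeal :=
    fun x => exists_deg_one_notMem (hgen V hV) (h x)
  choose a ha hax using key
  obtain ⟨t, ht⟩ := isCompact_univ.elim_finite_subcover
    (fun x : ↥(XV : Scheme.{u}) => ((h ⁻¹ᵁ Proj.basicOpen (𝒮.deg V hV) (a x) :
      (XV : Scheme.{u}).Opens) : Set ↥(XV : Scheme.{u})))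
    (fun x => (h ⁻¹ᵁ Proj.basicOpen (𝒮.deg V hV) (a x)).2)
    (fun x _ => Set.mem_iUnion.mpr ⟨x, (Proj.mem_basicOpen _ _ _).2 (hax x)⟩)
  let Q : (Proj (𝒮.deg V hV)).Opens := ⨆ i : {x // x ∈ t}, Proj.basicOpen (𝒮.deg V hV) (a i.1)
  have hQc : IsCompact (Q : Set (Proj (𝒮.deg V hV))) := by
    have : (Q : Set (Proj (𝒮.deg V hV))) =
        ⋃ i : {x // x ∈ t}, (Proj.basicOpen (𝒮.deg V hV) (a i.1) : Set (Proj (𝒮.deg V hV))) := by
      simp [Q]
    rw [this]
    exact isCompact_iUnion fun i =>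
      (Proj.isAffineOpen_basicOpen (𝒮.deg V hV) (a i.1) (ha i.1) one_pos).isCompact
  haveI : CompactSpace ↥(Q : Scheme.{u}) := isCompact_iff_compactSpace.mp hQc
  have hamp : CohB1.IsAmple ((GrTwist.twist (𝒮.deg V hV) 1).restrict Q.ι) := by
    refine isAmple_restrict_twist_one (𝒮.deg V hV) (hgen V hV) Q.ι
      (fun i : {x // x ∈ t} => a i.1) (fun i => ha i.1) (fun i => ?_) (fun x => ?_)
    · rw [Scheme.Opens.opensRange_ι]
      exact le_iSup (fun i : {x // x ∈ t} => Proj.basicOpen (𝒮.deg V hV) (a i.1)) i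
    · have hx : (Q.ι x) ∈ Q := x.2
      exact Opens.mem_iSup.mp hx
  have hrange' : Set.range h.base ⊆ Set.range Q.ι.base := by
    rintro _ ⟨x, rfl⟩
    have h1 := ht (Set.mem_univ x)
    obtain ⟨x', hx'⟩ := Set.mem_iUnion.mp h1
    obtain ⟨hx't, hx''⟩ := Set.mem_iUnion.mp hx'
    have h2 : h x ∈ Q := Opens.mem_iSup.mpr ⟨⟨x', hx't⟩, hx''⟩
    have h3 : h x ∈ Q.ι.opensRange := by rwa [Scheme.Opens.opensRange_ι]
    exact h3
  let h' : (XV : Scheme.{u}) ⟶ (Q : Scheme.{u}) := IsOpenImmersion.lift Q.ι h hrange'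
  have hfac' : h' ≫ Q.ι = h := IsOpenImmersion.lift_fac Q.ι h hrange'
  have hh'emb : Topology.IsEmbedding h'.base := isEmbedding_of_comp h' Q.ι h hfac' hhemb
  have hA := Groth.Agent.Lib.Helper35.PbInv.isAmple_pullback_of_isEmbedding h' hh'emb hamp
  obtain ⟨ε⟩ := nonempty_restrict_emb_iso hO1 V hV
  refine Groth.Agent.Lib.Helper35.Ample.isAmple_of_iso ?_ hA
  exact (Scheme.Modules.pullback h').mapIso
      ((Scheme.Modules.restrictFunctorIsoPullback Q.ι).app _) ≪≫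
    pbc h' Q.ι h hfac' _ ≪≫
    (Scheme.Modules.pullback h).mapIso (ε.symm ≪≫
      (Scheme.Modules.restrictFunctorIsoPullback eV).app O1) ≪≫
    pbc h eV gV hfac O1 ≪≫ (pbc XV.ι g gV rfl O1).symm ≪≫
    ((Scheme.Modules.restrictFunctorIsoPullback XV.ι).app _).symm

end Groth.Agent.Lib.Helper35.RVA
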