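import Groth.Agent.Lib.Helper35.RVA3
import Groth.Agent.Lib.Lead.QAffCounit
import Groth.Agent.Lib.Lead.SheafPts
import Groth.Agent.Lib.Lead.Tw4

/-!
# Sections of `O_P(1)` from degree-one elements; epimorphy of the counit from local generators
-/

set_option autoImplicit false
universe u

open AlgebraicGeometry CategoryTheory Opposite TopologicalSpace Limits

namespace Groth.Agent.Lib.Helper35.RVA

open Groth.Agent.Lib.Helper74.RelTilde Groth.Agent.Lib.Helper74.TwistGen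
open Groth.Agent.Lib.Lead.Inv Groth.Agent.Lib.Lead.SheafGlue Scheme.Modules

section counit

variable {X Y : Scheme.{u}} (f : X ⟶ Y)

/-- If every point of `X` has a neighbourhood on which `T` is generated by a section defined over
the preimage of an open of `Y`, then the counit `f^* f_* T ⟶ T` is an epimorphism. -/
theorem epi_counit_of_sections (T : X.Modules)
    (h : ∀ x : X, ∃ (V : Y.Opens) (W : X.Opens) (hW : W ≤ f ⁻¹ᵁ V) (σ : Γ(T, f ⁻¹ᵁ V)),
      x ∈ W ∧ IsGen T W (T.presheaf.map (homOfLE hW).op σ)) :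
    Epi ((pullbackPushforwardAdjunction f).counit.app T) := by
  apply epi_counit_of_faithful
  intro T' g hg
  apply Scheme.Modules.hom_ext
  intro W₀
  ext t
  change (g.app W₀).hom t = 0
  apply eq_of_locally_eq_pts T' _ 0
  intro x hxW₀
  obtain ⟨V, W, hW, σ, hxW, hgen⟩ := h x
  have hσ0 : (g.app (f ⁻¹ᵁ V)).hom σ = 0 :=
    congrArg (fun ψ => (Scheme.Modules.Hom.app ψ V).hom σ) hg
  refine ⟨W ⊓ W₀, inf_le_right, ⟨hxW, hxW₀⟩, ?_⟩
  rw [map_zero, hom_app_res g (inf_le_right : W ⊓ W₀ ≤ W₀) t]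
  have h1 := hgen.coeff_smul (inf_le_left : W ⊓ W₀ ≤ W)
    (T.presheaf.map (homOfLE (inf_le_right : W ⊓ W₀ ≤ W₀)).op t)
  rw [← h1]
  refine (Scheme.Modules.Hom.app_smul g _ _).trans ?_
  rw [Groth.Agent.Lib.Lead.QCohAff.res_res, ← hom_app_res g, hσ0, map_zero, smul_zero]

end counit

section rel

variable {Y P : Scheme.{u}} {𝒮 : RelProj.QCGrAlg Y} {p : P ⟶ Y}
  {chart : ∀ (U : Y.Opens) (hU : IsAffineOpen U),
    (((p ⁻¹ᵁ U : P.Opens) : Scheme.{u}) ≅ Proj (𝒮.deg U hU))}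

/-- the section `a / 1` of `O_P(1)` over `p⁻¹ V` attached to `a ∈ 𝒮(V)_1`; it generates wherever
`a` does not vanish -/
theorem exists_sec_isGen {O1 : P.Modules}
    {lam : ∀ (U : Y.Opens) (hU : IsAffineOpen U),
      O1 ⟶ (Scheme.Modules.pushforward (RelProj.emb p chart U hU)).obj
        (GrTwist.twist (𝒮.deg U hU) 1)}
    (hO1 : RelProj.IsRelTwist 𝒮 p chart 1 O1 lam) (V : Y.Opens) (hV : IsAffineOpen V)
    (a : 𝒮.presheaf.obj (op V)) (ha : a ∈ 𝒮.deg V hV 1) :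
    ∃ σ : Γ(O1, p ⁻¹ᵁ V), ∀ (W : P.Opens) (hW : W ≤ p ⁻¹ᵁ V),
      (∀ z ∈ RelProj.emb p chart V hV ⁻¹ᵁ W, a ∉ z.asHomogeneousIdeal) →
        IsGen O1 W (O1.presheaf.map (homOfLE hW).op σ) := by
  obtain ⟨σ, hσ⟩ := (hO1.bijective V hV (p ⁻¹ᵁ V) le_rfl).2
    (Groth.Agent.Lib.Helper74.TwistNat.fracSec (𝒮.deg V hV) a ha 1 SetLike.GradedOne.one_mem
      (by simp) (RelProj.emb p chart V hV ⁻¹ᵁ (p ⁻¹ᵁ V)) (fun z _ => GrMod.one_nin z))
  refine ⟨σ, fun W hW hz => isGen_of_lam hO1 V hV W hW _ ?_⟩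
  rw [hom_res, hσ]
  exact Groth.Agent.Lib.Helper74.TwistNat.isGen_fracSec (𝒮.deg V hV) a ha 1
    SetLike.GradedOne.one_mem (by simp) _ (fun z _ => GrMod.one_nin z) hz

end rel

end Groth.Agent.Lib.Helper35.RVA
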