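import Groth.Agent.Lib.Helper35.RVA4
import Groth.Agent.Lib.Helper35.PbGen
import Groth.Agent.Lib.Lead.Inv4

/-!
# A section of a very ample module over an infinite field generating at finitely many points
-/

set_option autoImplicit false
universe u

open AlgebraicGeometry CategoryTheory Opposite TopologicalSpace Limits

namespace Groth.Agent.Lib.Helper35.RVA

open Groth.Agent.Lib.Helper74.RelTilde Groth.Agent.Lib.Helper74.TwistGen
open Groth.Agent.Lib.Lead.Inv Scheme.Modules Groth.Agent.Lib.Helper74.SymQ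
open Groth.Agent.Lib.Helper35.PbInv Groth.Agent.Lib.Helper35.GlobGen
open scoped Groth.Agent.Lib.Helper74.SymQ

theorem exists_section_gen_of_isRelVeryAmple (k : Type u) [Field k] [Infinite k] (Y : Scheme.{u})
    (f : Y ⟶ Spec (CommRingCat.of k)) (A : Y.Modules) (hA : RelProj.IsRelVeryAmple f A)
    {ι : Type*} [Finite ι] (y : ι → ↥Y) :
    ∃ s : Coh.structureModule Y ⟶ A, ∀ t : ι, y t ∈ CohB1.genLocus A s := by
  classical
  obtain ⟨E, hE, 𝒮, j, hj, P, p, chart, hP, O1, lam, hO1, i, hi, hip, ⟨e⟩⟩ := hA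
  haveI : E.IsQuasicoherent := hE
  have hT : IsAffineOpen (⊤ : (Spec (CommRingCat.of k)).Opens) := isAffineOpen_top _
  have hw : ∀ t : ι, ∃ w : Proj (𝒮.deg ⊤ hT), RelProj.emb p chart ⊤ hT w = i (y t) :=
    fun t => exists_emb_eq (chart := chart) ⊤ hT (i (y t)) trivial
  choose w hw using hw
  have hf := isSymmetricAlgebra_of_isSymAlg hj.1 ⊤ hT
  let φ : k →+* Γ(Spec (CommRingCat.of k), ⊤) := (Scheme.ΓSpecIso (CommRingCat.of k)).inv.hom
  letI : Module k Γ(E, ⊤) := Module.compHom _ φ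
  let N : ι → Submodule k Γ(E, ⊤) := fun t =>
    { carrier := {m | jLin j ⊤ m ∈ (w t).asHomogeneousIdeal.toIdeal}
      add_mem' := fun {a b} ha hb => by
        change jLin j ⊤ (a + b) ∈ (w t).asHomogeneousIdeal.toIdeal
        rw [map_add]
        exact add_mem ha hb
      zero_mem' := by
        change jLin j ⊤ 0 ∈ (w t).asHomogeneousIdeal.toIdeal
        rw [map_zero]
        exact zero_mem _
      smul_mem' := fun c m hm => by
        change jLin j ⊤ (φ c • m) ∈ (w t).asHomogeneousIdeal.toIdeal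
        rw [LinearMap.map_smul, Algebra.smul_def]
        exact Ideal.mul_mem_left _ _ hm }
  have hN : ∀ t, N t ≠ ⊤ := by
    intro t htop
    apply (w t).not_irrelevant_le
    refine (Groth.Agent.Lib.Helper74.InvSym.irrelevant_le_span_range (𝒮.deg ⊤ hT) hf
      (𝒮.str_mem ⊤ hT) (hj.2 ⊤ hT)).trans ?_
    rw [Ideal.span_le]
    rintro _ ⟨m, rfl⟩
    have : m ∈ N t := by rw [htop]; trivial
    exact this
  have hne : ⋃ t, (N t : Set Γ(E, ⊤)) ≠ Set.univ := fun hcov => by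
    obtain ⟨t, ht⟩ := Subspace.exists_eq_top_of_iUnion_eq_univ hcov
    exact hN t ht
  obtain ⟨m, hm⟩ : ∃ m : Γ(E, ⊤), ∀ t, m ∉ N t := by
    by_contra hcon
    push Not at hcon
    exact hne (Set.eq_univ_of_forall fun m => by
      obtain ⟨t, ht⟩ := hcon m
      exact Set.mem_iUnion.mpr ⟨t, ht⟩)
  have ha : jLin j ⊤ m ∈ 𝒮.deg ⊤ hT 1 := hj.2 ⊤ hT m
  obtain ⟨σ, hσ⟩ := exists_sec_isGen hO1 ⊤ hT (jLin j ⊤ m) ha
  let τ : Γ((Scheme.Modules.pullback i).obj O1, ⊤) := pbSec i O1 (p ⁻¹ᵁ ⊤) σ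
  let s' : Coh.structureModule Y ⟶ (Scheme.Modules.pullback i).obj O1 := secHom _ τ
  refine ⟨s' ≫ e.inv, fun t => ?_⟩
  have hgl : CohB1.genLocus A (s' ≫ e.inv) = CohB1.genLocus _ s' := genLocus_comp_iso s' e.symm
  rw [hgl]
  let D : P.Opens := RelProj.emb p chart ⊤ hT ''ᵁ (Proj.basicOpen (𝒮.deg ⊤ hT) (jLin j ⊤ m))
  have hDV : D ≤ p ⁻¹ᵁ ⊤ := le_top
  have hpre : RelProj.emb p chart ⊤ hT ⁻¹ᵁ D = Proj.basicOpen (𝒮.deg ⊤ hT) (jLin j ⊤ m) :=
    (RelProj.emb p chart ⊤ hT).preimage_image_eq _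
  have hgenD := hσ D hDV (fun z hz => by
    rw [hpre] at hz
    exact (Proj.mem_basicOpen _ _ z).1 hz)
  have hle : i ⁻¹ᵁ D ≤ CohB1.genLocus _ s' := by
    rw [le_genLocus_iff_isGen]
    have h1 : val s' (i ⁻¹ᵁ D) =
        ((Scheme.Modules.pullback i).obj O1).presheaf.map (homOfLE le_top).op τ :=
      secHom_app_one _ τ _
    rw [h1]
    have h2 := pbSec_rs i O1 hDV σ
    have h3 := isGen_pbSec i O1 D _ hgenD
    exact h2 ▸ h3
  apply hle
  change i (y t) ∈ D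
  rw [← hw t]
  exact ⟨w t, (Proj.mem_basicOpen _ _ _).2 (hm t), rfl⟩

end Groth.Agent.Lib.Helper35.RVA
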