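import Groth.Agent.Lib.Helper35.RVA4
import Groth.Agent.Lib.Helper35.RVA2

/-!
# Epimorphy of the adjoint of `φ : E ⟶ f_* T` from local generators of the form `φ(e)`
-/

set_option autoImplicit false
universe u

open AlgebraicGeometry CategoryTheory Opposite TopologicalSpace Limits

namespace Groth.Agent.Lib.Helper35.RVA

open Groth.Agent.Lib.Helper74.RelTilde Groth.Agent.Lib.Helper74.TwistGen
open Groth.Agent.Lib.Lead.Inv Groth.Agent.Lib.Lead.SheafGlue Scheme.Modules

section adj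

variable {X Y : Scheme.{u}} (f : X ⟶ Y)

/-- If every point of `X` has a neighbourhood on which `T` is generated by a section of the form
`φ(e)`, `e` a section of `E` over an open of `Y`, then the adjoint `f^* E ⟶ T` of `φ` is an
epimorphism. -/
theorem epi_adj_of_sections (E : Y.Modules) (T : X.Modules)
    (φ : E ⟶ (Scheme.Modules.pushforward f).obj T)
    (h : ∀ x : X, ∃ (V : Y.Opens) (W : X.Opens) (hW : W ≤ f ⁻¹ᵁ V) (e : Γ(E, V)),
      x ∈ W ∧ IsGen T W (T.presheaf.map (homOfLE hW).op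
        (show Γ(T, f ⁻¹ᵁ V) from (φ.app V).hom e))) :
    Epi (((pullbackPushforwardAdjunction f).homEquiv E T).symm φ) := by
  apply Preadditive.epi_of_cancel_zero
  intro T' g hg
  have hg' : φ ≫ (Scheme.Modules.pushforward f).map g = 0 := by
    have h1 := congrArg ((pullbackPushforwardAdjunction f).homEquiv E T') hg
    rw [Adjunction.homEquiv_naturality_right, Equiv.apply_symm_apply] at h1
    rw [h1, Adjunction.homEquiv_unit, Functor.map_zero, comp_zero]
  apply Scheme.Modules.hom_ext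
  intro W₀
  ext t
  change (g.app W₀).hom t = 0
  apply eq_of_locally_eq_pts T' _ 0
  intro x hxW₀
  obtain ⟨V, W, hW, e, hxW, hgen⟩ := h x
  set σ : Γ(T, f ⁻¹ᵁ V) := (φ.app V).hom e with hσ
  have hσ0 : (g.app (f ⁻¹ᵁ V)).hom σ = 0 :=
    congrArg (fun ψ => (Scheme.Modules.Hom.app ψ V).hom e) hg'
  refine ⟨W ⊓ W₀, inf_le_right, ⟨hxW, hxW₀⟩, ?_⟩
  rw [map_zero, hom_app_res g (inf_le_right : W ⊓ W₀ ≤ W₀) t]
  have h1 := hgen.coeff_smul (inf_le_left : W ⊓ W₀ ≤ W)
    (T.presheaf.map (homOfLE (inf_le_right : W ⊓ W₀ ≤ W₀)).op t)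
  rw [← h1]
  refine (Scheme.Modules.Hom.app_smul g _ _).trans ?_
  rw [Groth.Agent.Lib.Lead.QCohAff.res_res, ← hom_app_res g, hσ0, map_zero, smul_zero]

end adj

end Groth.Agent.Lib.Helper35.RVA
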