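import Groth.Agent.Lib.Helper35.RVA1

/-!
# Ampleness of `O(d)` (`GrTwist.twist 𝒜 d`) on opens of `Proj 𝒜` covered by `D₊(a)`, `deg a = d`
(degree `d` version of `RVA1`; no generation-in-degree-one hypothesis)
-/

set_option autoImplicit false
universe u

open AlgebraicGeometry CategoryTheory Opposite TopologicalSpace Limits

namespace Groth.Agent.Lib.Helper35.RVD

open Groth.Agent.Lib.Lead.Inv Groth.Agent.Lib.Helper74.TwistNat Groth.Agent.Lib.Helper74.TwistGen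
open Groth.Agent.Lib.Helper60.TensorRestrict

variable {A σ : Type u} [CommRing A] [SetLike σ A] [AddSubgroupClass σ A] (𝒜 : ℕ → σ) [GradedRing 𝒜]
  (d : ℕ)

/-- the global section `a / 1` of `O(d)` -/
noncomputable def glob (a : A) (ha : a ∈ 𝒜 d) : Γ(GrTwist.twist 𝒜 (d : ℤ), ⊤) :=
  fracSec 𝒜 a ha 1 SetLike.GradedOne.one_mem (by simp) ⊤ (fun y _ => GrMod.one_nin y)

/-- the morphism `O ⟶ O(d)` attached to `a` of degree `d` -/
noncomputable def globHom (a : A) (ha : a ∈ 𝒜 d) :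
    Coh.structureModule (Proj 𝒜) ⟶ GrTwist.twist 𝒜 (d : ℤ) :=
  Groth.Agent.Lib.Helper35.GlobGen.secHom _ (glob 𝒜 d a ha)

theorem val_globHom (a : A) (ha : a ∈ 𝒜 d) (W : (Proj 𝒜).Opens) :
    val (globHom 𝒜 d a ha) W =
      fracSec 𝒜 a ha 1 SetLike.GradedOne.one_mem (by simp) W (fun y _ => GrMod.one_nin y) := by
  refine sec_ext 𝒜 (d : ℤ) _ _ fun y => ?_
  rw [val, globHom, Groth.Agent.Lib.Helper35.GlobGen.secHom_app_one]
  rfl

theorem basicOpen_le_genLocus (a : A) (ha : a ∈ 𝒜 d) :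
    Proj.basicOpen 𝒜 a ≤ CohB1.genLocus _ (globHom 𝒜 d a ha) := by
  rw [le_genLocus_iff_isGen, val_globHom]
  exact Groth.Agent.Lib.Helper74.TwistNat.isGen_fracSec 𝒜 a ha 1 _ _ _ _
    (fun y hy => (Proj.mem_basicOpen 𝒜 a y).1 hy)

theorem genLocus_inf_le (a : A) (ha : a ∈ 𝒜 d) (t : A) (ht : t ∈ 𝒜 d) :
    CohB1.genLocus _ (globHom 𝒜 d a ha) ⊓ Proj.basicOpen 𝒜 t ≤ Proj.basicOpen 𝒜 a := by
  intro y hy
  set W : (Proj 𝒜).Opens := CohB1.genLocus _ (globHom 𝒜 d a ha) ⊓ Proj.basicOpen 𝒜 t with hW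
  have hgl : IsGen (GrTwist.twist 𝒜 (d : ℤ)) W (val (globHom 𝒜 d a ha) W) :=
    (le_genLocus_iff_isGen _ W).1 inf_le_left
  have htW : ∀ z ∈ W, t ∉ z.asHomogeneousIdeal := fun z hz => (Proj.mem_basicOpen 𝒜 t z).1 hz.2
  obtain ⟨c, hc⟩ := (hgl W le_rfl).2
    (fracSec 𝒜 t ht 1 SetLike.GradedOne.one_mem (by simp) W (fun z _ => GrMod.one_nin z))
  have h2 := congrArg (fun s => GrTwist.val s ⟨y, hy⟩) hc
  simp only at h2
  rw [smul_val, res_val, val_globHom, fracSec_val, fracSec_val] at h2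
  have hu : IsUnit (Localization.mk t (⟨1, GrMod.one_nin y⟩ :
      y.asHomogeneousIdeal.toIdeal.primeCompl) : GrTwist.Loc 𝒜 y) :=
    (isUnit_mk_iff y _ _).2 (htW y hy)
  rw [← h2] at hu
  exact (Proj.mem_basicOpen 𝒜 a y).2 ((isUnit_mk_iff y _ _).1 (isUnit_of_mul_isUnit_right hu))

theorem genLocus_globHom (hcov : ∀ y : Proj 𝒜, ∃ t ∈ 𝒜 d, t ∉ y.asHomogeneousIdeal)
    (a : A) (ha : a ∈ 𝒜 d) :
    CohB1.genLocus _ (globHom 𝒜 d a ha) = Proj.basicOpen 𝒜 a := by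
  apply le_antisymm
  · intro y hy
    obtain ⟨t, ht, hty⟩ := hcov y
    exact genLocus_inf_le 𝒜 d a ha t ht ⟨hy, (Proj.mem_basicOpen 𝒜 t y).2 hty⟩
  · exact basicOpen_le_genLocus 𝒜 d a ha

theorem isInvertible_twist (hcov : ∀ y : Proj 𝒜, ∃ t ∈ 𝒜 d, t ∉ y.asHomogeneousIdeal) :
    PicF.IsInvertible (GrTwist.twist 𝒜 (d : ℤ)) := by
  rw [isInvertible_iff_exists_isGen]
  intro y
  obtain ⟨t, ht, hty⟩ := hcov y
  exact ⟨Proj.basicOpen 𝒜 t, (Proj.mem_basicOpen 𝒜 t y).2 hty, _,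
    Groth.Agent.Lib.Helper74.TwistNat.isGen_fracSec 𝒜 t ht 1 SetLike.GradedOne.one_mem (by simp) _
      (fun z _ => GrMod.one_nin z) (fun z hz => (Proj.mem_basicOpen 𝒜 t z).1 hz)⟩

/-- `O(d)` restricted to a quasi-compact open of `Proj` covered by `D₊(g)`, `deg g = d > 0`, is
ample, provided every point of `Proj` lies in some `D₊(t)`, `deg t = d`. -/
theorem isAmple_restrict_twist (hd : 0 < d)
    (hcov0 : ∀ y : Proj 𝒜, ∃ t ∈ 𝒜 d, t ∉ y.asHomogeneousIdeal)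
    {Q : Scheme.{u}} [CompactSpace Q] (j : Q ⟶ Proj 𝒜) [IsOpenImmersion j] {ι : Type*}
    (g : ι → A) (hg : ∀ i, g i ∈ 𝒜 d)
    (hle : ∀ i, Proj.basicOpen 𝒜 (g i) ≤ j.opensRange)
    (hcov : ∀ x : Q, ∃ i, j x ∈ Proj.basicOpen 𝒜 (g i)) :
    CohB1.IsAmple ((GrTwist.twist 𝒜 (d : ℤ)).restrict j) := by
  refine ⟨Groth.Agent.Lib.Helper35.ModRestrict.isInvertible_restrict j _
    (isInvertible_twist 𝒜 d hcov0), inferInstance, fun x => ?_⟩
  obtain ⟨i, hi⟩ := hcov x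
  obtain ⟨s', hs'⟩ := Groth.Agent.Lib.Lead.Inv.exists_section_of_iso
    (Groth.Agent.Lib.Helper35.AmpleFamily.nonempty_tensorPow_one _)
    (restrictSec j _ (globHom 𝒜 d (g i) (hg i)))
  have hgl : CohB1.genLocus _ s' = j ⁻¹ᵁ Proj.basicOpen 𝒜 (g i) := by
    rw [hs', genLocus_restrictSec, genLocus_globHom 𝒜 d hcov0]
  refine ⟨0, s', ?_, ?_⟩
  · rw [hgl]
    exact hi
  · rw [hgl]
    exact (Proj.isAffineOpen_basicOpen 𝒜 (g i) (hg i) hd).preimage_of_isOpenImmersion j (hle i)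

end Groth.Agent.Lib.Helper35.RVD
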