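import Groth.Agent.Lib.Helper35.RVD1
import Groth.Agent.Lib.Helper35.RVA3

/-!
# The pullback of `O_P(d)` along a topological embedding into `P = Proj(𝒮)` is ample over an affine
open `V` of the base over which `Proj 𝒮(V)` is covered by the `D₊(a)`, `deg a = d`
-/

set_option autoImplicit false
universe u

open AlgebraicGeometry CategoryTheory Opposite TopologicalSpace Limits

namespace Groth.Agent.Lib.Helper35.RVD

open Groth.Agent.Lib.Helper74.RelTilde Groth.Agent.Lib.Helper74.TwistGen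
open Groth.Agent.Lib.Helper35.RVA

variable {X Y P : Scheme.{u}} {𝒮 : RelProj.QCGrAlg Y} {p : P ⟶ Y}
  {chart : ∀ (U : Y.Opens) (hU : IsAffineOpen U),
    (((p ⁻¹ᵁ U : P.Opens) : Scheme.{u}) ≅ Proj (𝒮.deg U hU))}

theorem isAmple_restrict_pullback_relTwist (f : X ⟶ Y) [QuasiCompact f] {d : ℕ} (hd : 0 < d)
    {Od : P.Modules}
    {lam : ∀ (U : Y.Opens) (hU : IsAffineOpen U),
      Od ⟶ (Scheme.Modules.pushforward (RelProj.emb p chart U hU)).obj
        (GrTwist.twist (𝒮.deg U hU) (d : ℤ))}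
    (hOd : RelProj.IsRelTwist 𝒮 p chart (d : ℤ) Od lam)
    (g : X ⟶ P) (hg : g ≫ p = f) (hemb : Topology.IsEmbedding g.base)
    (V : Y.Opens) (hV : IsAffineOpen V)
    (hgood : ∀ z : Proj (𝒮.deg V hV), ∃ a ∈ 𝒮.deg V hV d, a ∉ z.asHomogeneousIdeal) :
    CohB1.IsAmple (((Scheme.Modules.pullback g).obj Od).restrict (f ⁻¹ᵁ V).ι) := by
  classical
  set XV : X.Opens := f ⁻¹ᵁ V with hXV
  haveI : CompactSpace ↥(XV : Scheme.{u}) :=
    isCompact_iff_compactSpace.mp (QuasiCompact.isCompact_preimage (f := f) _ V.2 hV.isCompact)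
  let eV := RelProj.emb p chart V hV
  let gV : (XV : Scheme.{u}) ⟶ P := XV.ι ≫ g
  have hgVemb : Topology.IsEmbedding gV.base := by
    have : (gV.base : ↥(XV : Scheme.{u}) → P) = (g.base : X → P) ∘ (XV.ι.base : _ → X) := rfl
    rw [this]
    exact hemb.comp XV.ι.isEmbedding
  have hrange : Set.range gV.base ⊆ Set.range eV.base := by
    rintro _ ⟨x, rfl⟩
    have h1 : gV x ∈ p ⁻¹ᵁ V := by
      change p (g (XV.ι x)) ∈ V
      have h2 : f (XV.ι x) ∈ V := x.2
      rw [← hg] at h2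
      exact h2
    rw [← opensRange_emb (chart := chart) V hV] at h1
    exact h1
  let h : (XV : Scheme.{u}) ⟶ Proj (𝒮.deg V hV) := IsOpenImmersion.lift eV gV hrange
  have hfac : h ≫ eV = gV := IsOpenImmersion.lift_fac eV gV hrange
  have hhemb : Topology.IsEmbedding h.base := isEmbedding_of_comp h eV gV hfac hgVemb
  have key : ∀ x : ↥(XV : Scheme.{u}), ∃ a ∈ 𝒮.deg V hV d, a ∉ (h x).asHomogeneousIdeal :=
    fun x => hgood (h x)
  choose a ha hax using key
  obtain ⟨t, ht⟩ := isCompact_univ.elim_finite_subcover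
    (fun x : ↥(XV : Scheme.{u}) => ((h ⁻¹ᵁ Proj.basicOpen (𝒮.deg V hV) (a x) :
      (XV : Scheme.{u}).Opens) : Set ↥(XV : Scheme.{u})))
    (fun x => (h ⁻¹ᵁ Proj.basicOpen (𝒮.deg V hV) (a x)).2)
    (fun x _ => Set.mem_iUnion.mpr ⟨x, (Proj.mem_basicOpen _ _ _).2 (hax x)⟩)
  let Q : (Proj (𝒮.deg V hV)).Opens := ⨆ i : {x // x ∈ t}, Proj.basicOpen (𝒮.deg V hV) (a i.1)
  have hQc : IsCompact (Q : Set (Proj (𝒮.deg V hV))) := by
    have : (Q : Set (Proj (𝒮.deg V hV))) =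
        ⋃ i : {x // x ∈ t}, (Proj.basicOpen (𝒮.deg V hV) (a i.1) : Set (Proj (𝒮.deg V hV))) := by
      simp [Q]
    rw [this]
    exact isCompact_iUnion fun i =>
      (Proj.isAffineOpen_basicOpen (𝒮.deg V hV) (a i.1) (ha i.1) hd).isCompact
  haveI : CompactSpace ↥(Q : Scheme.{u}) := isCompact_iff_compactSpace.mp hQc
  have hamp : CohB1.IsAmple ((GrTwist.twist (𝒮.deg V hV) (d : ℤ)).restrict Q.ι) := by
    refine isAmple_restrict_twist (𝒮.deg V hV) d hd hgood Q.ι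
      (fun i : {x // x ∈ t} => a i.1) (fun i => ha i.1) (fun i => ?_) (fun x => ?_)
    · rw [Scheme.Opens.opensRange_ι]
      exact le_iSup (fun i : {x // x ∈ t} => Proj.basicOpen (𝒮.deg V hV) (a i.1)) i
    · have hx : (Q.ι x) ∈ Q := x.2
      exact Opens.mem_iSup.mp hx
  have hrange' : Set.range h.base ⊆ Set.range Q.ι.base := by
    rintro _ ⟨x, rfl⟩
    have h1 := ht (Set.mem_univ x)
    obtain ⟨x', hx'⟩ := Set.mem_iUnion.mp h1
    obtain ⟨hx't, hx''⟩ := Set.mem_iUnion.mp hx'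
    have h2 : h x ∈ Q := Opens.mem_iSup.mpr ⟨⟨x', hx't⟩, hx''⟩
    have h3 : h x ∈ Q.ι.opensRange := by rwa [Scheme.Opens.opensRange_ι]
    exact h3
  let h' : (XV : Scheme.{u}) ⟶ (Q : Scheme.{u}) := IsOpenImmersion.lift Q.ι h hrange'
  have hfac' : h' ≫ Q.ι = h := IsOpenImmersion.lift_fac Q.ι h hrange'
  have hh'emb : Topology.IsEmbedding h'.base := isEmbedding_of_comp h' Q.ι h hfac' hhemb
  have hA := Groth.Agent.Lib.Helper35.PbInv.isAmple_pullback_of_isEmbedding h' hh'emb hamp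
  obtain ⟨ε⟩ := nonempty_restrict_emb_iso hOd V hV
  refine Groth.Agent.Lib.Helper35.Ample.isAmple_of_iso ?_ hA
  exact (Scheme.Modules.pullback h').mapIso
      ((Scheme.Modules.restrictFunctorIsoPullback Q.ι).app _) ≪≫
    pbc h' Q.ι h hfac' _ ≪≫
    (Scheme.Modules.pullback h).mapIso (ε.symm ≪≫
      (Scheme.Modules.restrictFunctorIsoPullback eV).app Od) ≪≫
    pbc h eV gV hfac Od ≪≫ (pbc XV.ι g gV rfl Od).symm ≪≫
    ((Scheme.Modules.restrictFunctorIsoPullback XV.ι).app _).symm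

end Groth.Agent.Lib.Helper35.RVD
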