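import Groth.Agent.Lib.Helper35.RVD2
import Groth.Agent.Lib.Helper74.RelTwistInv
import Groth.Agent.Lib.Helper74.RelProjLib
import Groth.Agent.Lib.Lead.RelAmp3

/-!
# Common degrees on `Proj` of a finite type graded ring, and `O_P(d)` invertible + relatively ample
on the relative Proj of a finite type quasi-coherent graded algebra over a quasi-compact base
-/

set_option autoImplicit false
universe u

open AlgebraicGeometry CategoryTheory Opposite TopologicalSpace Limits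

namespace Groth.Agent.Lib.Helper35.RVD

open Groth.Agent.Lib.Lead.Inv Groth.Agent.Lib.Helper74.TwistNat Groth.Agent.Lib.Helper74.TwistGen
open Groth.Agent.Lib.Helper74.RelTilde

section alg

variable {A σ : Type u} [CommRing A] [SetLike σ A] [AddSubgroupClass σ A] (𝒜 : ℕ → σ) [GradedRing 𝒜]

theorem good_of_dvd {e d : ℕ} (hed : e ∣ d)
    (h : ∀ z : Proj 𝒜, ∃ a ∈ 𝒜 e, a ∉ z.asHomogeneousIdeal) :
    ∀ z : Proj 𝒜, ∃ a ∈ 𝒜 d, a ∉ z.asHomogeneousIdeal := by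
  intro z
  obtain ⟨k, hk⟩ := hed
  obtain ⟨a, ha, haz⟩ := h z
  refine ⟨a ^ k, ?_, fun hmem => haz (z.isPrime.mem_of_pow_mem _ hmem)⟩
  have := SetLike.pow_mem_graded k ha
  rwa [smul_eq_mul, mul_comm, ← hk] at this

theorem exists_common_degree_proj [CompactSpace (Proj 𝒜)] :
    ∃ e : ℕ, 0 < e ∧ ∀ z : Proj 𝒜, ∃ a ∈ 𝒜 e, a ∉ z.asHomogeneousIdeal := by
  classical
  have hloc : ∀ z : Proj 𝒜, ∃ (d : ℕ) (_ : 0 < d) (f : A), f ∈ 𝒜 d ∧ f ∉ z.asHomogeneousIdeal :=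
    fun z => exists_pos_notMem (𝒜 := 𝒜) z
  choose d hd f hf hfz using hloc
  obtain ⟨t, ht⟩ := isCompact_univ.elim_finite_subcover
    (fun z : Proj 𝒜 => ((Proj.basicOpen 𝒜 (f z) : (Proj 𝒜).Opens) : Set (Proj 𝒜)))
    (fun z => (Proj.basicOpen 𝒜 (f z)).2)
    (fun z _ => Set.mem_iUnion.2 ⟨z, (Proj.mem_basicOpen 𝒜 _ z).2 (hfz z)⟩)
  refine ⟨∏ z ∈ t, d z, Finset.prod_pos fun z _ => hd z, fun z' => ?_⟩
  obtain ⟨z, hzt, hz'⟩ := Set.mem_iUnion₂.1 (ht (Set.mem_univ z'))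
  obtain ⟨k, hk⟩ := Finset.dvd_prod_of_mem d hzt
  refine ⟨f z ^ k, ?_, fun hmem => ?_⟩
  · have := SetLike.pow_mem_graded k (hf z)
    rwa [smul_eq_mul, mul_comm, ← hk] at this
  · exact (Proj.mem_basicOpen 𝒜 _ z').1 hz' (z'.isPrime.mem_of_pow_mem _ hmem)

end alg

section rel

variable {Y X : Scheme.{u}} {𝒮 : RelProj.QCGrAlg Y} {f : X ⟶ Y}
  {chart : ∀ (U : Y.Opens) (hU : IsAffineOpen U),
    (((f ⁻¹ᵁ U : X.Opens) : Scheme.{u}) ≅ Proj (𝒮.deg U hU))}

theorem compactSpace_proj_of_finiteType (U : Y.Opens) (hU : IsAffineOpen U)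
    (hft : (𝒮.str.app (op U)).hom.FiniteType) : CompactSpace (Proj (𝒮.deg U hU)) := by
  have := Groth.Agent.Lib.Helper74.RelProjLib.finiteType_over_zero 𝒮 U hU hft
  exact QuasiCompact.compactSpace_of_compactSpace (Proj.toSpecZero (𝒮.deg U hU))

/-- **EGA II 4.6.18-type statement**: on the relative Proj of a finite type quasi-coherent graded
algebra over a quasi-compact base, `O(d)` is invertible and relatively ample for some `d > 0`. -/
theorem exists_isInvertible_isRelAmple_relTwist [CompactSpace Y]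
    (hft : ∀ (U : Y.Opens) (hU : IsAffineOpen U), (𝒮.str.app (op U)).hom.FiniteType)
    (hX : RelProj.IsRelProj 𝒮 f chart) :
    ∃ d : ℕ, 0 < d ∧ ∀ (L : X.Modules)
      (lam : ∀ (U : Y.Opens) (hU : IsAffineOpen U),
        L ⟶ (Scheme.Modules.pushforward (RelProj.emb f chart U hU)).obj
          (GrTwist.twist (𝒮.deg U hU) (d : ℤ))),
      RelProj.IsRelTwist 𝒮 f chart (d : ℤ) L lam →
        PicF.IsInvertible L ∧ RelAmple.IsRelAmple f L := by
  classical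
  obtain ⟨-, hqc⟩ := Groth.Agent.Lib.Helper74.RelProjLib.finiteType_of_forall hX
    (fun U hU => Groth.Agent.Lib.Helper74.RelProjLib.finiteType_over_zero 𝒮 U hU (hft U hU))
    (fun U hU => Groth.Agent.Lib.Helper74.RelProjLib.strZero_finiteType 𝒮 U hU (hft U hU))
  haveI := hqc
  have hgoodV : ∀ (V : Y.Opens) (hV : IsAffineOpen V), ∃ e : ℕ, 0 < e ∧
      ∀ z : Proj (𝒮.deg V hV), ∃ a ∈ 𝒮.deg V hV e, a ∉ z.asHomogeneousIdeal := by
    intro V hV
    haveI := compactSpace_proj_of_finiteType V hV (hft V hV)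
    exact exists_common_degree_proj (𝒮.deg V hV)
  have hex : ∀ y : Y, ∃ V : Y.Opens, IsAffineOpen V ∧ y ∈ V := by
    intro y
    obtain ⟨_, ⟨V, hV, rfl⟩, hyV, -⟩ :=
      Y.isBasis_affineOpens.exists_subset_of_mem_open (Set.mem_univ y) isOpen_univ
    exact ⟨V, hV, hyV⟩
  choose V hV hyV using hex
  choose e he hgood using fun y => hgoodV (V y) (hV y)
  obtain ⟨t, ht⟩ := isCompact_univ.elim_finite_subcover
    (fun y : Y => ((V y : Y.Opens) : Set Y)) (fun y => (V y).2)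
    (fun y _ => Set.mem_iUnion.2 ⟨y, hyV y⟩)
  have hdpos : 0 < ∏ y ∈ t, e y := Finset.prod_pos fun y _ => he y
  refine ⟨∏ y ∈ t, e y, hdpos, ?_⟩
  have hgood' : ∀ y ∈ t, ∀ z : Proj (𝒮.deg (V y) (hV y)),
      ∃ a ∈ 𝒮.deg (V y) (hV y) (∏ y ∈ t, e y), a ∉ z.asHomogeneousIdeal :=
    fun y hy => good_of_dvd _ (Finset.dvd_prod_of_mem e hy) (hgood y)
  intro L lam hL
  constructor
  · rw [isInvertible_iff_exists_isGen]
    intro x
    obtain ⟨y, hyt, hxy⟩ := Set.mem_iUnion₂.1 (ht (Set.mem_univ (f x)))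
    obtain ⟨z, hz⟩ := exists_emb_eq (chart := chart) (V y) (hV y) x hxy
    obtain ⟨a, ha, haz⟩ := hgood' y hyt z
    obtain ⟨W, ε, hW, hε⟩ := exists_isGen_chart hL (V y) (hV y) a ha 1 (by simp) z haz
    exact ⟨W, hz ▸ hW, ε, hε⟩
  · refine ⟨hqc, fun W => ?_⟩
    obtain ⟨W, hW⟩ := W
    change CohB1.IsAmple (L.restrict (f ⁻¹ᵁ W).ι)
    refine isAmple_restrict_preimage_of_cover f W hW L fun y0 hy0 => ?_
    obtain ⟨y, hyt, hy0y⟩ := Set.mem_iUnion₂.1 (ht (Set.mem_univ y0))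
    obtain ⟨a, haV, hay0⟩ := hW.exists_basicOpen_le (V := V y) ⟨y0, hy0y⟩ hy0
    refine ⟨a, hay0, ?_⟩
    have h1 := isAmple_restrict_pullback_relTwist f hdpos hL (𝟙 X) (Category.id_comp f)
      (Scheme.Hom.isOpenEmbedding (𝟙 X)).isEmbedding (V y) (hV y) (hgood' y hyt)
    have hVy : CohB1.IsAmple (L.restrict (f ⁻¹ᵁ V y).ι) :=
      Groth.Agent.Lib.Helper35.Ample.isAmple_of_iso
        ((Scheme.Modules.restrictFunctor (f ⁻¹ᵁ V y).ι).mapIso
          ((Scheme.Modules.pullbackId (X := X)).app L)) h1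
    refine isAmple_restrict_of_le L (f ⁻¹ᵁ V y) (f ⁻¹ᵁ Y.basicOpen a) ?_ ?_ hVy
    · exact (Opens.map f.base).monotone haV
    · exact QuasiCompact.isCompact_preimage (f := f) _ (Y.basicOpen a).2
        ((hW.basicOpen a).isCompact)

end rel

end Groth.Agent.Lib.Helper35.RVD
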