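import Groth.Agent.Lib.Lead.Tw5

/-!
# Finitely many global sections of a twist generate (ample case)
-/

set_option autoImplicit false
universe u

open AlgebraicGeometry CategoryTheory Opposite TopologicalSpace MonoidalCategory Limits

namespace Groth.Agent.Lib.Helper35.ResProp

open Groth.Agent.Lib.Lead.QCohAff Groth.Agent.Lib.Helper35.GlobGen Groth.Agent.Lib.Lead.Inv
open Groth.Agent.Lib.Helper60.TensorLib

variable {X : Scheme.{u}}

/-- the local step, remembering the finite family (variant of `Lead.Inv.spanGen_local`). -/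
theorem spanGen_local_fin {L : X.Modules} (G : X.Modules) [G.IsQuasicoherent]
    (s : Coh.structureModule X ⟶ L) (hU : IsAffineOpen (CohB1.genLocus L s)) (k : ℕ)
    {κ : Type*} (τ : κ → Γ(G, CohB1.genLocus L s))
    (hT : Submodule.span Γ(X, CohB1.genLocus L s) (Set.range τ) = ⊤)
    (t' : κ → Γ(CohB1.tensorMod G (CohB1.tensorPow L k), ⊤))
    (hext : ∀ j, (CohB1.tensorMod G (CohB1.tensorPow L k)).presheaf.map
        (homOfLE (le_top : CohB1.genLocus L s ≤ ⊤)).op (t' j) =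
        tmul G (CohB1.tensorPow L k) (τ j) (genPow (val s (CohB1.genLocus L s)) k))
    (U : X.Opens) (t : Γ(CohB1.tensorMod G (CohB1.tensorPow L k), U)) (x : X) (hxU : x ∈ U)
    (hxs : x ∈ CohB1.genLocus L s) :
    ∃ (W : X.Opens) (hW : W ≤ U), x ∈ W ∧
      (CohB1.tensorMod G (CohB1.tensorPow L k)).presheaf.map (homOfLE hW).op t ∈
        Submodule.span Γ(X, W) (Set.range fun j : κ =>
          (CohB1.tensorMod G (CohB1.tensorPow L k)).presheaf.map
            (homOfLE (le_top : W ≤ ⊤)).op (t' j)) := by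
  have hgen : IsGen (CohB1.tensorPow L k) (CohB1.genLocus L s)
      (genPow (val s (CohB1.genLocus L s)) k) :=
    isGen_genPow ((le_genLocus_iff_isGen s (CohB1.genLocus L s)).mp le_rfl) k
  obtain ⟨f, hfW, hxf⟩ := hU.exists_basicOpen_le (V := U ⊓ CohB1.genLocus L s)
    ⟨x, ⟨hxU, hxs⟩⟩ hxs
  have hDU : X.basicOpen f ≤ U := hfW.trans inf_le_left
  have hDs : X.basicOpen f ≤ CohB1.genLocus L s := X.basicOpen_le f
  refine ⟨X.basicOpen f, hDU, hxf, ?_⟩
  obtain ⟨τ₁, hτ₁⟩ := (tmulREquiv G hgen hDs).surjective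
    ((CohB1.tensorMod G (CohB1.tensorPow L k)).presheaf.map (homOfLE hDU).op t)
  rw [← hτ₁]
  obtain ⟨n, σ, hσ⟩ := (LocOn.of_isQuasicoherent G hU).2 f τ₁
  obtain ⟨u, hu⟩ := (isUnit_res_basicOpen f).pow n
  have hτ' : τ₁ = (↑u⁻¹ : Γ(X, X.basicOpen f)) • G.presheaf.map (homOfLE hDs).op σ := by
    rw [hσ, ← hu, smul_smul, Units.inv_mul, one_smul]
  rw [hτ', map_smul]
  refine Submodule.smul_mem _ _ ?_
  have hσT : σ ∈ Submodule.span Γ(X, CohB1.genLocus L s) (Set.range τ) := by rw [hT]; trivial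
  clear hτ' hσ
  induction hσT using Submodule.span_induction with
  | mem τ₀ hτ₀ =>
    obtain ⟨j, rfl⟩ := hτ₀
    refine Submodule.subset_span ⟨j, ?_⟩
    rw [tmulREquiv_apply, ← tmul_res, ← hext j, res_res]
  | zero => rw [map_zero, map_zero]; exact Submodule.zero_mem _
  | add a b _ _ ha hb => rw [map_add, map_add]; exact Submodule.add_mem _ ha hb
  | smul r a _ ha => rw [res_smul, map_smul]; exact Submodule.smul_mem _ _ ha

/-- local generation by a family of global sections -/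
def LocSpan (F : X.Modules) {κ : Type*} (σ : κ → Γ(F, ⊤)) : Prop :=
  ∀ (U : X.Opens) (t : Γ(F, U)) (x : X), x ∈ U → ∃ (W : X.Opens) (hW : W ≤ U), x ∈ W ∧
    F.presheaf.map (homOfLE hW).op t ∈ Submodule.span Γ(X, W)
      (Set.range fun j => F.presheaf.map (homOfLE (le_top : W ≤ ⊤)).op (σ j))

open Groth.Agent.Lib.Lead.CohAff in
/-- **Serre, finite form**: for `L` ample and `M` quasi-coherent of finite type there is an
invertible `A` (a power of `L`) such that `M ⊗ A` is generated by finitely many global sections. -/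
theorem exists_finite_locSpan {L : X.Modules} (hL : CohB1.IsAmple L) (M : X.Modules)
    (hM : Coh.IsCoh M) :
    ∃ (A : X.Modules) (_ : PicF.IsInvertible A) (k : ℕ) (σ : Fin k → Γ(CohB1.tensorMod M A, ⊤)),
      LocSpan (CohB1.tensorMod M A) σ := by
  obtain ⟨m, hm, ι, hfin, s, haff, hcov⟩ := exists_finite_cover_common_exponent hL
  have hInv := hL.1
  have := hL.2.1
  have : QuasiSeparatedSpace X :=
    Groth.Agent.Lib.Helper35.Ample.quasiSeparatedSpace_of_cover_genLocus hInv hL.2.2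
  have hInvm := isInvertible_tensorPow hInv m
  have := hM.1
  have fin : ∀ i, Module.Finite Γ(X, CohB1.genLocus _ (s i)) Γ(M, CohB1.genLocus _ (s i)) :=
    fun i => finite_sections_of_isFiniteType M hM.2 (haff i)
  choose T hT using (fun i => (fin i).fg_top)
  have h1 : ∀ i, ∃ n₀ : ℕ, ∀ n, n₀ ≤ n → ∀ τ ∈ T i,
      ∃ t' : Γ(CohB1.tensorMod M (CohB1.tensorPow (CohB1.tensorPow L m) n), ⊤),
      (CohB1.tensorMod M (CohB1.tensorPow (CohB1.tensorPow L m) n)).presheaf.map
        (homOfLE (le_top : CohB1.genLocus _ (s i) ≤ ⊤)).op t' =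
        tmul M (CohB1.tensorPow (CohB1.tensorPow L m) n) τ
          (genPow (val (s i) (CohB1.genLocus _ (s i))) n) :=
    fun i => exists_uniform_finset (T i) _ (fun τ _ => exists_twist_extends_ge hInvm (s i) M τ)
  obtain ⟨k₀, hk₀⟩ := exists_uniform_finite _ h1
  have h2 := hk₀ k₀ le_rfl
  choose t' ht' using h2
  let κ : Type u := Σ i : ι, {τ // τ ∈ T i}
  haveI : Finite κ := inferInstance
  let σ₀ : κ → Γ(CohB1.tensorMod M (CohB1.tensorPow (CohB1.tensorPow L m) k₀), ⊤) :=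
    fun j => t' j.1 j.2.1 j.2.2
  have hσ₀ : LocSpan _ σ₀ := by
    intro U t x hxU
    obtain ⟨i, hi⟩ := hcov x
    have hTi : Submodule.span Γ(X, CohB1.genLocus _ (s i))
        (Set.range fun τ : {τ // τ ∈ T i} => (τ.1 : Γ(M, CohB1.genLocus _ (s i)))) = ⊤ := by
      rw [← hT i]
      congr 1
      ext z
      simp
    obtain ⟨W, hW, hxW, hmem⟩ := spanGen_local_fin M (s i) (haff i) k₀
      (fun τ : {τ // τ ∈ T i} => (τ.1 : Γ(M, CohB1.genLocus _ (s i)))) hTi
      (fun τ => t' i τ.1 τ.2) (fun τ => ht' i τ.1 τ.2) U t x hxU hi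
    refine ⟨W, hW, hxW, Submodule.span_mono ?_ hmem⟩
    rintro _ ⟨τ, rfl⟩
    exact ⟨⟨i, τ⟩, rfl⟩
  obtain ⟨k, ⟨e⟩⟩ := Finite.exists_equiv_fin κ
  refine ⟨CohB1.tensorPow (CohB1.tensorPow L m) k₀, isInvertible_tensorPow hInvm k₀, k,
    σ₀ ∘ e.symm, ?_⟩
  intro U t x hxU
  obtain ⟨W, hW, hxW, hmem⟩ := hσ₀ U t x hxU
  refine ⟨W, hW, hxW, Submodule.span_mono ?_ hmem⟩
  rintro _ ⟨j, rfl⟩
  exact ⟨e j, by simp⟩

end Groth.Agent.Lib.Helper35.ResProp
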