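import Groth.Agent.Lib.Helper35.ResProp
import Groth.Agent.Lib.Helper35.Dual3
import Groth.Agent.Lib.Helper35.PbTensor
import Groth.Agent.Lib.Helper7.FinLocFree
import Groth.Prelude.Def_PerfAux

/-!
# Ample ⇒ resolution property
-/

set_option autoImplicit false
universe u

open AlgebraicGeometry CategoryTheory Opposite TopologicalSpace Limits

namespace Groth.Agent.Lib.Helper35.ResProp

open Groth.Agent.Lib.Helper35.GlobGen Groth.Agent.Lib.Helper35.Gen
open Groth.Agent.Lib.Helper35.AbSheaf Groth.Agent.Lib.Helper35.Dual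
open Groth.Agent.Lib.Helper60.TensorLib

variable {X : Scheme.{u}}

lemma rs_app {F G : X.Modules} (s : F ⟶ G) {U V : X.Opens} (h : V ≤ U) (m : Γ(F, U)) :
    rs G h ((s.app U).hom m) = (s.app V).hom (rs F h m) :=
  (nat_res s.mapPresheaf h m).symm

/-- the pairing defining `s ⊗ N` -/
noncomputable def mapLeftBilin {F G : X.Modules} (s : F ⟶ G) (N : X.Modules) (U : X.Opens) :
    Γ(F, U) →ₗ[Γ(X, U)] Γ(N, U) →ₗ[Γ(X, U)] Γ(CohB1.tensorMod G N, U) :=
  LinearMap.mk₂ Γ(X, U) (fun m n => tm G N ((s.app U).hom m) n)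
    (fun m m' n => by rw [map_add, tm_add_left])
    (fun c m n => by
      have : (s.app U).hom (c • m) = c • (s.app U).hom m := Scheme.Modules.Hom.app_smul s c m
      rw [this, tm_smul_left])
    (fun m n n' => tm_add_right G N _ n n')
    (fun c m n => tm_smul_right G N c _ n)

lemma mapLeftBilin_nat {F G : X.Modules} (s : F ⟶ G) (N : X.Modules) {U V : X.Opens} (i : V ⟶ U)
    (m : Γ(F, U)) (n : Γ(N, U)) :
    (CohB1.tensorMod G N).presheaf.map i.op (mapLeftBilin s N U m n) =
      mapLeftBilin s N V (F.presheaf.map i.op m) (N.presheaf.map i.op n) := by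
  have h1 := rs_tm G N i.le ((s.app U).hom m) n
  rw [rs_app] at h1
  exact h1

/-- `s ⊗ N : F ⊗ N ⟶ G ⊗ N` -/
noncomputable def mapLeft {F G : X.Modules} (s : F ⟶ G) (N : X.Modules) :
    CohB1.tensorMod F N ⟶ CohB1.tensorMod G N :=
  liftHom (CohB1.tensorPre F N) (CohB1.tensorMod G N)
    (tensorPreHom F N (CohB1.tensorMod G N) (mapLeftBilin s N)
      (fun i m n => mapLeftBilin_nat s N i m n))

theorem mapLeft_tm {F G : X.Modules} (s : F ⟶ G) (N : X.Modules) {U : X.Opens} (m : Γ(F, U))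
    (n : Γ(N, U)) :
    ((mapLeft s N).app U).hom (tm F N m n) = tm G N ((s.app U).hom m) n :=
  Groth.Agent.Lib.Helper35.PbTensor.liftHom_tm F N (CohB1.tensorMod G N) (mapLeftBilin s N)
    (fun i m n => mapLeftBilin_nat s N i m n) U m n

/-- a finite direct sum of copies of an invertible module is finite locally free -/
theorem isFinLocFree_sigma {N : X.Modules} (hN : PicF.IsInvertible N) (k : ℕ) :
    FlatMod.IsFinLocFree (∐ fun _ : Fin k => N) := by
  intro x
  obtain ⟨U, hxU, ⟨e⟩⟩ := hN x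
  refine ⟨U, k, hxU, ⟨?_⟩⟩
  exact PreservesCoproduct.iso (Scheme.Modules.restrictFunctor U.ι) (fun _ : Fin k => N) ≪≫
    Sigma.mapIso (fun _ => e)

open Groth.Agent.Lib.Lead.Inv in
/-- from finitely many generating sections of `M ⊗ A` to a resolution of `M` -/
theorem exists_epi_of_locSpan (M A : X.Modules) (hA : PicF.IsInvertible A) (k : ℕ)
    (σ : Fin k → Γ(CohB1.tensorMod M A, ⊤)) (hσ : LocSpan (CohB1.tensorMod M A) σ) :
    ∃ (E : X.Modules) (π : E ⟶ M), FlatMod.IsFinLocFree E ∧ Epi π := by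
  have hN : PicF.IsInvertible (dual A) := isInvertible_dual hA
  obtain ⟨e⟩ := isInverseOf_dual' hA
  obtain ⟨ρ⟩ := nonempty_unit_right M
  let c : CohB1.tensorMod (CohB1.tensorMod M A) (dual A) ≅ M :=
    assocIso (assocOK_of_mid_right (A := M) hA hN) ≪≫ tensorModCongrRight M e ≪≫ ρ
  have hN' : PicF.IsInvertible (CohB1.tensorMod (Coh.structureModule X) (dual A)) :=
    Gen.isInvertible_tensorMod (Groth.Agent.Lib.Helper35.InvPush.isInvertible_structureModule X) hN
  let p : Fin k → (CohB1.tensorMod (Coh.structureModule X) (dual A) ⟶ M) :=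
    fun j => mapLeft (secHom _ (σ j)) (dual A) ≫ c.hom
  refine ⟨∐ fun _ : Fin k => CohB1.tensorMod (Coh.structureModule X) (dual A), Sigma.desc p,
    isFinLocFree_sigma hN' k, ?_⟩
  set π : (∐ fun _ : Fin k => CohB1.tensorMod (Coh.structureModule X) (dual A)) ⟶ M :=
    Sigma.desc p with hπ
  have h1 : Epi ((SheafOfModules.toSheaf _).map π) := by
    refine (CategoryTheory.Sheaf.isLocallySurjective_iff_epi'
      (J := Opens.grothendieckTopology X) AddCommGrpCat _).mp ?_
    refine (TopCat.Presheaf.isLocallySurjective_iff (X := X.toTopCat) _).mpr ?_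
    intro U t x hx
    obtain ⟨U₁, hxU₁, ν, hν⟩ := exists_isGen_of_isInvertible hN x
    have hc : Function.Bijective (c.hom.app (U ⊓ U₁)) := app_bijective_of_isIso c.hom (U ⊓ U₁)
    obtain ⟨w, hw⟩ := hc.2 (rs M (inf_le_left : U ⊓ U₁ ≤ U) t)
    obtain ⟨y, hy⟩ := (tm_right_bijective (CohB1.tensorMod M A) (dual A) ν hν (U ⊓ U₁)
      inf_le_right).2 w
    obtain ⟨W, hW, hxW, hmem⟩ := hσ (U ⊓ U₁) y x ⟨hx, hxU₁⟩
    refine ⟨W, hW.trans inf_le_left, ?_, hxW⟩
    let S : Submodule Γ(X, W) Γ(M, W) :=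
      { carrier := Set.range (π.app W).hom
        add_mem' := by
          rintro _ _ ⟨a, rfl⟩ ⟨b, rfl⟩
          exact ⟨a + b, map_add _ a b⟩
        zero_mem' := ⟨0, map_zero _⟩
        smul_mem' := by
          rintro r _ ⟨z, rfl⟩
          exact ⟨r • z, Scheme.Modules.Hom.app_smul π r z⟩ }
    let νW : Γ(dual A, W) := rs (dual A) (hW.trans inf_le_right) ν
    let Ψ : Γ(CohB1.tensorMod M A, W) →ₗ[Γ(X, W)] Γ(M, W) :=
      { toFun := fun y' => (c.hom.app W).hom (tm (CohB1.tensorMod M A) (dual A) y' νW)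
        map_add' := by
          intro a b
          rw [tm_add_left, map_add]
        map_smul' := by
          intro r a
          rw [tm_smul_left]
          exact Scheme.Modules.Hom.app_smul c.hom r _ }
    have hle : Submodule.span Γ(X, W) (Set.range fun j =>
        (CohB1.tensorMod M A).presheaf.map (homOfLE (le_top : W ≤ ⊤)).op (σ j)) ≤
        S.comap Ψ := by
      rw [Submodule.span_le]
      rintro _ ⟨j, rfl⟩
      refine ⟨((Sigma.ι (fun _ : Fin k => CohB1.tensorMod (Coh.structureModule X) (dual A)) j).app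
        W).hom (tm (Coh.structureModule X) (dual A)
          (show Γ(Coh.structureModule X, W) from (1 : Γ(X, W))) νW), ?_⟩
      have e1 : Sigma.ι (fun _ : Fin k => CohB1.tensorMod (Coh.structureModule X) (dual A)) j ≫ π =
          p j := by
        rw [hπ, Sigma.ι_desc]
      have e2 := congrArg (fun φ : CohB1.tensorMod (Coh.structureModule X) (dual A) ⟶ M =>
        (Scheme.Modules.Hom.app φ W).hom (tm (Coh.structureModule X) (dual A)
          (show Γ(Coh.structureModule X, W) from (1 : Γ(X, W))) νW)) e1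
      refine e2.trans ?_
      change (c.hom.app W).hom (((mapLeft (secHom _ (σ j)) (dual A)).app W).hom _) = _
      rw [mapLeft_tm, secHom_app_one]
      rfl
    have h2 := hle hmem
    obtain ⟨z, hz⟩ := h2
    refine ⟨z, hz.trans ?_⟩
    change (c.hom.app W).hom (tm (CohB1.tensorMod M A) (dual A) (rs _ hW y) νW) = _
    have h3 : tm (CohB1.tensorMod M A) (dual A) (rs _ hW y) νW = rs _ hW w := by
      rw [← hy, rs_tm, rs_rs]
    rw [h3, ← rs_app, ]
    have h4 : (c.hom.app (U ⊓ U₁)).hom w = rs M (inf_le_left : U ⊓ U₁ ≤ U) t := hw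
    rw [h4, rs_rs]
    rfl
  exact Functor.epi_of_epi_map (SheafOfModules.toSheaf _) h1

end Groth.Agent.Lib.Helper35.ResProp
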