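import Groth.Agent.Lib.Helper35.ResProp2

/-!
# Resolution by copies of a fixed inverse (precise forms of `ResProp`, `ResProp2`)
-/

set_option autoImplicit false
universe u

open AlgebraicGeometry CategoryTheory Opposite TopologicalSpace Limits

namespace Groth.Agent.Lib.Helper35.ResProp

open Groth.Agent.Lib.Helper35.GlobGen Groth.Agent.Lib.Helper35.Gen
open Groth.Agent.Lib.Helper35.AbSheaf
open Groth.Agent.Lib.Helper60.TensorLib

variable {X : Scheme.{u}}

section
open Groth.Agent.Lib.Lead.QCohAff Groth.Agent.Lib.Lead.Inv Groth.Agent.Lib.Lead.CohAff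

/-- **Serre, finite form**, remembering the power of `L`. -/
theorem exists_finite_locSpan_pow {L : X.Modules} (hL : CohB1.IsAmple L) (M : X.Modules)
    (hM : Coh.IsCoh M) :
    ∃ (m k₀ k : ℕ)
      (σ : Fin k → Γ(CohB1.tensorMod M (CohB1.tensorPow (CohB1.tensorPow L m) k₀), ⊤)),
      LocSpan (CohB1.tensorMod M (CohB1.tensorPow (CohB1.tensorPow L m) k₀)) σ := by
  obtain ⟨m, hm, ι, hfin, s, haff, hcov⟩ := exists_finite_cover_common_exponent hL
  have hInv := hL.1
  have := hL.2.1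
  have : QuasiSeparatedSpace X :=
    Groth.Agent.Lib.Helper35.Ample.quasiSeparatedSpace_of_cover_genLocus hInv hL.2.2
  have hInvm := Groth.Agent.Lib.Lead.Inv.isInvertible_tensorPow hInv m
  have := hM.1
  have fin : ∀ i, Module.Finite Γ(X, CohB1.genLocus _ (s i)) Γ(M, CohB1.genLocus _ (s i)) :=
    fun i => finite_sections_of_isFiniteType M hM.2 (haff i)
  choose T hT using (fun i => (fin i).fg_top)
  have h1 : ∀ i, ∃ n₀ : ℕ, ∀ n, n₀ ≤ n → ∀ τ ∈ T i,
      ∃ t' : Γ(CohB1.tensorMod M (CohB1.tensorPow (CohB1.tensorPow L m) n), ⊤),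
      (CohB1.tensorMod M (CohB1.tensorPow (CohB1.tensorPow L m) n)).presheaf.map
        (homOfLE (le_top : CohB1.genLocus _ (s i) ≤ ⊤)).op t' =
        tmul M (CohB1.tensorPow (CohB1.tensorPow L m) n) τ
          (genPow (val (s i) (CohB1.genLocus _ (s i))) n) :=
    fun i => exists_uniform_finset (T i) _ (fun τ _ => exists_twist_extends_ge hInvm (s i) M τ)
  obtain ⟨k₀, hk₀⟩ := exists_uniform_finite _ h1
  have h2 := hk₀ k₀ le_rfl
  choose t' ht' using h2
  let κ : Type u := Σ i : ι, {τ // τ ∈ T i}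
  haveI : Finite κ := inferInstance
  let σ₀ : κ → Γ(CohB1.tensorMod M (CohB1.tensorPow (CohB1.tensorPow L m) k₀), ⊤) :=
    fun j => t' j.1 j.2.1 j.2.2
  have hσ₀ : LocSpan _ σ₀ := by
    intro U t x hxU
    obtain ⟨i, hi⟩ := hcov x
    have hTi : Submodule.span Γ(X, CohB1.genLocus _ (s i))
        (Set.range fun τ : {τ // τ ∈ T i} => (τ.1 : Γ(M, CohB1.genLocus _ (s i)))) = ⊤ := by
      rw [← hT i]
      congr 1
      ext z
      simp
    obtain ⟨W, hW, hxW, hmem⟩ := spanGen_local_fin M (s i) (haff i) k₀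
      (fun τ : {τ // τ ∈ T i} => (τ.1 : Γ(M, CohB1.genLocus _ (s i)))) hTi
      (fun τ => t' i τ.1 τ.2) (fun τ => ht' i τ.1 τ.2) U t x hxU hi
    refine ⟨W, hW, hxW, Submodule.span_mono ?_ hmem⟩
    rintro _ ⟨τ, rfl⟩
    exact ⟨⟨i, τ⟩, rfl⟩
  obtain ⟨k, ⟨e⟩⟩ := Finite.exists_equiv_fin κ
  refine ⟨m, k₀, k, σ₀ ∘ e.symm, ?_⟩
  intro U t x hxU
  obtain ⟨W, hW, hxW, hmem⟩ := hσ₀ U t x hxU
  refine ⟨W, hW, hxW, Submodule.span_mono ?_ hmem⟩
  rintro _ ⟨j, rfl⟩
  exact ⟨e j, by simp⟩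

end

/-- transport of `LocSpan` along an isomorphism -/
theorem locSpan_of_iso {F G : X.Modules} (e : F ≅ G) {κ : Type*} (σ : κ → Γ(F, ⊤))
    (hσ : LocSpan F σ) : LocSpan G (fun j => (e.hom.app ⊤).hom (σ j)) := by
  intro U t x hxU
  have hb : Function.Bijective (e.hom.app U) := app_bijective_of_isIso e.hom U
  obtain ⟨t₀, ht₀⟩ := hb.2 t
  obtain ⟨W, hW, hxW, hmem⟩ := hσ U t₀ x hxU
  refine ⟨W, hW, hxW, ?_⟩
  let Ψ : Γ(F, W) →ₗ[Γ(X, W)] Γ(G, W) :=
    { toFun := fun y => (e.hom.app W).hom y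
      map_add' := fun a b => map_add _ a b
      map_smul' := fun r a => Scheme.Modules.Hom.app_smul e.hom r a }
  have h1 : Ψ (F.presheaf.map (homOfLE hW).op t₀) = G.presheaf.map (homOfLE hW).op t := by
    have := rs_app e.hom hW t₀
    rw [← ht₀]
    exact this.symm
  rw [← h1]
  have h2 := Submodule.mem_map_of_mem (f := Ψ) hmem
  rw [Submodule.map_span] at h2
  refine Submodule.span_mono ?_ h2
  rintro _ ⟨_, ⟨j, rfl⟩, rfl⟩
  exact ⟨j, rs_app e.hom (le_top : W ≤ ⊤) (σ j)⟩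

open Groth.Agent.Lib.Lead.Inv in
/-- from finitely many generating sections of `M ⊗ A` to an epimorphism from copies of `O ⊗ N`,
`N` any inverse of `A` -/
theorem exists_epi_of_locSpan_inv (M A N : X.Modules) (hA : PicF.IsInvertible A)
    (hN : PicF.IsInvertible N) (e : CohB1.tensorMod A N ≅ Coh.structureModule X) (k : ℕ)
    (σ : Fin k → Γ(CohB1.tensorMod M A, ⊤)) (hσ : LocSpan (CohB1.tensorMod M A) σ) :
    ∃ π : (∐ fun _ : Fin k => CohB1.tensorMod (Coh.structureModule X) N) ⟶ M, Epi π := by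
  obtain ⟨ρ⟩ := nonempty_unit_right M
  let c : CohB1.tensorMod (CohB1.tensorMod M A) N ≅ M :=
    assocIso (assocOK_of_mid_right (A := M) hA hN) ≪≫ tensorModCongrRight M e ≪≫ ρ
  let p : Fin k → (CohB1.tensorMod (Coh.structureModule X) N ⟶ M) :=
    fun j => mapLeft (secHom _ (σ j)) N ≫ c.hom
  refine ⟨Sigma.desc p, ?_⟩
  set π : (∐ fun _ : Fin k => CohB1.tensorMod (Coh.structureModule X) N) ⟶ M :=
    Sigma.desc p with hπ
  have h1 : Epi ((SheafOfModules.toSheaf _).map π) := by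
    refine (CategoryTheory.Sheaf.isLocallySurjective_iff_epi'
      (J := Opens.grothendieckTopology X) AddCommGrpCat _).mp ?_
    refine (TopCat.Presheaf.isLocallySurjective_iff (X := X.toTopCat) _).mpr ?_
    intro U t x hx
    obtain ⟨U₁, hxU₁, ν, hν⟩ := exists_isGen_of_isInvertible hN x
    have hc : Function.Bijective (c.hom.app (U ⊓ U₁)) := app_bijective_of_isIso c.hom (U ⊓ U₁)
    obtain ⟨w, hw⟩ := hc.2 (rs M (inf_le_left : U ⊓ U₁ ≤ U) t)
    obtain ⟨y, hy⟩ := (tm_right_bijective (CohB1.tensorMod M A) N ν hν (U ⊓ U₁)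
      inf_le_right).2 w
    obtain ⟨W, hW, hxW, hmem⟩ := hσ (U ⊓ U₁) y x ⟨hx, hxU₁⟩
    refine ⟨W, hW.trans inf_le_left, ?_, hxW⟩
    let S : Submodule Γ(X, W) Γ(M, W) :=
      { carrier := Set.range (π.app W).hom
        add_mem' := by
          rintro _ _ ⟨a, rfl⟩ ⟨b, rfl⟩
          exact ⟨a + b, map_add _ a b⟩
        zero_mem' := ⟨0, map_zero _⟩
        smul_mem' := by
          rintro r _ ⟨z, rfl⟩
          exact ⟨r • z, Scheme.Modules.Hom.app_smul π r z⟩ }
    let νW : Γ(N, W) := rs N (hW.trans inf_le_right) ν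
    let Ψ : Γ(CohB1.tensorMod M A, W) →ₗ[Γ(X, W)] Γ(M, W) :=
      { toFun := fun y' => (c.hom.app W).hom (tm (CohB1.tensorMod M A) N y' νW)
        map_add' := by
          intro a b
          rw [tm_add_left, map_add]
        map_smul' := by
          intro r a
          rw [tm_smul_left]
          exact Scheme.Modules.Hom.app_smul c.hom r _ }
    have hle : Submodule.span Γ(X, W) (Set.range fun j =>
        (CohB1.tensorMod M A).presheaf.map (homOfLE (le_top : W ≤ ⊤)).op (σ j)) ≤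
        S.comap Ψ := by
      rw [Submodule.span_le]
      rintro _ ⟨j, rfl⟩
      refine ⟨((Sigma.ι (fun _ : Fin k => CohB1.tensorMod (Coh.structureModule X) N) j).app
        W).hom (tm (Coh.structureModule X) N
          (show Γ(Coh.structureModule X, W) from (1 : Γ(X, W))) νW), ?_⟩
      have e1 : Sigma.ι (fun _ : Fin k => CohB1.tensorMod (Coh.structureModule X) N) j ≫ π =
          p j := by
        rw [hπ, Sigma.ι_desc]
      have e2 := congrArg (fun φ : CohB1.tensorMod (Coh.structureModule X) N ⟶ M =>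
        (Scheme.Modules.Hom.app φ W).hom (tm (Coh.structureModule X) N
          (show Γ(Coh.structureModule X, W) from (1 : Γ(X, W))) νW)) e1
      refine e2.trans ?_
      change (c.hom.app W).hom (((mapLeft (secHom _ (σ j)) N).app W).hom _) = _
      rw [mapLeft_tm, secHom_app_one]
      rfl
    have h2 := hle hmem
    obtain ⟨z, hz⟩ := h2
    refine ⟨z, hz.trans ?_⟩
    change (c.hom.app W).hom (tm (CohB1.tensorMod M A) N (rs _ hW y) νW) = _
    have h3 : tm (CohB1.tensorMod M A) N (rs _ hW y) νW = rs _ hW w := by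
      rw [← hy, rs_tm, rs_rs]
    rw [h3, ← rs_app, ]
    have h4 : (c.hom.app (U ⊓ U₁)).hom w = rs M (inf_le_left : U ⊓ U₁ ≤ U) t := hw
    rw [h4, rs_rs]
    rfl
  exact Functor.epi_of_epi_map (SheafOfModules.toSheaf _) h1

/-- the same with copies of `N` itself -/
theorem exists_epi_sigma_of_locSpan (M A N : X.Modules) (hA : PicF.IsInvertible A)
    (hN : PicF.IsInvertible N) (e : CohB1.tensorMod A N ≅ Coh.structureModule X) (k : ℕ)
    (σ : Fin k → Γ(CohB1.tensorMod M A, ⊤)) (hσ : LocSpan (CohB1.tensorMod M A) σ) :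
    ∃ π : (∐ fun _ : Fin k => N) ⟶ M, Epi π := by
  obtain ⟨π, hπ⟩ := exists_epi_of_locSpan_inv M A N hA hN e k σ hσ
  obtain ⟨u⟩ := nonempty_tensorMod_unit_left N
  refine ⟨(Sigma.mapIso (fun _ : Fin k => u.symm)).hom ≫ π, ?_⟩
  exact epi_comp _ _

end Groth.Agent.Lib.Helper35.ResProp
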