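import Groth.Prelude.Def_SchFin
import Groth.Prelude.Def_SchFin2
import Mathlib.Tactic

set_option autoImplicit false

namespace Groth.Agent.Lib.Helper35

open SchFin TensorProduct

universe u

section H0

variable {X : RSpace.{u}} {U : Set X.pt} {R : Type u} [CommRing R] (φ : Coef X U R)

lemma fin01_eq (a b : Fin (0 + 1)) : a = b := Subsingleton.elim (α := Fin 1) a b

def chain0 (q : U) : Chain U 0 :=
  ⟨⟨fun _ => q, fun a b _ => fin01_eq a b⟩, by
    intro a b
    simp [fin01_eq a b]⟩

lemma chain0_apply (q : U) (i : Fin 1) : chain0 q i = q := rfl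

lemma chain0_eq (σ : Chain U 0) : chain0 (σ (Fin.last 0)) = σ := by
  apply RelEmbedding.ext
  intro i
  rw [fin01_eq i (Fin.last 0)]
  rfl

def chain1 (q q' : U) (h : q < q') : Chain U 1 :=
  OrderEmbedding.ofStrictMono ![q, q'] (by
    intro a b hab
    fin_cases a <;> fin_cases b <;> simp_all)

lemma chain1_face_zero (q q' : U) (h : q < q') : (chain1 q q' h).face 0 = chain0 q' := by
  apply RelEmbedding.ext
  intro i
  rw [fin01_eq i 0]
  rfl

lemma chain1_face_one (q q' : U) (h : q < q') : (chain1 q q' h).face 1 = chain0 q := by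
  apply RelEmbedding.ext
  intro i
  rw [fin01_eq i 0]
  rfl

lemma res_congr (M : OMod X) (c : Cochain φ M 0) {σ τ : Chain U 0} (e : σ = τ) {t : X.pt}
    (h1 : (σ (Fin.last 0)).1 ≤ t) (h2 : (τ (Fin.last 0)).1 ≤ t) :
    M.res h1 (c σ) = M.res h2 (c τ) := by
  subst e
  rfl

lemma cochain_congr (M : OMod X) (c : Cochain φ M 0) (σ : Chain U 0) :
    c (chain0 (σ (Fin.last 0))) = c σ :=
  eq_of_heq (congr_arg_heq c (chain0_eq σ))

lemma diff_zero_apply (M : OMod X) (c : Cochain φ M 0) (σ : Chain U 1) :
    diff φ M 0 c σ = c.faceVal σ 0 - c.faceVal σ 1 := by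
  change (∑ j : Fin (0 + 2), ((-1 : ℤ) ^ (j : ℕ)) • c.faceVal σ j) = _
  rw [Fin.sum_univ_two]
  simp [sub_eq_add_neg]

lemma cocycle_compat (M : OMod X) (c : Cochain φ M 0) (hc : diff φ M 0 c = 0) (q q' : U)
    (h : q.1 ≤ q'.1) : M.res h (c (chain0 q)) = c (chain0 q') := by
  rcases h.eq_or_lt with heq | hlt
  · have : q = q' := Subtype.ext heq
    subst this
    exact M.res_self _ _
  · have hlt' : q < q' := hlt
    have h0 := congrFun hc (chain1 q q' hlt')
    rw [diff_zero_apply] at h0
    have e0 : c.faceVal (chain1 q q' hlt') 0 = c (chain0 q') :=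
      (res_congr φ M c (chain1_face_zero q q' hlt') (Chain.face_last_le 0 _)
        (le_refl q'.1)).trans (M.res_self _ _)
    have e1 : c.faceVal (chain1 q q' hlt') 1 = M.res h (c (chain0 q)) :=
      res_congr φ M c (chain1_face_one q q' hlt') (Chain.face_last_le 1 _) h
    rw [e0, e1] at h0
    exact (sub_eq_zero.mp h0).symm

def sectOfCocycle (c : cocycles φ X.str 0) : X.sectRing U :=
  ⟨fun q => c.1 (chain0 q), fun q q' h =>
    cocycle_compat φ X.str c.1 (LinearMap.mem_ker.mp c.2) q q' h⟩

def cocycleOfSect (s : X.sectRing U) : cocycles φ X.str 0 :=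
  ⟨fun σ => s.1 (σ (Fin.last 0)), by
    rw [cocycles, LinearMap.mem_ker]
    funext σ
    rw [diff_zero_apply]
    have h0 : Cochain.faceVal (φ := φ) (M := X.str) (fun σ => s.1 (σ (Fin.last 0))) σ 0 =
        s.1 (σ (Fin.last 1)) := s.2 _ _ _
    have h1 : Cochain.faceVal (φ := φ) (M := X.str) (fun σ => s.1 (σ (Fin.last 0))) σ 1 =
        s.1 (σ (Fin.last 1)) := s.2 _ _ _
    rw [h0, h1, sub_self]
    rfl⟩

lemma sectOfCocycle_cocycleOfSect (s : X.sectRing U) :
    sectOfCocycle φ (cocycleOfSect φ s) = s := by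
  apply Subtype.ext
  funext q
  rfl

lemma cocycleOfSect_sectOfCocycle (c : cocycles φ X.str 0) :
    cocycleOfSect φ (sectOfCocycle φ c) = c := by
  apply Subtype.ext
  funext σ
  exact cochain_congr φ X.str c.1 σ

lemma sectOfCocycle_bijective : Function.Bijective (sectOfCocycle φ) :=
  Function.bijective_iff_has_inverse.mpr
    ⟨cocycleOfSect φ, cocycleOfSect_sectOfCocycle φ, sectOfCocycle_cocycleOfSect φ⟩

lemma H0_mk_bijective (M : OMod X) : Function.Bijective (H.mk φ M 0) := by
  constructor
  · intro a b hab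
    have h1 : a - b ∈ Submodule.comap (cocycles φ M 0).subtype (cobdry φ M 0) :=
      (Submodule.Quotient.eq _).mp hab
    have h2 : (a - b).1 = 0 := (Submodule.mem_bot R).mp h1
    exact sub_eq_zero.mp (Subtype.ext h2)
  · exact Submodule.mkQ_surjective _

lemma cocycleOfSect_bijective : Function.Bijective (cocycleOfSect φ) :=
  Function.bijective_iff_has_inverse.mpr
    ⟨sectOfCocycle φ, sectOfCocycle_cocycleOfSect φ, cocycleOfSect_sectOfCocycle φ⟩

lemma cocycleOfSect_add (s t : X.sectRing U) :
    cocycleOfSect φ (s + t) = cocycleOfSect φ s + cocycleOfSect φ t := rfl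

lemma cocycleOfSect_apply (s : X.sectRing U) (σ : Chain U 0) :
    (cocycleOfSect φ s).1 σ = s.1 (σ (Fin.last 0)) := rfl

end H0

section resSect

variable (X : RSpace.{u})

lemma resSect_bijective (x : X.pt) (U : Set X.pt) (hU : U ⊆ X.up x) (hx : x ∈ U) :
    Function.Bijective (X.resSect x U hU) := by
  constructor
  · intro a b hab
    have h1 := congrArg (fun t : X.sectRing U => t.1 ⟨x, hx⟩) hab
    have h2 : X.res (le_refl x) a = X.res (le_refl x) b := h1
    rwa [X.res_self, X.res_self] at h2
  · intro t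
    refine ⟨t.1 ⟨x, hx⟩, ?_⟩
    apply Subtype.ext
    funext q
    exact t.2 ⟨x, hx⟩ q (hU q.2)

lemma resSect_apply (x : X.pt) (U : Set X.pt) (hU : U ⊆ X.up x) (a : X.ring x) (q : U) :
    (X.resSect x U hU a).1 q = X.res (hU q.2) a := rfl

end resSect

section Sch0

variable (X : RSpace.{u})

lemma wedge_subset_up_right (s y : X.pt) : (Hom.id X).wedge s y ⊆ X.up y := fun _ h => h.2

lemma mem_wedge_self {s y : X.pt} (hy : s ≤ y) : y ∈ (Hom.id X).wedge s y := ⟨hy, le_refl y⟩

theorem sch0 (hX : X.IsSchematic) {s x y : X.pt} (hx : s ≤ x) (hy : s ≤ y) :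
    letI : Algebra (X.ring s) (X.ring x) := (X.res hx).toAlgebra
    letI : Algebra (X.ring s) (X.ring y) := (X.res hy).toAlgebra
    ∀ (μ : X.ring x ⊗[X.ring s] X.ring y →+ X.sectRing ((Hom.id X).wedge x y)),
      (∀ a b, μ (a ⊗ₜ b) = X.resSect x _ ((Hom.id X).wedge_subset_up x y) a *
        X.resSect y _ (wedge_subset_up_right X x y) b) → Function.Bijective μ := by
  letI iA : Algebra (X.ring s) (X.ring x) := (X.res hx).toAlgebra
  letI iB : Algebra (X.ring s) (X.ring y) := (X.res hy).toAlgebra
  intro μ hμ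
  have hBC := (hX.2.2 0 s x hx y y le_rfl).1
  unfold IsBCAlong at hBC
  let φ' := Coef.ofLE s ((Hom.id X).wedge s y) ((Hom.id X).wedge_subset_up s y)
  let φ := Coef.ofLE x ((Hom.id X).wedge x y) ((Hom.id X).wedge_subset_up x y)
  letI iM : Module (X.ring s) (H φ X.str 0) := Module.compHom _ (X.res hx)
  haveI iT : IsScalarTower (X.ring s) (X.ring x) (H φ X.str 0) :=
    IsScalarTower.of_algebraMap_smul fun _ _ => rfl
  let e := hBC.equiv
  let α : X.ring y →ₗ[X.ring s] H φ' X.str 0 :=
    { toFun := fun b => H.mk φ' X.str 0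
        (cocycleOfSect φ' (X.resSect y _ (wedge_subset_up_right X s y) b))
      map_add' := fun b b' => by
        rw [map_add, cocycleOfSect_add, map_add]
      map_smul' := fun a b => by
        rw [RingHom.id_apply, ← map_smul]
        congr 1
        apply Subtype.ext
        funext σ
        change X.res _ (X.res hy a * b) = X.res _ a * X.res _ b
        rw [map_mul, X.res_comp] }
  have hα : Function.Bijective α :=
    (H0_mk_bijective φ' X.str).comp ((cocycleOfSect_bijective φ').comp
      (resSect_bijective X y _ (wedge_subset_up_right X s y) (mem_wedge_self X hy)))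
  let αe := LinearEquiv.ofBijective α hα
  let γ : X.sectRing ((Hom.id X).wedge x y) → H φ X.str 0 :=
    fun t => H.mk φ X.str 0 (cocycleOfSect φ t)
  have hγ : Function.Bijective γ := (H0_mk_bijective φ X.str).comp (cocycleOfSect_bijective φ)
  have key : ∀ t, e (LinearEquiv.lTensor (X.ring x) αe t) = γ (μ t) := by
    intro t
    induction t using TensorProduct.induction_on with
    | zero =>
      rw [map_zero, map_zero, map_zero]
      exact (map_zero (H.mk φ X.str 0)).symm
    | tmul a b =>
      rw [LinearEquiv.lTensor_tmul, IsBaseChange.equiv_tmul, hμ]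
      change a • H.mk φ X.str 0 _ = H.mk φ X.str 0 _
      rw [← map_smul]
      congr 1
    | add t t' ht ht' =>
      rw [map_add, map_add, ht, ht', map_add]
      change _ = H.mk φ X.str 0 (cocycleOfSect φ (μ t + μ t'))
      rw [cocycleOfSect_add, map_add]
  have hΨ : Function.Bijective (γ ∘ μ) := by
    have : (γ ∘ μ) = fun t => e (LinearEquiv.lTensor (X.ring x) αe t) := by
      funext t
      exact (key t).symm
    rw [this]
    exact e.bijective.comp (LinearEquiv.bijective _)
  exact (Function.Bijective.of_comp_iff' hγ μ).mp hΨ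

theorem sch0_ringEquiv (hX : X.IsSchematic) {s x y : X.pt} (hx : s ≤ x) (hy : s ≤ y) :
    letI : Algebra (X.ring s) (X.ring x) := (X.res hx).toAlgebra
    letI : Algebra (X.ring s) (X.ring y) := (X.res hy).toAlgebra
    ∃ (E : X.ring x ⊗[X.ring s] X.ring y ≃+* X.sectRing ((Hom.id X).wedge x y)),
      ∀ a b, E (a ⊗ₜ b) = X.resSect x _ ((Hom.id X).wedge_subset_up x y) a *
        X.resSect y _ (wedge_subset_up_right X x y) b := by
  letI iA : Algebra (X.ring s) (X.ring x) := (X.res hx).toAlgebra
  letI iB : Algebra (X.ring s) (X.ring y) := (X.res hy).toAlgebra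
  letI iC : Algebra (X.ring s) (X.sectRing ((Hom.id X).wedge x y)) :=
    (X.resSect s _ (fun q hq => hx.trans hq.1)).toAlgebra
  let F : X.ring x →ₐ[X.ring s] X.sectRing ((Hom.id X).wedge x y) :=
    { X.resSect x _ ((Hom.id X).wedge_subset_up x y) with
      commutes' := fun a => by
        apply Subtype.ext
        funext q
        exact X.res_comp _ _ a }
  let G : X.ring y →ₐ[X.ring s] X.sectRing ((Hom.id X).wedge x y) :=
    { X.resSect y _ (wedge_subset_up_right X x y) with
      commutes' := fun a => by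
        apply Subtype.ext
        funext q
        exact X.res_comp _ _ a }
  let P := Algebra.TensorProduct.productMap F G
  have hP : ∀ a b, P (a ⊗ₜ b) = X.resSect x _ ((Hom.id X).wedge_subset_up x y) a *
      X.resSect y _ (wedge_subset_up_right X x y) b := fun a b =>
    Algebra.TensorProduct.productMap_apply_tmul F G a b
  have hbij : Function.Bijective P := sch0 X hX hx hy P.toRingHom.toAddMonoidHom hP
  exact ⟨RingEquiv.ofBijective P.toRingHom hbij, hP⟩

end Sch0

end Groth.Agent.Lib.Helper35
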