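import Groth.Prelude.Def_SchFin
import Groth.Prelude.Def_SchFin2
import Groth.Agent.Lib.Helper35.FlatDescent

set_option autoImplicit false

namespace Groth.Agent.Lib.Helper35

open SchFin TensorProduct

universe u

section Aff

variable (X : RSpace.{u}) (A : Alg X) (U : Set X.pt)

def rhoSect : X.sectRing U →+* (X.restrict U).sectRing Set.univ where
  toFun s := ⟨fun q => s.1 q.1, fun q q' h => s.2 q.1 q'.1 h⟩
  map_one' := rfl
  map_mul' _ _ := rfl
  map_zero' := rfl
  map_add' _ _ := rfl

lemma rhoSect_surjective : Function.Surjective (rhoSect X U) := by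
  intro t
  refine ⟨⟨fun q => t.1 ⟨q, trivial⟩, fun q q' h => t.2 ⟨q, trivial⟩ ⟨q', trivial⟩ h⟩, ?_⟩
  apply Subtype.ext
  funext q
  rfl

def betaSect : A.total.sectRing U ≃+ (A.toMod.restrict U).sect Set.univ where
  toFun b := ⟨fun q => b.1 q.1, fun q q' h => b.2 q.1 q'.1 h⟩
  invFun m := ⟨fun q => m.1 ⟨q, trivial⟩, fun q q' h => m.2 ⟨q, trivial⟩ ⟨q', trivial⟩ h⟩
  left_inv b := by
    apply Subtype.ext
    funext q
    rfl
  right_inv m := by
    apply Subtype.ext
    funext q
    rfl
  map_add' _ _ := rfl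

def evLin (x : U) :
    letI : Algebra (X.sectRing U) (A.total.sectRing U) := (A.sectMap U).toAlgebra
    letI : Module (X.sectRing U) (A.carrier x.1) := Module.compHom _ (X.evalRing U x)
    A.total.sectRing U →ₗ[X.sectRing U] A.carrier x.1 :=
  letI : Algebra (X.sectRing U) (A.total.sectRing U) := (A.sectMap U).toAlgebra
  letI : Module (X.sectRing U) (A.carrier x.1) := Module.compHom _ (X.evalRing U x)
  { toFun := fun b => b.1 x
    map_add' := fun _ _ => rfl
    map_smul' := fun r b => by
      exact (Algebra.smul_def (A := A.carrier x.1) (r.1 x) (b.1 x)).symm }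

theorem isBaseChange_eval (hA : A.IsQcoh) (hUa : (X.restrict U).IsAffine) (x : U) :
    letI : Algebra (X.sectRing U) (X.ring x.1) := (X.evalRing U x).toAlgebra
    letI : Algebra (X.sectRing U) (A.total.sectRing U) := (A.sectMap U).toAlgebra
    letI : Module (X.sectRing U) (A.carrier x.1) := Module.compHom _ (X.evalRing U x)
    haveI : IsScalarTower (X.sectRing U) (X.ring x.1) (A.carrier x.1) :=
      IsScalarTower.of_algebraMap_smul fun _ _ => rfl
    IsBaseChange (X.ring x.1) (evLin X A U x) := by
  letI i1 : Algebra (X.sectRing U) (X.ring x.1) := (X.evalRing U x).toAlgebra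
  letI i2 : Algebra (X.sectRing U) (A.total.sectRing U) := (A.sectMap U).toAlgebra
  letI i3 : Module (X.sectRing U) (A.carrier x.1) := Module.compHom _ (X.evalRing U x)
  haveI i4 : IsScalarTower (X.sectRing U) (X.ring x.1) (A.carrier x.1) :=
    IsScalarTower.of_algebraMap_smul fun _ _ => rfl
  have hq : (A.toMod.restrict U).IsQcoh := fun p q h => hA p.1 q.1 h
  have hbc := hUa.2.2.1 (A.toMod.restrict U) hq x
  unfold IsBCAlong at hbc
  let ev' : (X.restrict U).sectRing Set.univ →+* X.ring x.1 :=
    (X.restrict U).evalRing Set.univ ⟨x, trivial⟩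
  letI j1 : Algebra ((X.restrict U).sectRing Set.univ) (X.ring x.1) := ev'.toAlgebra
  letI j3 : Module ((X.restrict U).sectRing Set.univ) (A.carrier x.1) :=
    Module.compHom (A.carrier x.1) ev'
  haveI j4 : IsScalarTower ((X.restrict U).sectRing Set.univ) (X.ring x.1) (A.carrier x.1) :=
    IsScalarTower.of_algebraMap_smul fun _ _ => rfl
  refine isBaseChange_transport (rhoSect X U) (rhoSect_surjective X U) (fun r => rfl)
    (betaSect X A U) ?_ (evLin X A U x) _ (fun m => rfl) hbc
  intro r m
  apply Subtype.ext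
  funext q
  exact (Algebra.smul_def (A := A.carrier q.1.1) (r.1 q.1) (m.1 q.1)).symm

end Aff

end Groth.Agent.Lib.Helper35
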