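import Groth.Agent.Lib.Helper35.Triv
import Groth.Agent.Lib.Helper35.IntegralSec
import Groth.Agent.Lib.Helper35.Ample1
import Mathlib.AlgebraicGeometry.Morphisms.QuasiFinite

/-!
# Invertible modules on a scheme finite over a local ring are trivial
-/

universe u

open CategoryTheory AlgebraicGeometry TopologicalSpace Opposite

namespace Groth.Agent.Lib.Helper35.SemiLocalPic

open Groth.Agent.Lib.Helper35.AbSheaf Groth.Agent.Lib.Helper35.Gen
open Groth.Agent.Lib.Helper35.GlobGen Groth.Agent.Lib.Helper35.Ample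

theorem nonempty_iso_of_isGen_top {Z : Scheme.{u}} {M : Z.Modules} (e : Γ(M, ⊤))
    (he : IsGen M ⊤ e) : Nonempty (M ≅ Coh.structureModule Z) := by
  apply Groth.Agent.Lib.Helper35.IntegralSec.nonempty_iso_of_genLocus_eq_top (secHom M e)
  rw [eq_top_iff, ← isGen_val_iff, val_secHom, rs_self]
  exact he

theorem nonempty_iso_of_finite_over_local {Z : Scheme.{u}} (R : Type u) [CommRing R]
    [IsLocalRing R] (f : Z ⟶ Spec (CommRingCat.of R)) [IsFinite f] {M : Z.Modules}
    (hM : PicF.IsInvertible M) : Nonempty (M ≅ Coh.structureModule Z) := by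
  haveI : IsAffine Z := isAffine_of_isAffineHom f
  have hfin : (f ⁻¹' {IsLocalRing.closedPoint R}).Finite :=
    f.finite_preimage_singleton (IsLocalRing.closedPoint R)
  obtain ⟨G, -, hTG, ⟨φ⟩⟩ := Groth.Agent.Lib.Helper35.Triv.exists_affine_trivial M hM
    hfin.toFinset ⟨⊤, isAffineOpen_top Z, fun _ _ => trivial⟩
  have hG : G = ⊤ := by
    rw [eq_top_iff]
    intro z _
    by_contra hz
    have hclosed : IsClosed (f '' ((G : Set Z)ᶜ)) := f.isClosedMap _ G.isOpen.isClosed_compl
    have hs : IsLocalRing.closedPoint R ∈ f '' ((G : Set Z)ᶜ) :=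
      (IsLocalRing.specializes_closedPoint (f z)).mem_closed hclosed ⟨z, hz, rfl⟩
    obtain ⟨w, hw, hws⟩ := hs
    exact hw (hTG w ((Set.Finite.mem_toFinset hfin).mpr hws))
  subst hG
  obtain ⟨e, he⟩ := exists_isGen_of_iso ⊤ φ
  exact nonempty_iso_of_isGen_top e he

end Groth.Agent.Lib.Helper35.SemiLocalPic
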