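import Mathlib
import Groth.Agent.Lib.Helper35.Gen

/-!
# A separatedness criterion: affine cover with affine pairwise intersections whose coordinate
rings are generated by the restrictions
-/

universe u

open CategoryTheory AlgebraicGeometry TopologicalSpace Opposite Limits

namespace Groth.Agent.Lib.Helper35.Sep

open Groth.Agent.Lib.Helper35.Gen

variable {X : Scheme.{u}}

/-- the ring of functions on `W` is generated by the restrictions from `A` and `B` -/
def GenBy (X : Scheme.{u}) (A B W : X.Opens) (hA : W ≤ A) (hB : W ≤ B) : Prop :=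
  ∀ y : Γ(X, W), y ∈ Subring.closure (Set.range (rr X hA) ∪ Set.range (rr X hB))

theorem GenBy.congr {A B W A' B' W' : X.Opens} (eA : A' = A) (eB : B' = B) (eW : W' = W)
    {hA : W ≤ A} {hB : W ≤ B} (h : GenBy X A B W hA hB) (hA' : W' ≤ A') (hB' : W' ≤ B') :
    GenBy X A' B' W' hA' hB' := by
  subst eA eB eW
  exact h

theorem GenBy.appTop {A B W : X.Opens} {hA : W ≤ A} {hB : W ≤ B} (h : GenBy X A B W hA hB)
    (y : Γ((W : Scheme.{u}), ⊤)) :
    y ∈ Subring.closure (Set.range (X.homOfLE hA).appTop.hom ∪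
      Set.range (X.homOfLE hB).appTop.hom) := by
  have hA' : W.ι ''ᵁ ⊤ ≤ A.ι ''ᵁ ⊤ := by rw [W.ι_image_top, A.ι_image_top]; exact hA
  have hB' : W.ι ''ᵁ ⊤ ≤ B.ι ''ᵁ ⊤ := by rw [W.ι_image_top, B.ι_image_top]; exact hB
  have h' := h.congr A.ι_image_top B.ι_image_top W.ι_image_top hA' hB'
  have e1 : (X.homOfLE hA).appTop.hom = rr X hA' := by
    rw [X.homOfLE_appTop]
    rfl
  have e2 : (X.homOfLE hB).appTop.hom = rr X hB' := by
    rw [X.homOfLE_appTop]
    rfl
  rw [e1, e2]
  exact h' y

theorem isSeparated_of_cover {ι : Type u} (G : ι → X.Opens) (hcov : IsOpenCover G)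
    (hG : ∀ i, IsAffineOpen (G i)) (hinf : ∀ i j, IsAffineOpen (G i ⊓ G j))
    (hgen : ∀ i j, GenBy X (G i) (G j) (G i ⊓ G j) inf_le_left inf_le_right) :
    X.IsSeparated := by
  constructor
  rw [IsSeparated.isSeparated_eq_diagonal_isClosedImmersion]
  rw [← HasAffineProperty.diagonal_iff (P := @IsClosedImmersion)]
  let 𝒰 := X.openCoverOfIsOpenCover G hcov
  haveI : ∀ i, IsAffine (𝒰.X i) := fun i => hG i
  letI := HasAffineProperty.isLocal_affineProperty @IsClosedImmersion
  refine AffineTargetMorphismProperty.diagonal_of_openCover_source (terminal.from X) 𝒰 ?_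
  intro i j
  have hpb := IsOpenImmersion.isPullback (X.homOfLE (inf_le_left : G i ⊓ G j ≤ G i))
    (X.homOfLE (inf_le_right : G i ⊓ G j ≤ G j)) (G i).ι (G j).ι (by simp) (by ext; simp)
  haveI : IsAffine ((G i ⊓ G j : X.Opens) : Scheme.{u}) := hinf i j
  have haff : IsAffine (pullback (G i).ι (G j).ι) := .of_isIso hpb.isoPullback.inv
  refine ⟨haff, ?_⟩
  let m := pullback.mapDesc (G i).ι (G j).ι (terminal.from X)
  let φ := (hpb.isoPullback.hom ≫ m).appTop
  have hφ : Function.Surjective φ.hom := by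
    intro y
    have hy := (hgen i j).appTop y
    have hle : Subring.closure (Set.range (X.homOfLE (inf_le_left : G i ⊓ G j ≤ G i)).appTop.hom ∪
        Set.range (X.homOfLE (inf_le_right : G i ⊓ G j ≤ G j)).appTop.hom) ≤ φ.hom.range := by
      rw [Subring.closure_le]
      rintro _ (⟨r, rfl⟩ | ⟨r, rfl⟩)
      · refine ⟨(pullback.fst ((G i).ι ≫ terminal.from X)
          ((G j).ι ≫ terminal.from X)).appTop.hom r, ?_⟩
        have h0 : m ≫ pullback.fst ((G i).ι ≫ terminal.from X) ((G j).ι ≫ terminal.from X) =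
            pullback.fst (G i).ι (G j).ι := by
          simp only [m, pullback.mapDesc, pullback.map, pullback.lift_fst, Category.comp_id]
        have h1 : (hpb.isoPullback.hom ≫ m) ≫ pullback.fst _ _ =
            X.homOfLE (inf_le_left : G i ⊓ G j ≤ G i) := by
          rw [Category.assoc, h0, hpb.isoPullback_hom_fst]
        rw [← h1, Scheme.Hom.comp_appTop]
        rfl
      · refine ⟨(pullback.snd ((G i).ι ≫ terminal.from X)
          ((G j).ι ≫ terminal.from X)).appTop.hom r, ?_⟩
        have h0 : m ≫ pullback.snd ((G i).ι ≫ terminal.from X) ((G j).ι ≫ terminal.from X) =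
            pullback.snd (G i).ι (G j).ι := by
          simp only [m, pullback.mapDesc, pullback.map, pullback.lift_snd, Category.comp_id]
        have h1 : (hpb.isoPullback.hom ≫ m) ≫ pullback.snd _ _ =
            X.homOfLE (inf_le_right : G i ⊓ G j ≤ G j) := by
          rw [Category.assoc, h0, hpb.isoPullback_hom_snd]
        rw [← h1, Scheme.Hom.comp_appTop]
        rfl
    exact hle hy
  intro y
  obtain ⟨z, hz⟩ := hφ (hpb.isoPullback.hom.appTop.hom y)
  refine ⟨z, ?_⟩
  have hinj : Function.Injective hpb.isoPullback.hom.appTop.hom := by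
    intro a b hab
    have h2 : hpb.isoPullback.hom.appTop ≫ hpb.isoPullback.inv.appTop = 𝟙 _ := by
      rw [← Scheme.Hom.comp_appTop, hpb.isoPullback.inv_hom_id]
      rfl
    have ha := congrArg (fun f => f.hom a) h2
    have hb := congrArg (fun f => f.hom b) h2
    simp only [CommRingCat.hom_comp, RingHom.coe_comp, Function.comp_apply, CommRingCat.hom_id,
      RingHom.id_apply] at ha hb
    rw [← ha, ← hb, hab]
  apply hinj
  rw [← hz]
  change _ = ((hpb.isoPullback.hom ≫ m).appTop).hom z
  rw [Scheme.Hom.comp_appTop]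
  rfl

end Groth.Agent.Lib.Helper35.Sep
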