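import Groth.Agent.Lib.Helper35.GS2
import Groth.Agent.Lib.Helper35.PBiprod
import Groth.Agent.Lib.Helper35.RVA2
import Groth.Agent.Lib.Helper74.RelTwistPb
import Groth.Agent.Lib.Helper74.RelProjGlue

/-!
# Maps out of the graded symmetric algebra and closed immersions of relative Proj's (helper35)

* `deg_le_of_gen`: in a graded ring generated by degrees `0` and `1`, a multiplicative family of
  subgroups `I n ≤ 𝒟 n` with `I 1 = 𝒟 1` stable under `𝒟 0` exhausts the positive degrees.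
* `isGradedHom`: the algebra map `θ : Sym(E) → ℬ` induced by a module map `m : E → ℬ` landing in
  degree one is graded (for the grading `GS.grSym` of the symmetric algebra).
* `surj_pos`: if moreover `ℬ` is generated in degrees `0, 1` and `m` hits all of `ℬ_1`, then `θ` is
  surjective in positive degrees.
* `exists_closedImmersion_of_pos`: a graded map surjective in positive degrees, from an algebra
  generated in degree one, induces a closed immersion of relative Proj's along which `O(n)` pulls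
  back to `O(n)`.
-/

set_option autoImplicit false
universe u
open CategoryTheory AlgebraicGeometry TopologicalSpace Opposite
open scoped HomogeneousIdeal

namespace Groth.Agent.Lib.Helper35.SymMap

open Groth.Agent.Lib.Helper74 Groth.Agent.Lib.Helper74.SymQ Groth.Agent.Lib.Helper35.GS
open scoped Groth.Agent.Lib.Helper74.SymQ

section alg

variable {B : Type*} [CommRing B] (𝒟 : ℕ → AddSubgroup B) [GradedRing 𝒟] (I : ℕ → AddSubgroup B)

theorem deg_le_of_gen (hgen : Subring.closure ((𝒟 0 : Set B) ∪ (𝒟 1 : Set B)) = ⊤)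
    (hI : ∀ n, I n ≤ 𝒟 n) (h1 : 𝒟 1 ≤ I 1)
    (hmul : ∀ i k, 0 < i → 0 < k → ∀ x ∈ I i, ∀ y ∈ I k, x * y ∈ I (i + k))
    (h0 : ∀ n, 0 < n → ∀ c ∈ 𝒟 0, ∀ x ∈ I n, c * x ∈ I n) :
    ∀ n, 0 < n → 𝒟 n ≤ I n := by
  classical
  have hmon : ∀ w ∈ Submonoid.closure ((𝒟 0 : Set B) ∪ (𝒟 1 : Set B)),
      w ∈ 𝒟 0 ∨ ∃ n, 0 < n ∧ w ∈ I n := by
    intro w hw
    induction hw using Submonoid.closure_induction with
    | mem x hx =>
      rcases hx with hx | hx
      · exact Or.inl hx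
      · exact Or.inr ⟨1, one_pos, h1 hx⟩
    | one => exact Or.inl (SetLike.GradedOne.one_mem)
    | mul x y _ _ ihx ihy =>
      rcases ihx with hx | ⟨i, hi, hx⟩ <;> rcases ihy with hy | ⟨k, hk, hy⟩
      · left
        have := SetLike.mul_mem_graded hx hy
        simpa only [add_zero] using this
      · right; exact ⟨k, hk, h0 k hk x hx y hy⟩
      · right; exact ⟨i, hi, by rw [mul_comm]; exact h0 i hi y hy x hx⟩
      · right; exact ⟨i + k, by omega, hmul i k hi hk x hx y hy⟩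
  intro n hn b hb
  have key : AddSubgroup.closure
      (Submonoid.closure ((𝒟 0 : Set B) ∪ (𝒟 1 : Set B)) : Set B) ≤
        (I n).comap (GradedRing.proj 𝒟 n) := by
    rw [AddSubgroup.closure_le]
    intro x hx
    change GradedRing.proj 𝒟 n x ∈ I n
    rw [GradedRing.proj_apply]
    rcases hmon x hx with h | ⟨k, hk, h⟩
    · rw [DirectSum.decompose_of_mem_ne 𝒟 h (by omega : 0 ≠ n)]; exact zero_mem _
    · by_cases hkn : k = n
      · subst hkn; rw [DirectSum.decompose_of_mem_same 𝒟 (hI k h)]; exact h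
      · rw [DirectSum.decompose_of_mem_ne 𝒟 (hI k h) hkn]; exact zero_mem _
  have hbc : b ∈ Subring.closure ((𝒟 0 : Set B) ∪ (𝒟 1 : Set B)) := by rw [hgen]; trivial
  rw [Subring.mem_closure_iff] at hbc
  have h2 : GradedRing.proj 𝒟 n b ∈ I n := key hbc
  rwa [GradedRing.proj_apply, DirectSum.decompose_of_mem_same 𝒟 hb] at h2

end alg

section sym

variable {Y : Scheme.{u}} {E : Y.Modules} [E.IsQuasicoherent] {A : RelSpec.QCAlg Y}
  {j : E ⟶ A.toModule}
  (hA : RelSpec.IsSymAlg E A j) {ℬ : RelProj.QCGrAlg Y} (m : E ⟶ ℬ.toModule)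
  (hm : ∀ (U : Y.Opens) (hU : IsAffineOpen U) (x : Γ(E, U)), (m.app U).hom x ∈ ℬ.deg U hU 1)
  (θ : A ⟶ ℬ.toQCAlg) (hθ : j ≫ RelSpec.QCAlg.Hom.toModuleMap θ = m)

include hθ in
theorem theta_j (U : Y.Opens) (e : Γ(E, U)) :
    (θ.hom.app (op U)).hom (jLin j U e) = (m.app U).hom e := by
  rw [← hθ]; rfl

include hm hθ in
theorem theta_mem_deg (U : Y.Opens) (hU : IsAffineOpen U) {d : ℕ} {x : A.presheaf.obj (op U)}
    (hx : x ∈ LinearMap.range (jLin j U) ^ d) : (θ.hom.app (op U)).hom x ∈ ℬ.deg U hU d := by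
  induction hx using Submodule.pow_induction_on_left' with
  | algebraMap r =>
    rw [hom_algebraMap]; exact ℬ.str_mem U hU r
  | add x y i hx hy ihx ihy => rw [map_add]; exact add_mem ihx ihy
  | mem_mul m' hm' i x hx ih =>
    obtain ⟨e, rfl⟩ := hm'
    rw [map_mul]
    have h1 : (θ.hom.app (op U)).hom (jLin j U e) ∈ ℬ.deg U hU 1 := by
      rw [theta_j m θ hθ U e]; exact hm U hU e
    have := SetLike.mul_mem_graded (A := ℬ.deg U hU) h1 ih
    rwa [add_comm] at this

include hm hθ in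
/-- the induced algebra map is graded -/
theorem isGradedHom : RelProj.IsGradedHom (𝒜 := grSym A j hA) (ℬ := ℬ) θ :=
  fun U hU _ _ hx => theta_mem_deg m hm θ hθ U hU hx

include hm hθ in
theorem zero_mul_mem (hsurj : ∀ (U : Y.Opens) (hU : IsAffineOpen U), ∀ b ∈ ℬ.deg U hU 1,
      ∃ e : Γ(E, U), (m.app U).hom e = b)
    (U : Y.Opens) (hU : IsAffineOpen U) (c : ℬ.presheaf.obj (op U)) (hc : c ∈ ℬ.deg U hU 0)
    {n : ℕ} {a : A.presheaf.obj (op U)} (ha : a ∈ LinearMap.range (jLin j U) ^ n) :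
    0 < n → ∃ a' ∈ LinearMap.range (jLin j U) ^ n,
      (θ.hom.app (op U)).hom a' = c * (θ.hom.app (op U)).hom a := by
  induction ha using Submodule.pow_induction_on_left' with
  | algebraMap r => intro h; exact absurd h (lt_irrefl 0)
  | add x y i hx hy ihx ihy =>
    intro h
    obtain ⟨x', hx', hxe⟩ := ihx h
    obtain ⟨y', hy', hye⟩ := ihy h
    exact ⟨x' + y', add_mem hx' hy', by rw [map_add, map_add, mul_add, hxe, hye]⟩
  | mem_mul m' hm' i x hx ih =>
    intro _
    obtain ⟨e, rfl⟩ := hm'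
    have h1 := SetLike.mul_mem_graded (A := ℬ.deg U hU) hc (hm U hU e)
    rw [zero_add] at h1
    obtain ⟨e', he'⟩ := hsurj U hU _ h1
    have e1 : (θ.hom.app (op U)).hom (jLin j U e') =
        c * (θ.hom.app (op U)).hom (jLin j U e) :=
      (theta_j m θ hθ U e').trans (he'.trans (congrArg (c * ·) (theta_j m θ hθ U e).symm))
    refine ⟨jLin j U e' * x, ?_, ?_⟩
    · rw [pow_succ']
      exact Submodule.mul_mem_mul (LinearMap.mem_range_self _ e') hx
    · rw [map_mul, map_mul, e1, mul_assoc]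

include hm hθ in
/-- surjectivity in positive degrees -/
theorem surj_pos (hgen : ℬ.IsGenDegOne)
    (hsurj : ∀ (U : Y.Opens) (hU : IsAffineOpen U), ∀ b ∈ ℬ.deg U hU 1,
      ∃ e : Γ(E, U), (m.app U).hom e = b)
    (U : Y.Opens) (hU : IsAffineOpen U) (n : ℕ) (hn : 0 < n) (b : ℬ.presheaf.obj (op U))
    (hb : b ∈ ℬ.deg U hU n) :
    ∃ a ∈ (grSym A j hA).deg U hU n, (θ.hom.app (op U)).hom a = b := by
  have hgr := isGradedHom hA m hm θ hθ
  let I : ℕ → AddSubgroup (ℬ.presheaf.obj (op U)) := fun n =>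
    AddSubgroup.map (θ.hom.app (op U)).hom.toAddMonoidHom ((grSym A j hA).deg U hU n)
  have hmemI : ∀ {n : ℕ} {y : ℬ.presheaf.obj (op U)}, y ∈ I n ↔
      ∃ a ∈ LinearMap.range (jLin j U) ^ n, (θ.hom.app (op U)).hom a = y := fun {n y} => Iff.rfl
  have := deg_le_of_gen (ℬ.deg U hU) I (hgen U hU)
    (by
      intro n y hy
      obtain ⟨a, ha, rfl⟩ := hy
      exact hgr U hU n a ha)
    (by
      intro y hy
      obtain ⟨e, rfl⟩ := hsurj U hU y hy
      refine hmemI.2 ⟨jLin j U e, ?_, theta_j m θ hθ U e⟩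
      rw [pow_one]; exact LinearMap.mem_range_self _ e)
    (by
      intro i k _ _ x hx y hy
      obtain ⟨a, ha, rfl⟩ := hmemI.1 hx
      obtain ⟨a', ha', rfl⟩ := hmemI.1 hy
      refine hmemI.2 ⟨a * a', ?_, map_mul _ _ _⟩
      rw [pow_add]; exact Submodule.mul_mem_mul ha ha')
    (by
      intro n hn c hc x hx
      obtain ⟨a, ha, rfl⟩ := hmemI.1 hx
      obtain ⟨a', ha', hae⟩ := zero_mul_mem m hm θ hθ hsurj U hU c hc ha hn
      exact hmemI.2 ⟨a', ha', hae⟩)
    n hn hb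
  exact hmemI.1 this

end sym

section rel

variable {Y PA PB : Scheme.{u}} {𝒜 ℬ : RelProj.QCGrAlg Y}
  (φ : 𝒜.toQCAlg ⟶ ℬ.toQCAlg) (hφ : RelProj.IsGradedHom φ)
  (hpos : ∀ (U : Y.Opens) (hU : IsAffineOpen U) (n : ℕ), 0 < n → ∀ b ∈ ℬ.deg U hU n,
    ∃ a ∈ 𝒜.deg U hU n, (φ.hom.app (op U)).hom a = b)
  {pA : PA ⟶ Y} {pB : PB ⟶ Y}
  {chartA : ∀ (U : Y.Opens) (hU : IsAffineOpen U),
    (((pA ⁻¹ᵁ U : PA.Opens) : Scheme.{u}) ≅ Proj (𝒜.deg U hU))}
  {chartB : ∀ (U : Y.Opens) (hU : IsAffineOpen U),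
    (((pB ⁻¹ᵁ U : PB.Opens) : Scheme.{u}) ≅ Proj (ℬ.deg U hU))}

include hpos in
theorem hirr_of_pos (U : Y.Opens) (hU : IsAffineOpen U) :
    (ℬ.deg U hU)₊ ≤ ((𝒜.deg U hU)₊).map (RelProj.gradedHomAt φ hφ U hU) := by
  rw [HomogeneousIdeal.irrelevant_le]
  intro i hi b hb
  obtain ⟨a, ha, rfl⟩ := hpos U hU i hi b hb
  exact Ideal.mem_map_of_mem _ (HomogeneousIdeal.mem_irrelevant_of_mem _ hi ha)

include hpos hφ in
/-- a graded map which is surjective in positive degrees, out of an algebra generated in degree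
one, induces a closed immersion of relative Proj's compatible with the twisting sheaves. -/
theorem exists_closedImmersion_of_pos (hgen : 𝒜.IsGenDegOne) (n : ℤ)
    (hA : RelProj.IsRelProj 𝒜 pA chartA) (hB : RelProj.IsRelProj ℬ pB chartB)
    {LA : PA.Modules}
    {lamA : ∀ (U : Y.Opens) (hU : IsAffineOpen U), LA ⟶
      (Scheme.Modules.pushforward (RelProj.emb pA chartA U hU)).obj
        (GrTwist.twist (𝒜.deg U hU) n)}
    (hLA : RelProj.IsRelTwist 𝒜 pA chartA n LA lamA) {LB : PB.Modules}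
    {lamB : ∀ (U : Y.Opens) (hU : IsAffineOpen U), LB ⟶
      (Scheme.Modules.pushforward (RelProj.emb pB chartB U hU)).obj
        (GrTwist.twist (ℬ.deg U hU) n)}
    (hLB : RelProj.IsRelTwist ℬ pB chartB n LB lamB) :
    ∃ h : PB ⟶ PA, IsClosedImmersion h ∧ h ≫ pA = pB ∧
      Nonempty ((Scheme.Modules.pullback h).obj LA ≅ LB) := by
  have hirr := hirr_of_pos φ hφ hpos
  obtain ⟨h, hh, -⟩ := RelProjLib.existsUnique_induced φ hφ hirr hA hB
  refine ⟨h, ?_, RelProjLib.relProjMap_comp φ hφ hirr hA hB h hh,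
    TwistNat.nonempty_pullback_iso φ hφ hirr hh hA hB hgen n hLA hLB⟩
  exact RelProjLib.relProjMap_of_forall φ hφ hirr @IsClosedImmersion hA hB h hh (fun U hU =>
    RelProjLib.isClosedImmersion_map_of_pos _ (hpos U hU) (hirr U hU))

end rel

end Groth.Agent.Lib.Helper35.SymMap
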