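import Groth.Agent.Lib.Helper35.SymMap1
import Groth.Agent.Lib.Helper2.HomGlue
import Groth.Agent.Lib.Helper2.QCAlgMod

/-!
# The degree-one projection of a quasi-coherent graded algebra, as a module endomorphism (helper35)

`exists_prOne`: there is a module map `m : 𝒮 ⟶ 𝒮` which over every affine open is the projection
to the degree-one component.  Together with `SymMap1` this realizes `Proj 𝒮` (for `𝒮` generated in
degrees `0,1`) as a closed subscheme of the projective bundle `P(𝒮)` (with `𝒮` as a module!),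
compatibly with `O(1)`.
-/

set_option autoImplicit false
universe u
open CategoryTheory AlgebraicGeometry TopologicalSpace Opposite
open scoped HomogeneousIdeal

namespace Groth.Agent.Lib.Helper35.SymMap

open Groth.Agent.Lib.Helper74 Groth.Agent.Lib.Helper74.SymQ Groth.Agent.Lib.Helper35.GS
open scoped Groth.Agent.Lib.Helper74.SymQ

variable {Y : Scheme.{u}} (𝒮 : RelProj.QCGrAlg Y)

/-- the degree-one component of a section over an affine open -/
noncomputable def prOne (W : Y.Opens) (hW : IsAffineOpen W) (x : Γ(𝒮.toModule, W)) :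
    Γ(𝒮.toModule, W) :=
  ((DirectSum.decompose (𝒮.deg W hW) (show 𝒮.presheaf.obj (op W) from x) 1 : 𝒮.deg W hW 1) :
    𝒮.presheaf.obj (op W))

theorem prOne_mem (W : Y.Opens) (hW : IsAffineOpen W) (x : Γ(𝒮.toModule, W)) :
    (show 𝒮.presheaf.obj (op W) from prOne 𝒮 W hW x) ∈ 𝒮.deg W hW 1 :=
  (DirectSum.decompose (𝒮.deg W hW) (show 𝒮.presheaf.obj (op W) from x) 1).2

theorem prOne_of_mem (W : Y.Opens) (hW : IsAffineOpen W) (x : 𝒮.presheaf.obj (op W))
    (hx : x ∈ 𝒮.deg W hW 1) : prOne 𝒮 W hW x = x :=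
  DirectSum.decompose_of_mem_same (𝒮.deg W hW) hx

theorem exists_prOne : ∃ m : 𝒮.toModule ⟶ 𝒮.toModule,
    ∀ (W : Y.Opens) (hW : IsAffineOpen W) (a : Γ(𝒮.toModule, W)),
      (m.app W).hom a = prOne 𝒮 W hW a := by
  obtain ⟨τ, hτ⟩ := Groth.Agent.Lib.Helper2.HomGlue.exists_hom (M := 𝒮.toModule) (N := 𝒮.toModule)
    (good := fun W => IsAffineOpen W) (t := prOne 𝒮)
    (by
      intro U x hx
      obtain ⟨_, ⟨W, hW, rfl⟩, hxW, hWU⟩ :=
        (Y.isBasis_affineOpens).exists_subset_of_mem_open hx U.2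
      exact ⟨W, hW, hxW, hWU⟩)
    (by
      intro W hW a b
      change (((DirectSum.decompose (𝒮.deg W hW) ((show 𝒮.presheaf.obj (op W) from a) +
        (show 𝒮.presheaf.obj (op W) from b)) 1 : 𝒮.deg W hW 1)) : 𝒮.presheaf.obj (op W)) = _
      rw [DirectSum.decompose_add, DirectSum.add_apply, AddSubgroup.coe_add]
      rfl)
    (by
      intro W hW r a
      exact DirectSum.coe_decompose_mul_add_of_left_mem (𝒮.deg W hW) (i := 0) (j := 1)
        (b := (show 𝒮.presheaf.obj (op W) from a)) (𝒮.str_mem W hW r))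
    (by
      intro W W' hW hW' h a
      exact GradedRingHom.map_directSumDecompose (𝒮.deg W hW) (𝒮.deg W' hW') (𝒮.res hW hW' h)
        (x := (show 𝒮.presheaf.obj (op W) from a)) (i := 1))
  exact ⟨τ, hτ⟩

end Groth.Agent.Lib.Helper35.SymMap
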