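import Groth.Agent.Lib.Helper35.SymMap1

/-!
# `SymMap1.exists_closedImmersion_of_pos`, remembering that the morphism is the induced one
-/

set_option autoImplicit false
universe u
open CategoryTheory AlgebraicGeometry TopologicalSpace Opposite
open scoped HomogeneousIdeal

namespace Groth.Agent.Lib.Helper35.SymMap

open Groth.Agent.Lib.Helper74

variable {Y PA PB : Scheme.{u}} {𝒜 ℬ : RelProj.QCGrAlg Y}
  (φ : 𝒜.toQCAlg ⟶ ℬ.toQCAlg) (hφ : RelProj.IsGradedHom φ)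
  (hpos : ∀ (U : Y.Opens) (hU : IsAffineOpen U) (n : ℕ), 0 < n → ∀ b ∈ ℬ.deg U hU n,
    ∃ a ∈ 𝒜.deg U hU n, (φ.hom.app (op U)).hom a = b)
  {pA : PA ⟶ Y} {pB : PB ⟶ Y}
  {chartA : ∀ (U : Y.Opens) (hU : IsAffineOpen U),
    (((pA ⁻¹ᵁ U : PA.Opens) : Scheme.{u}) ≅ Proj (𝒜.deg U hU))}
  {chartB : ∀ (U : Y.Opens) (hU : IsAffineOpen U),
    (((pB ⁻¹ᵁ U : PB.Opens) : Scheme.{u}) ≅ Proj (ℬ.deg U hU))}

include hpos hφ in
theorem exists_closedImmersion_of_pos' (hgen : 𝒜.IsGenDegOne) (n : ℤ)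
    (hA : RelProj.IsRelProj 𝒜 pA chartA) (hB : RelProj.IsRelProj ℬ pB chartB)
    {LA : PA.Modules}
    {lamA : ∀ (U : Y.Opens) (hU : IsAffineOpen U), LA ⟶
      (Scheme.Modules.pushforward (RelProj.emb pA chartA U hU)).obj
        (GrTwist.twist (𝒜.deg U hU) n)}
    (hLA : RelProj.IsRelTwist 𝒜 pA chartA n LA lamA) {LB : PB.Modules}
    {lamB : ∀ (U : Y.Opens) (hU : IsAffineOpen U), LB ⟶
      (Scheme.Modules.pushforward (RelProj.emb pB chartB U hU)).obj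
        (GrTwist.twist (ℬ.deg U hU) n)}
    (hLB : RelProj.IsRelTwist ℬ pB chartB n LB lamB) :
    ∃ h : PB ⟶ PA, RelProj.IsRelProjMap φ hφ (hirr_of_pos φ hφ hpos) chartA chartB h ∧
      IsClosedImmersion h ∧ h ≫ pA = pB ∧
      Nonempty ((Scheme.Modules.pullback h).obj LA ≅ LB) := by
  have hirr := hirr_of_pos φ hφ hpos
  obtain ⟨h, hh, -⟩ := RelProjLib.existsUnique_induced φ hφ hirr hA hB
  refine ⟨h, hh, ?_, RelProjLib.relProjMap_comp φ hφ hirr hA hB h hh,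
    TwistNat.nonempty_pullback_iso φ hφ hirr hh hA hB hgen n hLA hLB⟩
  exact RelProjLib.relProjMap_of_forall φ hφ hirr @IsClosedImmersion hA hB h hh (fun U hU =>
    RelProjLib.isClosedImmersion_map_of_pos _ (hpos U hU) (hirr U hU))

end Groth.Agent.Lib.Helper35.SymMap
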